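/-
A hyperbolic pair in a quadratic space: its orthogonal, coordinates, the three classes of singular points.
-/
import Cfsg.Agent.Lib.Classical.QuadSimple
import Cfsg.Agent.Lib.Classical22.OrthMaxMove

set_option autoImplicit false

namespace CfsgLib.POAut

open CfsgLib.Classical CfsgLib.Classical22

variable {F V : Type*} [Field F] [AddCommGroup V] [Module F V]

/-- A hyperbolic pair. -/
structure HypPair (Q : QuadraticForm F V) (a z : V) : Prop where
  qa : Q a = 0
  qz : Q z = 0
  az : QuadraticMap.polar Q a z = 1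

variable (Q : QuadraticForm F V) {a z : V}

/-- The orthogonal of the pair. -/
noncomputable def pM (a z : V) : Submodule F V :=
  LinearMap.ker ((QuadraticMap.polarBilin Q a).prod (QuadraticMap.polarBilin Q z))

/-- The form on the orthogonal of the pair. -/
noncomputable def qM (a z : V) : QuadraticForm F (pM Q a z) := Q.comp (pM Q a z).subtype

theorem qM_apply (m : pM Q a z) : qM Q a z m = Q (m : V) := rfl

theorem polar_qM (m m' : pM Q a z) :
    QuadraticMap.polar (qM Q a z) m m' = QuadraticMap.polar Q (m : V) (m' : V) := rfl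

theorem mem_pM {m : V} :
    m ∈ pM Q a z ↔ QuadraticMap.polar Q a m = 0 ∧ QuadraticMap.polar Q z m = 0 := by
  simp [pM, LinearMap.mem_ker]

namespace HypPair

variable {Q} (h : HypPair Q a z)
include h

theorem za : QuadraticMap.polar Q z a = 1 := (QuadraticMap.polar_comm Q z a).trans h.az

theorem aa : QuadraticMap.polar Q a a = 0 := by rw [quad_polar_self, h.qa, mul_zero]

theorem zz : QuadraticMap.polar Q z z = 0 := by rw [quad_polar_self, h.qz, mul_zero]

theorem a_ne : a ≠ 0 := fun e => by simpa [e] using h.az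

theorem z_ne : z ≠ 0 := fun e => by simpa [e] using h.az

omit h in
theorem am (m : pM Q a z) : QuadraticMap.polar Q a (m : V) = 0 := ((mem_pM Q).1 m.2).1

omit h in
theorem zm (m : pM Q a z) : QuadraticMap.polar Q z (m : V) = 0 := ((mem_pM Q).1 m.2).2

omit h in
theorem ma (m : pM Q a z) : QuadraticMap.polar Q (m : V) a = 0 :=
  (QuadraticMap.polar_comm Q _ a).trans (am m)

omit h in
theorem mz (m : pM Q a z) : QuadraticMap.polar Q (m : V) z = 0 :=
  (QuadraticMap.polar_comm Q _ z).trans (zm m)

theorem exists_coord (x : V) :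
    ∃ (s t : F) (m : pM Q a z), x = s • a + t • z + (m : V) := by
  obtain ⟨h1, h2⟩ := proj_pair Q h.qa h.qz h.az x
  refine ⟨QuadraticMap.polar Q x z, QuadraticMap.polar Q x a,
    ⟨x - QuadraticMap.polar Q x z • a - QuadraticMap.polar Q x a • z, (mem_pM Q).2
      ⟨(QuadraticMap.polar_comm Q a _).trans h1, (QuadraticMap.polar_comm Q z _).trans h2⟩⟩, ?_⟩
  simp only
  abel

theorem polar_coord (s t s' t' : F) (m m' : pM Q a z) :
    QuadraticMap.polar Q (s • a + t • z + (m : V)) (s' • a + t' • z + (m' : V)) =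
      s * t' + t * s' + QuadraticMap.polar Q (m : V) (m' : V) := by
  simp only [QuadraticMap.polar_add_left, QuadraticMap.polar_add_right, QuadraticMap.polar_smul_left,
    QuadraticMap.polar_smul_right, h.az, h.za, h.aa, h.zz, am, zm, ma, mz, smul_eq_mul]
  ring

theorem quad_coord (s t : F) (m : pM Q a z) :
    Q (s • a + t • z + (m : V)) = s * t + Q (m : V) := by
  simp only [quad_add, quad_smul, QuadraticMap.polar_add_left, QuadraticMap.polar_smul_left,
    QuadraticMap.polar_smul_right, h.qa, h.qz, h.az, am, zm, smul_eq_mul]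
  ring

theorem coord_inj {s t s' t' : F} {m m' : pM Q a z}
    (e : s • a + t • z + (m : V) = s' • a + t' • z + (m' : V)) : s = s' ∧ t = t' ∧ m = m' := by
  have hs : s = s' := by
    have := congrArg (fun x => QuadraticMap.polar Q x z) e
    simpa [QuadraticMap.polar_add_left, QuadraticMap.polar_smul_left, h.az, h.zz, mz] using this
  have ht : t = t' := by
    have := congrArg (fun x => QuadraticMap.polar Q x a) e
    simpa [QuadraticMap.polar_add_left, QuadraticMap.polar_smul_left, h.za, h.aa, ma] using this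
  subst hs ht
  exact ⟨rfl, rfl, Subtype.ext (add_left_cancel e)⟩

theorem eich_am (w m : pM Q a z) :
    (eich Q a (w : V)).1 (m : V) = (m : V) - QuadraticMap.polar Q (m : V) (w : V) • a := by
  rw [eich_apply Q h.qa (am w), ma]
  module

theorem eich_az (w : pM Q a z) :
    (eich Q a (w : V)).1 z = z + (w : V) - Q (w : V) • a := by
  rw [eich_apply Q h.qa (am w), h.za, zm w]
  module

/-- Every Eichler transformation at `a` is one by a vector of the orthogonal of the pair. -/
theorem exists_eich_eq {w : V} (hw : QuadraticMap.polar Q a w = 0) :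
    ∃ w' : pM Q a z, eich Q a w = eich Q a (w' : V) := by
  obtain ⟨s, t, m, rfl⟩ := h.exists_coord w
  have ht : t = 0 := by
    simpa [QuadraticMap.polar_add_right, QuadraticMap.polar_smul_right, h.az, h.aa, am] using hw
  refine ⟨m, ?_⟩
  rw [ht, zero_smul, add_zero, add_comm, eich_add_self Q h.qa (am m)]

theorem eich_eq_iff {w w' : pM Q a z} : eich Q a (w : V) = eich Q a (w' : V) ↔ w = w' := by
  refine ⟨fun e => ?_, fun e => e ▸ rfl⟩
  have e1 := congrArg (fun g : qAut Q => g.1 z) e
  simp only [h.eich_az] at e1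
  refine (h.coord_inj (s := -Q (w : V)) (t := 1) (s' := -Q (w' : V)) (t' := 1) ?_).2.2
  linear_combination (norm := module) e1

variable [FiniteDimensional F V]

theorem ndOn_pM (hQ : PolarNondeg Q) : NdOn Q (pM Q a z) := by
  intro x hx hxy
  exact congrArg Subtype.val (polarNondeg_pairPerp Q hQ h.qa h.qz h.az ⟨x, hx⟩ fun w => hxy w w.2)

theorem polarNondeg_qM (hQ : PolarNondeg Q) : PolarNondeg (qM Q a z) :=
  polarNondeg_pairPerp Q hQ h.qa h.qz h.az

theorem finrank_pM : Module.finrank F (pM Q a z) + 2 = Module.finrank F V := by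
  have h1 := LinearMap.finrank_range_add_finrank_ker
    ((QuadraticMap.polarBilin Q a).prod (QuadraticMap.polarBilin Q z))
  have hs : LinearMap.range ((QuadraticMap.polarBilin Q a).prod (QuadraticMap.polarBilin Q z)) = ⊤ := by
    refine LinearMap.range_eq_top.2 fun p => ⟨p.1 • z + p.2 • a, ?_⟩
    simp [h.az, h.za, h.aa, h.zz]
  rw [hs, finrank_top, Module.finrank_prod, Module.finrank_self] at h1
  change (Module.finrank F (pM Q a z)) + 2 = _
  unfold pM
  omega

theorem exists_pM_polar (hQ : PolarNondeg Q) {m : pM Q a z} (hm : m ≠ 0) (t : F) :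
    ∃ w : pM Q a z, QuadraticMap.polar Q (m : V) (w : V) = t := by
  obtain ⟨w, hw⟩ : ∃ w : pM Q a z, QuadraticMap.polar (qM Q a z) m w ≠ 0 := by
    by_contra hc
    push Not at hc
    exact hm (h.polarNondeg_qM hQ m hc)
  refine ⟨(t / QuadraticMap.polar (qM Q a z) m w) • w, ?_⟩
  rw [Submodule.coe_smul, QuadraticMap.polar_smul_right, smul_eq_mul, ← polar_qM,
    div_mul_cancel₀ _ hw]

end HypPair

theorem exists_hypPair_left (hQ : PolarNondeg Q) {a : V} (ha0 : a ≠ 0) (ha : Q a = 0) :
    ∃ z, HypPair Q a z := by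
  obtain ⟨z, -, hz, haz⟩ := exists_partner Q (P := ⊤) (fun x _ h => hQ x fun y => h y trivial)
    (Submodule.mem_top (x := a)) ha0 ha
  exact ⟨z, ha, hz, haz⟩

theorem exists_hypPair_of_polar {a c : V} (ha : Q a = 0) (hc : Q c = 0)
    (hne : QuadraticMap.polar Q a c ≠ 0) : HypPair Q a ((QuadraticMap.polar Q a c)⁻¹ • c) :=
  ⟨ha, by rw [quad_smul, hc, mul_zero], by
    rw [QuadraticMap.polar_smul_right, smul_eq_mul, inv_mul_cancel₀ hne]⟩

end CfsgLib.POAut
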