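/-
A lower bound for the number of translates of a totally singular subspace.
-/
import Cfsg.Agent.Lib.KnownSimple.POAut.Frame

set_option autoImplicit false

namespace CfsgLib.POAut

open CfsgLib.Classical CfsgLib.Classical22

variable {F V : Type*} [Field F] [AddCommGroup V] [Module F V] (Q : QuadraticForm F V)

/-- The translates of a subspace under the Eichler group. -/
def orb (W : Submodule F V) : Set (Submodule F V) :=
  {W' | ∃ g ∈ eichGroup Q, W.map g.1.toLinearMap = W'}

theorem mem_orb_self (W : Submodule F V) : W ∈ orb Q W := by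
  refine ⟨1, one_mem _, ?_⟩
  ext x
  simp [Submodule.mem_map]

theorem map_mem_orb {W W' : Submodule F V} (h : W' ∈ orb Q W) {g : qAut Q} (hg : g ∈ eichGroup Q) :
    W'.map g.1.toLinearMap ∈ orb Q W := by
  obtain ⟨k, hk, rfl⟩ := h
  exact ⟨g * k, mul_mem hg hk, by rw [← Submodule.map_comp]; rfl⟩

theorem singular_of_mem_orb {W W' : Submodule F V} (hW : ∀ x ∈ W, Q x = 0) (h : W' ∈ orb Q W) :
    ∀ x ∈ W', Q x = 0 := by
  obtain ⟨g, -, rfl⟩ := h
  rintro _ ⟨x, hx, rfl⟩
  exact (qAut_map g x).trans (hW x hx)

theorem finrank_of_mem_orb {W W' : Submodule F V} (h : W' ∈ orb Q W) :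
    Module.finrank F W' = Module.finrank F W := by
  obtain ⟨g, -, rfl⟩ := h
  exact LinearEquiv.finrank_map_eq g.1 W

variable [FiniteDimensional F V] [Fintype F]

theorem card_fibre_le {W' : Submodule F V} (φ : V →ₗ[F] F) {k : ℕ} (hk : Module.finrank F W' = k + 1) :
    Nat.card {v : V // v ∈ W' ∧ φ v = 1} ≤ Fintype.card F ^ k := by
  haveI : Finite V := Module.finite_of_finite F
  by_cases hne : Nonempty {v : V // v ∈ W' ∧ φ v = 1}
  · obtain ⟨v0, hv0, hφ0⟩ := hne
    have h1 := LinearMap.finrank_range_add_finrank_ker (φ.comp W'.subtype)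
    have h2 : LinearMap.range (φ.comp W'.subtype) = ⊤ :=
      LinearMap.range_eq_top.2 fun t => ⟨t • ⟨v0, hv0⟩, by simp [hφ0]⟩
    rw [h2, finrank_top, Module.finrank_self, hk] at h1
    have h3 := Module.natCard_eq_pow_finrank (K := F) (V := LinearMap.ker (φ.comp W'.subtype))
    rw [show Module.finrank F (LinearMap.ker (φ.comp W'.subtype)) = k by omega,
      Nat.card_eq_fintype_card (α := F)] at h3
    rw [← h3]
    refine Nat.card_le_card_of_injective
      (fun v => ⟨⟨v.1 - v0, W'.sub_mem v.2.1 hv0⟩, by simp [LinearMap.mem_ker, v.2.2, hφ0]⟩) fun v w e => ?_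
    have e2 : v.1 - v0 = w.1 - v0 := congrArg (fun x : LinearMap.ker (φ.comp W'.subtype) => ((x : W') : V)) e
    exact Subtype.ext (sub_left_injective e2)
  · haveI := not_nonempty_iff.1 hne
    simp

/-- The recursion step. -/
theorem card_orb_step (hQ : PolarNondeg Q) {e f : V} (h : HypPair Q f e) {W : Submodule F V}
    (hW : ∀ x ∈ W, Q x = 0) (he : e ∈ W) {k : ℕ} (hk : Module.finrank F W = k + 1) :
    Fintype.card F ^ (Module.finrank F V - 2) *
        Nat.card (orb (qM Q f e) (W.comap (pM Q f e).subtype)) ≤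
      Nat.card (orb Q W) * Fintype.card F ^ k := by
  classical
  haveI : Finite V := Module.finite_of_finite F
  haveI : Finite (Submodule F V) := Finite.of_injective (fun U => (U : Set V)) SetLike.coe_injective
  haveI : Finite (Submodule F (pM Q f e)) := Finite.of_injective (fun U => (U : Set (pM Q f e))) SetLike.coe_injective
  set W0 := W.comap (pM Q f e).subtype
  have hWdec : W = Submodule.span F {e} ⊔ W0.map (pM Q f e).subtype := by
    refine le_antisymm (fun x hx => ?_) (sup_le ?_ ?_)
    · obtain ⟨s, t, m, rfl⟩ := h.exists_coord x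
      have hs : s = 0 := by
        have := polar_zero_of_singular Q hW hx he
        simpa [QuadraticMap.polar_add_left, QuadraticMap.polar_smul_left, h.az, h.zz, HypPair.mz] using this
      subst hs
      rw [zero_smul, zero_add] at hx ⊢
      refine Submodule.add_mem_sup (Submodule.smul_mem _ _ (Submodule.mem_span_singleton_self e)) ⟨m, ?_, rfl⟩
      change (m : V) ∈ W
      simpa using W.sub_mem hx (W.smul_mem t he)
    · exact (Submodule.span_singleton_le_iff_mem _ _).2 he
    · exact Submodule.map_comap_le _ _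
  have horb : ∀ (w : pM Q f e) (U : orb (qM Q f e) W0),
      (Submodule.span F {e} ⊔ U.1.map (pM Q f e).subtype).map (eich Q f (w : V)).1.toLinearMap ∈ orb Q W := by
    rintro w ⟨U, g, hg, rfl⟩
    obtain ⟨k, hk, hka, hkb⟩ := exists_lift_qAut Q hg
    refine map_mem_orb Q ⟨k, hk.2, ?_⟩ (eich_mem Q h.qa (HypPair.am w))
    rw [hWdec, Submodule.map_sup, Submodule.map_span, Set.image_singleton, ← Submodule.map_comp]
    congr 1
    · congr 2
      exact hkb e ((mem_qPerp Q).2 fun x hx => (QuadraticMap.polar_comm Q x e).trans ((mem_pM Q).1 hx).2)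
    · rw [← Submodule.map_comp]
      refine congrArg (fun l => Submodule.map l W0) (LinearMap.ext fun m => ?_)
      exact hka m
  have hv : ∀ w : pM Q f e, ∀ U : orb (qM Q f e) W0, (eich Q f (w : V)).1 e ∈
      (Submodule.span F {e} ⊔ U.1.map (pM Q f e).subtype).map (eich Q f (w : V)).1.toLinearMap :=
    fun w U => ⟨e, Submodule.mem_sup_left (Submodule.mem_span_singleton_self e), rfl⟩
  have hφ : ∀ w : pM Q f e, QuadraticMap.polarBilin Q f ((eich Q f (w : V)).1 e) = 1 := fun w => by
    simp [h.eich_az, QuadraticMap.polar_sub_right, QuadraticMap.polar_add_right,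
      QuadraticMap.polar_smul_right, h.az, h.aa, HypPair.am]
  let Φ : pM Q f e × orb (qM Q f e) W0 →
      Σ W' : orb Q W, {v : V // v ∈ W'.1 ∧ QuadraticMap.polarBilin Q f v = 1} := fun x =>
    ⟨⟨_, horb x.1 x.2⟩, _, hv x.1 x.2, hφ x.1⟩
  have hinj : Function.Injective Φ := by
    rintro ⟨w, U⟩ ⟨w', U'⟩ eq
    have e1 : (eich Q f (w : V)).1 e = (eich Q f (w' : V)).1 e :=
      congrArg (fun x : Σ W' : orb Q W, {v : V // v ∈ W'.1 ∧ QuadraticMap.polarBilin Q f v = 1} => (x.2 : V)) eq
    rw [h.eich_az, h.eich_az] at e1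
    obtain ⟨-, -, rfl⟩ := h.coord_inj (s := -Q (w : V)) (t := 1) (s' := -Q (w' : V)) (t' := 1) (m := w) (m' := w')
      (by linear_combination (norm := module) e1)
    have e2 : _ = _ := congrArg (fun x : Σ W' : orb Q W,
      {v : V // v ∈ W'.1 ∧ QuadraticMap.polarBilin Q f v = 1} => (x.1.1 : Submodule F V)) eq
    have e3 := Submodule.map_injective_of_injective (eich Q f (w : V)).1.injective e2
    refine Prod.ext rfl (Subtype.ext ?_)
    have key : ∀ U : Submodule F (pM Q f e),
        (Submodule.span F {e} ⊔ U.map (pM Q f e).subtype).comap (pM Q f e).subtype = U := by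
      intro U
      refine le_antisymm (fun m hm => ?_) (Submodule.map_le_iff_le_comap.1 le_sup_right)
      obtain ⟨x, hx, y, ⟨m', hm', rfl⟩, hxy⟩ := Submodule.mem_sup.1 hm
      obtain ⟨t, rfl⟩ := Submodule.mem_span_singleton.1 hx
      obtain ⟨-, -, rfl⟩ := h.coord_inj (s := 0) (t := t) (s' := 0) (t' := 0) (m := m') (m' := m) (by
        rw [zero_smul, zero_smul, zero_add, zero_add, zero_add]
        exact hxy)
      exact hm'
    rw [← key U.1, ← key U'.1]
    exact congrArg _ e3
  have h1 := Nat.card_le_card_of_injective Φ hinj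
  rw [Nat.card_prod, Module.natCard_eq_pow_finrank (K := F) (V := pM Q f e), Nat.card_eq_fintype_card (α := F),
    show Module.finrank F (pM Q f e) = Module.finrank F V - 2 by have := h.finrank_pM; omega] at h1
  refine h1.trans ?_
  letI := Fintype.ofFinite (orb Q W)
  rw [Nat.card_sigma]
  refine (Finset.sum_le_sum (g := fun _ => Fintype.card F ^ k) fun W' _ =>
    card_fibre_le _ ((finrank_of_mem_orb Q W'.2).trans hk)).trans ?_
  rw [Finset.sum_const, smul_eq_mul, Finset.card_univ, Nat.card_eq_fintype_card]

omit [FiniteDimensional F V] [Fintype F] in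
theorem exists_pair_in {hQ : PolarNondeg Q} {W : Submodule F V} (hW : ∀ x ∈ W, Q x = 0) (hne : W ≠ ⊥) :
    ∃ e f, e ∈ W ∧ HypPair Q f e := by
  obtain ⟨e, he, he0⟩ := W.ne_bot_iff.1 hne
  obtain ⟨f, h⟩ := exists_hypPair_left Q hQ he0 (hW e he)
  exact ⟨e, f, he, h.qz, h.qa, h.za⟩

end CfsgLib.POAut

namespace CfsgLib.POAut

open CfsgLib.Classical CfsgLib.Classical22

theorem pow_le_card_orb {F : Type*} [Field F] [Fintype F] :
    ∀ (k d : ℕ) {V : Type*} [AddCommGroup V] [Module F V] [FiniteDimensional F V] (Q : QuadraticForm F V),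
      PolarNondeg Q → ∀ W : Submodule F V, (∀ x ∈ W, Q x = 0) → Module.finrank F W = k →
        2 * d + 3 * k * k + k ≤ 2 * Module.finrank F V * k → Fintype.card F ^ d ≤ Nat.card (orb Q W) := by
  intro k
  induction k with
  | zero =>
    intro d V _ _ _ Q _ W _ _ hd
    haveI : Finite V := Module.finite_of_finite F
    haveI : Finite (Submodule F V) := Finite.of_injective (fun U => (U : Set V)) SetLike.coe_injective
    haveI : Nonempty (orb Q W) := ⟨⟨W, mem_orb_self Q W⟩⟩
    rw [show d = 0 by omega, pow_zero]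
    exact Nat.card_pos
  | succ k ih =>
    intro d V _ _ _ Q hQ W hW hk hd
    obtain ⟨e, f, he, h⟩ := exists_pair_in Q (hQ := hQ) hW (fun hb => by
      rw [hb, finrank_bot] at hk
      omega)
    have h2k := two_mul_finrank_singular Q hQ hW
    have hstep := card_orb_step Q hQ h hW he hk
    have hM := h.finrank_pM
    have hk0 : Module.finrank F (W.comap (pM Q f e).subtype) = k := by
      have hWe : ∀ x ∈ W, x - QuadraticMap.polar Q x f • e ∈
          (W.comap (pM Q f e).subtype).map (pM Q f e).subtype := by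
        intro x hx
        refine ⟨⟨x - QuadraticMap.polar Q x f • e, (mem_pM Q).2 ⟨?_, ?_⟩⟩, W.sub_mem hx (W.smul_mem _ he), rfl⟩
        · rw [QuadraticMap.polar_sub_right, QuadraticMap.polar_smul_right, h.az, QuadraticMap.polar_comm Q f x]
          simp
        · rw [QuadraticMap.polar_sub_right, QuadraticMap.polar_smul_right, h.zz, QuadraticMap.polar_comm Q e x,
            polar_zero_of_singular Q hW hx he]
          simp
      have hsup : W = Submodule.span F {e} ⊔ (W.comap (pM Q f e).subtype).map (pM Q f e).subtype := by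
        refine le_antisymm (fun x hx => ?_) (sup_le ((Submodule.span_singleton_le_iff_mem _ _).2 he)
          (Submodule.map_comap_le _ _))
        exact Submodule.mem_sup.2 ⟨_, Submodule.smul_mem _ (QuadraticMap.polar Q x f)
          (Submodule.mem_span_singleton_self e), _, hWe x hx, add_sub_cancel _ _⟩
      have hinf : Submodule.span F {e} ⊓ (W.comap (pM Q f e).subtype).map (pM Q f e).subtype = ⊥ := by
        rw [Submodule.eq_bot_iff]
        rintro x ⟨hx, m, -, rfl⟩
        obtain ⟨t, ht⟩ := Submodule.mem_span_singleton.1 hx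
        obtain ⟨-, -, rfl⟩ := h.coord_inj (s := 0) (t := t) (s' := 0) (t' := 0) (m := 0) (m' := m) (by
          rw [zero_smul, zero_smul, zero_add, zero_add, zero_add, Submodule.coe_zero, add_zero]
          exact ht)
        simp
      have h4 := Submodule.finrank_sup_add_finrank_inf_eq (Submodule.span F {e})
        ((W.comap (pM Q f e).subtype).map (pM Q f e).subtype)
      rw [← hsup, hinf, finrank_bot, hk, finrank_span_singleton h.z_ne, Submodule.finrank_map_subtype_eq] at h4
      omega
    have hih := ih (d + k + 2 - Module.finrank F V) (qM Q f e) (h.polarNondeg_qM hQ)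
      (W.comap (pM Q f e).subtype) (fun x hx => hW x hx) hk0 (by
        rcases Nat.le_total (Module.finrank F V) (d + k + 2) with hle | hle
        · obtain ⟨c, hc⟩ := Nat.exists_eq_add_of_le hle
          rw [show d + k + 2 - Module.finrank F V = c by omega]
          nlinarith
        · rw [Nat.sub_eq_zero_of_le hle]
          have h5 : 2 * k ≤ Module.finrank F (pM Q f e) := by omega
          have h6 := Nat.mul_le_mul_right k h5
          have h7 : k ≤ k * k := Nat.le_mul_self k
          nlinarith)
    refine Nat.le_of_mul_le_mul_right (c := Fintype.card F ^ k) ?_ (pow_pos Fintype.card_pos k)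
    refine le_trans ?_ ((Nat.mul_le_mul_left _ hih).trans hstep)
    rw [← pow_add, ← pow_add]
    exact Nat.pow_le_pow_right Fintype.card_pos (by omega)

end CfsgLib.POAut
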