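/-
The three suborbits on singular points: the point, its orthogonal, its opposites.
-/
import Cfsg.Agent.Lib.KnownSimple.POAut.Frame
import Mathlib.GroupTheory.PGroup

set_option autoImplicit false

namespace CfsgLib.POAut

open CfsgLib.Classical CfsgLib.Classical22

variable {F V : Type*} [Field F] [AddCommGroup V] [Module F V] (Q : QuadraticForm F V)

/-- Orthogonality of singular points. -/
def IsOrth (p p' : SingPts Q) : Prop := QuadraticMap.polar Q p.1.rep p'.1.rep = 0

theorem isOrth_singMk {v w : V} (hv : v ≠ 0) (h : Q v = 0) (hw : w ≠ 0) (h' : Q w = 0) :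
    IsOrth Q (singMk Q hv h) (singMk Q hw h') ↔ QuadraticMap.polar Q v w = 0 := by
  obtain ⟨x, hx⟩ := Projectivization.exists_smul_eq_mk_rep F v hv
  obtain ⟨y, hy⟩ := Projectivization.exists_smul_eq_mk_rep F w hw
  change QuadraticMap.polar Q (Projectivization.mk F v hv).rep (Projectivization.mk F w hw).rep = 0 ↔ _
  rw [← hx, ← hy]
  simp [Units.smul_def, QuadraticMap.polar_smul_left, QuadraticMap.polar_smul_right]

theorem isOrth_smul (g : qAut Q) (p p' : SingPts Q) : IsOrth Q (g • p) (g • p') ↔ IsOrth Q p p' := by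
  obtain ⟨v, hv, h, rfl⟩ := exists_singMk Q p
  obtain ⟨w, hw, h', rfl⟩ := exists_singMk Q p'
  rw [smul_singMk, smul_singMk, isOrth_singMk, isOrth_singMk, qAut_polar]

theorem isOrth_comm (p p' : SingPts Q) : IsOrth Q p p' ↔ IsOrth Q p' p := by
  unfold IsOrth
  rw [QuadraticMap.polar_comm]

theorem isOrth_self (p : SingPts Q) : IsOrth Q p p := by
  unfold IsOrth
  rw [quad_polar_self, p.2, mul_zero]

instance finite_singPts [Finite V] : Finite (SingPts Q) :=
  inferInstanceAs (Finite {p : Projectivization F V // Q p.rep = 0})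

theorem singMk_smul {v : V} (hv : v ≠ 0) (h : Q v = 0) {t : F} (ht : t ≠ 0) :
    singMk Q (v := t • v) (smul_ne_zero ht hv) (by rw [quad_smul, h, mul_zero]) = singMk Q hv h :=
  (singMk_eq_iff Q _ hv _ h).2 ⟨t, rfl⟩

namespace HypPair

variable {Q} {a z : V} (h : HypPair Q a z)
include h

/-- The point of `a`. -/
noncomputable def pa : SingPts Q := singMk Q h.a_ne h.qa

/-- The point of `z`. -/
noncomputable def pz : SingPts Q := singMk Q h.z_ne h.qz

theorem eich_z_ne (w : pM Q a z) : (eich Q a (w : V)).1 z ≠ 0 := qAut_ne_zero Q _ h.z_ne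

theorem eich_z_sing (w : pM Q a z) : Q ((eich Q a (w : V)).1 z) = 0 := (qAut_map _ z).trans h.qz

/-- The opposite point with coordinate `w`. -/
noncomputable def opp (w : pM Q a z) : SingPts Q := singMk Q (h.eich_z_ne w) (h.eich_z_sing w)

theorem opp_zero : h.opp 0 = h.pz := by
  refine (singMk_eq_iff Q _ h.z_ne _ h.qz).2 ⟨1, ?_⟩
  rw [h.eich_az]
  simp

theorem polar_eich_z_a (w : pM Q a z) : QuadraticMap.polar Q ((eich Q a (w : V)).1 z) a = 1 := by
  rw [h.eich_az]
  simp [QuadraticMap.polar_add_left, QuadraticMap.polar_sub_left, QuadraticMap.polar_smul_left, h.za, h.aa,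
    ma w]

theorem opp_not_orth (w : pM Q a z) : ¬ IsOrth Q (h.opp w) h.pa := by
  rw [opp, pa, isOrth_singMk, h.polar_eich_z_a]
  exact one_ne_zero

theorem opp_injective : Function.Injective h.opp := fun w w' e => by
  obtain ⟨t, ht⟩ := (singMk_eq_iff Q _ _ _ _).1 e
  have h1 := congrArg (fun x => QuadraticMap.polar Q x a) ht
  simp only [QuadraticMap.polar_smul_left, h.polar_eich_z_a, smul_eq_mul, mul_one] at h1
  rw [h1, one_smul, h.eich_az, h.eich_az] at ht
  refine (h.coord_inj (s := -Q (w : V)) (t := 1) (s' := -Q (w' : V)) (t' := 1) ?_).2.2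
  linear_combination (norm := module) -ht

theorem exists_opp {p : SingPts Q} (hp : ¬ IsOrth Q p h.pa) : ∃ w, p = h.opp w := by
  obtain ⟨v, hv, hQv, rfl⟩ := exists_singMk Q p
  rw [pa, isOrth_singMk] at hp
  obtain ⟨s, t, m, rfl⟩ := h.exists_coord v
  have ht : t ≠ 0 := fun ht => hp (by
    simp [QuadraticMap.polar_add_left, QuadraticMap.polar_smul_left, ht, h.aa, ma m])
  rw [h.quad_coord] at hQv
  refine ⟨t⁻¹ • m, (singMk_eq_iff Q _ _ _ _).2 ⟨t, ?_⟩⟩
  rw [h.eich_az, Submodule.coe_smul, quad_smul, show Q (m : V) = -(s * t) by linear_combination hQv,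
    smul_sub, smul_add, smul_smul, smul_smul, mul_inv_cancel₀ ht,
    show t * (t⁻¹ * t⁻¹ * -(s * t)) = -s by field_simp]
  module

theorem card_opp [Fintype F] [FiniteDimensional F V] :
    Nat.card {p : SingPts Q // ¬ IsOrth Q p h.pa} = Fintype.card F ^ (Module.finrank F V - 2) := by
  rw [show Module.finrank F V - 2 = Module.finrank F (pM Q a z) by have := h.finrank_pM; omega,
    ← Nat.card_eq_fintype_card, ← Module.natCard_eq_pow_finrank]
  refine (Nat.card_congr (Equiv.ofBijective (fun w => ⟨h.opp w, h.opp_not_orth w⟩) ⟨fun w w' e =>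
    h.opp_injective (congrArg Subtype.val e), fun p => ?_⟩)).symm
  obtain ⟨w, hw⟩ := h.exists_opp p.2
  exact ⟨w, Subtype.ext hw.symm⟩

omit h in
theorem par_ne (p : SingPts (qM Q a z)) : (p.1.rep : V) ≠ 0 := fun e =>
  p.1.rep_nonzero (Subtype.ext e)

theorem par_add_ne (p : SingPts (qM Q a z)) (t : F) : (p.1.rep : V) + t • a ≠ 0 := fun e => by
  refine par_ne p (congrArg Subtype.val (h.coord_inj (s := t) (t := 0) (m := p.1.rep) (s' := 0) (t' := 0)
    (m' := 0) ?_).2.2)
  rw [zero_smul, add_zero, zero_smul, zero_add, Submodule.coe_zero, add_comm, e, add_zero]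

theorem par_sing (p : SingPts (qM Q a z)) (t : F) : Q ((p.1.rep : V) + t • a) = 0 := by
  have := h.quad_coord t 0 p.1.rep
  rw [zero_smul, add_zero, mul_zero, zero_add] at this
  rw [add_comm, this]
  exact p.2

/-- The orthogonal point with coordinates `(p, t)`. -/
noncomputable def par (x : SingPts (qM Q a z) × F) : SingPts Q :=
  singMk Q (h.par_add_ne x.1 x.2) (h.par_sing x.1 x.2)

theorem par_orth (x : SingPts (qM Q a z) × F) : IsOrth Q (h.par x) h.pa ∧ h.par x ≠ h.pa := by
  refine ⟨?_, fun e => ?_⟩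
  · rw [par, pa, isOrth_singMk]
    simp [QuadraticMap.polar_add_left, QuadraticMap.polar_smul_left, h.aa, ma]
  · obtain ⟨c, hc⟩ := (singMk_eq_iff Q _ _ _ _).1 e
    refine par_ne x.1 (congrArg Subtype.val (h.coord_inj (s := x.2) (t := 0) (m := x.1.1.rep) (s' := c)
      (t' := 0) (m' := 0) ?_).2.2)
    rw [Submodule.coe_zero, zero_smul, add_zero, add_zero, hc, add_comm, add_zero]

theorem par_injective : Function.Injective h.par := fun x y e => by
  obtain ⟨c, hc⟩ := (singMk_eq_iff Q _ _ _ _).1 e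
  obtain ⟨e1, -, e3⟩ := h.coord_inj (s := c * y.2) (t := 0) (m := c • y.1.1.rep) (s' := x.2) (t' := 0)
    (m' := x.1.1.rep) (by rw [Submodule.coe_smul]; linear_combination (norm := module) hc)
  have hp : y.1 = x.1 := by
    apply Subtype.ext
    rw [← Projectivization.mk_rep y.1.1, ← Projectivization.mk_rep x.1.1, Projectivization.mk_eq_mk_iff']
    refine ⟨c⁻¹, ?_⟩
    have hc0 : c ≠ 0 := fun hc0 => x.1.1.rep_nonzero (by rw [← e3, hc0, zero_smul])
    rw [← e3, smul_smul, inv_mul_cancel₀ hc0, one_smul]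
  have hc1 : c = 1 := smul_left_injective F x.1.1.rep_nonzero (by
    change c • x.1.1.rep = (1 : F) • x.1.1.rep
    rw [one_smul]
    conv_lhs => rw [← hp]
    exact e3)
  rw [hc1, one_mul] at e1
  exact Prod.ext hp.symm e1.symm

theorem exists_par {p : SingPts Q} (hp : IsOrth Q p h.pa) (hne : p ≠ h.pa) : ∃ x, p = h.par x := by
  obtain ⟨v, hv, hQv, rfl⟩ := exists_singMk Q p
  rw [pa, isOrth_singMk] at hp
  obtain ⟨s, t, m, rfl⟩ := h.exists_coord v
  have ht : t = 0 := by
    simpa [QuadraticMap.polar_add_left, QuadraticMap.polar_smul_left, h.za, h.aa, ma] using hp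
  subst ht
  rw [h.quad_coord, mul_zero, zero_add] at hQv
  have hm : m ≠ 0 := fun hm => hne ((singMk_eq_iff Q _ _ _ _).2 ⟨s, by simp [hm]⟩)
  obtain ⟨c, hc⟩ := Projectivization.exists_smul_eq_mk_rep F m hm
  refine ⟨(singMk (qM Q a z) hm hQv, (c : F) * s), (singMk_eq_iff Q _ _ _ _).2 ⟨(c : F)⁻¹, ?_⟩⟩
  change (c : F)⁻¹ • (((Projectivization.mk F m hm).rep : V) + ((c : F) * s) • a) = _
  rw [← hc, Units.smul_def, Submodule.coe_smul, smul_add, smul_smul, smul_smul,
    inv_mul_cancel₀ c.ne_zero, one_smul, ← mul_assoc, inv_mul_cancel₀ c.ne_zero, one_mul, zero_smul]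
  abel

theorem card_par [Fintype F] : Nat.card {p : SingPts Q // IsOrth Q p h.pa ∧ p ≠ h.pa} =
    Fintype.card F * Nat.card (SingPts (qM Q a z)) := by
  rw [mul_comm, ← Nat.card_eq_fintype_card, ← Nat.card_prod]
  refine (Nat.card_congr (Equiv.ofBijective (fun x => ⟨h.par x, h.par_orth x⟩) ⟨fun x y e =>
    h.par_injective (congrArg Subtype.val e), fun p => ?_⟩)).symm
  obtain ⟨x, hx⟩ := h.exists_par p.2.1 p.2.2
  exact ⟨x, Subtype.ext hx.symm⟩

theorem card_singPts [Fintype F] [FiniteDimensional F V] :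
    Nat.card (SingPts Q) = 1 + Fintype.card F * Nat.card (SingPts (qM Q a z)) +
      Fintype.card F ^ (Module.finrank F V - 2) := by
  classical
  haveI : Finite V := Module.finite_of_finite F
  letI := Fintype.ofFinite (SingPts Q)
  rw [← h.card_par, ← h.card_opp, Nat.card_eq_fintype_card, Nat.card_eq_fintype_card,
    Nat.card_eq_fintype_card, Fintype.card_subtype, Fintype.card_subtype]
  have e1 : (Finset.univ.filter fun p : SingPts Q => IsOrth Q p h.pa ∧ p ≠ h.pa) =
      (Finset.univ.filter fun p : SingPts Q => IsOrth Q p h.pa).erase h.pa := by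
    ext p
    simp [and_comm]
  rw [e1, Finset.card_erase_of_mem (by simp [isOrth_self Q h.pa])]
  have h2 := Finset.card_filter_add_card_filter_not (s := (Finset.univ : Finset (SingPts Q)))
    (fun p => IsOrth Q p h.pa)
  have h3 : 0 < (Finset.univ.filter fun p : SingPts Q => IsOrth Q p h.pa).card :=
    Finset.card_pos.2 ⟨h.pa, by simp [isOrth_self Q h.pa]⟩
  rw [Finset.card_univ] at h2
  omega

theorem eich_smul_opp (w w' : pM Q a z) :
    eich Q a (w : V) • h.opp w' = h.opp (w + w') := by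
  rw [opp, smul_singMk]
  refine (singMk_eq_iff Q _ _ _ _).2 ⟨1, ?_⟩
  rw [one_smul, ← qAut_mul_apply, eich_mul Q h.qa (am w) (am w'), Submodule.coe_add]

theorem eich_smul_par (w : pM Q a z) (x : SingPts (qM Q a z) × F) :
    eich Q a (w : V) • h.par x = h.par (x.1, x.2 - QuadraticMap.polar Q (x.1.1.rep : V) (w : V)) := by
  rw [par, smul_singMk]
  refine (singMk_eq_iff Q _ _ _ _).2 ⟨1, ?_⟩
  rw [map_add, map_smul, h.eich_am, eich_fix Q h.qa (am w), one_smul]
  module

theorem eich_smul_pa (w : pM Q a z) : eich Q a (w : V) • h.pa = h.pa :=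
  smul_singMk_eq Q _ _ _ _ 1 (by rw [one_smul, eich_fix Q h.qa (am w)])

end HypPair

/-- The Eichler transformations at one vector, as a subgroup. -/
noncomputable def eichQ {a : V} (ha : Q a = 0) : Subgroup (qAut Q) where
  carrier := {g | ∃ w, QuadraticMap.polar Q a w = 0 ∧ g = eich Q a w}
  one_mem' := ⟨0, QuadraticMap.polar_zero_right Q _, (eich_zero Q ha).symm⟩
  mul_mem' := by
    rintro g g' ⟨w, hw, rfl⟩ ⟨w', hw', rfl⟩
    exact ⟨w + w', by rw [QuadraticMap.polar_add_right, hw, hw', add_zero], eich_mul Q ha hw hw'⟩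
  inv_mem' := by
    rintro g ⟨w, hw, rfl⟩
    exact ⟨-w, by rw [QuadraticMap.polar_neg_right, hw, neg_zero], eich_inv Q ha hw⟩

theorem eichQ_le {a : V} (ha : Q a = 0) : eichQ Q ha ≤ eichGroup Q := by
  rintro _ ⟨w, hw, rfl⟩
  exact eich_mem Q ha hw

theorem eich_pow {u w : V} (hu : Q u = 0) (h : QuadraticMap.polar Q u w = 0) (k : ℕ) :
    eich Q u w ^ k = eich Q u (k • w) := by
  induction k with
  | zero => rw [pow_zero, zero_smul, eich_zero Q hu]
  | succ k ih =>
    rw [pow_succ, ih, eich_mul Q hu (by rw [← Nat.cast_smul_eq_nsmul F, QuadraticMap.polar_smul_right, h,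
      smul_zero]) h, succ_nsmul]

theorem eich_pow_char {u w : V} (hu : Q u = 0) (h : QuadraticMap.polar Q u w = 0) (p : ℕ) [CharP F p] :
    eich Q u w ^ p = 1 := by
  rw [eich_pow Q hu h, ← Nat.cast_smul_eq_nsmul F, CharP.cast_eq_zero F p, zero_smul, eich_zero Q hu]

theorem isPGroup_eichQ {a : V} (ha : Q a = 0) (p : ℕ) [CharP F p] : IsPGroup p (eichQ Q ha) := by
  rintro ⟨g, w, hw, rfl⟩
  refine ⟨1, Subtype.ext ?_⟩
  rw [pow_one, Subgroup.coe_pow, Subgroup.coe_one, eich_pow_char Q ha hw p]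

variable [Fintype F] [FiniteDimensional F V]

theorem fixed_eichQ (hQ : PolarNondeg Q) (hn : 3 ≤ Module.finrank F V) {a : V} (ha0 : a ≠ 0) (ha : Q a = 0)
    {p : SingPts Q} (hp : ∀ g ∈ eichQ Q ha, g • p = p) : p = singMk Q ha0 ha := by
  obtain ⟨z, h⟩ := exists_hypPair_left Q hQ ha0 ha
  by_contra hne
  have hfix : ∀ w : pM Q a z, eich Q a (w : V) • p = p := fun w => hp _ ⟨w, HypPair.am w, rfl⟩
  by_cases ho : IsOrth Q p h.pa
  · obtain ⟨x, rfl⟩ := h.exists_par ho hne
    obtain ⟨w, hw⟩ := h.exists_pM_polar hQ x.1.1.rep_nonzero 1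
    have e := hfix w
    rw [h.eich_smul_par] at e
    have e2 := congrArg Prod.snd (h.par_injective e)
    simp only [hw, sub_eq_self] at e2
    exact one_ne_zero e2
  · obtain ⟨w, rfl⟩ := h.exists_opp ho
    haveI : Nontrivial (pM Q a z) := Module.nontrivial_of_finrank_pos (R := F) (by
      have := h.finrank_pM
      omega)
    obtain ⟨w', hw'⟩ := exists_ne (0 : pM Q a z)
    have e := hfix w'
    rw [h.eich_smul_opp] at e
    have e2 := h.opp_injective e
    rw [add_eq_right] at e2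
    exact hw' e2

theorem card_singPts_mod (hQ : PolarNondeg Q) (hn : 3 ≤ Module.finrank F V) (p : ℕ) [Fact p.Prime]
    [CharP F p] : Nat.card (SingPts Q) ≡ 1 [MOD p] := by
  haveI : Finite V := Module.finite_of_finite F
  obtain ⟨a, ha0, ha⟩ := exists_singular Q hQ hn
  have h1 := (isPGroup_eichQ Q ha p).card_modEq_card_fixedPoints (SingPts Q)
  suffices h2 : Nat.card (MulAction.fixedPoints (eichQ Q ha) (SingPts Q)) = 1 by rwa [h2] at h1
  refine Nat.card_eq_one_iff_unique.2 ⟨⟨fun x y => Subtype.ext ?_⟩, ⟨⟨singMk Q ha0 ha, ?_⟩⟩⟩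
  · rw [fixed_eichQ Q hQ hn ha0 ha fun g hg => x.2 ⟨g, hg⟩,
      fixed_eichQ Q hQ hn ha0 ha fun g hg => y.2 ⟨g, hg⟩]
  · rintro ⟨g, w, hw, rfl⟩
    exact smul_singMk_eq Q _ _ _ _ 1 (by rw [one_smul]; exact eich_fix Q ha hw)

end CfsgLib.POAut
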