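/-
Subgroups of the index of a point stabiliser are point stabilisers.
-/
import Cfsg.Agent.Lib.KnownSimple.POAut.Suborbits
import Cfsg.Agent.Lib.KnownSimple.POAut.Orbit
import Cfsg.Agent.Lib.Classical.QuadCentre
import Mathlib.GroupTheory.GroupAction.Quotient

set_option autoImplicit false

namespace CfsgLib.POAut

open CfsgLib.Classical CfsgLib.Classical22

variable {F V : Type*} [Field F] [AddCommGroup V] [Module F V] (Q : QuadraticForm F V)

/-- The hypotheses of the elementary theory: non-degenerate, dimension at least seven. -/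
structure Pre : Prop where
  nondeg : PolarNondeg Q
  seven : 7 ≤ Module.finrank F V

/-- The hypotheses: non-degenerate, dimension at least seven, not the triality case. -/
structure Good : Prop extends Pre Q where
  odd7 : Module.finrank F V = 7 → Nat.card F ≠ 2
  eight : Module.finrank F V = 8 → ∀ U : Submodule F V, (∀ u ∈ U, Q u = 0) → Module.finrank F U ≠ 4

instance : CoeOut (Good Q) (Pre Q) := ⟨Good.toPre⟩

variable [FiniteDimensional F V] [Fintype F] {Q}

theorem eichGroup_smul_singMk (g : eichGroup Q) {v : V} (hv : v ≠ 0) (h : Q v = 0) :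
    g • singMk Q hv h = singMk Q (qAut_ne_zero Q (g : qAut Q) hv) ((qAut_map (g : qAut Q) v).trans h) :=
  smul_singMk Q _ hv h

theorem center_smul (hQ : Pre Q) {g : eichGroup Q} (hg : g ∈ Subgroup.center (eichGroup Q)) (p : SingPts Q) :
    g • p = p := by
  have hn := hQ.seven
  obtain ⟨v, hv, h, rfl⟩ := exists_singMk Q p
  have hc := centralizer_commutator Q hQ.nondeg (by omega) (z := (g : qAut Q)) fun x hx => by
    rw [← eichGroup_eq_commutator Q hQ.nondeg (by omega)] at hx
    exact (congrArg Subtype.val (Subgroup.mem_center_iff.1 hg ⟨x, hx⟩)).symm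
  rcases hc with hc | hc
  · exact smul_singMk_eq Q hv h hv h 1 (by rw [one_smul]; exact hc v)
  · exact smul_singMk_eq Q hv h hv h (-1) (by rw [neg_one_smul]; exact hc v)

theorem center_le_stabilizer (hQ : Pre Q) (p : SingPts Q) :
    Subgroup.center (eichGroup Q) ≤ MulAction.stabilizer (eichGroup Q) p :=
  fun _ hg => MulAction.mem_stabilizer_iff.2 (center_smul hQ hg p)

theorem index_stabilizer_point (hQ : Pre Q) (p : SingPts Q) :
    (MulAction.stabilizer (eichGroup Q) p).index = Nat.card (SingPts Q) := by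
  have hn := hQ.seven
  haveI := eichGroup_isPretransitive Q hQ.nondeg (by omega)
  exact MulAction.index_stabilizer_of_transitive _ p

theorem card_singPts_mul_lt : Nat.card (SingPts Q) * (Fintype.card F - 1) < Nat.card V := by
  classical
  haveI : Finite V := Module.finite_of_finite F
  letI := Fintype.ofFinite V
  letI := Fintype.ofFinite (SingPts Q)
  rw [← Fintype.card_units, Nat.card_eq_fintype_card, Nat.card_eq_fintype_card, ← Fintype.card_prod]
  refine Fintype.card_lt_of_injective_of_notMem (fun x : SingPts Q × Fˣ => (x.2 : F) • x.1.1.rep) ?_ (b := 0) ?_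
  · rintro ⟨p, s⟩ ⟨p', t⟩ e
    change (s : F) • p.1.rep = (t : F) • p'.1.rep at e
    have hp : p = p' := Subtype.ext (by
      rw [← Projectivization.mk_rep p.1, ← Projectivization.mk_rep p'.1, Projectivization.mk_eq_mk_iff']
      exact ⟨(s : F)⁻¹ * t, by rw [← smul_smul, ← e, smul_smul, inv_mul_cancel₀ s.ne_zero, one_smul]⟩)
    subst hp
    exact Prod.ext rfl (Units.ext (smul_left_injective F p.1.rep_nonzero e))
  · rintro ⟨⟨p, s⟩, e⟩
    exact p.1.rep_nonzero ((smul_eq_zero.1 e).resolve_left s.ne_zero)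

theorem card_singPts_lt : Nat.card (SingPts Q) < Fintype.card F ^ Module.finrank F V := by
  refine lt_of_le_of_lt (Nat.le_mul_of_pos_right _ (Nat.sub_pos_of_lt (Fintype.one_lt_card (α := F)))) ?_
  rw [← Nat.card_eq_fintype_card (α := F), ← Module.natCard_eq_pow_finrank (K := F) (V := V),
    Nat.card_eq_fintype_card (α := F)]
  exact card_singPts_mul_lt

theorem card_singPts_lt_orb (hQ : Good Q) {W : Submodule F V} (hW : ∀ x ∈ W, Q x = 0)
    (hk : 2 ≤ Module.finrank F W) : Nat.card (SingPts Q) < Nat.card (orb Q W) := by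
  obtain ⟨k, hk'⟩ : ∃ k, Module.finrank F W = k := ⟨_, rfl⟩
  have h2k := two_mul_finrank_singular Q hQ.nondeg hW
  have h7 := hQ.seven
  rw [hk'] at h2k hk
  by_cases hbig : 3 * k * k + k + 2 * Module.finrank F V ≤ 2 * Module.finrank F V * k
  · exact lt_of_lt_of_le card_singPts_lt (pow_le_card_orb k _ Q hQ.nondeg W hW hk' (by omega))
  have hcase : (Module.finrank F V = 7 ∧ k = 3) ∨ (Module.finrank F V = 8 ∧ k = 4) := by
    by_contra hc
    refine hbig ?_
    rcases (show k = 2 ∨ k = 3 ∨ k = 4 ∨ 5 ≤ k by omega) with rfl | rfl | rfl | h5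
    · omega
    · omega
    · omega
    · nlinarith
  rcases hcase with ⟨hn, rfl⟩ | ⟨hn, rfl⟩
  swap
  · exact absurd hk' (hQ.eight hn W hW)
  have hq : 3 ≤ Fintype.card F := by
    have h1 := hQ.odd7 hn
    rw [Nat.card_eq_fintype_card] at h1
    have h2 := Fintype.one_lt_card (α := F)
    omega
  obtain ⟨a, ha0, ha⟩ := exists_singular Q hQ.nondeg (by omega)
  obtain ⟨z, h⟩ := exists_hypPair_left Q hQ.nondeg ha0 ha
  have hM := h.finrank_pM
  have h1 := card_singPts_mul_lt (Q := qM Q a z)
  rw [Module.natCard_eq_pow_finrank (K := F) (V := pM Q a z), Nat.card_eq_fintype_card (α := F),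
    show Module.finrank F (pM Q a z) = 5 by omega] at h1
  have h2 := h.card_singPts
  rw [hn, show 7 - 2 = 5 from rfl] at h2
  refine lt_of_lt_of_le ?_ (pow_le_card_orb 3 6 Q hQ.nondeg W hW hk' (by omega))
  obtain ⟨r, hr⟩ := Nat.exists_eq_add_of_le hq
  rw [hr] at h1 h2 ⊢
  rw [show 3 + r - 1 = 2 + r by omega] at h1
  nlinarith [pow_pos (show 0 < 3 + r by omega) 5]

/-- The classification of subgroups of point index. -/
theorem exists_point_of_index (hQ : Good Q) {H : Subgroup (eichGroup Q)}
    (hH : H.index = Nat.card (SingPts Q)) : ∃ b : SingPts Q, H = MulAction.stabilizer (eichGroup Q) b := by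
  have hn := hQ.seven
  haveI : Finite V := Module.finite_of_finite F
  haveI : Finite (qAut Q) := finite_qAut Q
  haveI : Finite (eichGroup Q) := inferInstance
  obtain ⟨p, hpc⟩ := CharP.exists F
  haveI : Fact p.Prime := ⟨CharP.char_is_prime F p⟩
  have hN1 := card_singPts_mod Q hQ.nondeg (by omega) p
  obtain ⟨u, hu0, hu⟩ := exists_singular Q hQ.nondeg (by omega)
  obtain ⟨b, hb0, hb, hfull⟩ : ∃ b : V, b ≠ 0 ∧ Q b = 0 ∧ EFull Q (H.map (eichGroup Q).subtype) b := by
    have hP : IsPGroup p ((eichQ Q hu).subgroupOf (eichGroup Q)) :=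
      (isPGroup_eichQ Q hu p).comap_of_injective (eichGroup Q).subtype (eichGroup Q).subtype_injective
    have hmod := hP.card_modEq_card_fixedPoints (eichGroup Q ⧸ H)
    rw [← Subgroup.index_eq_card, hH] at hmod
    have hne : Nat.card (MulAction.fixedPoints ((eichQ Q hu).subgroupOf (eichGroup Q)) (eichGroup Q ⧸ H)) ≠ 0 := by
      intro h0
      rw [h0] at hmod
      have := hN1.symm.trans hmod
      exact (Fact.out : p.Prime).ne_one (Nat.dvd_one.1 ((Nat.modEq_zero_iff_dvd).1 this))
    obtain ⟨⟨x, hx⟩⟩ := (Nat.card_ne_zero.1 hne).1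
    obtain ⟨g, rfl⟩ := QuotientGroup.mk_surjective x
    refine ⟨((g : qAut Q)⁻¹).1 u, qAut_ne_zero Q _ hu0, (qAut_map _ u).trans hu, fun w hw => ?_⟩
    have hw' : QuadraticMap.polar Q u ((g : qAut Q).1 w) = 0 := by
      rw [← qApply_inv_self Q (g : qAut Q) u, qAut_polar]
      exact hw
    have hfix := hx ⟨⟨_, eich_mem Q hu hw'⟩, _, hw', rfl⟩
    change QuotientGroup.mk (⟨eich Q u _, eich_mem Q hu hw'⟩ * g) = QuotientGroup.mk g at hfix
    rw [eq_comm, QuotientGroup.eq] at hfix
    refine ⟨_, hfix, ?_⟩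
    simp only [Subgroup.coe_subtype, Subgroup.coe_mul, Subgroup.coe_inv]
    have hc := eich_conj Q (g : qAut Q)⁻¹ hu hw'
    rw [inv_inv, qInv_apply_self] at hc
    rw [← mul_assoc]
    exact hc
  set W := Submodule.span F {x : V | ∃ g ∈ H, (g : qAut Q).1 b = x} with hWdef
  have hbW : b ∈ W := Submodule.subset_span ⟨1, one_mem H, rfl⟩
  have horth : ∀ g ∈ H, ∀ g' ∈ H, QuadraticMap.polar Q ((g : qAut Q).1 b) ((g' : qAut Q).1 b) = 0 := by
    intro g hg g' hg'
    by_contra hne
    have hle := eichGroup_le_of_full Q hQ.nondeg (by omega) ((qAut_map _ b).trans hb) ((qAut_map _ b).trans hb) hne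
      (efull_conj Q (M := H.map (eichGroup Q).subtype) (g := (g : qAut Q)) ⟨g, hg, rfl⟩ hb hfull)
      (efull_conj Q (M := H.map (eichGroup Q).subtype) (g := (g' : qAut Q)) ⟨g', hg', rfl⟩ hb hfull)
    have htop : H = ⊤ := eq_top_iff.2 fun x _ => by
      obtain ⟨y, hy, hyx⟩ := hle x.2
      rwa [show y = x from Subtype.ext hyx] at hy
    rw [htop, Subgroup.index_top] at hH
    obtain ⟨z, hz⟩ := exists_hypPair_left Q hQ.nondeg hu0 hu
    have h1 := hz.card_singPts
    have := Nat.one_le_pow (Module.finrank F V - 2) (Fintype.card F) Fintype.card_pos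
    omega
  have hW : ∀ x ∈ W, Q x = 0 := by
    have hpol : ∀ x ∈ W, ∀ y ∈ W, QuadraticMap.polar Q x y = 0 := by
      intro x hx y hy
      induction hx using Submodule.span_induction with
      | mem x hx =>
        obtain ⟨g, hg, rfl⟩ := hx
        induction hy using Submodule.span_induction with
        | mem y hy =>
          obtain ⟨g', hg', rfl⟩ := hy
          exact horth g hg g' hg'
        | zero => exact QuadraticMap.polar_zero_right Q _
        | add y y' _ _ h1 h2 => rw [QuadraticMap.polar_add_right, h1, h2, add_zero]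
        | smul t y _ h1 => rw [QuadraticMap.polar_smul_right, h1, smul_zero]
      | zero => exact QuadraticMap.polar_zero_left Q _
      | add x x' _ _ h1 h2 => rw [QuadraticMap.polar_add_left, h1, h2, add_zero]
      | smul t x _ h1 => rw [QuadraticMap.polar_smul_left, h1, smul_zero]
    intro x hx
    induction hx using Submodule.span_induction with
    | mem x hx =>
      obtain ⟨g, -, rfl⟩ := hx
      exact (qAut_map _ b).trans hb
    | zero => exact map_zero Q
    | add x y hxm hym h1 h2 => rw [quad_add, h1, h2, hpol x hxm y hym]; simp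
    | smul t x _ h1 => rw [quad_smul, h1, mul_zero]
  have hinv : ∀ g ∈ H, W.map (g : qAut Q).1.toLinearMap = W := fun g hg => by
    refine Submodule.eq_of_le_of_finrank_eq ?_ (LinearEquiv.finrank_map_eq _ W)
    rw [Submodule.map_le_iff_le_comap, hWdef, Submodule.span_le]
    rintro _ ⟨g', hg', rfl⟩
    exact Submodule.subset_span ⟨g * g', mul_mem hg hg', by
      rw [Subgroup.coe_mul, qAut_mul_apply]
      rfl⟩
  have hk : Module.finrank F W ≤ 1 := by
    by_contra hk
    refine absurd (card_singPts_lt_orb hQ hW (by omega)) (not_lt.2 ?_)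
    rw [← hH, Subgroup.index_eq_card]
    refine Nat.card_le_card_of_surjective (Quotient.lift
      (fun g : eichGroup Q => (⟨W.map (g : qAut Q).1.toLinearMap, g, g.2, rfl⟩ : orb Q W)) fun x y hxy => ?_) ?_
    · apply Subtype.ext
      change W.map (x : qAut Q).1.toLinearMap = W.map (y : qAut Q).1.toLinearMap
      have h1 := hinv _ (QuotientGroup.leftRel_apply.1 hxy)
      conv_lhs => rw [← h1]
      rw [← Submodule.map_comp]
      refine congrArg (fun l => Submodule.map l W) (LinearMap.ext fun v => ?_)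
      change (x : qAut Q).1 (((x⁻¹ * y : eichGroup Q) : qAut Q).1 v) = (y : qAut Q).1 v
      rw [← qAut_mul_apply, ← Subgroup.coe_mul, mul_inv_cancel_left]
    · rintro ⟨W', g, hg, rfl⟩
      exact ⟨QuotientGroup.mk ⟨g, hg⟩, rfl⟩
  have hspan : Submodule.span F {b} = W := Submodule.eq_of_le_of_finrank_le
    ((Submodule.span_singleton_le_iff_mem _ _).2 hbW) (by rw [finrank_span_singleton hb0]; exact hk)
  have hle : H ≤ MulAction.stabilizer (eichGroup Q) (singMk Q hb0 hb) := fun g hg => by
    have h1 : (g : qAut Q).1 b ∈ W := Submodule.subset_span ⟨g, hg, rfl⟩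
    rw [← hspan] at h1
    obtain ⟨t, ht⟩ := Submodule.mem_span_singleton.1 h1
    exact MulAction.mem_stabilizer_iff.2 (smul_singMk_eq Q hb0 hb hb0 hb t ht.symm)
  refine ⟨singMk Q hb0 hb, ?_⟩
  have hidx := Subgroup.relIndex_mul_index hle
  rw [index_stabilizer_point hQ, hH] at hidx
  refine le_antisymm hle (Subgroup.relIndex_eq_one.1 ?_)
  haveI : Nonempty (SingPts Q) := ⟨singMk Q hb0 hb⟩
  exact Nat.eq_of_mul_eq_mul_right (Nat.card_pos (α := SingPts Q)) (by rw [hidx, one_mul])

end CfsgLib.POAut
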