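/-
The permutation of the singular points attached to an automorphism of the simple quotient.
-/
import Cfsg.Agent.Lib.KnownSimple.POAut.Stab

set_option autoImplicit false

namespace CfsgLib.POAut

open CfsgLib.Classical CfsgLib.Classical22

variable {F V : Type*} [Field F] [AddCommGroup V] [Module F V]

/-- The simple quotient. -/
abbrev TQ (Q : QuadraticForm F V) : Type _ := eichGroup Q ⧸ Subgroup.center (eichGroup Q)

/-- The class of an element. -/
noncomputable def cls (Q : QuadraticForm F V) : eichGroup Q →* TQ Q :=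
  QuotientGroup.mk' (Subgroup.center (eichGroup Q))

theorem cls_surjective (Q : QuadraticForm F V) : Function.Surjective (cls Q) := QuotientGroup.mk'_surjective _

theorem cls_eq_one {Q : QuadraticForm F V} {g : eichGroup Q} :
    cls Q g = 1 ↔ g ∈ Subgroup.center (eichGroup Q) := QuotientGroup.eq_one_iff g

variable [FiniteDimensional F V] [Fintype F] {Q : QuadraticForm F V}

theorem smul_eq_of_cls (hQ : Pre Q) {g g' : eichGroup Q} (h : cls Q g = cls Q g') (p : SingPts Q) :
    g • p = g' • p := by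
  have h1 : g⁻¹ * g' ∈ Subgroup.center (eichGroup Q) := cls_eq_one.1 (by rw [map_mul, map_inv, h, inv_mul_cancel])
  have h2 := congrArg (g • ·) (center_smul hQ h1 p)
  simp only [smul_smul, mul_inv_cancel_left] at h2
  exact h2.symm

/-- The images of the stabiliser of `p` are those of `b`. -/
def StabRel (β : MulAut (TQ Q)) (p b : SingPts Q) : Prop :=
  ∀ g g' : eichGroup Q, β (cls Q g) = cls Q g' → (g • p = p ↔ g' • b = b)

theorem exists_stabRel (hQ : Good Q) (β : MulAut (TQ Q)) (p : SingPts Q) : ∃ b, StabRel β p b := by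
  set K := MulAction.stabilizer (eichGroup Q) p
  have hK : ((K.map (cls Q)).comap (cls Q)) = K := by
    rw [Subgroup.comap_map_eq, sup_eq_left]
    intro g hg
    exact center_le_stabilizer hQ p (cls_eq_one.1 hg)
  have hidx : (((K.map (cls Q)).map β.toMonoidHom).comap (cls Q)).index = Nat.card (SingPts Q) := by
    rw [Subgroup.index_comap_of_surjective _ (cls_surjective Q),
      Subgroup.index_map_of_bijective (f := β.toMonoidHom) β.bijective,
      ← Subgroup.index_comap_of_surjective _ (cls_surjective Q), hK, index_stabilizer_point hQ]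
  obtain ⟨b, hb⟩ := exists_point_of_index hQ hidx
  refine ⟨b, fun g g' e => ?_⟩
  rw [← MulAction.mem_stabilizer_iff, ← MulAction.mem_stabilizer_iff, ← hb, Subgroup.mem_comap, ← e]
  change g ∈ K ↔ β.toMonoidHom (cls Q g) ∈ _
  rw [Subgroup.mem_map_iff_mem (f := β.toMonoidHom) β.injective]
  conv_lhs => rw [← hK]
  rfl

theorem stabRel_unique (hQ : Good Q) {β : MulAut (TQ Q)} {p b b' : SingPts Q} (h : StabRel β p b)
    (h' : StabRel β p b') : b = b' := by
  have hn := hQ.seven
  obtain ⟨v, hv, hQv, rfl⟩ := exists_singMk Q b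
  refine (fixed_eichQ Q hQ.nondeg (by omega) hv hQv ?_).symm
  rintro _ ⟨w, hw, rfl⟩
  obtain ⟨x, hx⟩ := cls_surjective Q (β.symm (cls Q ⟨_, eich_mem Q hQv hw⟩))
  have e : β (cls Q x) = cls Q ⟨_, eich_mem Q hQv hw⟩ := by rw [hx, MulEquiv.apply_symm_apply]
  exact (h' x _ e).1 ((h x _ e).2 (smul_singMk_eq Q _ _ _ _ 1 (by rw [one_smul]; exact eich_fix Q hQv hw)))

/-- The permutation of points. -/
noncomputable def ptMap (hQ : Good Q) (β : MulAut (TQ Q)) (p : SingPts Q) : SingPts Q :=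
  (exists_stabRel hQ β p).choose

theorem stabRel_ptMap (hQ : Good Q) (β : MulAut (TQ Q)) (p : SingPts Q) : StabRel β p (ptMap hQ β p) :=
  (exists_stabRel hQ β p).choose_spec

theorem ptMap_smul (hQ : Good Q) {β : MulAut (TQ Q)} {g g' : eichGroup Q} (e : β (cls Q g) = cls Q g')
    (p : SingPts Q) : ptMap hQ β (g • p) = g' • ptMap hQ β p := by
  refine stabRel_unique hQ (stabRel_ptMap hQ β _) fun x x' ex => ?_
  have e1 : β (cls Q (g⁻¹ * x * g)) = cls Q (g'⁻¹ * x' * g') := by
    simp only [map_mul, map_inv, ex, e]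
  have h := stabRel_ptMap hQ β p _ _ e1
  rwa [mul_smul, mul_smul, inv_smul_eq_iff, mul_smul, mul_smul, inv_smul_eq_iff] at h

theorem ptMap_symm (hQ : Good Q) (β : MulAut (TQ Q)) (p : SingPts Q) :
    ptMap hQ (MulEquiv.symm β) (ptMap hQ β p) = p := by
  refine stabRel_unique hQ (stabRel_ptMap hQ _ _) fun g g' e => ?_
  exact (stabRel_ptMap hQ β p g' g (by rw [← e, MulEquiv.apply_symm_apply])).symm

theorem ptMap_injective (hQ : Good Q) (β : MulAut (TQ Q)) : Function.Injective (ptMap hQ β) :=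
  Function.LeftInverse.injective (g := ptMap hQ (MulEquiv.symm β)) (ptMap_symm hQ β)

theorem ptMap_surjective (hQ : Good Q) (β : MulAut (TQ Q)) : Function.Surjective (ptMap hQ β) := by
  haveI : Finite V := Module.finite_of_finite F
  exact Finite.injective_iff_surjective.1 (ptMap_injective hQ β)

theorem exists_move_orth (hQ : Good Q) {a z : V} (h : HypPair Q a z) {c c' : SingPts Q}
    (hc : IsOrth Q c h.pa ∧ c ≠ h.pa) (hc' : IsOrth Q c' h.pa ∧ c' ≠ h.pa) :
    ∃ g : eichGroup Q, g • h.pa = h.pa ∧ g • c = c' := by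
  obtain ⟨x, rfl⟩ := h.exists_par hc.1 hc.2
  obtain ⟨y, rfl⟩ := h.exists_par hc'.1 hc'.2
  have hn := hQ.seven
  have hM := h.finrank_pM
  obtain ⟨k, hk, hku, hkb⟩ := exists_move_in Q (h.ndOn_pM hQ.nondeg) (by omega) x.1.1.rep.2 y.1.1.rep.2 x.1.2 y.1.2
    (HypPair.par_ne x.1) (HypPair.par_ne y.1)
  have hka : k.1 a = a := hkb a ((mem_qPerp Q).2 fun m hm =>
    (QuadraticMap.polar_comm Q m a).trans ((mem_pM Q).1 hm).1)
  obtain ⟨w, hw⟩ := h.exists_pM_polar hQ.nondeg y.1.1.rep_nonzero (x.2 - y.2)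
  refine ⟨⟨eich Q a (w : V) * k, mul_mem (eich_mem Q h.qa (HypPair.am w)) hk.2⟩, ?_, ?_⟩
  · refine smul_singMk_eq Q _ _ _ _ 1 ?_
    change (eich Q a (w : V) * k).1 a = _
    rw [one_smul, qAut_mul_apply, hka, eich_fix Q h.qa (HypPair.am w)]
  · change (eich Q a (w : V) * k) • h.par x = h.par y
    have hkx : k • h.par x = h.par (y.1, x.2) :=
      smul_singMk_eq Q _ _ _ _ 1 (by rw [one_smul, map_add, map_smul, hku, hka])
    rw [mul_smul, hkx, h.eich_smul_par, hw, sub_sub_cancel]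

theorem exists_move_opp {a z : V} (h : HypPair Q a z) {c c' : SingPts Q}
    (hc : ¬ IsOrth Q c h.pa) (hc' : ¬ IsOrth Q c' h.pa) :
    ∃ g : eichGroup Q, g • h.pa = h.pa ∧ g • c = c' := by
  obtain ⟨w, rfl⟩ := h.exists_opp hc
  obtain ⟨w', rfl⟩ := h.exists_opp hc'
  refine ⟨⟨eich Q a ((w' - w : pM Q a z) : V), eich_mem Q h.qa (HypPair.am _)⟩, h.eich_smul_pa _, ?_⟩
  exact (h.eich_smul_opp _ _).trans (by rw [sub_add_cancel])

theorem isOrth_ptMap_of (hQ : Good Q) (β : MulAut (TQ Q)) {p p' : SingPts Q} (ho : IsOrth Q p p') :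
    IsOrth Q (ptMap hQ β p) (ptMap hQ β p') := by
  classical
  haveI : Finite V := Module.finite_of_finite F
  obtain ⟨a, ha0, ha, rfl⟩ := exists_singMk Q p
  obtain ⟨z, h⟩ := exists_hypPair_left Q hQ.nondeg ha0 ha
  by_contra hno
  obtain ⟨a', ha0', ha', hb⟩ := exists_singMk Q (ptMap hQ β (singMk Q ha0 ha))
  obtain ⟨z', h'⟩ := exists_hypPair_left Q hQ.nondeg ha0' ha'
  change ptMap hQ β h.pa = h'.pa at hb
  change ¬ IsOrth Q (ptMap hQ β h.pa) (ptMap hQ β p') at hno
  change IsOrth Q h.pa p' at ho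
  rw [hb] at hno
  have hne : p' ≠ h.pa := fun e => hno (by rw [e, hb]; exact isOrth_self Q _)
  have hmove : ∀ {c c' : SingPts Q}, (∃ g : eichGroup Q, g • h.pa = h.pa ∧ g • c = c') →
      (IsOrth Q (ptMap hQ β c') h'.pa ↔ IsOrth Q (ptMap hQ β c) h'.pa) := by
    rintro c c' ⟨g, hg, rfl⟩
    obtain ⟨g', hg'⟩ := cls_surjective Q (β (cls Q g))
    have hfix : g' • h'.pa = h'.pa := by rw [← hb]; exact (stabRel_ptMap hQ β h.pa g g' hg'.symm).1 hg
    rw [ptMap_smul hQ hg'.symm]
    conv_lhs => rw [← hfix]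
    exact isOrth_smul Q (g' : qAut Q) _ _
  have h1 : ∀ c, IsOrth Q c h.pa ∧ c ≠ h.pa → ¬ IsOrth Q (ptMap hQ β c) h'.pa := fun c hc hco => by
    have := (hmove (exists_move_orth hQ h ⟨(isOrth_comm Q _ _).1 ho, hne⟩ hc)).1 hco
    exact hno ((isOrth_comm Q _ _).1 this)
  have hinj := ptMap_injective hQ β
  have hle1 : Nat.card {c : SingPts Q // IsOrth Q c h.pa ∧ c ≠ h.pa} ≤
      Nat.card {c : SingPts Q // ¬ IsOrth Q c h'.pa} :=
    Nat.card_le_card_of_injective (fun c => ⟨_, h1 c.1 c.2⟩) fun c c' e =>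
      Subtype.ext (hinj (congrArg Subtype.val e))
  rw [h.card_par, h'.card_opp] at hle1
  have hq : 0 < Fintype.card F ^ (Module.finrank F V - 2) := pow_pos Fintype.card_pos _
  obtain ⟨pc, hpc⟩ := CharP.exists F
  haveI : Fact pc.Prime := ⟨CharP.char_is_prime F pc⟩
  have hn := hQ.seven
  have hM := h.finrank_pM
  have hmod := card_singPts_mod (qM Q a z) (h.polarNondeg_qM hQ.nondeg) (by omega) pc
  have hpos : 0 < Nat.card (SingPts (qM Q a z)) := by
    by_contra h0
    rw [Nat.eq_zero_of_not_pos h0] at hmod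
    exact (Fact.out : pc.Prime).ne_one (Nat.dvd_one.1 ((Nat.modEq_zero_iff_dvd).1 hmod.symm))
  have h2 : ∀ c, ¬ IsOrth Q c h.pa → IsOrth Q (ptMap hQ β c) h'.pa := by
    intro c hc
    by_contra hco
    have hall : ∀ d, d ≠ h.pa → ¬ IsOrth Q (ptMap hQ β d) h'.pa := by
      intro d hd
      by_cases hdo : IsOrth Q d h.pa
      · exact h1 d ⟨hdo, hd⟩
      · exact fun hh => hco ((hmove (exists_move_opp h hc hdo)).1 hh)
    have hle : Nat.card {d : SingPts Q // d ≠ h.pa} ≤ Nat.card {c : SingPts Q // ¬ IsOrth Q c h'.pa} :=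
      Nat.card_le_card_of_injective (fun d => ⟨_, hall d.1 d.2⟩) fun c c' e =>
        Subtype.ext (hinj (congrArg Subtype.val e))
    letI := Fintype.ofFinite (SingPts Q)
    rw [h'.card_opp, Nat.card_eq_fintype_card, Fintype.card_subtype_compl, Fintype.card_subtype_eq,
      ← Nat.card_eq_fintype_card, h.card_singPts] at hle
    have := Nat.mul_pos (Fintype.card_pos (α := F)) hpos
    omega
  have hle2 : Nat.card {c : SingPts Q // ¬ IsOrth Q c h.pa} ≤
      Nat.card {c : SingPts Q // IsOrth Q c h'.pa ∧ c ≠ h'.pa} :=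
    Nat.card_le_card_of_injective (fun c => ⟨_, h2 c.1 c.2, fun e => c.2 (by
      have : c.1 = h.pa := hinj (by rw [e, hb])
      rw [this]
      exact isOrth_self Q _)⟩) fun c c' e => Subtype.ext (hinj (congrArg Subtype.val e))
  rw [h.card_opp, h'.card_par] at hle2
  have heq := h.card_singPts.symm.trans h'.card_singPts
  have hfin : Fintype.card F * Nat.card (SingPts (qM Q a z)) =
      Fintype.card F * Fintype.card F ^ (Module.finrank F V - 3) := by
    rw [← pow_succ', show Module.finrank F V - 3 + 1 = Module.finrank F V - 2 by omega]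
    omega
  rw [Nat.eq_of_mul_eq_mul_left Fintype.card_pos hfin] at hmod
  have hdvd : pc ∣ Fintype.card F ^ (Module.finrank F V - 3) :=
    dvd_pow ((CharP.cast_eq_zero_iff F pc _).1 (FiniteField.cast_card_eq_zero F)) (by omega)
  exact (Fact.out : pc.Prime).ne_one (Nat.dvd_one.1
    ((Nat.modEq_zero_iff_dvd).1 (hmod.symm.trans ((Nat.modEq_zero_iff_dvd).2 hdvd))))

theorem isOrth_ptMap (hQ : Good Q) (β : MulAut (TQ Q)) (p p' : SingPts Q) :
    IsOrth Q (ptMap hQ β p) (ptMap hQ β p') ↔ IsOrth Q p p' := by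
  refine ⟨fun h => ?_, isOrth_ptMap_of hQ β⟩
  have := isOrth_ptMap_of hQ (MulEquiv.symm β) h
  rwa [ptMap_symm, ptMap_symm] at this

end CfsgLib.POAut
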