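/-
An additive bijection preserving singular points and orthogonality to singular vectors is a semisimilarity.
-/
import Cfsg.Agent.Lib.KnownSimple.POAut.Frame

set_option autoImplicit false

namespace CfsgLib.POAut

open CfsgLib.Classical CfsgLib.Classical22

variable {F V : Type*} [Field F] [AddCommGroup V] [Module F V] (Q : QuadraticForm F V)
variable [FiniteDimensional F V] [Fintype F]

/-- The singular vectors span. -/
theorem span_singular (hQ : PolarNondeg Q) (hn : 3 ≤ Module.finrank F V) :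
    Submodule.span F {v : V | Q v = 0} = ⊤ := by
  have h : qPerp Q (Submodule.span F {v : V | Q v = 0}) = ⊥ := by
    rw [Submodule.eq_bot_iff]
    intro x hx
    by_contra hx0
    obtain ⟨u, hu, hux⟩ := exists_singular_polar Q hQ hn hx0
    exact hux ((mem_qPerp Q).1 hx u (Submodule.subset_span hu))
  rw [← qPerp_qPerp Q hQ (Submodule.span F {v : V | Q v = 0}), h, eq_top_iff]
  exact fun x _ => (mem_qPerp Q).2 fun w hw => by
    rw [Submodule.mem_bot] at hw
    rw [hw, QuadraticMap.polar_zero_left]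

/-- The singular vectors orthogonal to a singular `u` determine its point. -/
theorem exists_smul_of_perp (hQ : PolarNondeg Q) (hn : 5 ≤ Module.finrank F V) {u u' : V} (hu : Q u = 0)
    (hu0 : u ≠ 0) (hall : ∀ y, Q y = 0 → QuadraticMap.polar Q y u = 0 → QuadraticMap.polar Q y u' = 0) :
    ∃ s : F, s • u = u' := by
  obtain ⟨v, h⟩ := exists_hypPair_left Q hQ hu0 hu
  obtain ⟨s, t, m, rfl⟩ := h.exists_coord u'
  have ht : t = 0 := by
    simpa [QuadraticMap.polar_add_right, QuadraticMap.polar_smul_right, h.aa, h.az, HypPair.am] using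
      hall u hu h.aa
  have hm : m = 0 := by
    by_contra hm
    obtain ⟨y, hy, hym⟩ := exists_singular_polar (qM Q u v) (h.polarNondeg_qM hQ)
      (by have := h.finrank_pM; omega) hm
    refine hym ?_
    have := hall (y : V) hy (HypPair.ma y)
    simpa [QuadraticMap.polar_add_right, QuadraticMap.polar_smul_right, HypPair.ma, HypPair.mz,
      polar_qM] using this
  exact ⟨s, by simp [ht, hm]⟩

/-- A singular point orthogonal to two given ones and different from both. -/
theorem exists_singular_between (hQ : PolarNondeg Q) (hn : 5 ≤ Module.finrank F V) {m u : V} (hm : Q m = 0)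
    (hu : Q u = 0) (hm0 : m ≠ 0) (hmu : QuadraticMap.polar Q m u ≠ 0 ∨ ∃ s : F, s • m = u) :
    ∃ y, Q y = 0 ∧ y ≠ 0 ∧ QuadraticMap.polar Q m y = 0 ∧ QuadraticMap.polar Q u y = 0 ∧
      ∀ s : F, s • y ≠ m := by
  have key : ∀ {v : V}, HypPair Q m v → ∃ y : pM Q m v, Q (y : V) = 0 ∧ y ≠ 0 ∧
      ∀ s : F, s • (y : V) ≠ m := by
    intro v h
    obtain ⟨y, hy0, hy⟩ := exists_singular (qM Q m v) (h.polarNondeg_qM hQ) (by have := h.finrank_pM; omega)
    refine ⟨y, hy, hy0, fun s hs => ?_⟩
    have := congrArg (fun x => QuadraticMap.polar Q x v) hs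
    simp [QuadraticMap.polar_smul_left, HypPair.mz, h.az] at this
  rcases hmu with hne | ⟨s, rfl⟩
  · have h := exists_hypPair_of_polar Q hm hu hne
    obtain ⟨y, hy, hy0, hli⟩ := key h
    refine ⟨y, hy, fun e => hy0 (Subtype.ext e), HypPair.am y, ?_, hli⟩
    have := HypPair.zm (Q := Q) y
    rw [QuadraticMap.polar_smul_left, smul_eq_mul] at this
    exact (mul_eq_zero.1 this).resolve_left (inv_ne_zero hne)
  · obtain ⟨v, h⟩ := exists_hypPair_left Q hQ hm0 hm
    obtain ⟨y, hy, hy0, hli⟩ := key h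
    exact ⟨y, hy, fun e => hy0 (Subtype.ext e), HypPair.am y, by rw [QuadraticMap.polar_smul_left, HypPair.am y, smul_zero], hli⟩

/-- The fundamental theorem for the cone. -/
theorem exists_semisimilarity (hQ : PolarNondeg Q) (hn : 5 ≤ Module.finrank F V) (L : V ≃+ V)
    (hsing : ∀ w, Q (L w) = 0 ↔ Q w = 0)
    (hline : ∀ m, Q m = 0 → ∀ s : F, ∃ t : F, L (s • m) = t • L m)
    (horth : ∀ w m, Q m = 0 → (QuadraticMap.polar Q (L w) (L m) = 0 ↔ QuadraticMap.polar Q w m = 0)) :
    ∃ (σ : F ≃+* F) (c : F), c ≠ 0 ∧ (∀ (s : F) w, L (s • w) = σ s • L w) ∧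
      ∀ w, Q (L w) = c * σ (Q w) := by
  classical
  choose t ht using fun (m : {m : V // Q m = 0}) (s : F) => hline m.1 m.2 s
  have tuniq : ∀ (m : {m : V // Q m = 0}), m.1 ≠ 0 → ∀ s r : F, L (s • m.1) = r • L m.1 → t m s = r :=
    fun m hm s r e => smul_left_injective F (fun h => hm (L.map_eq_zero_iff.1 h)) ((ht m s).symm.trans e)
  have tindep : ∀ (m u : {m : V // Q m = 0}), m.1 ≠ 0 → u.1 ≠ 0 → QuadraticMap.polar Q m.1 u.1 = 0 →
      (∀ s : F, s • u.1 ≠ m.1) → ∀ s, t m s = t u s := by
    intro m u hm hu ho hli s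
    have hsum : Q (m.1 + u.1) = 0 := by rw [quad_add, m.2, u.2, ho, add_zero, add_zero]
    obtain ⟨r, hr⟩ := hline _ hsum s
    rw [smul_add, map_add, map_add, ht m s, ht u s] at hr
    by_contra hne
    obtain ⟨k, hk⟩ : ∃ k : F, L m.1 = k • L u.1 := by
      by_cases hmr : t m s = r
      · exfalso
        rw [hmr, smul_add, add_right_inj] at hr
        exact hne (hmr.trans (smul_left_injective F (fun h => hu (L.map_eq_zero_iff.1 h)) hr).symm)
      · refine ⟨(t m s - r)⁻¹ * (r - t u s), ?_⟩
        have : (t m s - r) • L m.1 = (r - t u s) • L u.1 := by linear_combination (norm := module) hr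
        rw [← smul_smul, ← this, smul_smul, inv_mul_cancel₀ (sub_ne_zero.2 hmr), one_smul]
    obtain ⟨w, hwu, hwm⟩ := exists_polar_sep Q hQ hli
    have h1 := (horth w u.1 u.2).2 ((QuadraticMap.polar_comm Q w _).trans hwu)
    have h2 : QuadraticMap.polar Q (L w) (L m.1) = 0 := by
      rw [hk, QuadraticMap.polar_smul_right, h1, smul_zero]
    exact hwm ((QuadraticMap.polar_comm Q _ w).trans ((horth w m.1 m.2).1 h2))
  have tall : ∀ (m u : {m : V // Q m = 0}), m.1 ≠ 0 → u.1 ≠ 0 → ∀ s, t m s = t u s := by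
    intro m u hm hu s
    by_cases hcase : QuadraticMap.polar Q m.1 u.1 ≠ 0 ∨ ∃ r : F, r • m.1 = u.1
    · obtain ⟨y, hy, hy0, hmy, huy, hli⟩ := exists_singular_between Q hQ hn m.2 u.2 hm hcase
      rw [tindep m ⟨y, hy⟩ hm hy0 hmy hli s, tindep u ⟨y, hy⟩ hu hy0 huy ?_ s]
      intro r hr
      rcases hcase with hne | ⟨k, hk⟩
      · exact hne (by rw [← hr, QuadraticMap.polar_smul_right, hmy, smul_zero])
      · refine hli (k⁻¹ * r) ?_
        rw [← smul_smul, hr, ← hk, smul_smul, inv_mul_cancel₀ (fun h => hu (by rw [← hk, h, zero_smul])),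
          one_smul]
    · push Not at hcase
      refine tindep m u hm hu hcase.1 (fun r hr => hcase.2 r⁻¹ ?_) s
      rw [← hr, smul_smul, inv_mul_cancel₀ (fun h => hm (by rw [← hr, h, zero_smul])), one_smul]
  obtain ⟨m0, hm00, hm0⟩ := exists_singular Q hQ (by omega)
  let σ : F →+* F :=
    { toFun := t ⟨m0, hm0⟩
      map_one' := tuniq ⟨m0, hm0⟩ hm00 1 1 (by rw [one_smul, one_smul])
      map_zero' := tuniq ⟨m0, hm0⟩ hm00 0 0 (by rw [zero_smul, map_zero, zero_smul])
      map_add' := fun x y => tuniq ⟨m0, hm0⟩ hm00 _ _ (by rw [add_smul, map_add, ht, ht, add_smul])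
      map_mul' := fun x y => tuniq ⟨m0, hm0⟩ hm00 _ _ (by
        by_cases hy : y = 0
        · subst hy
          rw [mul_zero, tuniq ⟨m0, hm0⟩ hm00 0 0 (by rw [zero_smul, map_zero, zero_smul]), mul_zero]
          simp
        · have e := ht ⟨y • m0, by rw [quad_smul, hm0, mul_zero]⟩ x
          rw [tall ⟨y • m0, _⟩ ⟨m0, hm0⟩ (smul_ne_zero hy hm00) hm00 x, ht ⟨m0, hm0⟩ y, smul_smul,
            smul_smul] at e
          exact e) }
  have hσ : Function.Bijective σ := Finite.injective_iff_bijective.1 σ.injective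
  have hsemi : ∀ (s : F) (w : V), L (s • w) = σ s • L w := by
    intro s w
    have hw : w ∈ Submodule.span F {v : V | Q v = 0} := by
      rw [span_singular Q hQ (by omega)]
      trivial
    have hsing' : ∀ (m : V), Q m = 0 → ∀ r, L (r • m) = σ r • L m := by
      intro m hm r
      rcases eq_or_ne m 0 with rfl | hm'
      · simp
      · rw [ht ⟨m, hm⟩ r, tall ⟨m, hm⟩ ⟨m0, hm0⟩ hm' hm00 r]
        rfl
    induction hw using Submodule.span_induction generalizing s with
    | mem x hx => exact hsing' x hx s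
    | zero => simp
    | add x y _ _ hx hy => rw [smul_add, map_add, hx, hy, map_add, smul_add]
    | smul r x _ hx => rw [smul_smul, hx, hx, smul_smul, map_mul]
  let τ : F ≃+* F := RingEquiv.ofBijective σ hσ
  have hτ : ∀ x, σ x = τ x := fun _ => rfl
  let P : V → V → F := fun x y => τ.symm (QuadraticMap.polar Q (L x) (L y))
  have Padd : ∀ x x' y, P (x + x') y = P x y + P x' y := fun x x' y => by
    simp [P, map_add, QuadraticMap.polar_add_left]
  have Psmul : ∀ (s : F) x y, P (s • x) y = s * P x y := fun s x y => by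
    simp only [P, hsemi, QuadraticMap.polar_smul_left, smul_eq_mul, map_mul, hτ, RingEquiv.symm_apply_apply]
  have Pcomm : ∀ x y, P x y = P y x := fun x y => by simp [P, QuadraticMap.polar_comm Q (L x)]
  have hfun : ∀ u, Q u = 0 → u ≠ 0 → ∃ c, ∀ x, P x u = c * QuadraticMap.polar Q x u := by
    intro u hu hu0
    obtain ⟨v, h⟩ := exists_hypPair_left Q hQ hu0 hu
    refine ⟨P v u, fun x => ?_⟩
    have h0 : QuadraticMap.polar Q (x + -(QuadraticMap.polar Q x u) • v) u = 0 := by
      rw [QuadraticMap.polar_add_left, QuadraticMap.polar_smul_left, h.za, smul_eq_mul, mul_one, add_neg_cancel]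
    have h1 : P (x + -(QuadraticMap.polar Q x u) • v) u = 0 := by
      simp only [P]
      rw [(horth _ u hu).2 h0, map_zero]
    rw [Padd, Psmul] at h1
    linear_combination h1
  choose cu hcu using hfun
  have hnon : ∀ u u' (hu : Q u = 0) (hu' : Q u' = 0) (h0 : u ≠ 0) (h0' : u' ≠ 0),
      QuadraticMap.polar Q u u' ≠ 0 → cu u hu h0 = cu u' hu' h0' := by
    intro u u' hu hu' h0 h0' hne
    have h1 := hcu u hu h0 u'
    rw [Pcomm, hcu u' hu' h0' u, QuadraticMap.polar_comm Q u' u] at h1
    exact (mul_right_cancel₀ hne h1).symm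
  have hall : ∀ u (hu : Q u = 0) (h0 : u ≠ 0), cu u hu h0 = cu m0 hm0 hm00 := by
    intro u hu h0
    by_cases hne : QuadraticMap.polar Q u m0 = 0
    swap
    · exact hnon u m0 hu hm0 h0 hm00 hne
    by_cases hdep : ∃ s : F, s • m0 = u
    · obtain ⟨s, rfl⟩ := hdep
      obtain ⟨v, h⟩ := exists_hypPair_left Q hQ hm00 hm0
      have h1 : QuadraticMap.polar Q (s • m0) v ≠ 0 := by
        rw [QuadraticMap.polar_smul_left, h.az, smul_eq_mul, mul_one]
        exact fun hs => h0 (by rw [hs, zero_smul])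
      have h2 : QuadraticMap.polar Q m0 v ≠ 0 := by rw [h.az]; exact one_ne_zero
      rw [hnon _ v hu h.qz h0 h.z_ne h1, hnon m0 v hm0 h.qz hm00 h.z_ne h2]
    push Not at hdep
    have hdep' : ∀ s : F, s • u ≠ m0 := fun s hs => hdep s⁻¹ (by
      rw [← hs, smul_smul, inv_mul_cancel₀ (fun h => hm00 (by rw [← hs, h, zero_smul])), one_smul])
    obtain ⟨v, hv, huv, heq⟩ := exists_common Q hQ (by omega) hu hm0 hdep' hdep
    have hv0 : v ≠ 0 := fun h => huv (by rw [h, QuadraticMap.polar_zero_right])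
    rw [hnon u v hu hv h0 hv0 huv, hnon m0 v hm0 hv hm00 hv0 (heq ▸ huv)]
  set c := cu m0 hm0 hm00
  have hP : ∀ x y, P x y = c * QuadraticMap.polar Q x y := by
    intro x y
    have hy : y ∈ Submodule.span F {v : V | Q v = 0} := by
      rw [span_singular Q hQ (by omega)]
      trivial
    induction hy using Submodule.span_induction with
    | mem y hy =>
      rcases eq_or_ne y 0 with rfl | hy0
      · simp [P]
      · rw [hcu y hy hy0, hall y hy hy0]
    | zero => simp [P]
    | add y y' _ _ h1 h2 => rw [Pcomm, Padd, Pcomm y, Pcomm y', h1, h2, QuadraticMap.polar_add_right, mul_add]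
    | smul s y _ h1 =>
      rw [Pcomm, Psmul, Pcomm, h1, QuadraticMap.polar_smul_right, smul_eq_mul]
      ring
  refine ⟨τ, τ c, fun hc => ?_, hsemi, fun w => ?_⟩
  · have hc0 : c = 0 := τ.map_eq_zero_iff.1 hc
    obtain ⟨v, h⟩ := exists_hypPair_left Q hQ hm00 hm0
    have h1 : P v m0 = 0 := by rw [hP, hc0, zero_mul]
    have h2 := (horth v m0 hm0).1 (τ.symm.map_eq_zero_iff.1 h1)
    rw [h.za] at h2
    exact one_ne_zero h2
  · have hw : w ∈ Submodule.span F {v : V | Q v = 0} := by
      rw [span_singular Q hQ (by omega)]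
      trivial
    rw [← map_mul, ← τ.symm.injective.eq_iff, RingEquiv.symm_apply_apply]
    induction hw using Submodule.span_induction with
    | mem y hy => rw [(hsing y).2 hy, show Q y = 0 from hy, mul_zero, map_zero]
    | zero => simp
    | add x y _ _ h1 h2 =>
      have h3 := hP x y
      simp only [P] at h3
      rw [map_add, quad_add, quad_add, map_add, map_add, h1, h2, h3]
      ring
    | smul s x _ h1 =>
      rw [hsemi, quad_smul, quad_smul, map_mul, map_mul, h1, hτ, RingEquiv.symm_apply_apply]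
      ring

end CfsgLib.POAut
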