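/-
An automorphism whose point map fixes a hyperbolic pair: the additive map on the orthogonal of the pair.
-/
import Cfsg.Agent.Lib.KnownSimple.POAut.Points
import Cfsg.Agent.Lib.KnownSimple.POAut.Semilinear
import Mathlib.FieldTheory.Finite.Basic

set_option autoImplicit false

namespace CfsgLib.POAut

open CfsgLib.Classical CfsgLib.Classical22

variable {F V : Type*} [Field F] [AddCommGroup V] [Module F V] {Q : QuadraticForm F V} {a z : V}

/-- `x'` is orthogonal to every common neighbour of `p` and `x`. -/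
def Coll (Q : QuadraticForm F V) (p x x' : SingPts Q) : Prop :=
  ∀ y, IsOrth Q p y → IsOrth Q x y → IsOrth Q x' y

namespace HypPair

/-- The point of a singular vector of the orthogonal. -/
noncomputable def mpt (_h : HypPair Q a z) {m : pM Q a z} (hm : m ≠ 0) (hq : Q (m : V) = 0) : SingPts Q :=
  singMk Q (v := (m : V)) (fun e => hm (Subtype.ext e)) hq

variable (h : HypPair Q a z)
include h

/-- The class of the Eichler transformation with coordinate `w`. -/
noncomputable def eCls (w : pM Q a z) : TQ Q := cls Q ⟨eich Q a (w : V), eich_mem Q h.qa (am w)⟩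

theorem eCls_add (w w' : pM Q a z) : h.eCls (w + w') = h.eCls w * h.eCls w' := by
  rw [eCls, eCls, eCls, ← map_mul]
  exact congrArg _ (Subtype.ext ((eich_mul Q h.qa (am w) (am w')).symm))

theorem mpt_orth {m : pM Q a z} (hm : m ≠ 0) (hq : Q (m : V) = 0) :
    IsOrth Q (h.mpt hm hq) h.pa ∧ IsOrth Q (h.mpt hm hq) h.pz := by
  rw [mpt, pa, pz, isOrth_singMk, isOrth_singMk]
  exact ⟨ma m, mz m⟩

theorem exists_mpt {p : SingPts Q} (hp : IsOrth Q p h.pa) (hp' : IsOrth Q p h.pz) :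
    ∃ (m : pM Q a z) (hm : m ≠ 0) (hq : Q (m : V) = 0), p = h.mpt hm hq := by
  obtain ⟨v, hv, hQv, rfl⟩ := exists_singMk Q p
  rw [pa, isOrth_singMk, QuadraticMap.polar_comm] at hp
  rw [pz, isOrth_singMk, QuadraticMap.polar_comm] at hp'
  exact ⟨⟨v, (mem_pM Q).2 ⟨hp, hp'⟩⟩, fun e => hv (congrArg Subtype.val e), hQv, rfl⟩

theorem opp_orth_mpt (w : pM Q a z) {m : pM Q a z} (hm : m ≠ 0) (hq : Q (m : V) = 0) :
    IsOrth Q (h.opp w) (h.mpt hm hq) ↔ QuadraticMap.polar Q (w : V) (m : V) = 0 := by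
  rw [opp, mpt, isOrth_singMk, h.eich_az]
  simp [QuadraticMap.polar_add_left, QuadraticMap.polar_sub_left, QuadraticMap.polar_smul_left, zm m, am m]

theorem opp_orth_pz (w : pM Q a z) : IsOrth Q (h.opp w) h.pz ↔ Q (w : V) = 0 := by
  rw [opp, pz, isOrth_singMk, h.eich_az]
  simp [QuadraticMap.polar_sub_left, QuadraticMap.polar_add_left, QuadraticMap.polar_smul_left, h.zz, h.az, mz]

theorem pz_not_orth : ¬ IsOrth Q h.pz h.pa := by
  rw [pz, pa, isOrth_singMk, h.za]
  exact one_ne_zero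

variable [FiniteDimensional F V] [Fintype F]

theorem eCls_injective (hQ : Good Q) : Function.Injective h.eCls := fun w w' e => by
  have h1 := smul_eq_of_cls hQ e (h.opp 0)
  change eich Q a (w : V) • h.opp 0 = eich Q a (w' : V) • h.opp 0 at h1
  rw [h.eich_smul_opp, h.eich_smul_opp, add_zero, add_zero] at h1
  exact h.opp_injective h1

theorem coll_par (hQ : Good Q) {x : SingPts (qM Q a z) × F} {y : SingPts (qM Q a z) × F} :
    Coll Q h.pa (h.par x) (h.par y) ↔ x.1 = y.1 := by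
  have hn := hQ.seven
  have hM := h.finrank_pM
  constructor
  · intro hc
    obtain ⟨s, hs⟩ := exists_smul_of_perp (qM Q a z) (h.polarNondeg_qM hQ.nondeg) (by omega) x.1.2
      x.1.1.rep_nonzero (u' := y.1.1.rep) fun m hm hmx => by
        rcases eq_or_ne m 0 with rfl | hm0
        · simp
        have hm' : Q (m : V) = 0 := hm
        have h1 : IsOrth Q h.pa (h.mpt hm0 hm') := (isOrth_comm Q _ _).1 (h.mpt_orth hm0 hm').1
        have h2 : IsOrth Q (h.par x) (h.mpt hm0 hm') := by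
          rw [par, mpt, isOrth_singMk, QuadraticMap.polar_add_left, QuadraticMap.polar_smul_left, am m,
            smul_zero, add_zero, QuadraticMap.polar_comm]
          exact hmx
        have h3 := hc _ h1 h2
        rw [par, mpt, isOrth_singMk, QuadraticMap.polar_add_left, QuadraticMap.polar_smul_left, am m,
          smul_zero, add_zero, QuadraticMap.polar_comm] at h3
        exact h3
    apply Subtype.ext
    rw [← Projectivization.mk_rep x.1.1, ← Projectivization.mk_rep y.1.1, eq_comm, Projectivization.mk_eq_mk_iff']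
    exact ⟨s, hs⟩
  · intro e p h1 h2
    obtain ⟨v, hv, hQv, rfl⟩ := exists_singMk Q p
    rw [pa, isOrth_singMk] at h1
    rw [par, isOrth_singMk, QuadraticMap.polar_add_left, QuadraticMap.polar_smul_left, h1, smul_zero,
      add_zero] at h2 ⊢
    rwa [← e]

theorem eich_pointwise (hQ : Good Q) (w : pM Q a z) :
    ∀ x, IsOrth Q x h.pa → x ≠ h.pa → Coll Q h.pa x (eich Q a (w : V) • x) := by
  intro x hx hne
  obtain ⟨y, rfl⟩ := h.exists_par hx hne
  rw [h.eich_smul_par, h.coll_par hQ]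

/-- The root group as a set of classes. -/
theorem exists_eCls_eq (hQ : Good Q) (p : ℕ) [Fact p.Prime] [CharP F p] {g : eichGroup Q}
    (hga : g • h.pa = h.pa) (hgp : g ^ p ∈ Subgroup.center (eichGroup Q))
    (hgc : ∀ x, IsOrth Q x h.pa → x ≠ h.pa → Coll Q h.pa x (g • x)) : ∃ w, cls Q g = h.eCls w := by
  have hn := hQ.seven
  have hM := h.finrank_pM
  obtain ⟨w, hw⟩ := h.exists_opp (p := g • h.pz) fun ho => h.pz_not_orth (by
    rw [← hga] at ho
    exact (isOrth_smul Q (g : qAut Q) _ _).1 ho)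
  refine ⟨w, ?_⟩
  obtain ⟨k, hk⟩ : ∃ k : eichGroup Q, k = (⟨eich Q a ((-w : pM Q a z) : V), eich_mem Q h.qa (am _)⟩ * g) :=
    ⟨_, rfl⟩
  have hkg : g = (⟨eich Q a (w : V), eich_mem Q h.qa (am w)⟩ : eichGroup Q) * k := by
    rw [hk, ← mul_assoc]
    refine (right_eq_mul.2 (Subtype.ext ?_))
    change eich Q a (w : V) * eich Q a ((-w : pM Q a z) : V) = 1
    rw [eich_mul Q h.qa (am w) (am _), ← Submodule.coe_add, add_neg_cancel, Submodule.coe_zero, eich_zero Q h.qa]
  have hka : k • h.pa = h.pa := by rw [hk, mul_smul, hga]; exact h.eich_smul_pa _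
  have hkz : k • h.pz = h.pz := by
    rw [hk, mul_smul, hw, ← h.opp_zero]
    exact (h.eich_smul_opp _ _).trans (by rw [neg_add_cancel])
  obtain ⟨α, hα⟩ : ∃ α : F, α • a = (k : qAut Q).1 a := by
    rw [pa, eichGroup_smul_singMk, singMk_eq_iff] at hka
    exact hka
  obtain ⟨β, hβ⟩ : ∃ β : F, β • z = (k : qAut Q).1 z := by
    rw [pz, eichGroup_smul_singMk, singMk_eq_iff] at hkz
    exact hkz
  have hαβ : α * β = 1 := by
    have e := qAut_polar (k : qAut Q) a z
    rwa [← hα, ← hβ, QuadraticMap.polar_smul_left, QuadraticMap.polar_smul_right, h.az, smul_eq_mul,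
      smul_eq_mul, mul_one] at e
  have hkM : ∀ v ∈ pM Q a z, (k : qAut Q).1 v ∈ pM Q a z := by
    intro v hv
    obtain ⟨h1, h2⟩ := (mem_pM Q).1 hv
    refine (mem_pM Q).2 ⟨?_, ?_⟩
    · have e := qAut_polar (k : qAut Q) a v
      rw [← hα, QuadraticMap.polar_smul_left, h1, smul_eq_mul] at e
      exact (mul_eq_zero.1 e).resolve_left (left_ne_zero_of_mul_eq_one hαβ)
    · have e := qAut_polar (k : qAut Q) z v
      rw [← hβ, QuadraticMap.polar_smul_left, h2, smul_eq_mul] at e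
      exact (mul_eq_zero.1 e).resolve_left (right_ne_zero_of_mul_eq_one hαβ)
  let r : qAut (qM Q a z) := ⟨LinearEquiv.ofInjectiveEndo ((k : qAut Q).1.toLinearMap.restrict hkM) fun x y e =>
    Subtype.ext ((k : qAut Q).1.injective (congrArg Subtype.val e)), fun v => qAut_map (k : qAut Q) (v : V)⟩
  have hr : ∀ v : pM Q a z, ((r.1 v : pM Q a z) : V) = (k : qAut Q).1 (v : V) := fun v => rfl
  obtain ⟨c, hc⟩ := exists_scalar_of_fix (qM Q a z) (h.polarNondeg_qM hQ.nondeg) (by omega) (g := r) fun u => by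
    obtain ⟨m, hm, hq, rfl⟩ := exists_singMk (qM Q a z) u
    have hq' : Q (m : V) = 0 := hq
    obtain ⟨hm1, hm2⟩ := h.mpt_orth hm hq'
    have hne : h.mpt hm hq' ≠ h.pa := fun e => h.pz_not_orth (by
      rw [isOrth_comm, ← e]
      exact hm2)
    have hcol : Coll Q h.pa (h.mpt hm hq') (k • h.mpt hm hq') := by
      intro y hy1 hy2
      have hg' := hgc _ hm1 hne
      have hg1 : IsOrth Q (g • h.mpt hm hq') h.pa := by
        conv => arg 3; rw [← hga]
        exact (isOrth_smul Q (g : qAut Q) _ _).2 hm1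
      have hgne : g • h.mpt hm hq' ≠ h.pa := fun e => hne (by
        conv_rhs at e => rw [← hga]
        exact smul_left_cancel g e)
      rw [hk, mul_smul]
      exact (h.eich_pointwise hQ _ _ hg1 hgne) y hy1 (hg' y hy1 hy2)
    have hm' : (m : V) ≠ 0 := fun e => hm (Subtype.ext e)
    obtain ⟨s, hs⟩ := exists_smul_of_perp (qM Q a z) (h.polarNondeg_qM hQ.nondeg) (by omega) hq hm
      (u' := r.1 m) fun y hy hym => by
        rcases eq_or_ne y 0 with rfl | hy0
        · simp
        have hy' : Q (y : V) = 0 := hy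
        have h3 := hcol (h.mpt hy0 hy') ((isOrth_comm Q _ _).1 (h.mpt_orth hy0 hy').1) (by
          rw [mpt, mpt, isOrth_singMk, QuadraticMap.polar_comm]
          exact hym)
        rw [mpt, mpt, eichGroup_smul_singMk, isOrth_singMk, QuadraticMap.polar_comm] at h3
        exact h3
    exact smul_singMk_eq (qM Q a z) hm hq hm hq s hs.symm
  have hkm : ∀ v : pM Q a z, (k : qAut Q).1 (v : V) = c • (v : V) := fun v => by
    rw [← hr, hc, Submodule.coe_smul]
  obtain ⟨m, -, hmQ⟩ : ∃ m : pM Q a z, m ∈ (⊤ : Submodule F (pM Q a z)) ∧ qM Q a z m ≠ 0 := by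
    obtain ⟨m, -, -, hm⟩ := exists_aniso_perp (qM Q a z) (h.polarNondeg_qM hQ.nondeg) (by omega) 0 0
    exact ⟨m, trivial, hm⟩
  rw [qM_apply] at hmQ
  have hm0 : (m : V) ≠ 0 := fun e => hmQ (by rw [e, map_zero])
  have hc2 : c * c = 1 := by
    have e := qAut_map (k : qAut Q) (m : V)
    rw [hkm, quad_smul] at e
    exact mul_right_cancel₀ hmQ (e.trans (one_mul _).symm)
  have hga' : (g : qAut Q).1 a = α • a := by
    rw [hkg, Subgroup.coe_mul, qAut_mul_apply, ← hα, map_smul, eich_fix Q h.qa (am w)]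
  have hgm : ∀ (i : ℕ), ((g ^ i : eichGroup Q) : qAut Q).1 a = α ^ i • a ∧
      ∃ s : F, ((g ^ i : eichGroup Q) : qAut Q).1 (m : V) = c ^ i • (m : V) + s • a := by
    intro i
    induction i with
    | zero => exact ⟨by simp, 0, by simp⟩
    | succ i ih =>
      obtain ⟨e1, s, e2⟩ := ih
      have hgm1 : (g : qAut Q).1 (m : V) = c • (m : V) - (c * QuadraticMap.polar Q (m : V) (w : V)) • a := by
        rw [hkg, Subgroup.coe_mul, qAut_mul_apply, hkm, map_smul, h.eich_am, smul_sub, smul_smul]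
      rw [pow_succ', Subgroup.coe_mul, qAut_mul_apply, qAut_mul_apply, e1, e2]
      refine ⟨by rw [map_smul, hga', smul_smul, pow_succ], s * α - c ^ i * (c * QuadraticMap.polar Q (m : V) (w : V)), ?_⟩
      rw [map_add, map_smul, map_smul, hga', hgm1, pow_succ]
      module
  have hαc : α = c := by
    have hcen := centralizer_commutator Q hQ.nondeg (by omega) (z := ((g ^ p : eichGroup Q) : qAut Q)) fun x hx => by
      rw [← eichGroup_eq_commutator Q hQ.nondeg (by omega)] at hx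
      exact (congrArg Subtype.val (Subgroup.mem_center_iff.1 hgp ⟨x, hx⟩)).symm
    obtain ⟨e1, s, e2⟩ := hgm p
    obtain ⟨ε, hε⟩ : ∃ ε : F, ∀ x, ((g ^ p : eichGroup Q) : qAut Q).1 x = ε • x :=
      hcen.elim (fun hh => ⟨1, fun x => by rw [one_smul, hh]⟩) (fun hh => ⟨-1, fun x => by rw [neg_one_smul, hh]⟩)
    rw [hε] at e1 e2
    have h1 : ε = α ^ p := smul_left_injective F h.a_ne e1
    have h2 : ε = c ^ p := by
      obtain ⟨-, -, e4⟩ := h.coord_inj (s := 0) (t := 0) (m := ε • m) (s' := s) (t' := 0) (m' := c ^ p • m) (by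
        rw [Submodule.coe_smul, Submodule.coe_smul, e2]
        module)
      exact smul_left_injective F (fun e => hm0 (congrArg Subtype.val e)) e4
    exact frobenius_inj F p (h1.symm.trans h2)
  have hβc : β = c := by
    rw [hαc] at hαβ
    exact mul_left_cancel₀ (left_ne_zero_of_mul_eq_one hc2) (hαβ.trans hc2.symm)
  have hscal : ∀ x, (k : qAut Q).1 x = c • x := fun x => by
    obtain ⟨s, t, v, rfl⟩ := h.exists_coord x
    rw [map_add, map_add, map_smul, map_smul, ← hα, ← hβ, hkm, hαc, hβc]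
    module
  have hkc : k ∈ Subgroup.center (eichGroup Q) := Subgroup.mem_center_iff.2 fun u => Subtype.ext (qAut_ext fun x => by
    change (u : qAut Q).1 ((k : qAut Q).1 x) = (k : qAut Q).1 ((u : qAut Q).1 x)
    rw [hscal, hscal, map_smul])
  rw [hkg, map_mul, cls_eq_one.2 hkc, mul_one]
  rfl

end HypPair

variable [FiniteDimensional F V] [Fintype F]

/-- Fixing the pair, the point map is given by an additive map on its orthogonal. -/
theorem exists_additive (hQ : Good Q) (β : MulAut (TQ Q)) (h : HypPair Q a z)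
    (hpa : ptMap hQ β h.pa = h.pa) (hpz : ptMap hQ β h.pz = h.pz) :
    ∃ L : pM Q a z ≃+ pM Q a z, (∀ w, β (h.eCls w) = h.eCls (L w)) ∧ (∀ w, ptMap hQ β (h.opp w) = h.opp (L w)) ∧
      (∀ w, qM Q a z (L w) = 0 ↔ qM Q a z w = 0) ∧
      (∀ m, qM Q a z m = 0 → ∀ s : F, ∃ t : F, L (s • m) = t • L m) ∧
      (∀ w m, qM Q a z m = 0 → (QuadraticMap.polar (qM Q a z) (L w) (L m) = 0 ↔
        QuadraticMap.polar (qM Q a z) w m = 0)) ∧
      ∀ (m : pM Q a z) (hm : m ≠ 0) (hq : Q (m : V) = 0) (hm' : L m ≠ 0) (hq' : Q (L m : V) = 0),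
        ptMap hQ β (h.mpt hm hq) = h.mpt hm' hq' := by
  classical
  haveI : Finite V := Module.finite_of_finite F
  have hn := hQ.seven
  have hM := h.finrank_pM
  obtain ⟨p, hp⟩ := CharP.exists F
  haveI : Fact p.Prime := ⟨CharP.char_is_prime F p⟩
  have hex : ∀ w, ∃ w', β (h.eCls w) = h.eCls w' := by
    intro w
    obtain ⟨g', hg'⟩ := cls_surjective Q (β (h.eCls w))
    obtain ⟨w', hw'⟩ := h.exists_eCls_eq hQ p (g := g') (by
        have e := ptMap_smul hQ (β := β) hg'.symm h.pa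
        rw [hpa] at e
        exact (e.symm.trans (by rw [show (⟨eich Q a (w : V), _⟩ : eichGroup Q) • h.pa = h.pa from
          h.eich_smul_pa w, hpa])))
      (by
        rw [← cls_eq_one, map_pow, hg', ← map_pow, HypPair.eCls, ← map_pow]
        rw [show (⟨eich Q a (w : V), eich_mem Q h.qa (HypPair.am w)⟩ : eichGroup Q) ^ p = 1 from
          Subtype.ext (by rw [Subgroup.coe_pow]; exact eich_pow_char Q h.qa (HypPair.am w) p), map_one, map_one])
      (fun x hx hne y hy1 hy2 => by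
        obtain ⟨x₀, rfl⟩ := ptMap_surjective hQ β x
        obtain ⟨y₀, rfl⟩ := ptMap_surjective hQ β y
        rw [← ptMap_smul hQ (β := β) hg'.symm, isOrth_ptMap]
        rw [← hpa, isOrth_ptMap] at hy1
        rw [← hpa, isOrth_ptMap] at hx
        rw [isOrth_ptMap] at hy2
        exact h.eich_pointwise hQ w x₀ hx (fun e => hne (by rw [e, hpa])) y₀ hy1 hy2)
    exact ⟨w', hg'.symm.trans hw'⟩
  choose L0 hL0 using hex
  have hadd : ∀ w w', L0 (w + w') = L0 w + L0 w' := fun w w' => h.eCls_injective hQ (by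
    rw [← hL0, h.eCls_add, map_mul, hL0, hL0, ← h.eCls_add])
  have hinj : Function.Injective L0 := fun w w' e => h.eCls_injective hQ (β.injective (by rw [hL0, hL0, e]))
  let L : pM Q a z ≃+ pM Q a z := AddEquiv.ofBijective (AddMonoidHom.mk' L0 hadd)
    (Finite.injective_iff_bijective.1 hinj)
  have hopp : ∀ w, ptMap hQ β (h.opp w) = h.opp (L w) := fun w => by
    have e := ptMap_smul hQ (β := β) (g := ⟨eich Q a (w : V), eich_mem Q h.qa (HypPair.am w)⟩)
      (g' := ⟨eich Q a (L0 w : V), eich_mem Q h.qa (HypPair.am (L0 w))⟩) (hL0 w) (h.opp 0)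
    rw [h.opp_zero, hpz] at e
    rw [show h.opp w = eich Q a (w : V) • h.opp 0 by rw [h.eich_smul_opp, add_zero],
      show h.opp (L w) = eich Q a (L0 w : V) • h.opp 0 by rw [h.eich_smul_opp, add_zero]; rfl, h.opp_zero]
    exact e
  have hsing : ∀ w, qM Q a z (L w) = 0 ↔ qM Q a z w = 0 := fun w => by
    rw [qM_apply, qM_apply, ← h.opp_orth_pz, ← h.opp_orth_pz, ← hopp]
    nth_rw 1 [← hpz]
    exact isOrth_ptMap hQ β _ _
  have hm' : ∀ (m : pM Q a z) (hm : m ≠ 0) (hq : Q (m : V) = 0), ∃ (m' : pM Q a z) (hm1 : m' ≠ 0)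
      (hq1 : Q (m' : V) = 0), ptMap hQ β (h.mpt hm hq) = h.mpt hm1 hq1 ∧
      ∀ w, (QuadraticMap.polar Q (L w : V) (m' : V) = 0 ↔ QuadraticMap.polar Q (w : V) (m : V) = 0) := by
    intro m hm hq
    obtain ⟨h1, h2⟩ := h.mpt_orth hm hq
    obtain ⟨m', hm1, hq1, e⟩ := h.exists_mpt (p := ptMap hQ β (h.mpt hm hq))
      (by rw [← hpa, isOrth_ptMap]; exact h1) (by rw [← hpz, isOrth_ptMap]; exact h2)
    refine ⟨m', hm1, hq1, e, fun w => ?_⟩
    rw [← h.opp_orth_mpt w hm hq, ← h.opp_orth_mpt (L w) hm1 hq1, ← e, ← hopp, isOrth_ptMap]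
  have hprop : ∀ (m : pM Q a z), m ≠ 0 → Q (m : V) = 0 → ∀ (m' : pM Q a z), m' ≠ 0 → Q (m' : V) = 0 →
      (∀ w, (QuadraticMap.polar Q (L w : V) (m' : V) = 0 ↔ QuadraticMap.polar Q (w : V) (m : V) = 0)) →
      ∀ n : pM Q a z, (∀ u : pM Q a z, Q (u : V) = 0 → QuadraticMap.polar Q (u : V) (m : V) = 0 →
        QuadraticMap.polar Q (u : V) (n : V) = 0) → Q (n : V) = 0 → ∃ t : F, t • m' = L n := by
    intro m hm hq m' hm1 hq1 hiff n hn' hqn
    refine exists_smul_of_perp (qM Q a z) (h.polarNondeg_qM hQ.nondeg) (by omega) hq1 hm1 fun y hy hym => ?_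
    obtain ⟨u, rfl⟩ := L.surjective y
    have hu : Q (u : V) = 0 := (hsing u).1 hy
    have h3 := hn' u hu ((hiff u).1 hym)
    have hsum : qM Q a z (u + n) = 0 := by
      rw [qM_apply, Submodule.coe_add, quad_add, hu, hqn, h3, add_zero, add_zero]
    have h4 := (hsing _).2 hsum
    rw [map_add, quad_add, hy, (hsing n).2 hqn, zero_add, zero_add] at h4
    exact h4
  have hbig : ∀ (m : pM Q a z) (hm : m ≠ 0) (hq : Q (m : V) = 0), ∃ (hm1 : L m ≠ 0) (hq1 : Q (L m : V) = 0),
      ptMap hQ β (h.mpt hm hq) = h.mpt hm1 hq1 ∧ (∀ w, (QuadraticMap.polar Q (L w : V) (L m : V) = 0 ↔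
        QuadraticMap.polar Q (w : V) (m : V) = 0)) ∧ ∀ s : F, ∃ t : F, L (s • m) = t • L m := by
    intro m hm hq
    obtain ⟨m', hm1, hq1, e, hiff⟩ := hm' m hm hq
    have hLm : L m ≠ 0 := fun e => hm (L.map_eq_zero_iff.1 e)
    obtain ⟨t, ht⟩ := hprop m hm hq m' hm1 hq1 hiff m (fun u _ hu => hu) hq
    have ht0 : t ≠ 0 := fun e => hLm (by rw [← ht, e, zero_smul])
    refine ⟨hLm, (hsing m).2 hq, e.trans ?_, fun w => ?_, fun s => ?_⟩
    · refine (singMk_eq_iff Q _ _ _ _).2 ⟨t⁻¹, ?_⟩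
      rw [← Submodule.coe_smul, ← ht, smul_smul, inv_mul_cancel₀ ht0, one_smul]
    · rw [← hiff w, ← ht, Submodule.coe_smul, QuadraticMap.polar_smul_right, smul_eq_mul, mul_eq_zero,
        or_iff_right ht0]
    · obtain ⟨t', ht'⟩ := hprop m hm hq m' hm1 hq1 hiff (s • m) (fun u _ hu => by
        rw [Submodule.coe_smul, QuadraticMap.polar_smul_right, hu, smul_zero])
        (by rw [Submodule.coe_smul, quad_smul, hq, mul_zero])
      exact ⟨t' * t⁻¹, by rw [← ht', ← ht, smul_smul, mul_assoc, inv_mul_cancel₀ ht0, mul_one]⟩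
  refine ⟨L, hL0, hopp, hsing, fun m hq s => ?_, fun w m hq => ?_, fun m hm hq hm1 hq1 => ?_⟩
  · rcases eq_or_ne m 0 with rfl | hm
    · exact ⟨0, by simp⟩
    · obtain ⟨-, -, -, -, h5⟩ := hbig m hm hq
      exact h5 s
  · rcases eq_or_ne m 0 with rfl | hm
    · simp
    · obtain ⟨-, -, -, h4, -⟩ := hbig m hm hq
      exact h4 w
  · obtain ⟨_, _, h3, -, -⟩ := hbig m hm hq
    exact h3

end CfsgLib.POAut
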