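/-
Every automorphism of the simple quotient is induced by a semisimilarity.
-/
import Cfsg.Agent.Lib.KnownSimple.POAut.Normal

set_option autoImplicit false

namespace CfsgLib.POAut

open CfsgLib.Classical CfsgLib.Classical22

variable {F V : Type*} [Field F] [AddCommGroup V] [Module F V] {Q : QuadraticForm F V}

/-- A semisimilarity: semilinear for `σ`, multiplying the form by `c`. -/
structure IsSemisim (Q : QuadraticForm F V) (σ : F ≃+* F) (c : F) (T : V ≃+ V) : Prop where
  smul : ∀ (s : F) v, T (s • v) = σ s • T v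
  quad : ∀ v, Q (T v) = c * σ (Q v)
  ne : c ≠ 0

namespace IsSemisim

variable {σ : F ≃+* F} {c : F} {T : V ≃+ V} (hT : IsSemisim Q σ c T)
include hT

theorem polar (x y : V) : QuadraticMap.polar Q (T x) (T y) = c * σ (QuadraticMap.polar Q x y) := by
  simp only [QuadraticMap.polar, ← map_add, hT.quad, map_sub]
  ring

theorem map_eich {u w : V} (hu : Q u = 0) (huw : QuadraticMap.polar Q u w = 0) (x : V) :
    T ((eich Q u w).1 x) = (eich Q (T u) (c⁻¹ • T w)).1 (T x) := by
  have hc := hT.ne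
  rw [eich_apply Q hu huw, eich_apply Q (by rw [hT.quad, hu, map_zero, mul_zero])
    (by rw [QuadraticMap.polar_smul_right, hT.polar, huw, map_zero, mul_zero, smul_zero])]
  rw [map_sub, map_add, hT.smul, hT.smul, hT.polar, QuadraticMap.polar_smul_right, hT.polar, quad_smul,
    hT.quad, smul_smul, smul_eq_mul, map_add, map_mul,
    show c * σ (QuadraticMap.polar Q x u) * c⁻¹ = σ (QuadraticMap.polar Q x u) by field_simp,
    show c⁻¹ * (c * σ (QuadraticMap.polar Q x w)) + c⁻¹ * c⁻¹ * (c * σ (Q w)) * (c * σ (QuadraticMap.polar Q x u)) =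
      σ (QuadraticMap.polar Q x w) + σ (Q w) * σ (QuadraticMap.polar Q x u) by field_simp]

/-- A semisimilarity normalises the Eichler group. -/
theorem exists_conj {g : qAut Q} (hg : g ∈ eichGroup Q) :
    ∃ g' : qAut Q, g' ∈ eichGroup Q ∧ ∀ x, T (g.1 x) = g'.1 (T x) := by
  induction hg using Subgroup.closure_induction with
  | mem x hx =>
    obtain ⟨u, w, hu, huw, rfl⟩ := hx
    exact ⟨_, eich_mem Q (by rw [hT.quad, hu, map_zero, mul_zero])
      (by rw [QuadraticMap.polar_smul_right, hT.polar, huw, map_zero, mul_zero, smul_zero]), hT.map_eich hu huw⟩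
  | one => exact ⟨1, one_mem _, fun x => rfl⟩
  | mul x y _ _ hx hy =>
    obtain ⟨x', hx', ex⟩ := hx
    obtain ⟨y', hy', ey⟩ := hy
    exact ⟨x' * y', mul_mem hx' hy', fun v => by rw [qAut_mul_apply, ex, ey, qAut_mul_apply]⟩
  | inv x _ hx =>
    obtain ⟨x', hx', ex⟩ := hx
    refine ⟨x'⁻¹, inv_mem hx', fun v => x'.1.injective ?_⟩
    rw [← ex, qApply_inv_self, qApply_inv_self]

/-- Composition with a linear isometry. -/
theorem comp_qAut (k : qAut Q) : IsSemisim Q σ c (T.trans k.1.toAddEquiv) where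
  smul s v := by
    change k.1 (T (s • v)) = σ s • k.1 (T v)
    rw [hT.smul, map_smul]
  quad v := (qAut_map k _).trans (hT.quad v)
  ne := hT.ne

end IsSemisim

variable [FiniteDimensional F V] [Fintype F]

/-- `β` is induced by `T`. -/
def InducedBy (β : MulAut (TQ Q)) (T : V ≃+ V) : Prop :=
  ∀ g g' : eichGroup Q, (∀ x, T ((g : qAut Q).1 x) = (g' : qAut Q).1 (T x)) → β (cls Q g) = cls Q g'

theorem exists_semisim_of_fixed (hQ : Good Q) (β : MulAut (TQ Q)) {a z : V} (h : HypPair Q a z)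
    (hpa : ptMap hQ β h.pa = h.pa) (hpz : ptMap hQ β h.pz = h.pz) :
    ∃ (σ : F ≃+* F) (c : F) (T : V ≃+ V), IsSemisim Q σ c T ∧ InducedBy β T := by
  classical
  haveI : Finite V := Module.finite_of_finite F
  have hn := hQ.seven
  have hM := h.finrank_pM
  obtain ⟨L, hL0, hopp, hsing, hline, horth, hmpt⟩ := exists_additive hQ β h hpa hpz
  obtain ⟨σ, c, hc, hsemi, hquad⟩ :=
    exists_semisimilarity (qM Q a z) (h.polarNondeg_qM hQ.nondeg) (by omega) L hsing hline horth
  choose cs ct cm hcoord using h.exists_coord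
  let T0 : V → V := fun x => (c * σ (cs x)) • a + σ (ct x) • z + (L (cm x) : V)
  have hT0 : ∀ s t (m : pM Q a z), T0 (s • a + t • z + (m : V)) = (c * σ s) • a + σ t • z + (L m : V) := by
    intro s t m
    obtain ⟨e1, e2, e3⟩ := h.coord_inj (hcoord (s • a + t • z + (m : V))).symm
    simp only [T0, e1, e2, e3]
  have hadd : ∀ x y, T0 (x + y) = T0 x + T0 y := fun x y => by
    have e : x + y = (cs x + cs y) • a + (ct x + ct y) • z + ((cm x + cm y : pM Q a z) : V) := by
      conv_lhs => rw [hcoord x, hcoord y]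
      rw [Submodule.coe_add]
      module
    rw [e, hT0]
    simp only [T0, map_add, Submodule.coe_add]
    module
  have hinj : Function.Injective T0 := fun x y e => by
    obtain ⟨e1, e2, e3⟩ := h.coord_inj e
    rw [hcoord x, hcoord y, σ.injective (mul_left_cancel₀ hc e1), σ.injective e2, L.injective e3]
  let T : V ≃+ V := AddEquiv.ofBijective (AddMonoidHom.mk' T0 hadd) (Finite.injective_iff_bijective.1 hinj)
  have hTa : ∀ s t (m : pM Q a z), T (s • a + t • z + (m : V)) = (c * σ s) • a + σ t • z + (L m : V) := hT0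
  have hT : IsSemisim Q σ c T := by
    refine ⟨fun r v => ?_, fun v => ?_, hc⟩
    · obtain ⟨s, t, m, rfl⟩ := h.exists_coord v
      rw [show r • (s • a + t • z + (m : V)) = (r * s) • a + (r * t) • z + ((r • m : pM Q a z) : V) by
        rw [Submodule.coe_smul]; module, hTa, hTa, hsemi, map_mul, map_mul, Submodule.coe_smul]
      module
    · obtain ⟨s, t, m, rfl⟩ := h.exists_coord v
      rw [hTa, h.quad_coord, h.quad_coord, show Q (L m : V) = c * σ (Q (m : V)) from hquad m, map_add, map_mul]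
      ring
  have hTeich : ∀ (w : pM Q a z) (x : V),
      T ((eich Q a (w : V)).1 x) = (eich Q a (L w : V)).1 (T x) := fun w x => by
    have hTw : T (w : V) = (L w : V) := by simpa using hTa 0 0 w
    have hTA : T a = c • a := by simpa using hTa 1 0 0
    rw [hT.map_eich h.qa (HypPair.am w) x, hTA, hTw, eich_smul_left Q h.qa
      (by rw [QuadraticMap.polar_smul_right, HypPair.am, smul_zero]), smul_smul, mul_inv_cancel₀ hc, one_smul]
  have hpt : ∀ (v : V) (hv : v ≠ 0) (hq : Q v = 0), ptMap hQ β (singMk Q hv hq) =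
      singMk Q (v := T v) (fun e => hv (T.map_eq_zero_iff.1 e)) (by rw [hT.quad, hq, map_zero, mul_zero]) := by
    intro v hv hq
    by_cases hva : IsOrth Q (singMk Q hv hq) h.pa
    · obtain ⟨s, t, m, rfl⟩ := h.exists_coord v
      have ht : t = 0 := by
        rw [HypPair.pa, isOrth_singMk] at hva
        simpa [QuadraticMap.polar_add_left, QuadraticMap.polar_smul_left, h.za, h.aa, HypPair.ma] using hva
      subst ht
      rcases eq_or_ne m 0 with rfl | hm
      · rw [show singMk Q hv hq = h.pa from (singMk_eq_iff Q _ _ _ _).2 ⟨s, by simp⟩, hpa]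
        refine ((singMk_eq_iff Q _ _ _ _).2 ⟨c * σ s, ?_⟩).symm
        rw [hTa]
        simp
      have hmq : Q (m : V) = 0 := by
        rw [h.quad_coord, mul_zero, zero_add] at hq
        exact hq
      have hLm : L m ≠ 0 := fun e => hm (L.map_eq_zero_iff.1 e)
      obtain ⟨w, hw⟩ := h.exists_pM_polar hQ.nondeg hm (-s)
      have e1 : (eich Q a (w : V)).1 (m : V) = s • a + (0 : F) • z + (m : V) := by
        rw [h.eich_am, hw]
        module
      obtain ⟨g, hg⟩ : ∃ g : eichGroup Q, g = ⟨eich Q a (w : V), eich_mem Q h.qa (HypPair.am w)⟩ := ⟨_, rfl⟩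
      have e2 : singMk Q hv hq = g • h.mpt hm hmq :=
        (smul_singMk_eq Q (g := (g : qAut Q)) _ _ hv hq 1 (by rw [one_smul, hg]; exact e1)).symm
      rw [e2, ptMap_smul hQ (β := β) (g' := ⟨eich Q a (L w : V), eich_mem Q h.qa (HypPair.am (L w))⟩)
        (by rw [hg]; exact hL0 w), hmpt m hm hmq hLm ((hsing m).2 hmq)]
      refine smul_singMk_eq Q (g := eich Q a (L w : V)) _ _ _ _ 1 ?_
      have hTm : T (m : V) = (L m : V) := by simpa using hTa 0 0 m
      rw [one_smul, ← hTm, ← hTeich, e1]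
    · obtain ⟨w, hw⟩ := h.exists_opp hva
      obtain ⟨r, hr⟩ := (singMk_eq_iff Q _ _ _ _).1 hw
      rw [hw, hopp]
      refine ((singMk_eq_iff Q _ _ _ _).2 ⟨σ r, ?_⟩).symm
      have hTz : T z = z := by simpa using hTa 0 1 0
      conv_rhs => rw [← hr, hT.smul, hTeich, hTz]
  refine ⟨σ, c, T, hT, fun g g' e => ?_⟩
  obtain ⟨g1, hg1⟩ := cls_surjective Q (β (cls Q g))
  obtain ⟨cst, hcst⟩ := exists_scalar_of_fix Q hQ.nondeg (by omega)
    (g := ((g1⁻¹ * g' : eichGroup Q) : qAut Q)) fun p => by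
    obtain ⟨p₀, rfl⟩ := ptMap_surjective hQ β p
    have h1 := ptMap_smul hQ (β := β) hg1.symm p₀
    have h2 : ptMap hQ β (g • p₀) = g' • ptMap hQ β p₀ := by
      obtain ⟨v, hv, hq, rfl⟩ := exists_singMk Q p₀
      rw [eichGroup_smul_singMk, hpt, hpt, eichGroup_smul_singMk, singMk_eq_iff]
      exact ⟨1, by rw [one_smul, e]⟩
    change (g1⁻¹ * g' : eichGroup Q) • ptMap hQ β p₀ = ptMap hQ β p₀
    rw [mul_smul, ← h2, h1, inv_smul_smul]
  have hcen : g1⁻¹ * g' ∈ Subgroup.center (eichGroup Q) :=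
    Subgroup.mem_center_iff.2 fun u => Subtype.ext (qAut_ext fun x => by
      change (u : qAut Q).1 (((g1⁻¹ * g' : eichGroup Q) : qAut Q).1 x) =
        ((g1⁻¹ * g' : eichGroup Q) : qAut Q).1 ((u : qAut Q).1 x)
      rw [hcst, hcst, map_smul])
  rw [← hg1, eq_comm, ← inv_mul_eq_one, ← map_inv, ← map_mul, cls_eq_one]
  rw [← Subgroup.inv_mem_iff, mul_inv_rev, inv_inv]
  exact hcen

/-- Every automorphism is induced by a semisimilarity. -/
theorem exists_semisim (hQ : Good Q) (β : MulAut (TQ Q)) :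
    ∃ (σ : F ≃+* F) (c : F) (T : V ≃+ V), IsSemisim Q σ c T ∧ InducedBy β T := by
  classical
  have hn := hQ.seven
  obtain ⟨a, ha0, ha⟩ := exists_singular Q hQ.nondeg (by omega)
  obtain ⟨z, h⟩ := exists_hypPair_left Q hQ.nondeg ha0 ha
  obtain ⟨b, hb0, hb, eb⟩ := exists_singMk Q (ptMap hQ β h.pa)
  obtain ⟨y, hy0, hy, ey⟩ := exists_singMk Q (ptMap hQ β h.pz)
  have hby : QuadraticMap.polar Q b y ≠ 0 := fun e => h.pz_not_orth (by
    rw [← isOrth_ptMap hQ β, eb, ey, isOrth_comm, isOrth_singMk]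
    exact e)
  obtain ⟨k1, hk1, hka⟩ := exists_move_eichGroup Q hQ.nondeg (by omega) ha hb ha0 hb0
  have h' := exists_hypPair_of_polar Q hb hy hby
  obtain ⟨w, hw, hwz⟩ := exists_eich_move Q (u := k1.1 z) (u' := (QuadraticMap.polar Q b y)⁻¹ • y) (v := b)
    ((qAut_map k1 z).trans h.qz) h'.qz hb
    (by rw [h'.za, ← hka, qAut_polar, h.za])
    (by rw [← hka, qAut_polar, h.za]; exact one_ne_zero)
  obtain ⟨k, hk⟩ : ∃ k : eichGroup Q, k = ⟨eich Q b w * k1, mul_mem (eich_mem Q hb hw) hk1⟩ := ⟨_, rfl⟩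
  have hka' : (k : qAut Q).1 a = b := by
    rw [hk]
    change (eich Q b w * k1).1 a = b
    rw [qAut_mul_apply, hka, eich_fix Q hb hw]
  have hkz' : (k : qAut Q).1 z = (QuadraticMap.polar Q b y)⁻¹ • y := by
    rw [hk]
    change (eich Q b w * k1).1 z = _
    rw [qAut_mul_apply, hwz]
  have hkpa : ptMap hQ β h.pa = k • h.pa := by
    rw [eb]
    exact (smul_singMk_eq Q (g := (k : qAut Q)) _ _ hb0 hb 1 (by rw [one_smul, hka'])).symm
  have hkpz : ptMap hQ β h.pz = k • h.pz := by
    rw [ey]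
    exact (smul_singMk_eq Q (g := (k : qAut Q)) _ _ hy0 hy _ hkz').symm
  obtain ⟨β', hβ'⟩ : ∃ β' : MulAut (TQ Q), ∀ x, β' x = (cls Q k)⁻¹ * β x * cls Q k :=
    ⟨MulAut.conj (cls Q k)⁻¹ * β, fun x => by simp [MulAut.mul_apply]⟩
  have hrel : ∀ p, StabRel β' p (k⁻¹ • ptMap hQ β p) := fun p g g' e => by
    rw [hβ'] at e
    have e2 : β (cls Q g) = cls Q (k * g' * k⁻¹) := by
      rw [map_mul, map_mul, map_inv, ← e]
      group
    rw [stabRel_ptMap hQ β p g _ e2, mul_smul, mul_smul, smul_eq_iff_eq_inv_smul]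
  have hp : ∀ p, ptMap hQ β' p = k⁻¹ • ptMap hQ β p := fun p =>
    stabRel_unique hQ (stabRel_ptMap hQ β' p) (hrel p)
  obtain ⟨σ, c, T, hT, hind⟩ := exists_semisim_of_fixed hQ β' h
    (by rw [hp, hkpa, inv_smul_smul]) (by rw [hp, hkpz, inv_smul_smul])
  refine ⟨σ, c, T.trans (k : qAut Q).1.toAddEquiv, hT.comp_qAut _, fun g g' e => ?_⟩
  have e1 := hind g (k⁻¹ * g' * k) fun x => by
    have := e x
    change (k : qAut Q).1 (T ((g : qAut Q).1 x)) = (g' : qAut Q).1 ((k : qAut Q).1 (T x)) at this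
    apply (k : qAut Q).1.injective
    rw [this]
    change _ = (k : qAut Q).1 (((k : qAut Q)⁻¹).1 ((g' : qAut Q).1 ((k : qAut Q).1 (T x))))
    rw [qApply_inv_self]
  rw [hβ', map_mul, map_mul, map_inv, mul_left_inj, mul_right_inj] at e1
  exact e1

end CfsgLib.POAut
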