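/-
The automorphism theorem in coordinates; the three standard forms.
-/
import Cfsg.Agent.Lib.KnownSimple.POAut.Main
import Cfsg.Agent.Lib.Classical.QuadSiegel
import Cfsg.Prelude.Def_LieTypeDatum

set_option autoImplicit false

namespace CfsgLib.POAut

open Matrix CfsgLib.Classical CfsgLib.Classical22

variable {F : Type*} [Field F] {ι : Type} [Fintype ι] [DecidableEq ι] (Q : QuadraticForm F (ι → F))

theorem isSimpleGroup_aux [Fintype F] (hQ : Pre Q) :
    (Cfsg.Omega F ⇑Q).map (isoEquiv Q).toMonoidHom = eichGroup Q := by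
  have hn := hQ.seven
  rw [eichGroup_eq_commutator Q hQ.nondeg (by omega)]
  exact map_commutator_equiv (isoEquiv Q)

/-- `Ω` as the Eichler group. -/
noncomputable def omegaEquiv [Fintype F] (hQ : Pre Q) : Cfsg.Omega F ⇑Q ≃* eichGroup Q :=
  ((isoEquiv Q).subgroupMap (Cfsg.Omega F ⇑Q)).trans (MulEquiv.subgroupCongr (isSimpleGroup_aux Q hQ))

theorem omegaEquiv_apply [Fintype F] (hQ : Pre Q) (s : Cfsg.Omega F ⇑Q) (x : ι → F) :
    (omegaEquiv Q hQ s : qAut Q).1 x = ((s : Cfsg.isometryGroup F ⇑Q) : GL ι F).1 *ᵥ x := rfl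

/-- `PΩ` as the simple quotient. -/
noncomputable def poEquiv [Fintype F] (hQ : Pre Q) : Cfsg.POmega F ⇑Q ≃* TQ Q :=
  QuotientGroup.congr _ _ (omegaEquiv Q hQ) (by
    ext x
    constructor
    · rintro ⟨a, ha, rfl⟩
      exact Subgroup.mem_center_iff.2 fun y => (omegaEquiv Q hQ).symm.injective (by
        simpa using Subgroup.mem_center_iff.1 ha ((omegaEquiv Q hQ).symm y))
    · intro hx
      exact ⟨(omegaEquiv Q hQ).symm x, Subgroup.mem_center_iff.2 fun y => (omegaEquiv Q hQ).injective (by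
        simpa using Subgroup.mem_center_iff.1 hx (omegaEquiv Q hQ y)), (omegaEquiv Q hQ).apply_symm_apply x⟩)

theorem poEquiv_mk [Fintype F] (hQ : Pre Q) (s : Cfsg.Omega F ⇑Q) :
    poEquiv Q hQ (QuotientGroup.mk s) = cls Q (omegaEquiv Q hQ s) := rfl

/-- Every automorphism of `PΩ` is induced by a semisimilarity `v ↦ g σ(v)`. -/
theorem exists_semisimilarityPair [Fintype F] (hQ : Good Q) (β : MulAut (Cfsg.POmega F ⇑Q)) :
    ∃ (g : GL ι F) (σ : F ≃+* F), Cfsg.IsSemisimilarityPair (⇑Q) g σ ∧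
      Cfsg.IsInducedBySemilinearPOmega (⇑Q) g σ β := by
  classical
  let f := poEquiv Q hQ
  obtain ⟨σ, c, T, hT, hind⟩ := exists_semisim hQ (MulEquiv.trans (MulEquiv.trans f.symm β) f : MulAut (TQ Q))
  have hcomp : ∀ v : ι → F, (fun i => σ.symm (σ (v i))) = v := fun v => funext fun i => σ.symm_apply_apply _
  let A : (ι → F) →ₗ[F] (ι → F) :=
    { toFun := fun v => T (fun i => σ.symm (v i))
      map_add' := fun v w => by rw [← map_add]; exact congrArg T (funext fun i => by simp)
      map_smul' := fun s v => by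
        rw [RingHom.id_apply,
          show (fun i => σ.symm ((s • v) i)) = σ.symm s • (fun i => σ.symm (v i)) from funext fun i => by simp,
          hT.smul, RingEquiv.apply_symm_apply] }
  have hAinj : Function.Injective A := fun v w e => funext fun i => by
    simpa using congrFun (T.injective e) i
  let Ae : (ι → F) ≃ₗ[F] (ι → F) := LinearEquiv.ofInjectiveEndo A hAinj
  let g : GL ι F :=
    ⟨LinearMap.toMatrix' Ae.toLinearMap, LinearMap.toMatrix' Ae.symm.toLinearMap,
      by rw [← LinearMap.toMatrix'_comp]; simp, by rw [← LinearMap.toMatrix'_comp]; simp⟩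
  have hg : ∀ v, (g : Matrix ι ι F) *ᵥ (fun i => σ (v i)) = T v := fun v => by
    change LinearMap.toMatrix' Ae.toLinearMap *ᵥ _ = _
    rw [LinearMap.toMatrix'_mulVec]
    change T _ = T v
    rw [hcomp]
  refine ⟨g, σ, ⟨Units.mk0 c hT.ne, fun v => by rw [hg, hT.quad, Units.val_mk0]⟩, fun s s' e => ?_⟩
  have h := hind (omegaEquiv Q hQ s) (omegaEquiv Q hQ s') fun x => by
    rw [omegaEquiv_apply, omegaEquiv_apply, ← hg, ← hg, e, mulVec_mulVec, mul_assoc, mul_assoc,
      ← Units.val_mul, inv_mul_cancel, Units.val_one, mul_one, ← mulVec_mulVec]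
    congr 1
    exact funext fun i => RingHom.map_mulVec σ.toRingHom _ x i
  rw [← poEquiv_mk, ← poEquiv_mk] at h
  simp only [MulEquiv.trans_apply, f, MulEquiv.symm_apply_apply] at h
  exact (poEquiv Q hQ).injective h

theorem gammaPOmega_eq_top [Fintype F] (hQ : Good Q) : Cfsg.gammaPOmega F ⇑Q = ⊤ :=
  eq_top_iff.2 fun β _ => Subgroup.subset_closure (exists_semisimilarityPair Q hQ β)

section Standard

omit [Fintype ι] [DecidableEq ι]

variable [Fintype F]

theorem good_qOdd (hodd : Odd (Fintype.card F)) {m : ℕ} (hm : 3 ≤ m) : Good (qOdd m F) := by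
  have h2 : (2 : F) ≠ 0 := two_ne_zero_of_odd_card hodd
  refine ⟨⟨polarNondeg_qOdd h2 m, by simp [Module.finrank_pi]; omega⟩, fun _ h => ?_, fun h => ?_⟩
  · rw [Nat.card_eq_fintype_card] at h
    rw [h] at hodd
    exact absurd hodd (by decide)
  · simp [Module.finrank_pi] at h
    omega

omit [Fintype F] in
/-- Plus type, including the triality case. -/
theorem pre_qPlus {m : ℕ} (hm : 4 ≤ m) : Pre (qPlus m F) :=
  ⟨polarNondeg_qPlus m, by simp [Module.finrank_pi]; omega⟩

theorem good_qPlus {m : ℕ} (hm : 5 ≤ m) : Good (qPlus m F) :=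
  ⟨⟨polarNondeg_qPlus m, by simp [Module.finrank_pi]; omega⟩, fun h => by simp [Module.finrank_pi] at h; omega,
    fun h => by simp [Module.finrank_pi] at h; omega⟩

theorem qExt_no_four {a b : F} (hab : BinAniso a b) (U : Submodule F ((Fin 3 ⊕ Fin 3) ⊕ Fin 2 → F))
    (hU : ∀ u ∈ U, qExt 3 (qBin a b) u = 0) : Module.finrank F U ≠ 4 := by
  classical
  intro h4
  set Q := qExt 3 (qBin a b)
  have hQ : PolarNondeg Q := polarNondeg_qExt (polarNondeg_qBin hab) 3
  set X : Submodule F ((Fin 3 ⊕ Fin 3) ⊕ Fin 2 → F) :=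
    Submodule.span F (Set.range fun i : Fin 3 => Pi.single (Sum.inl (Sum.inl i)) (1 : F))
  have hUp : qPerp Q U = U := (Submodule.eq_of_le_of_finrank_eq
    (fun u hu => (mem_qPerp Q).2 fun w hw => polar_zero_of_singular Q hU hw hu)
    (by rw [finrank_qPerp Q hQ, h4]; simp [Module.finrank_pi])).symm
  have hX : Module.finrank F X = 3 := by
    rw [finrank_span_eq_card (linearIndependent_iff'.2 fun s c hc i hi => by
      have := congrFun hc (Sum.inl (Sum.inl i))
      simpa [Finset.sum_apply, Pi.single_apply, hi] using this), Fintype.card_fin]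
  have h1 : qPerp Q (U ⊔ X) = U ⊓ qPerp Q X := by rw [qPerp_sup, hUp]
  have h2 := Submodule.finrank_sup_add_finrank_inf_eq U X
  have h3 := finrank_qPerp Q hQ (U ⊔ X)
  rw [h1] at h3
  have hdim : Module.finrank F ((Fin 3 ⊕ Fin 3) ⊕ Fin 2 → F) = 8 := by simp [Module.finrank_pi]
  have hlt : ¬ (U ⊓ qPerp Q X ≤ U ⊓ X) := fun hle => by
    have := Submodule.finrank_mono hle
    omega
  obtain ⟨u, ⟨huU, huX⟩, hn⟩ := SetLike.not_le_iff_exists.1 hlt
  refine hn ⟨huU, ?_⟩
  have hy : ∀ i : Fin 3, u (Sum.inl (Sum.inr i)) = 0 := fun i => by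
    have h := (mem_qPerp Q).1 huX _ (Submodule.subset_span ⟨i, rfl⟩)
    simpa [Q, QuadraticMap.polar, qExt_apply, qBin_apply, Pi.single_apply, add_mul, Finset.sum_add_distrib,
      Finset.sum_ite_eq'] using h
  have hz : u (Sum.inr 0) = 0 ∧ u (Sum.inr 1) = 0 := hab _ _ (by
    have h := hU u huU
    simpa [Q, qExt_apply, qBin_apply, hy] using h)
  have hu : u = ∑ i : Fin 3, u (Sum.inl (Sum.inl i)) • Pi.single (Sum.inl (Sum.inl i)) (1 : F) := by
    funext j
    rcases j with (j | j) | j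
    · simp [Finset.sum_apply, Pi.single_apply]
    · simp [Finset.sum_apply, Pi.single_apply, hy j]
    · fin_cases j <;> simp [Finset.sum_apply, Pi.single_apply, hz.1, hz.2]
  rw [hu]
  exact Submodule.sum_mem _ fun i _ => Submodule.smul_mem _ _ (Submodule.subset_span ⟨i, rfl⟩)

theorem good_qMinus {m : ℕ} (hm : 3 ≤ m) {a b : F} (hab : BinAniso a b) : Good (qExt m (qBin a b)) := by
  refine ⟨⟨polarNondeg_qExt (polarNondeg_qBin hab) m, by simp [Module.finrank_pi]; omega⟩,
    fun h => by simp [Module.finrank_pi] at h; omega, fun h => ?_⟩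
  obtain rfl : m = 3 := by simp [Module.finrank_pi] at h; omega
  exact qExt_no_four hab

end Standard

end CfsgLib.POAut
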