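/-
The group of semisimilarities and its action on the simple quotient.
-/
import Cfsg.Agent.Lib.KnownSimple.POAut.Main

set_option autoImplicit false

namespace CfsgLib.POAut

open CfsgLib.Classical CfsgLib.Classical22

variable {F V : Type*} [Field F] [AddCommGroup V] [Module F V]

/-- Semisimilarities, as permutations of the space. -/
def gammaO (Q : QuadraticForm F V) : Subgroup (Equiv.Perm V) where
  carrier := {T | ∃ (A : V ≃+ V) (σ : F ≃+* F) (c : F), IsSemisim Q σ c A ∧ ∀ v, A v = T v}
  one_mem' := ⟨AddEquiv.refl V, 1, 1, ⟨fun _ _ => rfl, fun v => (one_mul _).symm, one_ne_zero⟩, fun _ => rfl⟩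
  mul_mem' := by
    rintro _ _ ⟨S, σ, c, hS, eS⟩ ⟨T, τ, d, hT, eT⟩
    refine ⟨T.trans S, σ * τ, c * σ d, ⟨fun s v => ?_, fun v => ?_,
      mul_ne_zero hS.ne (fun e => hT.ne (σ.map_eq_zero_iff.1 e))⟩, fun v => ?_⟩
    · change S (T (s • v)) = σ (τ s) • S (T v)
      rw [hT.smul, hS.smul]
    · change Q (S (T v)) = c * σ d * σ (τ (Q v))
      rw [hS.quad, hT.quad, map_mul, mul_assoc]
    · rw [Equiv.Perm.mul_apply, ← eT, ← eS]
      rfl
  inv_mem' := by
    rintro e ⟨S, σ, c, hS, eS⟩
    refine ⟨S.symm, σ⁻¹, σ.symm c⁻¹, ⟨fun s v => S.injective ?_, fun v => σ.injective ?_,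
      fun e => inv_ne_zero hS.ne (σ.symm.map_eq_zero_iff.1 e)⟩, fun v => S.injective ?_⟩
    · rw [hS.smul]
      change S (S.symm (s • v)) = σ (σ.symm s) • S (S.symm v)
      rw [AddEquiv.apply_symm_apply, AddEquiv.apply_symm_apply, RingEquiv.apply_symm_apply]
    · change σ (Q (S.symm v)) = σ (σ.symm c⁻¹ * σ.symm (Q v))
      rw [map_mul, RingEquiv.apply_symm_apply, RingEquiv.apply_symm_apply]
      conv_rhs => rw [← S.apply_symm_apply v, hS.quad, inv_mul_cancel_left₀ hS.ne]
    · rw [AddEquiv.apply_symm_apply, eS]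
      exact (e.apply_symm_apply v).symm

variable {Q : QuadraticForm F V}

/-- A semisimilarity as an additive automorphism. -/
noncomputable def addT (T : gammaO Q) : V ≃+ V :=
  AddEquiv.mk' (T : Equiv.Perm V) fun x y => by
    obtain ⟨A, -, -, -, e⟩ := T.2
    rw [← e, ← e, ← e, map_add]

theorem addT_apply (T : gammaO Q) (v : V) : addT T v = (T : Equiv.Perm V) v := rfl

theorem exists_semisim_addT (T : gammaO Q) : ∃ (σ : F ≃+* F) (c : F), IsSemisim Q σ c (addT T) := by
  obtain ⟨A, σ, c, h, e⟩ := T.2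
  exact ⟨σ, c, (AddEquiv.ext e : A = addT T) ▸ h⟩

/-- An additive semisimilarity as an element of the group. -/
noncomputable def mkGamma {σ : F ≃+* F} {c : F} (A : V ≃+ V) (h : IsSemisim Q σ c A) : gammaO Q :=
  ⟨A.toEquiv, A, σ, c, h, fun _ => rfl⟩

theorem mkGamma_apply {σ : F ≃+* F} {c : F} (A : V ≃+ V) (h : IsSemisim Q σ c A) (v : V) :
    addT (mkGamma A h) v = A v := rfl

/-- The field automorphism of a semisimilarity. -/
noncomputable def sigFun (T : gammaO Q) : F ≃+* F := (exists_semisim_addT T).choose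

/-- The multiplier of a semisimilarity. -/
noncomputable def mulFac (T : gammaO Q) : F := (exists_semisim_addT T).choose_spec.choose

theorem semisim_spec (T : gammaO Q) : IsSemisim Q (sigFun T) (mulFac T) (addT T) :=
  (exists_semisim_addT T).choose_spec.choose_spec

theorem gammaO_ext {S T : gammaO Q} (h : ∀ v, (addT S) v = (addT T) v) : S = T :=
  Subtype.ext (Equiv.ext h)

theorem gammaO_mul_apply (S T : gammaO Q) (v : V) :
    addT (S * T : gammaO Q) v = (addT S) ((addT T) v) := rfl

theorem sigFun_unique [Nontrivial V] (T : gammaO Q) {σ : F ≃+* F} (h : ∀ (s : F) v, (addT T) (s • v) = σ s • (addT T) v) :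
    sigFun T = σ := RingEquiv.ext fun s => by
  obtain ⟨v, hv⟩ := exists_ne (0 : V)
  exact smul_left_injective F (fun e => hv ((addT T).map_eq_zero_iff.1 e))
    (((semisim_spec T).smul s v).symm.trans (h s v))

/-- Isometries as semisimilarities. -/
noncomputable def qIncl (Q : QuadraticForm F V) : qAut Q →* gammaO Q where
  toFun g := mkGamma (σ := 1) (c := 1) g.1.toAddEquiv ⟨fun s v => g.1.map_smul s v, fun v => (qAut_map g v).trans (one_mul _).symm, one_ne_zero⟩
  map_one' := gammaO_ext fun _ => rfl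
  map_mul' _ _ := gammaO_ext fun _ => rfl

theorem qIncl_apply (g : qAut Q) (v : V) : addT (qIncl Q g : gammaO Q) v = g.1 v := rfl

/-- Scalars as semisimilarities. -/
noncomputable def scal (Q : QuadraticForm F V) : Fˣ →* gammaO Q where
  toFun c := mkGamma (σ := 1) (c := (c : F) * c) (LinearEquiv.smulOfUnit c : V ≃ₗ[F] V).toAddEquiv
    ⟨fun s v => (LinearEquiv.smulOfUnit c : V ≃ₗ[F] V).map_smul s v, fun v => quad_smul Q (c : F) v,
    mul_ne_zero c.ne_zero c.ne_zero⟩
  map_one' := gammaO_ext fun v => one_smul _ v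
  map_mul' a b := gammaO_ext fun v => mul_smul (a : F) (b : F) v

theorem scal_apply (c : Fˣ) (v : V) : addT (scal Q c : gammaO Q) v = (c : F) • v := rfl

theorem mul_scal (T : gammaO Q) (c : Fˣ) :
    T * scal Q c = scal Q (Units.map (sigFun T).toRingHom.toMonoidHom c) * T :=
  gammaO_ext fun v => (semisim_spec T).smul (c : F) v

variable [FiniteDimensional F V] [Fintype F]

theorem nontrivial_of_good (hQ : Pre Q) : Nontrivial V :=
  Module.nontrivial_of_finrank_pos (R := F) (by have := hQ.seven; omega)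

/-- The field automorphism, as a homomorphism. -/
noncomputable def sigHom (hQ : Pre Q) : gammaO Q →* (F ≃+* F) :=
  haveI := nontrivial_of_good hQ
  MonoidHom.mk' sigFun fun S T => sigFun_unique _ fun s v => by
    rw [gammaO_mul_apply, (semisim_spec T).smul, (semisim_spec S).smul]
    rfl

theorem sigHom_apply (hQ : Pre Q) (T : gammaO Q) : sigHom hQ T = sigFun T := rfl

theorem sigHom_eq (hQ : Pre Q) (T : gammaO Q) {σ : F ≃+* F}
    (h : ∀ (s : F) v, (addT T) (s • v) = σ s • (addT T) v) : sigHom hQ T = σ :=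
  haveI := nontrivial_of_good hQ
  sigFun_unique T h

theorem sigHom_qIncl (hQ : Pre Q) (g : qAut Q) : sigHom hQ (qIncl Q g) = 1 :=
  sigHom_eq hQ _ fun s v => g.1.map_smul s v

theorem sigHom_scal (hQ : Pre Q) (c : Fˣ) : sigHom hQ (scal Q c) = 1 :=
  sigHom_eq hQ _ fun s v => (LinearEquiv.smulOfUnit c : V ≃ₗ[F] V).map_smul s v

theorem mulFac_eq (hQ : Pre Q) (T : gammaO Q) {c : F} (h : ∀ v, Q ((addT T) v) = c * sigFun T (Q v)) :
    mulFac T = c := by
  obtain ⟨v, hv⟩ := exists_value Q hQ.nondeg (by have := hQ.seven; omega) one_ne_zero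
  have h1 := ((semisim_spec T).quad v).symm.trans (h v)
  rwa [hv, map_one, mul_one, mul_one] at h1

theorem exists_conj_elt (T : gammaO Q) (g : eichGroup Q) :
    ∃ g' : eichGroup Q, ∀ x, (addT T) ((g : qAut Q).1 x) = (g' : qAut Q).1 ((addT T) x) := by
  obtain ⟨g', hg', e⟩ := (semisim_spec T).exists_conj g.2
  exact ⟨⟨g', hg'⟩, e⟩

/-- Conjugation by a semisimilarity on the Eichler group. -/
noncomputable def conjElt (T : gammaO Q) (g : eichGroup Q) : eichGroup Q := (exists_conj_elt T g).choose

theorem conjElt_spec (T : gammaO Q) (g : eichGroup Q) (x : V) :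
    (addT T) ((g : qAut Q).1 x) = (conjElt T g : qAut Q).1 ((addT T) x) :=
  (exists_conj_elt T g).choose_spec x

theorem conjElt_unique {T : gammaO Q} {g g' : eichGroup Q}
    (h : ∀ x, (addT T) ((g : qAut Q).1 x) = (g' : qAut Q).1 ((addT T) x)) : conjElt T g = g' :=
  Subtype.ext (qAut_ext fun y => by
    obtain ⟨x, rfl⟩ := (addT T).surjective y
    rw [← conjElt_spec, h])

/-- Conjugation as an automorphism of the Eichler group. -/
noncomputable def conjHom (Q : QuadraticForm F V) : gammaO Q →* MulAut (eichGroup Q) where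
  toFun T :=
    { toFun := conjElt T
      invFun := conjElt T⁻¹
      left_inv := fun g => conjElt_unique fun x => (addT T).injective (by
        rw [← gammaO_mul_apply, mul_inv_cancel]
        conv_rhs => rw [conjElt_spec, ← gammaO_mul_apply, mul_inv_cancel]
        rfl)
      right_inv := fun g => conjElt_unique fun x => by
        have h := conjElt_spec T⁻¹ g ((addT T) x)
        rw [show addT (T⁻¹ : gammaO Q) ((addT T) x) = x by rw [← gammaO_mul_apply, inv_mul_cancel]; rfl] at h
        rw [← h, ← gammaO_mul_apply, mul_inv_cancel]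
        rfl
      map_mul' := fun g h => conjElt_unique fun x => by
        rw [Subgroup.coe_mul, qAut_mul_apply, conjElt_spec, conjElt_spec, Subgroup.coe_mul, qAut_mul_apply] }
  map_one' := MulEquiv.ext fun g => conjElt_unique fun _ => rfl
  map_mul' S T := MulEquiv.ext fun g => conjElt_unique fun x => by
    rw [gammaO_mul_apply, gammaO_mul_apply, conjElt_spec, conjElt_spec]
    rfl

/-- The action on the simple quotient. -/
noncomputable def act (Q : QuadraticForm F V) : gammaO Q →* MulAut (TQ Q) where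
  toFun T := QuotientGroup.congr _ _ (conjHom Q T) (Subgroup.characteristic_iff_map_eq.1 inferInstance _)
  map_one' := by
    ext x
    induction x using QuotientGroup.induction_on with
    | _ g => simp
  map_mul' S T := by
    ext x
    induction x using QuotientGroup.induction_on with
    | _ g =>
      rw [map_mul]
      rfl

theorem act_cls (T : gammaO Q) (g : eichGroup Q) : act Q T (cls Q g) = cls Q (conjElt T g) := rfl

theorem eq_of_cls {α β : MulAut (TQ Q)} (h : ∀ g, α (cls Q g) = β (cls Q g)) : α = β := by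
  refine MulEquiv.ext fun x => ?_
  obtain ⟨g, rfl⟩ := cls_surjective Q x
  exact h g

theorem act_eq {β : MulAut (TQ Q)} {T : gammaO Q} (h : InducedBy β (addT T)) : act Q T = β :=
  eq_of_cls fun g => (act_cls T g).trans (h g _ (conjElt_spec T g)).symm

theorem act_qIncl (g : eichGroup Q) : act Q (qIncl Q (g : qAut Q)) = MulAut.conj (cls Q g) :=
  eq_of_cls fun h => by
    rw [act_cls, MulAut.conj_apply, ← map_inv, ← map_mul, ← map_mul]
    refine congrArg _ (conjElt_unique fun x => ?_)
    change (g : qAut Q).1 ((h : qAut Q).1 x) =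
      (g : qAut Q).1 ((h : qAut Q).1 (((g : qAut Q)⁻¹).1 ((g : qAut Q).1 x)))
    rw [qInv_apply_self]

theorem act_surjective (hQ : Good Q) : Function.Surjective (act Q) := fun β => by
  obtain ⟨σ, c, T, hT, h⟩ := exists_semisim hQ β
  exact ⟨mkGamma T hT, act_eq h⟩

theorem act_scal (c : Fˣ) : act Q (scal Q c) = 1 := eq_of_cls fun g => by
  rw [act_cls, MulAut.one_apply]
  exact congrArg _ (conjElt_unique fun x => ((g : qAut Q).1.map_smul (c : F) x).symm)

/-- The kernel consists of scalars. -/
theorem exists_scal_of_act (hQ : Pre Q) {T : gammaO Q} (h : act Q T = 1) : ∃ c : Fˣ, T = scal Q c := by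
  classical
  haveI := nontrivial_of_good hQ
  have hn := hQ.seven
  have hT := semisim_spec T
  have hline : ∀ v, v ≠ 0 → Q v = 0 → ∃ α : F, (addT T) v = α • v := by
    intro v hv hq
    have hTv : Q ((addT T) v) = 0 := by rw [hT.quad, hq, map_zero, mul_zero]
    have hTv0 : (addT T) v ≠ 0 := fun e => hv ((addT T).map_eq_zero_iff.1 e)
    have heq := fixed_eichQ Q hQ.nondeg (by omega) hv hq (p := singMk Q hTv0 hTv) fun g hg => by
      obtain ⟨w, hw, rfl⟩ := hg
      obtain ⟨e', he'⟩ : ∃ e' : eichGroup Q, e' = ⟨eich Q v w, eich_mem Q hq hw⟩ := ⟨_, rfl⟩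
      have h1 : cls Q (conjElt T e') = cls Q e' := by
        rw [← act_cls, h, MulAut.one_apply]
      have h2 := smul_eq_of_cls hQ h1 (singMk Q hTv0 hTv)
      have h3 : conjElt T e' • singMk Q hTv0 hTv = singMk Q hTv0 hTv := by
        refine smul_singMk_eq Q (g := (conjElt T e' : qAut Q)) _ _ _ _ 1 ?_
        rw [← conjElt_spec, one_smul, he']
        exact congrArg _ (eich_fix Q hq hw)
      rw [h3, he'] at h2
      exact h2.symm
    obtain ⟨α, hα⟩ := (singMk_eq_iff Q _ _ _ _).1 heq
    exact ⟨α, hα.symm⟩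
  choose α hα using hline
  obtain ⟨a, ha0, ha⟩ := exists_singular Q hQ.nondeg (by omega)
  obtain ⟨z, hp⟩ := exists_hypPair_left Q hQ.nondeg ha0 ha
  obtain ⟨y, hy0, hy⟩ := exists_singular (qM Q a z) (hp.polarNondeg_qM hQ.nondeg)
    (by have := hp.finrank_pM; omega)
  have hy' : (y : V) ≠ 0 := fun e => hy0 (Subtype.ext e)
  have key : ∀ x : F, sigFun T x * α (y : V) hy' hy = x * α a ha0 ha ∧ α a ha0 ha ≠ 0 := by
    intro x
    have hne0 : α a ha0 ha ≠ 0 := fun e => ha0 ((addT T).map_eq_zero_iff.1 (by rw [hα a ha0 ha, e, zero_smul]))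
    refine ⟨?_, hne0⟩
    have hs : Q (a + x • (y : V)) = 0 := by
      rw [quad_add, quad_smul, ha, show Q (y : V) = 0 from hy, QuadraticMap.polar_smul_right, HypPair.am]
      simp
    have hne : a + x • (y : V) ≠ 0 := fun e => one_ne_zero (hp.coord_inj (s := 1) (t := 0) (m := x • y) (s' := 0)
      (t' := 0) (m' := 0) (by simpa using e)).1
    have h1 := hα _ hne hs
    rw [map_add, hT.smul, hα a ha0 ha, hα _ hy' hy, smul_smul] at h1
    obtain ⟨e1, -, e3⟩ := hp.coord_inj (s := α a ha0 ha) (t := 0) (m := (sigFun T x * α (y : V) hy' hy) • y)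
      (s' := α _ hne hs) (t' := 0) (m' := (α _ hne hs * x) • y) (by
        rw [Submodule.coe_smul, Submodule.coe_smul]
        linear_combination (norm := module) h1)
    rw [smul_left_injective F hy0 e3, ← e1]
    ring
  have hay : α (y : V) hy' hy = α a ha0 ha := by
    have h1 := (key 1).1
    rwa [map_one, one_mul, one_mul] at h1
  have hσ : ∀ x, sigFun T x = x := fun x => mul_right_cancel₀ (key x).2 (by rw [← (key x).1, hay])
  let L : V →ₗ[F] V :=
    { toFun := fun v => (addT T) v
      map_add' := map_add _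
      map_smul' := fun s v => by rw [hT.smul, hσ, RingHom.id_apply] }
  have hc : ∃ c : F, ∀ v, v ≠ 0 → Q v = 0 → (addT T) v = c • v := by
    refine ⟨α a ha0 ha, fun v hv hq => ?_⟩
    -- compare with `a` through a common neighbour
    have cmp : ∀ u w (hu : u ≠ 0) (hw : w ≠ 0) (hqu : Q u = 0) (hqw : Q w = 0),
        QuadraticMap.polar Q u w ≠ 0 → α u hu hqu * α w hw hqw = mulFac T := by
      intro u w hu hw hqu hqw hne
      have h1 := hT.polar u w
      rw [hα u hu hqu, hα w hw hqw, QuadraticMap.polar_smul_left, QuadraticMap.polar_smul_right, hσ, smul_eq_mul,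
        smul_eq_mul, ← mul_assoc] at h1
      exact mul_right_cancel₀ hne h1
    by_cases hdep : ∃ s : F, s • a = v
    · obtain ⟨s, rfl⟩ := hdep
      rw [hT.smul, hσ, hα a ha0 ha, smul_smul, smul_smul, mul_comm]
    push Not at hdep
    have hdep' : ∀ s : F, s • v ≠ a := fun s hs => hdep s⁻¹ (by
      rw [← hs, smul_smul, inv_mul_cancel₀ (fun h => ha0 (by rw [← hs, h, zero_smul])), one_smul])
    obtain ⟨w, hw, hvw, heq⟩ := exists_common Q hQ.nondeg (by omega) hq ha hdep' hdep
    have hw0 : w ≠ 0 := fun h => hvw (by rw [h, QuadraticMap.polar_zero_right])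
    have h1 := cmp v w hv hw0 hq hw hvw
    have h2 := cmp a w ha0 hw0 ha hw (heq ▸ hvw)
    rw [hα v hv hq, mul_right_cancel₀ (fun e => hw0 ((addT T).map_eq_zero_iff.1 (by
      rw [hα w hw0 hw, e, zero_smul]))) (h1.trans h2.symm)]
  obtain ⟨c, hc⟩ := hc
  have hall : L = c • LinearMap.id := LinearMap.ext_on (span_singular Q hQ.nondeg (by omega)) fun v hv => by
    rcases eq_or_ne v 0 with rfl | hv0
    · simp
    · exact hc v hv0 hv
  have hc0 : c ≠ 0 := fun e => by
    obtain ⟨v, hv⟩ := exists_ne (0 : V)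
    exact hv ((addT T).map_eq_zero_iff.1 ((LinearMap.congr_fun hall v).trans (by simp [e])))
  exact ⟨Units.mk0 c hc0, gammaO_ext fun v => LinearMap.congr_fun hall v⟩

theorem act_eq_iff (hQ : Pre Q) {S T : gammaO Q} : act Q S = act Q T ↔ ∃ c : Fˣ, S = scal Q c * T := by
  constructor
  · intro h
    obtain ⟨c, hc⟩ := exists_scal_of_act hQ (T := S * T⁻¹) (by rw [map_mul, map_inv, h, mul_inv_cancel])
    exact ⟨c, by rw [← hc, inv_mul_cancel_right]⟩
  · rintro ⟨c, rfl⟩
    rw [map_mul, act_scal, one_mul]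

/-- The field automorphism of an automorphism of the simple quotient. -/
theorem exists_autSig (hQ : Good Q) : ∃ ψ : MulAut (TQ Q) →* (F ≃+* F), ∀ T, ψ (act Q T) = sigHom hQ T := by
  have h : ∀ S T : gammaO Q, act Q S = act Q T → sigHom hQ S = sigHom hQ T := fun S T e => by
    obtain ⟨c, rfl⟩ := (act_eq_iff hQ).1 e
    rw [map_mul, sigHom_scal, one_mul]
  choose s hs using act_surjective hQ
  refine ⟨MonoidHom.mk' (fun β => sigHom hQ (s β)) fun β γ => ?_, fun T => h _ _ (hs _)⟩
  rw [← map_mul]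
  exact h _ _ (by rw [hs, map_mul, hs, hs])

end CfsgLib.POAut
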