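/-
The two classes of maximal totally singular subspaces under semisimilarities of a hyperbolic space.
-/
import Cfsg.Agent.Lib.KnownSimple.POAut.Gamma
import Cfsg.Agent.Lib.Classical.QuadMaximal

set_option autoImplicit false

namespace CfsgLib.POAut

open CfsgLib.Classical CfsgLib.Classical22

variable {F V : Type*} [Field F] [AddCommGroup V] [Module F V] (Q : QuadraticForm F V)

/-- A totally singular subspace of dimension `M`. -/
def MaxS (M : ℕ) (U : Submodule F V) : Prop := Module.finrank F U = M ∧ ∀ u ∈ U, Q u = 0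

/-- The parity of the codimension of the intersection. -/
noncomputable def par2 (M : ℕ) (U W : Submodule F V) : ZMod 2 := ((M - Module.finrank F ↥(U ⊓ W) : ℕ) : ZMod 2)

theorem par2_comm (M : ℕ) (U W : Submodule F V) : par2 M U W = par2 M W U := by rw [par2, par2, inf_comm]

theorem par2_add [FiniteDimensional F V] (hQ : PolarNondeg Q) {M : ℕ} (hV : Module.finrank F V = 2 * M)
    {U W X : Submodule F V} (hU : MaxS Q M U) (hW : MaxS Q M W) (hX : MaxS Q M X) :
    par2 M U X = par2 M U W + par2 M W X := by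
  have h := (ZMod.natCast_eq_zero_iff_even).2 (even_codim_sum Q hQ hV hU hW hX)
  push_cast at h
  rw [add_eq_zero_iff_eq_neg, ZMod.neg_eq_self_mod_two] at h
  exact h.symm

theorem par2_self {M : ℕ} {U : Submodule F V} (h : Module.finrank F U = M) : par2 M U U = 0 := by
  rw [par2, inf_idem, h, Nat.sub_self, Nat.cast_zero]

variable {Q}

/-- The image of a subspace under a semisimilarity. -/
noncomputable def imgT (T : gammaO Q) (U : Submodule F V) : Submodule F V where
  carrier := addT T '' U
  add_mem' := by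
    rintro _ _ ⟨x, hx, rfl⟩ ⟨y, hy, rfl⟩
    exact ⟨x + y, U.add_mem hx hy, map_add _ x y⟩
  zero_mem' := ⟨0, U.zero_mem, map_zero _⟩
  smul_mem' := by
    rintro s _ ⟨x, hx, rfl⟩
    exact ⟨(sigFun T).symm s • x, U.smul_mem _ hx, by rw [(semisim_spec T).smul, RingEquiv.apply_symm_apply]⟩

theorem mem_imgT {T : gammaO Q} {U : Submodule F V} {x : V} : x ∈ imgT T U ↔ ∃ y ∈ U, addT T y = x := Iff.rfl

theorem imgT_mul (S T : gammaO Q) (U : Submodule F V) : imgT (S * T) U = imgT S (imgT T U) := by
  ext x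
  constructor
  · rintro ⟨y, hy, rfl⟩
    exact ⟨addT T y, ⟨y, hy, rfl⟩, rfl⟩
  · rintro ⟨_, ⟨y, hy, rfl⟩, rfl⟩
    exact ⟨y, hy, rfl⟩

theorem imgT_inf (T : gammaO Q) (U W : Submodule F V) : imgT T (U ⊓ W) = imgT T U ⊓ imgT T W :=
  SetLike.coe_injective (Set.image_inter (addT T).injective)

theorem imgT_eq_map (T : gammaO Q) (L : V →ₗ[F] V) (h : ∀ v, addT T v = L v) (U : Submodule F V) :
    imgT T U = U.map L := by
  ext x
  simp only [mem_imgT, Submodule.mem_map, h]

variable [FiniteDimensional F V] [Fintype F]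

theorem finrank_imgT (T : gammaO Q) (U : Submodule F V) : Module.finrank F (imgT T U) = Module.finrank F U := by
  haveI : Finite V := Module.finite_of_finite F
  have h : Nat.card (imgT T U) = Nat.card U :=
    Nat.card_image_of_injective (addT T).injective (U : Set V)
  rw [Module.natCard_eq_pow_finrank (K := F), Module.natCard_eq_pow_finrank (K := F) (V := U)] at h
  exact Nat.pow_right_injective Finite.one_lt_card h

theorem maxS_imgT {M : ℕ} {U : Submodule F V} (hU : MaxS Q M U) (T : gammaO Q) : MaxS Q M (imgT T U) := by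
  refine ⟨(finrank_imgT T U).trans hU.1, ?_⟩
  rintro _ ⟨x, hx, rfl⟩
  rw [(semisim_spec T).quad, hU.2 x hx, map_zero, mul_zero]

variable {M : ℕ} (hQ : PolarNondeg Q) (hV : Module.finrank F V = 2 * M) {U : Submodule F V} (hU : MaxS Q M U)

/-- Whether the two classes are interchanged. -/
noncomputable def parityHom : gammaO Q →* Multiplicative (ZMod 2) :=
  MonoidHom.mk' (fun T => Multiplicative.ofAdd (par2 M U (imgT T U))) fun S T => by
    rw [← ofAdd_add, imgT_mul, par2_add Q hQ hV hU (maxS_imgT hU S) (maxS_imgT (maxS_imgT hU T) S)]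
    congr 2
    rw [par2, par2, ← imgT_inf, finrank_imgT]

theorem parityHom_apply (T : gammaO Q) :
    parityHom hQ hV hU T = Multiplicative.ofAdd (par2 M U (imgT T U)) := rfl

theorem parityHom_indep {W : Submodule F V} (hW : MaxS Q M W) (T : gammaO Q) :
    parityHom hQ hV hW T = parityHom hQ hV hU T := by
  rw [parityHom_apply, parityHom_apply]
  congr 1
  rw [par2_add Q hQ hV hW hU (maxS_imgT hW T), par2_add Q hQ hV hU (maxS_imgT hU T) (maxS_imgT hW T),
    show par2 M (imgT T U) (imgT T W) = par2 M U W by rw [par2, par2, ← imgT_inf, finrank_imgT],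
    par2_comm M W U, add_comm (par2 M U (imgT T U)), ← add_assoc, CharTwo.add_self_eq_zero, zero_add]

theorem parityHom_scal (c : Fˣ) : parityHom hQ hV hU (scal Q c) = 1 := by
  rw [parityHom_apply]
  have : imgT (scal Q c) U = U := by
    ext x
    constructor
    · rintro ⟨y, hy, rfl⟩
      exact U.smul_mem _ hy
    · intro hx
      exact ⟨(c : F)⁻¹ • x, U.smul_mem _ hx, by rw [scal_apply, smul_smul, mul_inv_cancel₀ c.ne_zero, one_smul]⟩
  rw [this, par2_self hU.1]
  rfl

theorem parityHom_refl {v : V} (hv : Q v ≠ 0) :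
    parityHom hQ hV hU (qIncl Q (qRefl Q hv)) = Multiplicative.ofAdd 1 := by
  rw [parityHom_apply]
  congr 1
  have hker : U ⊓ imgT (qIncl Q (qRefl Q hv)) U = U ⊓ LinearMap.ker (QuadraticMap.polarBilin Q v) := by
    ext x
    constructor
    · rintro ⟨hx, y, hy, rfl⟩
      refine ⟨hx, ?_⟩
      change QuadraticMap.polar Q v ((qRefl Q hv).1 y) = 0
      have hx' : (qRefl Q hv).1 y ∈ U := hx
      rw [qRefl_apply] at hx' ⊢
      have h1 := U.sub_mem hy hx'
      rw [sub_sub_cancel] at h1
      have h2 : (Q v)⁻¹ * QuadraticMap.polar Q y v = 0 := by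
        by_contra h0
        refine hv ?_
        have h3 := U.smul_mem ((Q v)⁻¹ * QuadraticMap.polar Q y v)⁻¹ h1
        rw [smul_smul, inv_mul_cancel₀ h0, one_smul] at h3
        exact hU.2 v h3
      rw [h2, zero_smul, sub_zero, QuadraticMap.polar_comm]
      exact (mul_eq_zero.1 h2).resolve_left (inv_ne_zero hv)
    · rintro ⟨hx, hxv⟩
      refine ⟨hx, x, hx, ?_⟩
      rw [qIncl_apply]
      exact qRefl_fix Q hv ((QuadraticMap.polar_comm Q x v).trans hxv)
  rw [par2, hker]
  have hpos : 1 ≤ M := by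
    by_contra h0
    have : Subsingleton V := Module.finrank_zero_iff.1 (by omega : Module.finrank F V = 0)
    exact hv (by rw [Subsingleton.elim v 0, map_zero])
  have hrange : LinearMap.range ((QuadraticMap.polarBilin Q v).comp U.subtype) = ⊤ := by
    obtain ⟨u, hu, hne⟩ : ∃ u ∈ U, QuadraticMap.polar Q v u ≠ 0 := by
      by_contra hc
      push Not at hc
      have h1 : v ∈ qPerp Q U := (mem_qPerp Q).2 fun w hw => (QuadraticMap.polar_comm Q w v).trans (hc w hw)
      have h2 : U = qPerp Q U := Submodule.eq_of_le_of_finrank_eq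
        (fun y hy => (mem_qPerp Q).2 fun w hw => polar_zero_of_singular Q hU.2 hw hy)
        (by rw [finrank_qPerp Q hQ, hU.1, hV]; omega)
      exact hv (hU.2 v (h2 ▸ h1))
    refine LinearMap.range_eq_top.2 fun t => ⟨(t / QuadraticMap.polar Q v u) • ⟨u, hu⟩, ?_⟩
    simp [div_mul_cancel₀ _ hne]
  have h3 := LinearMap.finrank_range_add_finrank_ker ((QuadraticMap.polarBilin Q v).comp U.subtype)
  rw [hrange, finrank_top, Module.finrank_self, hU.1, LinearMap.ker_comp] at h3
  have h4 : Module.finrank F (Submodule.comap U.subtype (LinearMap.ker (QuadraticMap.polarBilin Q v))) =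
      Module.finrank F ↥(U ⊓ LinearMap.ker (QuadraticMap.polarBilin Q v)) := by
    rw [← Submodule.map_comap_subtype, Submodule.finrank_map_subtype_eq]
  rw [h4] at h3
  rw [show M - Module.finrank F ↥(U ⊓ LinearMap.ker (QuadraticMap.polarBilin Q v)) = 1 by omega, Nat.cast_one]

theorem parityHom_eich {g : qAut Q} (hn : 5 ≤ Module.finrank F V) (hg : g ∈ eichGroup Q) :
    parityHom hQ hV hU (qIncl Q g) = 1 := by
  rw [eichGroup_eq_commutator Q hQ hn] at hg
  exact MonoidHom.mem_ker.1 (Abelianization.commutator_subset_ker ((parityHom hQ hV hU).comp (qIncl Q)) hg)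

omit [Fintype F] in
/-- Every maximal totally singular subspace of a hyperbolic space has half the dimension. -/
theorem finrank_of_maximal {W : Submodule F V} (hQ : PolarNondeg Q) (hV : Module.finrank F V = 2 * M)
    (hU : MaxS Q M U) (hW : ∀ w ∈ W, Q w = 0)
    (hmax : ∀ X : Submodule F V, (∀ x ∈ X, Q x = 0) → W ≤ X → X = W) : MaxS Q M W := by
  refine ⟨?_, hW⟩
  have hX : ∀ x ∈ W ⊔ U ⊓ qPerp Q W, Q x = 0 := by
    intro x hx
    obtain ⟨w, hw, u, ⟨hu, hu'⟩, rfl⟩ := Submodule.mem_sup.1 hx
    rw [quad_add, hW w hw, hU.2 u hu, (mem_qPerp Q).1 hu' w hw]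
    simp
  have he := hmax _ hX le_sup_left
  have hle : U ⊓ qPerp Q W ≤ U ⊓ W := le_inf inf_le_left (le_sup_right.trans he.le)
  have hUp : qPerp Q U = U := (Submodule.eq_of_le_of_finrank_eq
    (fun y hy => (mem_qPerp Q).2 fun w hw => polar_zero_of_singular Q hU.2 hw hy)
    (by rw [finrank_qPerp Q hQ, hU.1, hV]; omega)).symm
  have h1 : qPerp Q (U ⊔ W) = U ⊓ qPerp Q W := by rw [qPerp_sup, hUp]
  have h2 := Submodule.finrank_sup_add_finrank_inf_eq U W
  have h3 := finrank_qPerp Q hQ (U ⊔ W)
  have h4 := Submodule.finrank_mono hle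
  have h5 := two_mul_finrank_singular Q hQ hW
  have h6 := Submodule.finrank_le (U ⊔ W)
  rw [h1] at h3
  rw [hU.1] at h2
  omega

end CfsgLib.POAut
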