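/-
Forms compatible with a change of fields: lifts of semisimilarities and invariance of the two classes.
-/
import Cfsg.Agent.Lib.KnownSimple.POAut.Parity
import Cfsg.Agent.Lib.Classical.QuadPOmega

set_option autoImplicit false

namespace CfsgLib.POAut

open CfsgLib.Classical CfsgLib.Classical22

variable {ι : Type} [Fintype ι] [DecidableEq ι]

/-- Two quadratic forms with the same values on the standard basis and on its pairs are equal. -/
theorem qf_ext_single {F : Type*} [Field F] {Q₁ Q₂ : QuadraticForm F (ι → F)}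
    (h1 : ∀ i, Q₁ (Pi.single i 1) = Q₂ (Pi.single i 1))
    (h2 : ∀ i j, Q₁ (Pi.single i 1 + Pi.single j 1) = Q₂ (Pi.single i 1 + Pi.single j 1)) : Q₁ = Q₂ := by
  have hb : QuadraticMap.polarBilin Q₁ = QuadraticMap.polarBilin Q₂ := by
    refine (Pi.basisFun F ι).ext fun i => (Pi.basisFun F ι).ext fun j => ?_
    simp [QuadraticMap.polar, h1, h2]
  refine QuadraticMap.ext fun v => ?_
  rw [pi_eq_sum_univ' v]
  induction (Finset.univ : Finset ι) using Finset.induction_on with
  | empty => simp
  | insert i s hi ih =>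
    rw [Finset.sum_insert hi, quad_add, quad_add Q₂, ih, quad_smul, quad_smul, h1]
    congr 1
    exact LinearMap.congr_fun (LinearMap.congr_fun hb _) _

variable {K L : Type*} [Field K] [Field L] (f : K →+* L)

/-- `Q'` is `Q` with its coefficients mapped by `f`. -/
def Compat (Q : QuadraticForm K (ι → K)) (Q' : QuadraticForm L (ι → L)) : Prop :=
  ∀ w, Q' (f ∘ w) = f (Q w)

omit [Fintype ι] in
theorem comp_single' (i : ι) : f ∘ (Pi.single i 1 : ι → K) = Pi.single i 1 := by
  funext j
  rcases eq_or_ne j i with rfl | h <;> simp [*]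

omit [Fintype ι] [DecidableEq ι] in
theorem comp_add' (v w : ι → K) : f ∘ (v + w) = f ∘ v + f ∘ w := funext fun _ => map_add f _ _

omit [Fintype ι] [DecidableEq ι] in
theorem comp_smul_hom (s : K) (v : ι → K) : f ∘ (s • v) = f s • (f ∘ v) := funext fun _ => map_mul f _ _

variable {f} {Q : QuadraticForm K (ι → K)} {Q' : QuadraticForm L (ι → L)}

omit [Fintype ι] [DecidableEq ι] in
theorem Compat.polar (h : Compat f Q Q') (v w : ι → K) :
    QuadraticMap.polar Q' (f ∘ v) (f ∘ w) = f (QuadraticMap.polar Q v w) := by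
  simp only [QuadraticMap.polar, ← comp_add', map_sub, h (v + w), h v, h w]

/-- Extensionality from rational vectors. -/
theorem qf_ext_rational {Q₁ Q₂ : QuadraticForm L (ι → L)} (f : K →+* L) (h : ∀ w : ι → K, Q₁ (f ∘ w) = Q₂ (f ∘ w)) :
    Q₁ = Q₂ :=
  qf_ext_single (fun i => by rw [← comp_single' f]; exact h _)
    fun i j => by rw [← comp_single' f i, ← comp_single' f j, ← comp_add']; exact h _

theorem linear_ext_rational {V : Type*} [AddCommGroup V] [Module L V] {A B : (ι → L) →ₗ[L] V} (f : K →+* L)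
    (h : ∀ w : ι → K, A (f ∘ w) = B (f ∘ w)) : A = B :=
  (Pi.basisFun L ι).ext fun i => by rw [Pi.basisFun_apply, ← comp_single' f]; exact h _

theorem semilinear_ext_rational {V : Type*} [AddCommGroup V] [Module L V] {A B : (ι → L) →+ V} {σ : L ≃+* L}
    (hA : ∀ (s : L) v, A (s • v) = σ s • A v) (hB : ∀ (s : L) v, B (s • v) = σ s • B v) (f : K →+* L)
    (h : ∀ w : ι → K, A (f ∘ w) = B (f ∘ w)) : A = B := by
  refine AddMonoidHom.ext fun v => ?_
  rw [pi_eq_sum_univ' v, map_sum, map_sum]
  refine Finset.sum_congr rfl fun i _ => ?_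
  rw [hA, hB, ← comp_single' f, h]

/-- The semilinear extension of a semisimilarity. -/
noncomputable def liftFun (f : K →+* L) (σ' : L ≃+* L) (T : gammaO Q) : (ι → L) →+ (ι → L) :=
  AddMonoidHom.mk' (fun v => ∑ i, σ' (v i) • (f ∘ addT T (Pi.single i 1))) fun v w => by
    simp [add_smul, Finset.sum_add_distrib]

theorem liftFun_smul (σ' : L ≃+* L) (T : gammaO Q) (s : L) (v : ι → L) :
    liftFun f σ' T (s • v) = σ' s • liftFun f σ' T v := by
  simp [liftFun, Finset.smul_sum, smul_smul]

theorem liftFun_rational {σ' : L ≃+* L} {T : gammaO Q} (hσ : ∀ s, σ' (f s) = f (sigFun T s)) (w : ι → K) :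
    liftFun f σ' T (f ∘ w) = f ∘ addT T w := by
  conv_rhs => rw [pi_eq_sum_univ' w, map_sum]
  simp only [(semisim_spec T).smul]
  funext j
  simp [liftFun, Finset.sum_apply, hσ, map_sum, map_mul]

theorem sigFun_inv_eq [Nonempty ι] (T : gammaO Q) : sigFun T⁻¹ = (sigFun T).symm := by
  refine sigFun_unique _ fun s v => (addT T).injective ?_
  rw [(semisim_spec T).smul, RingEquiv.apply_symm_apply, ← gammaO_mul_apply, ← gammaO_mul_apply, mul_inv_cancel]
  rfl

theorem liftFun_left_inv [Nonempty ι] {σ' : L ≃+* L} {T : gammaO Q} (hσ : ∀ s, σ' (f s) = f (sigFun T s))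
    (v : ι → L) : liftFun f σ'.symm T⁻¹ (liftFun f σ' T v) = v := by
  have hσi : ∀ s, σ'.symm (f s) = f (sigFun T⁻¹ s) := fun s => σ'.injective (by
    rw [σ'.apply_symm_apply, hσ, sigFun_inv_eq, RingEquiv.apply_symm_apply])
  refine DFunLike.congr_fun (semilinear_ext_rational (σ := RingEquiv.refl L)
    (A := (liftFun f σ'.symm T⁻¹).comp (liftFun f σ' T)) (B := AddMonoidHom.id _) (fun s w => ?_)
    (fun _ _ => rfl) f fun w => ?_) v
  · simp [liftFun_smul]
  · simp only [AddMonoidHom.comp_apply, AddMonoidHom.id_apply]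
    rw [liftFun_rational hσ, liftFun_rational hσi, ← gammaO_mul_apply, inv_mul_cancel]
    rfl

/-- The extension as an additive automorphism. -/
noncomputable def liftEquiv [Nonempty ι] {σ' : L ≃+* L} {T : gammaO Q} (hσ : ∀ s, σ' (f s) = f (sigFun T s)) :
    (ι → L) ≃+ (ι → L) where
  toFun := liftFun f σ' T
  invFun := liftFun f σ'.symm T⁻¹
  left_inv := liftFun_left_inv hσ
  right_inv v := by
    have hσi : ∀ s, σ'.symm (f s) = f (sigFun T⁻¹ s) := fun s => σ'.injective (by
      rw [σ'.apply_symm_apply, hσ, sigFun_inv_eq, RingEquiv.apply_symm_apply])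
    have h := liftFun_left_inv hσi v
    rwa [RingEquiv.symm_symm, inv_inv] at h
  map_add' := map_add _

theorem isSemisim_liftEquiv [Nonempty ι] (hc : Compat f Q Q') {σ' : L ≃+* L} {T : gammaO Q}
    (hσ : ∀ s, σ' (f s) = f (sigFun T s)) : IsSemisim Q' σ' (f (mulFac T)) (liftEquiv hσ) := by
  refine ⟨liftFun_smul σ' T, fun v => ?_, (map_ne_zero f).2 (semisim_spec T).ne⟩
  set A := liftEquiv hσ with hA
  set d : L := (f (mulFac T))⁻¹
  have hAs : ∀ (s : L) x, A (s • x) = σ' s • A x := liftFun_smul σ' T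
  let Q₂ : QuadraticForm L (ι → L) := QuadraticMap.ofPolar (fun v => σ'.symm (d * Q' (A v)))
    (fun s v => σ'.injective (by
      simp only [hAs, quad_smul, smul_eq_mul, map_mul, RingEquiv.apply_symm_apply]
      ring))
    (fun x x' y => σ'.injective (by
      simp only [QuadraticMap.polar, map_add, map_sub, RingEquiv.apply_symm_apply]
      have := QuadraticMap.polar_add_left Q' (A x) (A x') (A y)
      simp only [QuadraticMap.polar] at this
      linear_combination d * this))
    (fun s x y => σ'.injective (by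
      simp only [QuadraticMap.polar, map_add, map_sub, map_mul, hAs, smul_eq_mul, RingEquiv.apply_symm_apply]
      have := QuadraticMap.polar_smul_left Q' (σ' s) (A x) (A y)
      simp only [QuadraticMap.polar, smul_eq_mul] at this
      linear_combination d * this))
  have h : Q₂ = Q' := qf_ext_rational f fun w => by
    change σ'.symm (d * Q' (liftFun f σ' T (f ∘ w))) = _
    rw [liftFun_rational hσ, hc, hc, (semisim_spec T).quad, map_mul f, ← hσ,
      inv_mul_cancel_left₀ ((map_ne_zero f).2 (semisim_spec T).ne), RingEquiv.symm_apply_apply]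
  have h1 : σ'.symm (d * Q' (A v)) = Q' v := by
    conv_rhs => rw [← h]
    rfl
  rw [← h1, RingEquiv.apply_symm_apply, mul_inv_cancel_left₀ ((map_ne_zero f).2 (semisim_spec T).ne)]

/-- The extension of a semisimilarity. -/
noncomputable def liftT [Nonempty ι] (hc : Compat f Q Q') (σ' : L ≃+* L) (T : gammaO Q)
    (hσ : ∀ s, σ' (f s) = f (sigFun T s)) : gammaO Q' :=
  mkGamma (liftEquiv hσ) (isSemisim_liftEquiv hc hσ)

theorem liftT_rational [Nonempty ι] (hc : Compat f Q Q') {σ' : L ≃+* L} {T : gammaO Q}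
    (hσ : ∀ s, σ' (f s) = f (sigFun T s)) (w : ι → K) : addT (liftT hc σ' T hσ) (f ∘ w) = f ∘ addT T w :=
  liftFun_rational hσ w

theorem sigFun_liftT [Nonempty ι] (hc : Compat f Q Q') {σ' : L ≃+* L} {T : gammaO Q}
    (hσ : ∀ s, σ' (f s) = f (sigFun T s)) : sigFun (liftT hc σ' T hσ) = σ' :=
  sigFun_unique _ (liftFun_smul σ' T)

theorem gamma_ext_rational [Nonempty ι] {S T : gammaO Q'} (f : K →+* L) (hs : sigFun S = sigFun T)
    (h : ∀ w : ι → K, addT S (f ∘ w) = addT T (f ∘ w)) : S = T :=
  gammaO_ext fun v => DFunLike.congr_fun (semilinear_ext_rational (σ := sigFun T)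
    (A := (addT S).toAddMonoidHom) (B := (addT T).toAddMonoidHom) (fun s w => hs ▸ (semisim_spec S).smul s w)
    (semisim_spec T).smul f h) v

/-- The rational hull of a subspace. -/
def bcSub (f : K →+* L) (U : Submodule K (ι → K)) : Submodule L (ι → L) :=
  Submodule.span L ((fun w => f ∘ w) '' U)

omit [Fintype ι] [DecidableEq ι] in
theorem mem_bcSub {U : Submodule K (ι → K)} {w : ι → K} (h : w ∈ U) : f ∘ w ∈ bcSub f U :=
  Submodule.subset_span ⟨w, h, rfl⟩

omit [Fintype ι] [DecidableEq ι] in
theorem bcSub_mono {U W : Submodule K (ι → K)} (h : U ≤ W) : bcSub f U ≤ bcSub f W :=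
  Submodule.span_mono (Set.image_mono h)

theorem finrank_bcSub_le (U : Submodule K (ι → K)) : Module.finrank L (bcSub f U) ≤ Module.finrank K U := by
  classical
  let b := Module.finBasis K U
  have hle : bcSub f U ≤ Submodule.span L (Set.range fun i => f ∘ (b i : ι → K)) := by
    refine Submodule.span_le.2 ?_
    rintro _ ⟨w, hw, rfl⟩
    have h := congrArg Subtype.val (b.sum_repr ⟨w, hw⟩)
    have e : f ∘ w = ∑ i, f (b.repr ⟨w, hw⟩ i) • (f ∘ (b i : ι → K)) := by
      have hw' : w = ∑ i, b.repr ⟨w, hw⟩ i • (b i : ι → K) := by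
        rw [Submodule.coe_sum] at h
        simpa using h.symm
      funext j
      have hj := congrFun hw' j
      simp only [Finset.sum_apply, Pi.smul_apply, smul_eq_mul, Function.comp_apply] at hj ⊢
      conv_lhs => rw [hj]
      simp [map_sum, map_mul]
    rw [SetLike.mem_coe]
    beta_reduce
    rw [e]
    exact Submodule.sum_mem _ fun i _ => Submodule.smul_mem _ _ (Submodule.subset_span ⟨i, rfl⟩)
  exact (Submodule.finrank_mono hle).trans ((finrank_range_le_card _).trans (by simp))

theorem finrank_bcSub (U : Submodule K (ι → K)) : Module.finrank L (bcSub f U) = Module.finrank K U := by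
  obtain ⟨W, hW⟩ := Submodule.exists_isCompl U
  have htop : bcSub f U ⊔ bcSub f W = ⊤ := by
    rw [eq_top_iff, ← (Pi.basisFun L ι).span_eq, Submodule.span_le]
    rintro _ ⟨i, rfl⟩
    obtain ⟨u, hu, w, hw, h⟩ := Submodule.mem_sup.1
      (hW.sup_eq_top ▸ Submodule.mem_top : (Pi.single i 1 : ι → K) ∈ U ⊔ W)
    rw [SetLike.mem_coe, Pi.basisFun_apply, ← comp_single' f, ← h, comp_add']
    exact Submodule.add_mem_sup (mem_bcSub hu) (mem_bcSub hw)
  have h1 := Submodule.finrank_sup_add_finrank_inf_eq (bcSub f U) (bcSub f W)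
  rw [htop, finrank_top, Module.finrank_pi] at h1
  have h2 := Submodule.finrank_add_eq_of_isCompl hW
  rw [Module.finrank_pi] at h2
  have h3 := finrank_bcSub_le (f := f) U
  have h4 := finrank_bcSub_le (f := f) W
  omega

theorem finrank_bcSub_inf (U W : Submodule K (ι → K)) :
    Module.finrank L ↥(bcSub f U ⊓ bcSub f W) = Module.finrank K ↥(U ⊓ W) := by
  have hsup : bcSub f (U ⊔ W) = bcSub f U ⊔ bcSub f W := by
    refine le_antisymm (Submodule.span_le.2 ?_) (sup_le (bcSub_mono le_sup_left) (bcSub_mono le_sup_right))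
    rintro _ ⟨x, hx, rfl⟩
    obtain ⟨u, hu, w, hw, rfl⟩ := Submodule.mem_sup.1 hx
    rw [SetLike.mem_coe]
    simp only [comp_add']
    exact Submodule.add_mem_sup (mem_bcSub hu) (mem_bcSub hw)
  have h1 := Submodule.finrank_sup_add_finrank_inf_eq (bcSub f U) (bcSub f W)
  rw [← hsup, finrank_bcSub, finrank_bcSub, finrank_bcSub] at h1
  have h2 := Submodule.finrank_sup_add_finrank_inf_eq U W
  omega

theorem maxS_bcSub (hc : Compat f Q Q') {M : ℕ} {U : Submodule K (ι → K)} (hU : MaxS Q M U) :
    MaxS Q' M (bcSub f U) := by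
  refine ⟨(finrank_bcSub U).trans hU.1, fun x hx => ?_⟩
  have hp : ∀ y ∈ bcSub f U, ∀ z ∈ bcSub f U, QuadraticMap.polar Q' y z = 0 := by
    intro y hy z hz
    induction hy, hz using Submodule.span_induction₂ with
    | mem_mem a b ha hb =>
      obtain ⟨a, ha, rfl⟩ := ha
      obtain ⟨b, hb, rfl⟩ := hb
      rw [hc.polar, polar_zero_of_singular Q hU.2 ha hb, map_zero]
    | zero_left => exact QuadraticMap.polar_zero_left _ _
    | zero_right => exact QuadraticMap.polar_zero_right _ _
    | add_left a b c _ _ _ h1 h2 => rw [QuadraticMap.polar_add_left, h1, h2, add_zero]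
    | add_right a b c _ _ _ h1 h2 => rw [QuadraticMap.polar_add_right, h1, h2, add_zero]
    | smul_left r a b _ _ h => rw [QuadraticMap.polar_smul_left, h, smul_zero]
    | smul_right r a b _ _ h => rw [QuadraticMap.polar_smul_right, h, smul_zero]
  induction hx using Submodule.span_induction with
  | mem a ha =>
    obtain ⟨a, ha, rfl⟩ := ha
    rw [hc, hU.2 a ha, map_zero]
  | zero => exact map_zero _
  | add a b ha hb h1 h2 => rw [quad_add, h1, h2, hp a ha b hb, add_zero, add_zero]
  | smul r a _ h => rw [quad_smul, h, mul_zero]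

/-- Extension does not change the behaviour on the two classes. -/
theorem parityHom_liftT [Nonempty ι] [Fintype K] [Fintype L] (hc : Compat f Q Q') (hQ : PolarNondeg Q)
    (hQ' : PolarNondeg Q') {M : ℕ} (hV : Module.finrank K (ι → K) = 2 * M)
    (hV' : Module.finrank L (ι → L) = 2 * M) {U : Submodule K (ι → K)} (hU : MaxS Q M U)
    {W : Submodule L (ι → L)} (hW : MaxS Q' M W) {σ' : L ≃+* L} {T : gammaO Q}
    (hσ : ∀ s, σ' (f s) = f (sigFun T s)) :
    parityHom hQ' hV' hW (liftT hc σ' T hσ) = parityHom hQ hV hU T := by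
  rw [parityHom_indep hQ' hV' (maxS_bcSub hc hU) hW, parityHom_apply, parityHom_apply]
  have himg : imgT (liftT hc σ' T hσ) (bcSub f U) = bcSub f (imgT T U) := by
    refine (Submodule.eq_of_le_of_finrank_eq (Submodule.span_le.2 ?_) ?_).symm
    · rintro _ ⟨_, ⟨y, hy, rfl⟩, rfl⟩
      exact ⟨f ∘ y, mem_bcSub hy, liftT_rational hc hσ y⟩
    · have e1 := finrank_bcSub (f := f) (imgT T U)
      have e2 := finrank_bcSub (f := f) U
      have e3 := finrank_imgT (liftT hc σ' T hσ) (bcSub f U)
      have e4 := finrank_imgT T U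
      rw [e4] at e1
      rw [e2] at e3
      exact e1.trans e3.symm
  rw [himg, par2, par2, finrank_bcSub_inf]

end CfsgLib.POAut
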