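/-
The quadratic extension attached to an anisotropic binary form; uniqueness of anisotropic planes.
-/
import Cfsg.Agent.Lib.Classical.QuadBinary
import Cfsg.Agent.Lib.Classical.QuadOmega
import Mathlib.FieldTheory.Finite.Extension

set_option autoImplicit false

namespace CfsgLib.POAut

open CfsgLib.Classical

variable {F : Type*} [Field F]

/-- The quadratic algebra of `z₁² + a z₁ z₂ + b z₂²`. -/
abbrev QE (a b : F) : Type _ := QuadraticAlgebra F (-b) a

theorem qe_fact {a b : F} (h : BinAniso a b) : Fact (∀ r : F, r ^ 2 ≠ -b + a * r) :=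
  ⟨fun r hr => one_ne_zero (h (-r) 1 (by linear_combination hr)).2⟩

/-- Coordinates of the quadratic algebra. -/
noncomputable def qeCoord (a b : F) : QE a b ≃ₗ[F] (Fin 2 → F) where
  toFun x := ![x.re, x.im]
  map_add' x y := by ext i; fin_cases i <;> simp
  map_smul' c x := by ext i; fin_cases i <;> simp
  invFun z := ⟨z 0, z 1⟩
  left_inv x := by ext <;> simp
  right_inv z := by ext i; fin_cases i <;> simp

theorem qBin_qeCoord (a b : F) (x : QE a b) : qBin a b (qeCoord a b x) = QuadraticAlgebra.norm x := by
  simp [qBin_apply, qeCoord, QuadraticAlgebra.norm_def]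
  ring

instance qe_finite [Finite F] (a b : F) : Finite (QE a b) := Finite.of_equiv _ (qeCoord a b).symm.toEquiv

theorem qe_natCard (a b : F) : Nat.card (QE a b) = Nat.card F ^ 2 := by
  rw [Nat.card_congr (qeCoord a b).toEquiv, Nat.card_fun, Nat.card_eq_fintype_card (α := Fin 2), Fintype.card_fin]

theorem qe_finrank (a b : F) : Module.finrank F (QE a b) = 2 := by
  rw [LinearEquiv.finrank_eq (qeCoord a b), Module.finrank_pi, Fintype.card_fin]

theorem qe_omega_star (a b : F) : (QuadraticAlgebra.omega : QE a b) + star (QuadraticAlgebra.omega : QE a b) =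
    algebraMap F (QE a b) a := by
  ext <;> simp

section Field

variable [Fintype F] {a b : F} [Fact (∀ r : F, r ^ 2 ≠ -b + a * r)]

theorem qe_pow_card_eq_star (x : QE a b) : x ^ Fintype.card F = star x := by
  classical
  haveI : Fintype (QE a b) := Fintype.ofFinite _
  let φ : (QE a b) →+* (QE a b) := (FiniteField.frobeniusAlgHom F (QE a b)).toRingHom
  have hφ : ∀ y, φ y = y ^ Fintype.card F := fun y => rfl
  have hfix : ∀ c : F, φ (algebraMap F (QE a b) c) = algebraMap F (QE a b) c := fun c =>
    (FiniteField.frobeniusAlgHom F (QE a b)).commutes c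
  obtain ⟨w, hwdef⟩ : ∃ w : QE a b, w = QuadraticAlgebra.omega := ⟨_, rfl⟩
  have hw : φ w = w ∨ φ w = star w := by
    have h0 : (φ w - w) * (φ w - star w) = 0 := by
      have h1 : φ (w * w) = φ (algebraMap F (QE a b) (-b) + algebraMap F (QE a b) a * w) := by
        congr 1
        ext <;> simp [hwdef, QuadraticAlgebra.algebraMap_eq]
      rw [map_mul, map_add, map_mul, hfix, hfix] at h1
      have h2 : w * w = algebraMap F (QE a b) (-b) + algebraMap F (QE a b) a * w := by ext <;> simp [hwdef, QuadraticAlgebra.algebraMap_eq]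
      have h3 : star w = algebraMap F (QE a b) a - w := eq_sub_of_add_eq' (hwdef ▸ qe_omega_star a b)
      rw [h3]
      linear_combination h1 - h2
    rcases mul_eq_zero.1 h0 with h | h
    · exact Or.inl (sub_eq_zero.1 h)
    · exact Or.inr (sub_eq_zero.1 h)
  have hne : φ w ≠ w := by
    intro he
    have hall : ∀ y : (QE a b), y ^ Fintype.card F = y := fun y => by
      rw [← hφ, show y = algebraMap F (QE a b) y.re + algebraMap F (QE a b) y.im * w by ext <;> simp [hwdef, QuadraticAlgebra.algebraMap_eq], map_add, map_mul,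
        hfix, hfix, he]
    have hcard : Fintype.card (QE a b) ≤ Fintype.card F := by
      have hp := FiniteField.X_pow_card_sub_X_natDegree_eq (QE a b) (Fintype.one_lt_card (α := F))
      have hne0 := FiniteField.X_pow_card_sub_X_ne_zero (QE a b) (Fintype.one_lt_card (α := F))
      calc Fintype.card (QE a b) ≤ (Polynomial.X ^ Fintype.card F - Polynomial.X : Polynomial (QE a b)).roots.toFinset.card :=
            Finset.card_le_card (fun y _ => by
              rw [Multiset.mem_toFinset, Polynomial.mem_roots hne0]
              simp [hall y])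
        _ ≤ _ := (Multiset.toFinset_card_le _).trans (Polynomial.card_roots' _)
        _ = Fintype.card F := hp
    have h2 := qe_natCard a b
    rw [Nat.card_eq_fintype_card, Nat.card_eq_fintype_card] at h2
    have h3 := Fintype.one_lt_card (α := F)
    rw [h2] at hcard
    nlinarith
  have hw' := hw.resolve_left hne
  rw [← hφ, show x = algebraMap F (QE a b) x.re + algebraMap F (QE a b) x.im * w by ext <;> simp [hwdef, QuadraticAlgebra.algebraMap_eq], map_add, map_mul, hfix,
    hfix, hw', star_add, star_mul']
  congr 1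
  · ext <;> simp
  · congr 1
    ext <;> simp

theorem qe_norm_eq_pow (x : QE a b) :
    algebraMap F (QE a b) (QuadraticAlgebra.norm x) = x ^ (Fintype.card F + 1) := by
  rw [QuadraticAlgebra.algebraMap_norm_eq_mul_star, ← qe_pow_card_eq_star, pow_succ']

end Field

/-- Two quadratic extensions of a finite field are isomorphic. -/
theorem exists_algEquiv_of_finrank_two [Finite F] (L L' : Type*) [Field L] [Field L'] [Algebra F L] [Algebra F L']
    (h : Module.finrank F L = 2) (h' : Module.finrank F L' = 2) : Nonempty (L ≃ₐ[F] L') := by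
  obtain ⟨p, hp⟩ := CharP.exists F
  haveI : Fact p.Prime := ⟨CharP.char_is_prime F p⟩
  exact ⟨(FiniteField.algEquivExtension F p 2 L h).trans (FiniteField.algEquivExtension F p 2 L' h').symm⟩

/-- Anisotropic planes are isometric. -/
theorem exists_isometry_qBin [Fintype F] {a b a' b' : F} (h : BinAniso a b) (h' : BinAniso a' b') :
    ∃ e : (Fin 2 → F) ≃ₗ[F] (Fin 2 → F), ∀ z, qBin a' b' (e z) = qBin a b z := by
  haveI := qe_fact h
  haveI := qe_fact h'
  obtain ⟨φ⟩ := exists_algEquiv_of_finrank_two (QE a b) (QE a' b') (qe_finrank a b) (qe_finrank a' b')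
  refine ⟨(qeCoord a b).symm.trans (φ.toLinearEquiv.trans (qeCoord a' b')), fun z => ?_⟩
  obtain ⟨x, rfl⟩ := (qeCoord a b).surjective z
  simp only [LinearEquiv.trans_apply, LinearEquiv.symm_apply_apply, AlgEquiv.toLinearEquiv_apply, qBin_qeCoord]
  refine (algebraMap F (QE a' b')).injective ?_
  rw [qe_norm_eq_pow, ← map_pow, ← qe_norm_eq_pow, AlgEquiv.commutes]

end CfsgLib.POAut
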