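/-
Non-degenerate quadratic forms over a finite field up to similarity.
-/
import Cfsg.Agent.Lib.KnownSimple.POAut.Frame
import Cfsg.Agent.Lib.KnownSimple.POAut.Quadratic
import Cfsg.Agent.Lib.Classical.QuadStd

set_option autoImplicit false

namespace CfsgLib.POAut

open CfsgLib.Classical CfsgLib.Classical22

variable {F : Type*} [Field F]

/-- Similar forms. -/
def Similar {V W : Type*} [AddCommGroup V] [Module F V] [AddCommGroup W] [Module F W]
    (Q : QuadraticForm F V) (Q' : QuadraticForm F W) : Prop :=
  ∃ (c : F) (e : V ≃ₗ[F] W), c ≠ 0 ∧ ∀ v, Q' (e v) = c * Q v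

namespace Similar

variable {V W U : Type*} [AddCommGroup V] [Module F V] [AddCommGroup W] [Module F W] [AddCommGroup U] [Module F U]
variable {Q : QuadraticForm F V} {Q' : QuadraticForm F W} {Q'' : QuadraticForm F U}

theorem refl (Q : QuadraticForm F V) : Similar Q Q := ⟨1, LinearEquiv.refl F V, one_ne_zero, fun v => by simp⟩

theorem symm (h : Similar Q Q') : Similar Q' Q := by
  obtain ⟨c, e, hc, he⟩ := h
  refine ⟨c⁻¹, e.symm, inv_ne_zero hc, fun w => ?_⟩
  obtain ⟨v, rfl⟩ := e.surjective w
  rw [e.symm_apply_apply, he, inv_mul_cancel_left₀ hc]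

theorem trans (h : Similar Q Q') (h' : Similar Q' Q'') : Similar Q Q'' := by
  obtain ⟨c, e, hc, he⟩ := h
  obtain ⟨d, f, hd, hf⟩ := h'
  exact ⟨d * c, e.trans f, mul_ne_zero hd hc, fun v => by rw [LinearEquiv.trans_apply, hf, he, mul_assoc]⟩

theorem of_isometry (e : V ≃ₗ[F] W) (he : ∀ v, Q' (e v) = Q v) : Similar Q Q' :=
  ⟨1, e, one_ne_zero, fun v => by rw [he, one_mul]⟩

theorem finrank_eq (h : Similar Q Q') : Module.finrank F V = Module.finrank F W := by
  obtain ⟨_, e, _, _⟩ := h
  exact LinearEquiv.finrank_eq e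

end Similar

/-- Coordinates of a hyperbolic pair and its orthogonal. -/
noncomputable def pairSplit {V : Type*} [AddCommGroup V] [Module F V] {Q : QuadraticForm F V} {a z : V}
    (h : HypPair Q a z) : ((F × F) × pM Q a z) ≃ₗ[F] V :=
  LinearEquiv.ofBijective
    ((((LinearMap.fst F F F).smulRight a + (LinearMap.snd F F F).smulRight z).comp
      (LinearMap.fst F (F × F) (pM Q a z))) + (pM Q a z).subtype.comp (LinearMap.snd F (F × F) (pM Q a z)))
    ⟨fun x y e => by
      obtain ⟨e1, e2, e3⟩ := h.coord_inj (s := x.1.1) (t := x.1.2) (m := x.2) (s' := y.1.1) (t' := y.1.2) (m' := y.2) e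
      exact Prod.ext (Prod.ext e1 e2) e3,
    fun v => by
      obtain ⟨s, t, m, rfl⟩ := h.exists_coord v
      exact ⟨((s, t), m), rfl⟩⟩

theorem pairSplit_quad {V : Type*} [AddCommGroup V] [Module F V] {Q : QuadraticForm F V} {a z : V}
    (h : HypPair Q a z) (x : (F × F) × pM Q a z) : Q (pairSplit h x) = hypSum (qM Q a z) x := by
  rw [hypSum_apply, qM_apply]
  exact h.quad_coord _ _ _

/-- Adding a hyperbolic plane to similar forms. -/
theorem similar_succ {V : Type*} [AddCommGroup V] [Module F V] {Q : QuadraticForm F V} {a z : V}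
    (h : HypPair Q a z) {J : Type*} {k : ℕ} {Q₀ : QuadraticForm F (J → F)} (hs : Similar (qM Q a z) (qExt k Q₀)) :
    Similar Q (qExt (k + 1) Q₀) := by
  obtain ⟨c, e, hc, he⟩ := hs
  refine (Similar.of_isometry (pairSplit h) (pairSplit_quad h)).symm.trans ⟨c,
    ((((LinearEquiv.smulOfUnit (Units.mk0 c hc) : F ≃ₗ[F] F).prodCongr (LinearEquiv.refl F F))).prodCongr e).trans
      (extSucc k), hc, fun x => ?_⟩
  rw [LinearEquiv.trans_apply, qExt_extSucc, hypSum_apply, hypSum_apply]
  change (c * x.1.1) * x.1.2 + qExt k Q₀ (e x.2) = _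
  rw [he]
  ring

variable [Fintype F]

theorem similar_odd : ∀ (k : ℕ) {V : Type*} [AddCommGroup V] [Module F V] [FiniteDimensional F V]
    (Q : QuadraticForm F V), PolarNondeg Q → Module.finrank F V = 2 * k + 1 → Similar Q (qExt k (qLine F)) := by
  intro k
  induction k with
  | zero =>
    intro V _ _ _ Q hQ hn
    let b : Module.Basis Unit F V := Module.basisUnique Unit hn
    have hv : Q (b ()) ≠ 0 := fun h0 => by
      refine b.ne_zero () (hQ _ fun w => ?_)
      rw [← b.sum_repr w]
      simp [QuadraticMap.polar_self, h0, QuadraticMap.polar_smul_right]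
    refine (Similar.trans (Q' := qLine F) ⟨(Q (b ()))⁻¹, b.equivFun, inv_ne_zero hv, fun v => ?_⟩
      (Similar.of_isometry extZero (qExt_extZero _)))
    obtain ⟨t, rfl⟩ : ∃ t : F, t • b () = v := ⟨b.equivFun v (), by
      conv_rhs => rw [← b.sum_equivFun v]
      simp⟩
    rw [quad_smul, qLine_apply, map_smul]
    simp [Module.Basis.equivFun_apply]
    field_simp
  | succ k ih =>
    intro V _ _ _ Q hQ hn
    obtain ⟨a, ha0, ha⟩ := exists_singular Q hQ (by omega)
    obtain ⟨z, h⟩ := exists_hypPair_left Q hQ ha0 ha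
    exact similar_succ h (ih (qM Q a z) (h.polarNondeg_qM hQ) (by have := h.finrank_pM; omega))

theorem similar_even : ∀ (k : ℕ) {V : Type*} [AddCommGroup V] [Module F V] [FiniteDimensional F V]
    (Q : QuadraticForm F V), PolarNondeg Q → Module.finrank F V = 2 * (k + 1) →
      Similar Q (qExt (k + 1) (0 : QuadraticForm F (Fin 0 → F))) ∨
        ∃ a b : F, BinAniso a b ∧ Similar Q (qExt k (qBin a b)) := by
  intro k
  induction k with
  | zero =>
    intro V _ _ _ Q hQ hn
    by_cases hs : ∃ u, u ≠ 0 ∧ Q u = 0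
    · obtain ⟨u, hu0, hu⟩ := hs
      obtain ⟨z, h⟩ := exists_hypPair_left Q hQ hu0 hu
      refine Or.inl (similar_succ h ?_)
      have hM : Module.finrank F (pM Q u z) = 0 := by have := h.finrank_pM; omega
      have hsub : Subsingleton (pM Q u z) := Module.finrank_zero_iff.1 hM
      refine (Similar.of_isometry (Q' := (0 : QuadraticForm F (Fin 0 → F))) (LinearEquiv.ofSubsingleton _ _)
        fun v => ?_).trans (Similar.of_isometry extZero (qExt_extZero _))
      rw [Subsingleton.elim v 0]
      simp
    · push Not at hs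
      right
      obtain ⟨e1, he1⟩ := exists_value Q hQ (by omega) one_ne_zero
      have he10 : e1 ≠ 0 := fun e => by simp [e] at he1
      obtain ⟨e2, he2⟩ : ∃ e2 : V, e2 ∉ Submodule.span F {e1} := by
        by_contra hc
        push Not at hc
        have h1 := Submodule.finrank_mono (show (⊤ : Submodule F V) ≤ _ from fun x _ => hc x)
        rw [finrank_top, finrank_span_singleton he10] at h1
        omega
      refine ⟨QuadraticMap.polar Q e1 e2, Q e2, fun z1 z2 hz => ?_, ?_⟩
      · have h0 : z1 • e1 + z2 • e2 = 0 := by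
          by_contra hne
          refine hs _ hne ?_
          rw [quad_add, quad_smul, quad_smul, QuadraticMap.polar_smul_left, QuadraticMap.polar_smul_right, he1,
            smul_eq_mul, smul_eq_mul]
          linear_combination hz
        by_cases hz2 : z2 = 0
        · subst hz2
          rw [zero_smul, add_zero, smul_eq_zero] at h0
          exact ⟨h0.resolve_right he10, rfl⟩
        · exfalso
          refine he2 (Submodule.mem_span_singleton.2 ⟨-(z2⁻¹ * z1), ?_⟩)
          linear_combination (norm := module) -z2⁻¹ • h0 + (inv_mul_cancel₀ hz2) • e2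
      · have hli : LinearIndependent F ![e1, e2] := (LinearIndependent.pair_iff' he10).2 fun t ht =>
          he2 (ht ▸ Submodule.smul_mem _ t (Submodule.mem_span_singleton_self e1))
        let b : Module.Basis (Fin 2) F V :=
          basisOfLinearIndependentOfCardEqFinrank hli (by simp [hn])
        refine (Similar.of_isometry (Q' := qBin (QuadraticMap.polar Q e1 e2) (Q e2)) b.equivFun fun v => ?_).trans
          (Similar.of_isometry extZero (qExt_extZero _))
        conv_rhs => rw [← b.sum_equivFun v]
        rw [Fin.sum_univ_two, quad_add, quad_smul, quad_smul, QuadraticMap.polar_smul_left,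
          QuadraticMap.polar_smul_right, qBin_apply,
          show b 0 = e1 by simp [b], show b 1 = e2 by simp [b], he1]
        simp only [smul_eq_mul]
        ring
  | succ k ih =>
    intro V _ _ _ Q hQ hn
    obtain ⟨a, ha0, ha⟩ := exists_singular Q hQ (by omega)
    obtain ⟨z, h⟩ := exists_hypPair_left Q hQ ha0 ha
    rcases ih (qM Q a z) (h.polarNondeg_qM hQ) (by have := h.finrank_pM; omega) with hp | ⟨c, d, hcd, hm⟩
    · exact Or.inl (similar_succ h hp)
    · exact Or.inr ⟨c, d, hcd, similar_succ h hm⟩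

theorem similar_qExt_qBin (k : ℕ) {a b a' b' : F} (h : BinAniso a b) (h' : BinAniso a' b') :
    Similar (qExt k (qBin a b)) (qExt k (qBin a' b')) := by
  obtain ⟨e, he⟩ := exists_isometry_qBin h h'
  refine Similar.of_isometry (((LinearEquiv.sumArrowLequivProdArrow (Fin k ⊕ Fin k) (Fin 2) F F).trans
    ((LinearEquiv.refl F _).prodCongr e)).trans
    (LinearEquiv.sumArrowLequivProdArrow (Fin k ⊕ Fin k) (Fin 2) F F).symm) fun v => ?_
  simp only [qExt_apply, LinearEquiv.trans_apply]
  exact congrArg₂ (· + ·) rfl (he fun j => v (.inr j))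

end CfsgLib.POAut
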