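/-
Transfer along similitudes of quadratic spaces.
-/
import Cfsg.Agent.Lib.KnownSimple.POAut.Parity
import Cfsg.Agent.Lib.KnownSimple.POAut.FormClass
import Cfsg.Agent.Lib.Classical.QuadBridge

set_option autoImplicit false

namespace CfsgLib.POAut

open CfsgLib.Classical CfsgLib.Classical22

variable {F V W : Type*} [Field F] [AddCommGroup V] [Module F V] [AddCommGroup W] [Module F W]
variable {Q : QuadraticForm F V} {Q' : QuadraticForm F W}

/-- A similitude between two spaces. -/
structure Sim (Q : QuadraticForm F V) (Q' : QuadraticForm F W) where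
  /-- The map. -/
  e : V ≃ₗ[F] W
  /-- The multiplier. -/
  μ : F
  ne : μ ≠ 0
  quad : ∀ v, Q' (e v) = μ * Q v

namespace Sim

theorem nonempty_of_similar (h : Similar Q Q') : Nonempty (Sim Q Q') := by
  obtain ⟨c, e, hc, he⟩ := h
  exact ⟨⟨e, c, hc, he⟩⟩

/-- The inverse similitude. -/
noncomputable def symm (S : Sim Q Q') : Sim Q' Q :=
  ⟨S.e.symm, S.μ⁻¹, inv_ne_zero S.ne, fun w => by
    conv_rhs => rw [← S.e.apply_symm_apply w, S.quad, inv_mul_cancel_left₀ S.ne]⟩

theorem quad_symm (S : Sim Q Q') (w : W) : Q (S.e.symm w) = S.μ⁻¹ * Q' w := S.symm.quad w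

theorem semisim (S : Sim Q Q') {σ : F ≃+* F} {c : F} {A : V ≃+ V} (h : IsSemisim Q σ c A) :
    IsSemisim Q' σ (S.μ * c * (σ S.μ)⁻¹) (S.e.symm.toAddEquiv.trans (A.trans S.e.toAddEquiv)) :=
  ⟨fun s v => by simp [h.smul], fun v => by
    change Q' (S.e (A (S.e.symm v))) = _
    rw [S.quad, h.quad, quad_symm, map_mul, map_inv₀]
    ring, mul_ne_zero (mul_ne_zero S.ne h.ne) (inv_ne_zero ((map_ne_zero σ).2 S.ne))⟩

/-- Transport of semisimilarities. -/
noncomputable def gam (S : Sim Q Q') : gammaO Q ≃* gammaO Q' where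
  toFun T := mkGamma _ (S.semisim (semisim_spec T))
  invFun T := mkGamma _ (S.symm.semisim (semisim_spec T))
  left_inv T := gammaO_ext fun v => by
    change S.e.symm (addT (mkGamma _ (S.semisim (semisim_spec T))) (S.e v)) = addT T v
    simp [mkGamma_apply]
  right_inv T := gammaO_ext fun v => by
    change S.e (addT (mkGamma _ (S.symm.semisim (semisim_spec T))) (S.e.symm v)) = addT T v
    simp [mkGamma_apply, Sim.symm]
  map_mul' T U := gammaO_ext fun v => by
    rw [gammaO_mul_apply]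
    simp [mkGamma_apply, gammaO_mul_apply]

theorem gam_apply (S : Sim Q Q') (T : gammaO Q) (v : V) : addT (S.gam T) (S.e v) = S.e (addT T v) := by
  change S.e (addT T (S.e.symm (S.e v))) = _
  rw [S.e.symm_apply_apply]

theorem gam_scal (S : Sim Q Q') (c : Fˣ) : S.gam (scal Q c) = scal Q' c := gammaO_ext fun w => by
  obtain ⟨v, rfl⟩ := S.e.surjective w
  rw [gam_apply, scal_apply, scal_apply, map_smul]

theorem gam_symm_scal (S : Sim Q Q') (c : Fˣ) : S.gam.symm (scal Q' c) = scal Q c :=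
  S.gam.injective (by rw [MulEquiv.apply_symm_apply, gam_scal])

/-- Transport of isometries. -/
noncomputable def aut (S : Sim Q Q') : qAut Q ≃* qAut Q' where
  toFun g := ⟨S.e.symm.trans (g.1.trans S.e), fun w => by
    simp only [LinearEquiv.trans_apply, S.quad, qAut_map, quad_symm, mul_inv_cancel_left₀ S.ne]⟩
  invFun g := ⟨S.e.trans (g.1.trans S.e.symm), fun v => by
    simp only [LinearEquiv.trans_apply, quad_symm, qAut_map, S.quad, inv_mul_cancel_left₀ S.ne]⟩
  left_inv g := qAut_ext fun v => by simp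
  right_inv g := qAut_ext fun v => by simp
  map_mul' g h := qAut_ext fun v => by
    change S.e ((g * h).1 (S.e.symm v)) = S.e (g.1 (S.e.symm (S.e (h.1 (S.e.symm v)))))
    rw [qAut_mul_apply, S.e.symm_apply_apply]

theorem aut_apply (S : Sim Q Q') (g : qAut Q) (v : V) : (S.aut g).1 (S.e v) = S.e (g.1 v) := by
  simp [aut]

theorem aut_refl (S : Sim Q Q') {v : V} (hv : Q v ≠ 0) :
    S.aut (qRefl Q hv) = qRefl Q' (v := S.e v) (by rw [S.quad]; exact mul_ne_zero S.ne hv) :=
  qAut_ext fun w => by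
    obtain ⟨x, rfl⟩ := S.e.surjective w
    rw [aut_apply, qRefl_apply, qRefl_apply, map_sub, map_smul, S.quad]
    congr 2
    simp only [QuadraticMap.polar, ← map_add, S.quad]
    field_simp [S.ne]

theorem gam_qIncl (S : Sim Q Q') (g : qAut Q) : S.gam (qIncl Q g) = qIncl Q' (S.aut g) := gammaO_ext fun w => by
  obtain ⟨v, rfl⟩ := S.e.surjective w
  rw [gam_apply, qIncl_apply, qIncl_apply, aut_apply]

theorem sigFun_gam [Nontrivial W] (S : Sim Q Q') (T : gammaO Q) : sigFun (S.gam T) = sigFun T :=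
  sigFun_unique _ (S.semisim (semisim_spec T)).smul

theorem polarNondeg (S : Sim Q Q') (h : PolarNondeg Q) : PolarNondeg Q' := fun w hw => by
  obtain ⟨v, rfl⟩ := S.e.surjective w
  rw [h v fun u => ?_, map_zero]
  have h1 := hw (S.e u)
  simp only [QuadraticMap.polar, ← map_add, S.quad] at h1
  refine (mul_eq_zero.1 (?_ : S.μ * QuadraticMap.polar Q v u = 0)).resolve_left S.ne
  rw [QuadraticMap.polar]
  linear_combination h1

/-- The image of a maximal singular subspace. -/
theorem maxS_map (S : Sim Q Q') {M : ℕ} {U : Submodule F V} (hU : MaxS Q M U) :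
    MaxS Q' M (U.map S.e.toLinearMap) := by
  refine ⟨(S.e.finrank_map_eq U).trans hU.1, ?_⟩
  rintro _ ⟨u, hu, rfl⟩
  exact (S.quad u).trans (by rw [hU.2 u hu, mul_zero])

variable [FiniteDimensional F V] [FiniteDimensional F W] [Fintype F]

theorem eich_map (S : Sim Q Q') (hQ : Pre Q) (hQ' : Pre Q') :
    (eichGroup Q).map S.aut.toMonoidHom = eichGroup Q' := by
  rw [eichGroup_eq_commutator Q hQ.nondeg (by have := hQ.seven; omega),
    eichGroup_eq_commutator Q' hQ'.nondeg (by have := hQ'.seven; omega)]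
  exact map_commutator_equiv S.aut

/-- Transport of the Eichler group. -/
noncomputable def eichEquiv (S : Sim Q Q') (hQ : Pre Q) (hQ' : Pre Q') : eichGroup Q ≃* eichGroup Q' :=
  (S.aut.subgroupMap (eichGroup Q)).trans (MulEquiv.subgroupCongr (S.eich_map hQ hQ'))

theorem eichEquiv_coe (S : Sim Q Q') (hQ : Pre Q) (hQ' : Pre Q') (g : eichGroup Q) :
    ((S.eichEquiv hQ hQ' g : eichGroup Q') : qAut Q') = S.aut g := rfl

/-- Transport of the simple quotient. -/
noncomputable def quot (S : Sim Q Q') (hQ : Pre Q) (hQ' : Pre Q') : TQ Q ≃* TQ Q' :=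
  QuotientGroup.congr _ _ (S.eichEquiv hQ hQ') (by
    ext x
    constructor
    · rintro ⟨a, ha, rfl⟩
      exact Subgroup.mem_center_iff.2 fun y => (S.eichEquiv hQ hQ').symm.injective (by
        simpa using Subgroup.mem_center_iff.1 ha ((S.eichEquiv hQ hQ').symm y))
    · intro hx
      exact ⟨(S.eichEquiv hQ hQ').symm x, Subgroup.mem_center_iff.2 fun y => (S.eichEquiv hQ hQ').injective (by
        simpa using Subgroup.mem_center_iff.1 hx (S.eichEquiv hQ hQ' y)), (S.eichEquiv hQ hQ').apply_symm_apply x⟩)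

theorem quot_cls (S : Sim Q Q') (hQ : Pre Q) (hQ' : Pre Q') (g : eichGroup Q) :
    S.quot hQ hQ' (cls Q g) = cls Q' (S.eichEquiv hQ hQ' g) := rfl

theorem conjElt_gam (S : Sim Q Q') (hQ : Pre Q) (hQ' : Pre Q') (T : gammaO Q) (g : eichGroup Q) :
    conjElt (S.gam T) (S.eichEquiv hQ hQ' g) = S.eichEquiv hQ hQ' (conjElt T g) :=
  conjElt_unique fun w => by
    obtain ⟨v, rfl⟩ := S.e.surjective w
    rw [eichEquiv_coe, eichEquiv_coe, aut_apply, gam_apply, gam_apply, conjElt_spec, aut_apply]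

/-- Transport is compatible with the actions. -/
theorem act_gam (S : Sim Q Q') (hQ : Pre Q) (hQ' : Pre Q') (T : gammaO Q) :
    act Q' (S.gam T) = ((S.quot hQ hQ').symm.trans (act Q T)).trans (S.quot hQ hQ') :=
  eq_of_cls fun g => by
    obtain ⟨g, rfl⟩ := (S.eichEquiv hQ hQ').surjective g
    simp only [MulEquiv.trans_apply]
    rw [← quot_cls, MulEquiv.symm_apply_apply, quot_cls, act_cls, act_cls, conjElt_gam, quot_cls]

theorem sigHom_gam (S : Sim Q Q') (hQ : Pre Q) (hQ' : Pre Q') (T : gammaO Q) :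
    sigHom hQ' (S.gam T) = sigHom hQ T :=
  haveI := nontrivial_of_good hQ'
  S.sigFun_gam T

theorem parityHom_gam (S : Sim Q Q') {M : ℕ} (hQ : PolarNondeg Q) (hQ' : PolarNondeg Q')
    (hV : Module.finrank F V = 2 * M) (hW : Module.finrank F W = 2 * M) {U : Submodule F V} (hU : MaxS Q M U)
    {U' : Submodule F W} (hU' : MaxS Q' M U') (T : gammaO Q) :
    parityHom hQ' hW hU' (S.gam T) = parityHom hQ hV hU T := by
  rw [parityHom_indep hQ' hW (S.maxS_map hU) hU', parityHom_apply, parityHom_apply]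
  have himg : imgT (S.gam T) (U.map S.e.toLinearMap) = (imgT T U).map S.e.toLinearMap := by
    ext x
    constructor
    · rintro ⟨_, ⟨y, hy, rfl⟩, rfl⟩
      exact ⟨addT T y, ⟨y, hy, rfl⟩, (gam_apply S T y).symm⟩
    · rintro ⟨_, ⟨y, hy, rfl⟩, rfl⟩
      exact ⟨S.e y, ⟨y, hy, rfl⟩, gam_apply S T y⟩
  rw [himg, par2, par2, ← Submodule.map_inf _ S.e.injective,
    show Module.finrank F ↥((U ⊓ imgT T U).map S.e.toLinearMap) = _ from S.e.finrank_map_eq _]

end Sim

end CfsgLib.POAut
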