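/-
Semisimilarities with scalar power are standard field automorphisms of a form over the fixed field.
-/
import Cfsg.Agent.Lib.KnownSimple.POAut.Compat
import Cfsg.Agent.Lib.KnownSimple.POAut.Transfer
import Cfsg.Agent.Lib.KnownSimple.PSLAut.Descent

set_option autoImplicit false

namespace CfsgLib.POAut

open CfsgLib.Classical CfsgLib.Classical22
open CfsgLib.PSLAut (normHom fixedUnits range_normHom finite_ringAut)

/-- Galois descent: the fixed vectors of a semilinear map of the right order span. -/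
theorem span_fixed_eq_top {F V : Type*} [Field F] [Finite F] [AddCommGroup V] [Module F V] {σ : F ≃+* F} {r : ℕ}
    (hσ : orderOf σ = r) (A : V →+ V) (hA : ∀ (s : F) v, A (s • v) = σ s • A v) (hAr : ∀ v, A^[r] v = v) :
    Submodule.span F {v : V | A v = v} = ⊤ := by
  classical
  by_contra hne
  obtain ⟨φ, hφ0, hφ⟩ := Submodule.exists_le_ker_of_lt_top _ (lt_of_le_of_ne le_top hne)
  apply hφ0
  refine LinearMap.ext fun v => ?_
  haveI := finite_ringAut (F := F)
  have hrpos : 0 < r := hσ ▸ orderOf_pos σ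
  have hrel : ∀ a : F, ∑ i ∈ Finset.range r, (σ ^ i) a * φ (A^[i] v) = 0 := by
    intro a
    have hw : A (∑ i ∈ Finset.range r, (σ ^ i) a • A^[i] v) = ∑ i ∈ Finset.range r, (σ ^ i) a • A^[i] v := by
      rw [map_sum]
      simp only [hA, ← RingAut.mul_apply, ← pow_succ', ← Function.iterate_succ_apply' A]
      have h0 := Finset.sum_range_succ' (fun i => (σ ^ i) a • A^[i] v) r
      have h1 := Finset.sum_range_succ (fun i => (σ ^ i) a • A^[i] v) r
      have hr1 : (σ ^ r) a • A^[r] v = (σ ^ 0) a • A^[0] v := by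
        rw [hAr, ← hσ, pow_orderOf_eq_one, pow_zero]
        rfl
      rw [h1, hr1] at h0
      exact (add_right_cancel h0).symm
    have := hφ (Submodule.subset_span hw)
    rw [LinearMap.mem_ker, map_sum] at this
    simpa [map_smul] using this
  let χ : Fin r → (F →* F) := fun i => ((σ ^ (i : ℕ) : F ≃+* F) : F →+* F).toMonoidHom
  have hχ : Function.Injective χ := by
    intro i j hij
    refine Fin.ext (pow_injOn_Iio_orderOf (x := σ) (by rw [Set.mem_Iio, hσ]; exact i.2)
      (by rw [Set.mem_Iio, hσ]; exact j.2) (RingEquiv.ext fun x => ?_))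
    exact DFunLike.congr_fun hij x
  have hli := Fintype.linearIndependent_iff.1 ((linearIndependent_monoidHom F F).comp χ hχ)
    (fun i => φ (A^[(i : ℕ)] v)) (by
      funext a
      have h := hrel a
      rw [← Fin.sum_univ_eq_sum_range (fun i => (σ ^ i) a * φ (A^[i] v))] at h
      simpa [χ, Finset.sum_apply, mul_comm] using h) ⟨0, hrpos⟩
  simpa using hli

variable {F : Type*} [Field F] {ι : Type} [Fintype ι] [DecidableEq ι]
variable {K : Type*} [Field K] (f : K →+* F) (σ : F ≃+* F)

/-- The standard field automorphism of a form with coefficients in the fixed field. -/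
noncomputable def phi [Nonempty ι] {Q₀ : QuadraticForm K (ι → K)} {Q : QuadraticForm F (ι → F)} (hc : Compat f Q₀ Q)
    (hf : ∀ x, σ (f x) = f x) : gammaO Q :=
  liftT hc σ 1 fun s => by
    rw [hf, show sigFun (1 : gammaO Q₀) = RingEquiv.refl K from sigFun_unique _ fun _ _ => rfl]
    rfl

variable {f σ} {Q₀ : QuadraticForm K (ι → K)} {Q : QuadraticForm F (ι → F)}

theorem phi_rational [Nonempty ι] (hc : Compat f Q₀ Q) (hf : ∀ x, σ (f x) = f x) (w : ι → K) :
    addT (phi f σ hc hf) (f ∘ w) = f ∘ w :=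
  liftT_rational hc _ w

theorem sigFun_phi [Nonempty ι] (hc : Compat f Q₀ Q) (hf : ∀ x, σ (f x) = f x) : sigFun (phi f σ hc hf) = σ :=
  sigFun_liftT hc _

theorem phi_apply [Nonempty ι] (hc : Compat f Q₀ Q) (hf : ∀ x, σ (f x) = f x) (v : ι → F) :
    addT (phi f σ hc hf) v = σ ∘ v :=
  DFunLike.congr_fun (semilinear_ext_rational (σ := σ) (A := (addT (phi f σ hc hf)).toAddMonoidHom)
    (B := AddMonoidHom.mk' (fun u : ι → F => (σ ∘ u : ι → F)) fun u w => funext fun i => map_add σ (u i) (w i))
    (fun s w => by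
      change addT (phi f σ hc hf) (s • w) = _
      rw [(semisim_spec _).smul, sigFun_phi]
      rfl)
    (fun s w => funext fun i => map_mul σ s (w i)) f fun w => by
      change addT (phi f σ hc hf) (f ∘ w) = σ ∘ f ∘ w
      rw [phi_rational]
      exact funext fun i => (hf (w i)).symm) v

/-- Rational nondegeneracy. -/
theorem Compat.polarNondeg_down (hc : Compat f Q₀ Q) (hQ : PolarNondeg Q) : PolarNondeg Q₀ := fun v hv => by
  have h : (QuadraticMap.polarBilin Q) (f ∘ v) = 0 := linear_ext_rational f fun w => by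
    rw [LinearMap.zero_apply]
    exact (hc.polar v w).trans (by rw [hv, map_zero])
  have h0 := hQ _ fun u => LinearMap.congr_fun h u
  funext i
  exact f.injective ((congrFun h0 i).trans (map_zero f).symm)

theorem gammaO_pow_scal [Nonempty ι] {T : gammaO Q} {d : Fˣ} : ∀ k : ℕ,
    (scal Q d * T) ^ k = scal Q (normHom (sigFun T) k d) * T ^ k
  | 0 => by rw [pow_zero, pow_zero, show normHom (sigFun T) 0 d = 1 from rfl, map_one, one_mul]
  | k + 1 => by
    rw [pow_succ', gammaO_pow_scal k, pow_succ' T,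
      show normHom (sigFun T) (k + 1) d = d * Units.map (sigFun T).toRingHom.toMonoidHom (normHom (sigFun T) k d)
      from rfl, map_mul, ← mul_assoc, mul_assoc (scal Q d) T, mul_scal]
    group

theorem addT_pow (T : gammaO Q) : ∀ (k : ℕ) (v : ι → F), addT (T ^ k) v = (addT T)^[k] v
  | 0, v => by rw [pow_zero]; rfl
  | k + 1, v => by rw [pow_succ', gammaO_mul_apply, addT_pow T k, Function.iterate_succ_apply']

theorem scal_injective [Nonempty ι] {c d : Fˣ} (h : scal Q c = scal Q d) : c = d := by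
  have := congrFun (congrArg (fun T : gammaO Q => addT T fun _ => (1 : F)) h) (Classical.arbitrary ι)
  simp only [scal_apply, Pi.smul_apply, smul_eq_mul, mul_one] at this
  exact Units.ext this

/-- Descent to the fixed field. -/
theorem exists_model [Fintype F] [Nonempty ι] (hQ : PolarNondeg Q) {T : gammaO Q} {r : ℕ}
    (hσ : orderOf σ = r) (hT : sigFun T = σ) (hpow : ∃ c, T ^ r = scal Q c)
    (hfix : ∀ x : F, σ x = x ↔ x ∈ Set.range f) :
    ∃ (Q₀ : QuadraticForm K (ι → K)) (QF : QuadraticForm F (ι → F)) (hc : Compat f Q₀ QF) (S : Sim QF Q)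
      (c : Fˣ), PolarNondeg Q₀ ∧ T = scal Q c * S.gam (phi f σ hc fun x => (hfix _).2 ⟨x, rfl⟩) := by
  classical
  obtain ⟨c, hc⟩ := hpow
  have hcfix : c ∈ fixedUnits σ := by
    have h1 := mul_scal T c
    rw [← hc, ← pow_succ', pow_succ, hc, hT] at h1
    exact (congrArg Units.val (scal_injective (mul_right_cancel h1))).symm
  obtain ⟨d, hd⟩ : c⁻¹ ∈ (normHom σ r).range := range_normHom hσ ▸ inv_mem hcfix
  set T' := scal Q d * T with hT'
  have hT'σ : sigFun T' = σ := sigFun_unique _ fun s v => by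
    rw [hT', gammaO_mul_apply, gammaO_mul_apply, (semisim_spec T).smul, hT, scal_apply, scal_apply, smul_comm]
  have hT'r : T' ^ r = 1 := by rw [hT', gammaO_pow_scal, hT, hd, hc, ← map_mul, inv_mul_cancel, map_one]
  have hfixv : Submodule.span F {v : ι → F | addT T' v = v} = ⊤ :=
    span_fixed_eq_top hσ (addT T').toAddMonoidHom (fun s v => hT'σ ▸ (semisim_spec T').smul s v) fun v => by
      refine (addT_pow T' r v).symm.trans ?_
      rw [hT'r]
      rfl
  obtain ⟨t, ht, htspan, hli⟩ := exists_linearIndependent F {v : ι → F | addT T' v = v}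
  rw [hfixv] at htspan
  let b0 : Module.Basis t F (ι → F) := Module.Basis.mk hli (by rw [Subtype.range_coe]; exact htspan.ge)
  haveI : Fintype t := Fintype.ofFinite _
  let b := b0.reindex (Fintype.equivOfCardEq
    (show Fintype.card t = Fintype.card ι by rw [← Module.finrank_eq_card_basis b0, Module.finrank_pi]))
  let a : (ι → F) ≃ₗ[F] (ι → F) := b.equivFun.symm
  have hb : ∀ i, addT T' (b i) = b i := fun i => ht (show b i ∈ t by simp [b, b0])
  have ha : ∀ v, addT T' (a v) = a (σ ∘ v) := fun v => by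
    simp only [a, Module.Basis.equivFun_symm_apply, map_sum, (semisim_spec T').smul, hb, hT'σ, Function.comp_apply]
  have hfa : ∀ w : ι → K, addT T' (a (f ∘ w)) = a (f ∘ w) := fun w => by
    rw [ha]
    exact congrArg a (funext fun i => (hfix _).2 ⟨w i, rfl⟩)
  obtain ⟨w₀, hw₀⟩ : ∃ w₀ : ι → K, Q (a (f ∘ w₀)) ≠ 0 := by
    by_contra h
    push Not at h
    have h0 : Q.comp a.toLinearMap = 0 := qf_ext_rational f fun w => by simpa using h w
    obtain ⟨i⟩ := ‹Nonempty ι›
    have h1 : ∀ v, Q v = 0 := fun v => by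
      simpa using DFunLike.congr_fun h0 (a.symm v)
    refine one_ne_zero (α := F) ?_
    simpa using congrFun (hQ (Pi.single i 1) fun u => by simp [QuadraticMap.polar, h1]) i
  set μ := Q (a (f ∘ w₀))
  have hval : ∀ w : ι → K, σ (μ⁻¹ * Q (a (f ∘ w))) = μ⁻¹ * Q (a (f ∘ w)) := fun w => by
    have h1 := (semisim_spec T').quad (a (f ∘ w))
    have h2 := (semisim_spec T').quad (a (f ∘ w₀))
    rw [hfa, hT'σ] at h1 h2
    have hμ : σ μ ≠ 0 := (map_ne_zero σ).2 hw₀
    have hne := (semisim_spec T').ne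
    conv_rhs => rw [h1, show μ = mulFac T' * σ μ from h2]
    rw [map_mul, map_inv₀]
    field_simp
  let g := Function.invFun f
  have hg : ∀ w : ι → K, f (g (μ⁻¹ * Q (a (f ∘ w)))) = μ⁻¹ * Q (a (f ∘ w)) := fun w =>
    Function.invFun_eq ((hfix _).1 (hval w))
  let Q₀ : QuadraticForm K (ι → K) := QuadraticMap.ofPolar (fun w => g (μ⁻¹ * Q (a (f ∘ w))))
    (fun s w => f.injective (by
      rw [smul_eq_mul, map_mul, map_mul, hg, hg, comp_smul_hom, map_smul, quad_smul]
      ring))
    (fun x x' y => f.injective (by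
      simp only [QuadraticMap.polar, map_add f, map_sub, hg]
      simp only [comp_add', map_add]
      have := QuadraticMap.polar_add_left Q (a (f ∘ x)) (a (f ∘ x')) (a (f ∘ y))
      simp only [QuadraticMap.polar] at this
      linear_combination μ⁻¹ * this))
    (fun s x y => f.injective (by
      simp only [QuadraticMap.polar, smul_eq_mul, map_mul, map_sub, hg]
      simp only [comp_add', comp_smul_hom, map_add, map_smul]
      have := QuadraticMap.polar_smul_left Q (f s) (a (f ∘ x)) (a (f ∘ y))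
      simp only [QuadraticMap.polar, smul_eq_mul] at this
      linear_combination μ⁻¹ * this))
  let QF : QuadraticForm F (ι → F) := μ⁻¹ • Q.comp a.toLinearMap
  have hcompat : Compat f Q₀ QF := fun w => by
    change μ⁻¹ * Q (a (f ∘ w)) = f (g (μ⁻¹ * Q (a (f ∘ w))))
    exact (hg w).symm
  let S : Sim QF Q := ⟨a, μ, hw₀, fun v => by
    change Q (a v) = μ * (μ⁻¹ * Q (a v))
    rw [mul_inv_cancel_left₀ hw₀]⟩
  refine ⟨Q₀, QF, hcompat, S, d⁻¹, hcompat.polarNondeg_down (S.symm.polarNondeg hQ), ?_⟩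
  have e : S.gam (phi f σ hcompat fun x => (hfix _).2 ⟨x, rfl⟩) = T' := gammaO_ext fun w => by
    obtain ⟨v, rfl⟩ := a.surjective w
    rw [show a v = S.e v from rfl, Sim.gam_apply, phi_apply]
    exact (ha v).symm
  rw [e, hT', ← mul_assoc, ← map_mul, inv_mul_cancel, map_one, one_mul]

/-! ### Rational similitudes -/

variable {J : Type} [Fintype J] [DecidableEq J]

/-- The base change of a linear equivalence. -/
noncomputable def bcEquiv (f : K →+* F) (e : (ι → K) ≃ₗ[K] (J → K)) : (ι → F) ≃ₗ[F] (J → F) :=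
  LinearEquiv.ofLinearMap
    ((Pi.basisFun F ι).constr F fun i => f ∘ e (Pi.single i 1))
    ((Pi.basisFun F J).constr F fun j => f ∘ e.symm (Pi.single j 1))
    (linear_ext_rational f fun w => by
      have h : ∀ (I : Type) [Fintype I] [DecidableEq I] (I' : Type) [Fintype I'] (A : (I → K) →ₗ[K] (I' → K)) (w : I → K),
          (Pi.basisFun F I).constr F (fun i => f ∘ A (Pi.single i 1)) (f ∘ w) = f ∘ A w := by
        intro I _ _ I' _ A w
        rw [Module.Basis.constr_apply_fintype]
        conv_rhs => rw [pi_eq_sum_univ' w, map_sum]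
        funext k
        simp [Finset.sum_apply, map_sum, map_mul]
      rw [LinearMap.comp_apply, LinearMap.id_apply]
      erw [h J ι e.symm.toLinearMap, h ι J e.toLinearMap]
      simp)
    (linear_ext_rational f fun w => by
      have h : ∀ (I : Type) [Fintype I] [DecidableEq I] (I' : Type) [Fintype I'] (A : (I → K) →ₗ[K] (I' → K)) (w : I → K),
          (Pi.basisFun F I).constr F (fun i => f ∘ A (Pi.single i 1)) (f ∘ w) = f ∘ A w := by
        intro I _ _ I' _ A w
        rw [Module.Basis.constr_apply_fintype]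
        conv_rhs => rw [pi_eq_sum_univ' w, map_sum]
        funext k
        simp [Finset.sum_apply, map_sum, map_mul]
      rw [LinearMap.comp_apply, LinearMap.id_apply]
      erw [h ι J e.toLinearMap, h J ι e.symm.toLinearMap]
      simp)

theorem bcEquiv_rational (e : (ι → K) ≃ₗ[K] (J → K)) (w : ι → K) : bcEquiv f e (f ∘ w) = f ∘ e w := by
  change (Pi.basisFun F ι).constr F (fun i => f ∘ e (Pi.single i 1)) (f ∘ w) = _
  rw [Module.Basis.constr_apply_fintype]
  conv_rhs => rw [pi_eq_sum_univ' w, map_sum]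
  funext k
  simp [Finset.sum_apply, map_sum, map_mul]

variable {P₀ : QuadraticForm K (J → K)} {P : QuadraticForm F (J → F)}

/-- A rational similitude, extended. -/
noncomputable def bcSim (hc : Compat f Q₀ Q) (hcP : Compat f P₀ P) (S₀ : Sim Q₀ P₀) : Sim Q P where
  e := bcEquiv f S₀.e
  μ := f S₀.μ
  ne := (map_ne_zero f).2 S₀.ne
  quad := fun v => DFunLike.congr_fun (qf_ext_rational (Q₁ := P.comp (bcEquiv f S₀.e).toLinearMap) (Q₂ := f S₀.μ • Q) f
    fun w => by
      change P (bcEquiv f S₀.e (f ∘ w)) = f S₀.μ * Q (f ∘ w)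
      rw [bcEquiv_rational, hcP, hc, S₀.quad, map_mul]) v

theorem bcSim_phi [Nonempty ι] [Nonempty J] (hc : Compat f Q₀ Q) (hcP : Compat f P₀ P) (S₀ : Sim Q₀ P₀)
    (hf : ∀ x, σ (f x) = f x) : (bcSim hc hcP S₀).gam (phi f σ hc hf) = phi f σ hcP hf := gammaO_ext fun w => by
  obtain ⟨v, rfl⟩ := (bcSim hc hcP S₀).e.surjective w
  rw [Sim.gam_apply, phi_apply, phi_apply]
  exact DFunLike.congr_fun (semilinear_ext_rational (σ := σ)
    (A := AddMonoidHom.mk' (fun u : ι → F => (bcEquiv f S₀.e (σ ∘ u) : J → F)) fun u x => by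
      rw [show σ ∘ (u + x) = σ ∘ u + σ ∘ x from funext fun i => map_add σ (u i) (x i), map_add])
    (B := AddMonoidHom.mk' (fun u : ι → F => (σ ∘ bcEquiv f S₀.e u : J → F)) fun u x => by
      rw [map_add]; exact funext fun i => map_add σ _ _)
    (fun s u => by
      change bcEquiv f S₀.e (σ ∘ (s • u)) = σ s • bcEquiv f S₀.e (σ ∘ u)
      rw [show σ ∘ (s • u) = σ s • (σ ∘ u) from funext fun i => map_mul σ s (u i), map_smul])
    (fun s u => by
      change σ ∘ bcEquiv f S₀.e (s • u) = _
      rw [map_smul]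
      exact funext fun i => map_mul σ s _) f fun u => by
      change bcEquiv f S₀.e (σ ∘ f ∘ u) = σ ∘ bcEquiv f S₀.e (f ∘ u)
      rw [show σ ∘ f ∘ u = f ∘ u from funext fun i => hf (u i), bcEquiv_rational]
      exact funext fun i => (hf _).symm) v

/-- Composite similitudes. -/
noncomputable def Sim.trans {V W U : Type*} [AddCommGroup V] [Module F V] [AddCommGroup W] [Module F W]
    [AddCommGroup U] [Module F U] {A : QuadraticForm F V} {B : QuadraticForm F W} {C : QuadraticForm F U}
    (S : Sim A B) (S' : Sim B C) : Sim A C :=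
  ⟨S.e.trans S'.e, S'.μ * S.μ, mul_ne_zero S'.ne S.ne, fun v => by
    rw [LinearEquiv.trans_apply, S'.quad, S.quad, mul_assoc]⟩

theorem Sim.gam_trans {V W U : Type*} [AddCommGroup V] [Module F V] [AddCommGroup W] [Module F W]
    [AddCommGroup U] [Module F U] {A : QuadraticForm F V} {B : QuadraticForm F W} {C : QuadraticForm F U}
    (S : Sim A B) (S' : Sim B C) (T : gammaO A) : (S.trans S').gam T = S'.gam (S.gam T) := gammaO_ext fun u => by
  obtain ⟨v, rfl⟩ := (S.trans S').e.surjective u
  rw [Sim.gam_apply]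
  change S'.e (S.e (addT T v)) = addT (S'.gam (S.gam T)) (S'.e (S.e v))
  rw [Sim.gam_apply, Sim.gam_apply]

/-- Descent to a given standard form. -/
theorem exists_model_of_similar [Fintype F] [Nonempty ι] [Nonempty J] (hQ : PolarNondeg Q) {T : gammaO Q} {r : ℕ}
    (hσ : orderOf σ = r) (hT : sigFun T = σ) (hpow : ∃ c, T ^ r = scal Q c)
    (hfix : ∀ x : F, σ x = x ↔ x ∈ Set.range f) (hcP : Compat f P₀ P)
    (hsim : ∀ R₀ : QuadraticForm K (ι → K), PolarNondeg R₀ → ∀ RF : QuadraticForm F (ι → F), ∀ (hc : Compat f R₀ RF),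
      ∀ (S : Sim RF Q) (c : Fˣ),
        T = scal Q c * S.gam (phi f σ hc fun x => (hfix _).2 ⟨x, rfl⟩) →
        Similar P₀ R₀) :
    ∃ (S : Sim P Q) (c : Fˣ), T = scal Q c * S.gam (phi f σ hcP fun x => (hfix _).2 ⟨x, rfl⟩) := by
  obtain ⟨R₀, RF, hc, S, c, hR₀, e⟩ := exists_model hQ hσ hT hpow hfix
  obtain ⟨S₀⟩ := Sim.nonempty_of_similar (hsim R₀ hR₀ RF hc S c e)
  exact ⟨(bcSim hcP hc S₀).trans S, c, by rw [Sim.gam_trans, bcSim_phi, e]⟩

end CfsgLib.POAut
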