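/-
Automorphisms of finite fields: powers of the Frobenius, extensions, fixed fields.
-/
import Cfsg.Agent.Lib.KnownSimple.PSLAut.Galois
import Mathlib.FieldTheory.Finite.Extension

set_option autoImplicit false

namespace CfsgLib.POAut

variable {F : Type*} [Field F]

/-- Every automorphism of a finite field is a power of the Frobenius. -/
theorem exists_pow_of_aut [Finite F] (p : ℕ) [Fact p.Prime] [CharP F p] (σ : F ≃+* F) :
    ∃ k : ℕ, ∀ x, σ x = x ^ p ^ k := by
  letI := ZMod.algebra F p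
  let A : F →ₐ[ZMod p] F :=
    { σ.toRingHom with
      commutes' := fun r => by
        obtain ⟨n, rfl⟩ := ZMod.natCast_zmod_surjective r
        simp }
  obtain ⟨k, hk⟩ := (FiniteField.bijective_frobeniusAlgHom_pow (ZMod p) F).2 A
  refine ⟨k, fun x => ?_⟩
  have h := DFunLike.congr_fun hk x
  simp only [AlgHom.coe_pow, FiniteField.coe_frobeniusAlgHom, pow_iterate, ZMod.card] at h
  exact h.symm

/-- The automorphism group of a finite field is cyclic. -/
theorem exists_generator [Finite F] : ∃ φ : F ≃+* F, ∀ σ : F ≃+* F, σ ∈ Subgroup.zpowers φ := by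
  obtain ⟨p, hp⟩ := CharP.exists F
  haveI : Fact p.Prime := ⟨CharP.char_is_prime F p⟩
  let φ : F ≃+* F := frobeniusEquiv F p
  refine ⟨φ, fun σ => ?_⟩
  obtain ⟨k, hk⟩ := exists_pow_of_aut p σ
  refine ⟨(k : ℤ), RingEquiv.ext fun x => ?_⟩
  show (φ ^ (k : ℤ)) x = σ x
  rw [zpow_natCast, hk]
  clear hk
  induction k with
  | zero => simp
  | succ k ih =>
    rw [pow_succ' φ, RingAut.mul_apply, ih]
    change frobeniusEquiv F p (x ^ p ^ k) = x ^ p ^ (k + 1)
    rw [frobeniusEquiv_apply, frobenius_def, ← pow_mul, ← pow_succ]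

/-- A finite field has at most one involutory automorphism. -/
theorem involution_unique [Finite F] {σ τ : F ≃+* F} (hσ : orderOf σ = 2) (hτ : orderOf τ = 2) : σ = τ := by
  obtain ⟨φ, hφ⟩ := exists_generator (F := F)
  haveI : IsCyclic (F ≃+* F) := ⟨⟨φ, hφ⟩⟩
  haveI : Finite (F ≃+* F) := Finite.of_injective (fun e : F ≃+* F => (e : F → F)) DFunLike.coe_injective
  classical
  letI : Fintype (F ≃+* F) := Fintype.ofFinite _
  have h := IsCyclic.card_orderOf_eq_totient (α := F ≃+* F) (d := 2)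
    (by rw [← hσ]; exact orderOf_dvd_card)
  rw [show Nat.totient 2 = 1 from rfl, Finset.card_eq_one] at h
  obtain ⟨a, ha⟩ := h
  have h1 : σ ∈ ({a} : Finset (F ≃+* F)) := ha ▸ Finset.mem_filter.2 ⟨Finset.mem_univ _, hσ⟩
  have h2 : τ ∈ ({a} : Finset (F ≃+* F)) := ha ▸ Finset.mem_filter.2 ⟨Finset.mem_univ _, hτ⟩
  rw [Finset.mem_singleton] at h1 h2
  rw [h1, h2]

/-- Automorphisms extend to finite extensions. -/
theorem exists_ext {L : Type*} [Field L] [Finite F] [Finite L] (f : F →+* L) (σ : F ≃+* F) :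
    ∃ σ' : L ≃+* L, ∀ s, σ' (f s) = f (σ s) := by
  obtain ⟨p, hp⟩ := CharP.exists F
  haveI : Fact p.Prime := ⟨CharP.char_is_prime F p⟩
  haveI : CharP L p := charP_of_injective_ringHom f.injective p
  obtain ⟨k, hk⟩ := exists_pow_of_aut p σ
  refine ⟨RingEquiv.ofBijective (iterateFrobenius L p k)
    (Finite.injective_iff_bijective.1 (iterateFrobenius L p k).injective), fun s => ?_⟩
  change iterateFrobenius L p k (f s) = _
  rw [iterateFrobenius_def, hk, map_pow]

/-- The fixed field of an automorphism of given order. -/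
theorem exists_card_fixedField [Fintype F] {p f r : ℕ} [Fact p.Prime] (hF : Fintype.card F = p ^ f) {σ : F ≃+* F}
    (hσ : orderOf σ = r) : r ∣ f ∧ Nat.card (CfsgLib.PSLAut.fixedField σ) = p ^ (f / r) := by
  have hp := (Fact.out : p.Prime)
  have h := CfsgLib.PSLAut.card_fixedField σ
  rw [hσ, hF] at h
  have hr : r ≠ 0 := fun h0 => by
    rw [h0, pow_zero] at h
    have := Fintype.one_lt_card (α := F)
    omega
  have hd : Nat.card (CfsgLib.PSLAut.fixedField σ) ∣ p ^ f := h ▸ dvd_pow_self _ hr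
  obtain ⟨k, -, hk⟩ := (Nat.dvd_prime_pow hp).1 hd
  rw [hk, ← pow_mul] at h
  have hfk := Nat.pow_right_injective hp.two_le h
  refine ⟨Dvd.intro_left k hfk.symm, ?_⟩
  rw [hk, hfk, Nat.mul_div_cancel _ (Nat.pos_of_ne_zero hr)]

/-- A field of the right order is the fixed field. -/
theorem exists_fixed_embedding [Fintype F] {p f r : ℕ} [Fact p.Prime] (hF : Fintype.card F = p ^ f) {σ : F ≃+* F}
    (hσ : orderOf σ = r) (K : Type*) [Field K] [Fintype K] (hK : Fintype.card K = p ^ (f / r)) :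
    ∃ e : K →+* F, ∀ x : F, σ x = x ↔ x ∈ Set.range e := by
  classical
  haveI : Fintype (CfsgLib.PSLAut.fixedField σ) := Fintype.ofFinite _
  have h := (exists_card_fixedField hF hσ).2
  rw [Nat.card_eq_fintype_card, ← hK] at h
  let φ : K ≃+* CfsgLib.PSLAut.fixedField σ := FiniteField.ringEquivOfCardEq h.symm
  refine ⟨(CfsgLib.PSLAut.fixedField σ).subtype.comp φ.toRingHom, fun x => ⟨fun hx => ?_, ?_⟩⟩
  · exact ⟨φ.symm ⟨x, hx⟩, by simp⟩
  · rintro ⟨y, rfl⟩
    exact (φ y).2

end CfsgLib.POAut
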