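/-
Semisimilarities in coordinates and the carrier `PΩ`.
-/
import Cfsg.Agent.Lib.KnownSimple.POAut.Gamma
import Cfsg.Agent.Lib.KnownSimple.POAut.Coords
import Cfsg.Prelude.Def_KGroupFacts

set_option autoImplicit false

namespace CfsgLib.POAut

open Matrix CfsgLib.Classical CfsgLib.Classical22

variable {F : Type*} [Field F] {ι : Type} [Fintype ι] [DecidableEq ι] {Q : QuadraticForm F (ι → F)}

/-- `v ↦ g σ(v)`. -/
noncomputable def semMap (g : GL ι F) (σ : F ≃+* F) : (ι → F) ≃+ (ι → F) where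
  toFun v := (g : Matrix ι ι F) *ᵥ (σ ∘ v)
  invFun v := σ.symm ∘ (((g⁻¹ : GL ι F) : Matrix ι ι F) *ᵥ v)
  left_inv v := by
    simp only [mulVec_mulVec, ← Units.val_mul, inv_mul_cancel, Units.val_one, one_mulVec]
    funext i
    exact σ.symm_apply_apply (v i)
  right_inv v := by
    simp only
    rw [show σ ∘ σ.symm ∘ (((g⁻¹ : GL ι F) : Matrix ι ι F) *ᵥ v) = ((g⁻¹ : GL ι F) : Matrix ι ι F) *ᵥ v from
      funext fun i => σ.apply_symm_apply _, mulVec_mulVec, ← Units.val_mul, mul_inv_cancel, Units.val_one, one_mulVec]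
  map_add' v w := by
    rw [← mulVec_add]
    exact congrArg _ (funext fun i => map_add σ (v i) (w i))

theorem semMap_apply (g : GL ι F) (σ : F ≃+* F) (v : ι → F) :
    semMap g σ v = (g : Matrix ι ι F) *ᵥ (σ ∘ v) := rfl

theorem comp_smul' (σ : F ≃+* F) (s : F) (v : ι → F) : σ ∘ (s • v) = σ s • (σ ∘ v) :=
  funext fun i => map_mul σ s (v i)

theorem isSemisim_semMap {g : GL ι F} {σ : F ≃+* F} {c : Fˣ}
    (h : ∀ v : ι → F, Q ((g : Matrix ι ι F) *ᵥ (fun i => σ (v i))) = (c : F) * σ (Q v)) :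
    IsSemisim Q σ (c : F) (semMap g σ) :=
  ⟨fun s v => by rw [semMap_apply, semMap_apply, comp_smul', mulVec_smul], h, c.ne_zero⟩

/-- A semisimilarity pair as an element of the group. -/
noncomputable def semOf {g : GL ι F} {σ : F ≃+* F} (h : Cfsg.IsSemisimilarityPair (⇑Q) g σ) : gammaO Q :=
  mkGamma (semMap g σ) (isSemisim_semMap h.choose_spec)

theorem semOf_apply {g : GL ι F} {σ : F ≃+* F} (h : Cfsg.IsSemisimilarityPair (⇑Q) g σ) (v : ι → F) :
    addT (semOf h) v = (g : Matrix ι ι F) *ᵥ (σ ∘ v) := rfl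

/-- The linear part of a semisimilarity. -/
noncomputable def matOf (T : gammaO Q) : GL ι F :=
  let A : (ι → F) →ₗ[F] (ι → F) :=
    { toFun := fun v => addT T ((sigFun T).symm ∘ v)
      map_add' := fun v w => by rw [← map_add]; exact congrArg _ (funext fun i => map_add _ (v i) (w i))
      map_smul' := fun s v => by rw [RingHom.id_apply, comp_smul', (semisim_spec T).smul, RingEquiv.apply_symm_apply] }
  let Ae : (ι → F) ≃ₗ[F] (ι → F) := LinearEquiv.ofInjectiveEndo A fun v w e => funext fun i =>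
    (sigFun T).symm.injective (congrFun ((addT T).injective e) i)
  ⟨LinearMap.toMatrix' Ae.toLinearMap, LinearMap.toMatrix' Ae.symm.toLinearMap,
    by rw [← LinearMap.toMatrix'_comp]; simp, by rw [← LinearMap.toMatrix'_comp]; simp⟩

theorem matOf_mulVec (T : gammaO Q) (v : ι → F) :
    (matOf T : Matrix ι ι F) *ᵥ (sigFun T ∘ v) = addT T v := by
  change LinearMap.toMatrix' _ *ᵥ _ = _
  rw [LinearMap.toMatrix'_mulVec]
  change addT T _ = _
  exact congrArg _ (funext fun i => (sigFun T).symm_apply_apply (v i))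

theorem matOf_pair (T : gammaO Q) : Cfsg.IsSemisimilarityPair (⇑Q) (matOf T) (sigFun T) :=
  ⟨Units.mk0 (mulFac T) (semisim_spec T).ne, fun v =>
    (congrArg Q (matOf_mulVec T v)).trans ((semisim_spec T).quad v)⟩

theorem semOf_matOf (T : gammaO Q) : semOf (matOf_pair T) = T :=
  gammaO_ext fun v => matOf_mulVec T v

theorem isSemisimilarityPair_iff_simGroup {g : GL ι F} :
    Cfsg.IsSemisimilarityPair (⇑Q) g (RingEquiv.refl F) ↔ g ∈ Cfsg.Geo.quadSimilarityGroup (F := F) ⇑Q :=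
  Iff.rfl

variable [Fintype F]

theorem sigHom_semOf (hQ : Pre Q) {g : GL ι F} {σ : F ≃+* F} (h : Cfsg.IsSemisimilarityPair (⇑Q) g σ) :
    sigHom hQ (semOf h) = σ :=
  sigHom_eq hQ _ fun s v => (isSemisim_semMap h.choose_spec).smul s v

/-- Automorphisms of the carrier and of the quotient. -/
noncomputable def autT (Q : QuadraticForm F (ι → F)) (hQ : Pre Q) :
    MulAut (Cfsg.POmega F ⇑Q) ≃* MulAut (TQ Q) where
  toFun β := (poEquiv Q hQ).symm.trans (β.trans (poEquiv Q hQ))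
  invFun γ := (poEquiv Q hQ).trans (γ.trans (poEquiv Q hQ).symm)
  left_inv β := MulEquiv.ext fun x => by simp
  right_inv γ := MulEquiv.ext fun x => by simp
  map_mul' β γ := MulEquiv.ext fun x => by simp [MulAut.mul_apply]

theorem autT_apply (hQ : Pre Q) (β : MulAut (Cfsg.POmega F ⇑Q)) (x : Cfsg.POmega F ⇑Q) :
    autT Q hQ β (poEquiv Q hQ x) = poEquiv Q hQ (β x) := by
  simp [autT]

theorem induced_iff (hQ : Pre Q) {g : GL ι F} {σ : F ≃+* F} (h : Cfsg.IsSemisimilarityPair (⇑Q) g σ)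
    (β : MulAut (Cfsg.POmega F ⇑Q)) :
    Cfsg.IsInducedBySemilinearPOmega (⇑Q) g σ β ↔ autT Q hQ β = act Q (semOf h) := by
  have key : ∀ s s' : Cfsg.Omega F ⇑Q, conjElt (semOf h) (omegaEquiv Q hQ s) = omegaEquiv Q hQ s' ↔
      (((s' : Cfsg.isometryGroup F ⇑Q) : GL ι F) : Matrix ι ι F) =
        (g : Matrix ι ι F) * (((s : Cfsg.isometryGroup F ⇑Q) : GL ι F) : Matrix ι ι F).map σ *
          ((g⁻¹ : GL ι F) : Matrix ι ι F) := by
    intro s s'
    have hmap : ∀ (M : Matrix ι ι F) (v : ι → F), M.map σ *ᵥ (σ ∘ v) = σ ∘ (M *ᵥ v) := fun M v =>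
      funext fun i => (RingHom.map_mulVec σ.toRingHom M v i).symm
    constructor
    · intro e
      refine Matrix.ext_of_mulVec_single fun j => ?_
      obtain ⟨x, hx⟩ := (addT (semOf h)).surjective (Pi.single j 1)
      rw [← hx, ← mulVec_mulVec, ← mulVec_mulVec, semOf_apply]
      rw [show ((g⁻¹ : GL ι F) : Matrix ι ι F) *ᵥ ((g : Matrix ι ι F) *ᵥ (σ ∘ x)) = σ ∘ x by
        rw [mulVec_mulVec, ← Units.val_mul, inv_mul_cancel, Units.val_one, one_mulVec], hmap]
      have h1 := conjElt_spec (semOf h) (omegaEquiv Q hQ s) x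
      rw [e, omegaEquiv_apply, omegaEquiv_apply, semOf_apply, semOf_apply] at h1
      exact h1.symm
    · intro e
      refine conjElt_unique fun x => ?_
      rw [omegaEquiv_apply, omegaEquiv_apply, semOf_apply, semOf_apply, e, mulVec_mulVec, mul_assoc, mul_assoc,
        ← Units.val_mul, inv_mul_cancel, Units.val_one, mul_one, ← mulVec_mulVec, hmap]
  constructor
  · intro hind
    refine eq_of_cls fun e => ?_
    obtain ⟨s, rfl⟩ := (omegaEquiv Q hQ).surjective e
    obtain ⟨s', hs'⟩ := (omegaEquiv Q hQ).surjective (conjElt (semOf h) (omegaEquiv Q hQ s))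
    rw [act_cls, ← hs', ← poEquiv_mk, autT_apply, hind s s' ((key s s').1 hs'.symm), poEquiv_mk]
  · intro e s s' es
    refine (poEquiv Q hQ).injective ?_
    rw [← autT_apply, e, poEquiv_mk, act_cls, (key s s').2 es, poEquiv_mk]

/-- The similitudes. -/
noncomputable def simSub (hQ : Pre Q) : Subgroup (gammaO Q) := (sigHom hQ).ker

theorem similarityInduced_iff (hQ : Pre Q) (β : MulAut (Cfsg.POmega F ⇑Q)) :
    Cfsg.IsSimilarityInducedAutPOmega (⇑Q) β ↔ autT Q hQ β ∈ (simSub hQ).map (act Q) := by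
  constructor
  · rintro ⟨g, hg, hind⟩
    exact ⟨semOf (isSemisimilarityPair_iff_simGroup.2 hg), MonoidHom.mem_ker.2 (sigHom_semOf hQ _),
      ((induced_iff hQ _ β).1 hind).symm⟩
  · rintro ⟨T, hT, e⟩
    have hσ : sigFun T = RingEquiv.refl F := hT
    have hp := matOf_pair T
    rw [hσ] at hp
    refine ⟨matOf T, isSemisimilarityPair_iff_simGroup.1 hp, (induced_iff hQ hp β).2 (e.symm.trans ?_)⟩
    refine congrArg _ (gammaO_ext fun v => ?_)
    have h1 := matOf_mulVec T v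
    rw [hσ] at h1
    exact h1.symm

omit [Fintype ι] [DecidableEq ι] [Fintype F] in
theorem closure_setOf_eq {G H : Type*} [Group G] [Group H] (f : G ≃* H) (K : Subgroup H) (P : G → Prop)
    (h : ∀ x, P x ↔ f x ∈ K) : Subgroup.closure {x | P x} = K.comap f.toMonoidHom := by
  rw [show {x | P x} = (K.comap f.toMonoidHom : Set G) from Set.ext h, Subgroup.closure_eq]

/-- The standard field automorphism as a semisimilarity. -/
theorem one_pair {σ : F ≃+* F} (hσ : ∀ v, Q (σ ∘ v) = σ (Q v)) :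
    Cfsg.IsSemisimilarityPair (⇑Q) (1 : GL ι F) σ :=
  ⟨1, fun v => by rw [Units.val_one, one_mulVec, Units.val_one, one_mul]; exact hσ v⟩

theorem fieldAut_iff (hQ : Pre Q) {σ : F ≃+* F} (hσ : ∀ v, Q (σ ∘ v) = σ (Q v))
    (β : MulAut (Cfsg.POmega F ⇑Q)) :
    Cfsg.IsFieldAutPOmegaOf (⇑Q) σ β ↔ autT Q hQ β = act Q (semOf (one_pair hσ)) := by
  rw [← induced_iff hQ]
  refine forall₂_congr fun s s' => ?_
  rw [inv_one, Units.val_one, Matrix.one_mul, Matrix.mul_one]

theorem autT_conj (hQ : Pre Q) (x : Cfsg.POmega F ⇑Q) :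
    autT Q hQ (MulAut.conj x) = MulAut.conj (poEquiv Q hQ x) :=
  MulEquiv.ext fun y => by simp [autT]

theorem autT_mem_inn (hQ : Pre Q) (β : MulAut (Cfsg.POmega F ⇑Q)) :
    β ∈ Cfsg.Inn (Cfsg.POmega F ⇑Q) ↔ autT Q hQ β ∈ Cfsg.Inn (TQ Q) := by
  constructor
  · rintro ⟨x, rfl⟩
    exact ⟨_, (autT_conj hQ x).symm⟩
  · rintro ⟨y, hy⟩
    obtain ⟨x, rfl⟩ := (poEquiv Q hQ).surjective y
    exact ⟨x, (autT Q hQ).injective ((autT_conj hQ x).trans hy)⟩

/-- The inner automorphisms of the quotient. -/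
theorem inn_eq (Q : QuadraticForm F (ι → F)) :
    Cfsg.Inn (TQ Q) = ((eichGroup Q).map (qIncl Q)).map (act Q) := by
  ext β
  constructor
  · rintro ⟨x, rfl⟩
    obtain ⟨g, rfl⟩ := cls_surjective Q x
    exact ⟨_, ⟨g, g.2, rfl⟩, act_qIncl g⟩
  · rintro ⟨_, ⟨g, hg, rfl⟩, rfl⟩
    exact ⟨cls Q ⟨g, hg⟩, (act_qIncl ⟨g, hg⟩).symm⟩

end CfsgLib.POAut
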