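/-
The inner-diagonal groups as subgroups of the semisimilarity group.
-/
import Cfsg.Agent.Lib.KnownSimple.POAut.Transport
import Cfsg.Agent.Lib.KnownSimple.POAut.Compat
import Cfsg.Agent.Lib.KnownSimple.POAut.Quadratic
import Cfsg.Agent.Lib.KnownSimple.POAut.Galois

set_option autoImplicit false

universe u

namespace CfsgLib.POAut

open Matrix CfsgLib.Classical CfsgLib.Classical22

/-! ### Standard forms -/

section Std

variable {K L : Type*} [Field K] [Field L] (f : K →+* L)

theorem compat_qOdd (m : ℕ) : Compat f (qOdd m K) (qOdd m L) := fun w => by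
  simp [qOdd_apply, map_sum]

theorem compat_qPlus (m : ℕ) : Compat f (qPlus m K) (qPlus m L) := fun w => by
  simp [coe_qPlus, Cfsg.quadFormPlus, map_sum]

theorem compat_qMinus (m : ℕ) (a b : K) : Compat f (qExt m (qBin a b)) (qExt m (qBin (f a) (f b))) := fun w => by
  simp [coe_qExt_qBin, Cfsg.quadFormMinus, map_sum]

variable {F : Type*} [Field F]

theorem finrank_qPlus_space (m : ℕ) : Module.finrank F (Fin m ⊕ Fin m → F) = 2 * m := by
  rw [Module.finrank_pi, Fintype.card_sum, Fintype.card_fin]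
  omega

theorem finrank_qMinus_space (m : ℕ) : Module.finrank F ((Fin m ⊕ Fin m) ⊕ Fin 2 → F) = 2 * (m + 1) := by
  rw [Module.finrank_pi, Fintype.card_sum, Fintype.card_sum, Fintype.card_fin, Fintype.card_fin]
  omega

/-- The first coordinates. -/
def xLin (m : ℕ) : (Fin m → F) →ₗ[F] (Fin m ⊕ Fin m → F) where
  toFun x := Sum.elim x fun _ => 0
  map_add' x y := by funext i; cases i <;> simp
  map_smul' c x := by funext i; cases i <;> simp

theorem maxS_xLin (m : ℕ) : MaxS (qPlus m F) m (LinearMap.range (xLin (F := F) m)) := by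
  refine ⟨?_, ?_⟩
  · rw [LinearMap.finrank_range_of_inj (fun x y h => funext fun i => by simpa [xLin] using congrFun h (Sum.inl i)),
      Module.finrank_pi, Fintype.card_fin]
  · rintro _ ⟨x, rfl⟩
    simp [coe_qPlus, Cfsg.quadFormPlus, xLin]

/-- The first coordinates and a singular line of the plane. -/
def xzLin (m : ℕ) (α : F) : ((Fin m → F) × F) →ₗ[F] ((Fin m ⊕ Fin m) ⊕ Fin 2 → F) where
  toFun p := Sum.elim (Sum.elim p.1 fun _ => 0) ![p.2 * α, p.2]
  map_add' p q := by
    funext i
    rcases i with (i | i) | i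
    · simp
    · simp
    · fin_cases i <;> simp [add_mul]
  map_smul' c p := by
    funext i
    rcases i with (i | i) | i
    · simp
    · simp
    · fin_cases i <;> simp [mul_assoc]

theorem maxS_xzLin (m : ℕ) {a b α : F} (hα : α ^ 2 + a * α + b = 0) :
    MaxS (qExt m (qBin a b)) (m + 1) (LinearMap.range (xzLin m α)) := by
  refine ⟨?_, ?_⟩
  · rw [LinearMap.finrank_range_of_inj (fun p q h => Prod.ext
      (funext fun i => by simpa [xzLin] using congrFun h (Sum.inl (Sum.inl i)))
      (by simpa [xzLin] using congrFun h (Sum.inr 1))), Module.finrank_prod, Module.finrank_pi, Fintype.card_fin,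
      Module.finrank_self]
  · rintro _ ⟨p, rfl⟩
    simp [coe_qExt_qBin, Cfsg.quadFormMinus, xzLin]
    linear_combination p.2 ^ 2 * hα

theorem qe_root (a b : F) : (-QuadraticAlgebra.omega : QE a b) ^ 2 + algebraMap F (QE a b) a * (-QuadraticAlgebra.omega) +
    algebraMap F (QE a b) b = 0 := by
  ext <;> simp [sq, QuadraticAlgebra.algebraMap_eq]

/-- An anisotropic binary part leaves no totally singular subspace of half the dimension. -/
theorem qExt_no_max [Fintype F] {m : ℕ} {a b : F} (hab : BinAniso a b)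
    (U : Submodule F ((Fin m ⊕ Fin m) ⊕ Fin 2 → F)) (hU : MaxS (qExt m (qBin a b)) (m + 1) U) : False := by
  classical
  set Q := qExt m (qBin a b)
  have hQ : PolarNondeg Q := polarNondeg_qExt (polarNondeg_qBin hab) m
  set X : Submodule F ((Fin m ⊕ Fin m) ⊕ Fin 2 → F) :=
    Submodule.span F (Set.range fun i : Fin m => Pi.single (Sum.inl (Sum.inl i)) (1 : F))
  have hdim := finrank_qMinus_space (F := F) m
  have hUp : qPerp Q U = U := (Submodule.eq_of_le_of_finrank_eq
    (fun u hu => (mem_qPerp Q).2 fun w hw => polar_zero_of_singular Q hU.2 hw hu)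
    (by rw [finrank_qPerp Q hQ, hU.1, hdim]; omega)).symm
  have hX : Module.finrank F X = m := by
    rw [finrank_span_eq_card (linearIndependent_iff'.2 fun s c hc i hi => by
      have := congrFun hc (Sum.inl (Sum.inl i))
      simpa [Finset.sum_apply, Pi.single_apply, hi] using this), Fintype.card_fin]
  have h1 : qPerp Q (U ⊔ X) = U ⊓ qPerp Q X := by rw [qPerp_sup, hUp]
  have h2 := Submodule.finrank_sup_add_finrank_inf_eq U X
  have h3 := finrank_qPerp Q hQ (U ⊔ X)
  rw [h1] at h3
  have h4 := hU.1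
  have h6 := Submodule.finrank_le (U ⊔ X)
  have hlt : ¬ (U ⊓ qPerp Q X ≤ U ⊓ X) := fun hle => by
    have := Submodule.finrank_mono hle
    omega
  obtain ⟨u, ⟨huU, huX⟩, hn⟩ := SetLike.not_le_iff_exists.1 hlt
  refine hn ⟨huU, ?_⟩
  have hy : ∀ i : Fin m, u (Sum.inl (Sum.inr i)) = 0 := fun i => by
    have h := (mem_qPerp Q).1 huX _ (Submodule.subset_span ⟨i, rfl⟩)
    simpa [Q, QuadraticMap.polar, qExt_apply, qBin_apply, Pi.single_apply, add_mul, Finset.sum_add_distrib,
      Finset.sum_ite_eq'] using h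
  have hz : u (Sum.inr 0) = 0 ∧ u (Sum.inr 1) = 0 := hab _ _ (by
    have h := hU.2 u huU
    simpa [Q, qExt_apply, qBin_apply, hy] using h)
  have hu : u = ∑ i : Fin m, u (Sum.inl (Sum.inl i)) • Pi.single (Sum.inl (Sum.inl i)) (1 : F) := by
    funext j
    rcases j with (j | j) | j
    · simp [Finset.sum_apply, Pi.single_apply]
    · simp [Finset.sum_apply, Pi.single_apply, hy j]
    · fin_cases j <;> simp [Finset.sum_apply, Pi.single_apply, hz.1, hz.2]
  rw [hu]
  exact Submodule.sum_mem _ fun i _ => Submodule.smul_mem _ _ (Submodule.subset_span ⟨i, rfl⟩)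

end Std

/-! ### The two classes as a predicate on matrices -/

variable {F : Type*} [Field F] {ι : Type} [Fintype ι] [DecidableEq ι] {Q : QuadraticForm F (ι → F)}

theorem preserves_iff [Fintype F] (hQ : PolarNondeg Q) {M : ℕ} (hV : Module.finrank F (ι → F) = 2 * M)
    {U₀ : Submodule F (ι → F)} (hU₀ : MaxS Q M U₀) (A : Matrix ι ι F) (T : gammaO Q)
    (hA : ∀ v, addT T v = A *ᵥ v) :
    Cfsg.PreservesSingularClasses (⇑Q) A ↔ parityHom hQ hV hU₀ T = 1 := by
  have himg : ∀ U, Cfsg.imageSubmodule A U = imgT T U := fun U =>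
    (imgT_eq_map T (Matrix.toLin' A) (fun v => by rw [hA, Matrix.toLin'_apply]) U).symm
  have hkey : ∀ U, MaxS Q M U → (Cfsg.SameParityClass U (Cfsg.imageSubmodule A U) ↔
      parityHom hQ hV hU₀ T = 1) := by
    intro U hU
    rw [← parityHom_indep hQ hV hU₀ hU, parityHom_apply, Cfsg.SameParityClass, himg, hU.1,
      ← ZMod.natCast_eq_zero_iff_even]
    exact ⟨fun h => congrArg Multiplicative.ofAdd h, fun h => Multiplicative.ofAdd.injective h⟩
  constructor
  · intro h
    refine (hkey U₀ hU₀).1 (h U₀ ⟨hU₀.2, fun W hW hle => ?_⟩)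
    refine (Submodule.eq_of_le_of_finrank_le hle ?_).symm
    have := two_mul_finrank_singular Q hQ (W := W) hW
    rw [hU₀.1]
    omega
  · intro h U hU
    exact (hkey U (finrank_of_maximal hQ hV hU₀ hU.1 hU.2)).2 h

/-! ### The three groups -/

theorem linear_of_simSub [Fintype F] (hQ : Pre Q) {T : gammaO Q} (hT : T ∈ simSub hQ) (s : F) :
    sigFun T s = s := by
  have h : sigFun T = 1 := hT
  rw [h]
  rfl

theorem sigFun_of_simSub [Fintype F] (hQ : Pre Q) {T : gammaO Q} (hT : T ∈ simSub hQ) :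
    sigFun T = RingEquiv.refl F := hT

theorem scal_mem_simSub [Fintype F] (hQ : Pre Q) (c : Fˣ) : scal Q c ∈ simSub hQ := sigHom_scal hQ c

theorem qIncl_mem_simSub [Fintype F] (hQ : Pre Q) (g : qAut Q) : qIncl Q g ∈ simSub hQ := sigHom_qIncl hQ g

section Extension

variable {L : Type*} [Field L] (f : F →+* L) {Q' : QuadraticForm L (ι → L)}

/-- Linear semisimilarities read over an extension field. -/
noncomputable def bcHom [Fintype F] [Fintype L] (hc : Compat f Q Q') (hQ : Pre Q) : simSub hQ →* gammaO Q' :=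
  haveI : Nonempty ι := by
    by_contra h
    haveI := not_nonempty_iff.1 h
    have := hQ.seven
    simp [Module.finrank_pi] at this
  MonoidHom.mk' (fun T => liftT hc (RingEquiv.refl L) T.1 fun s => by rw [linear_of_simSub hQ T.2]; rfl)
    fun S T => by
      refine gamma_ext_rational f ?_ fun w => ?_
      · rw [sigFun_liftT]
        refine (sigFun_unique _ fun s v => ?_).symm
        rw [gammaO_mul_apply, (semisim_spec _).smul, (semisim_spec _).smul, sigFun_liftT, sigFun_liftT]
        rfl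
      · rw [gammaO_mul_apply, liftT_rational, liftT_rational, liftT_rational]
        rfl

theorem bcHom_rational [Fintype F] [Fintype L] (hc : Compat f Q Q') (hQ : Pre Q) (T : simSub hQ) (w : ι → F) :
    addT (bcHom f hc hQ T) (f ∘ w) = f ∘ addT T.1 w := by
  haveI : Nonempty ι := by
    by_contra h
    haveI := not_nonempty_iff.1 h
    have := hQ.seven
    simp [Module.finrank_pi] at this
  exact liftT_rational hc (fun s => by rw [linear_of_simSub hQ T.2]; rfl) w

theorem sigFun_bcHom [Fintype F] [Fintype L] (hc : Compat f Q Q') (hQ : Pre Q) (T : simSub hQ) :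
    sigFun (bcHom f hc hQ T) = RingEquiv.refl L := by
  haveI : Nonempty ι := by
    by_contra h
    haveI := not_nonempty_iff.1 h
    have := hQ.seven
    simp [Module.finrank_pi] at this
  exact sigFun_liftT hc _

end Extension

section Minus

variable [Fintype F] {m : ℕ} {a b : F}

noncomputable instance qe_fintype (a b : F) : Fintype (QE a b) := Fintype.ofFinite _

theorem maxS_qe (m : ℕ) (hab : BinAniso a b) :
    haveI := qe_fact hab
    MaxS (qExt m (qBin (algebraMap F (QE a b) a) (algebraMap F (QE a b) b))) (m + 1)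
      (LinearMap.range (xzLin m (-QuadraticAlgebra.omega : QE a b))) :=
  haveI := qe_fact hab
  maxS_xzLin m (qe_root a b)

theorem polarNondeg_qe (m : ℕ) (hab : BinAniso a b) :
    haveI := qe_fact hab
    PolarNondeg (qExt m (qBin (algebraMap F (QE a b) a) (algebraMap F (QE a b) b))) := by
  haveI := qe_fact hab
  refine polarNondeg_qExt (fun v hv => ?_) m
  have h0 := hv ![1, 0]
  have h1 := hv ![0, 1]
  simp [QuadraticMap.polar, qBin_apply, Matrix.vecHead, Matrix.vecTail] at h0 h1
  have hd : (algebraMap F (QE a b)) (4 * b - a * a) ≠ 0 :=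
    (map_ne_zero _).2 (binAniso_disc hab)
  simp only [map_sub, map_mul, map_ofNat] at hd
  have e1 : v 1 = 0 := (mul_eq_zero.1 (show
      (4 * algebraMap F (QE a b) b - algebraMap F (QE a b) a * algebraMap F (QE a b) a) * v 1 = 0 by
    linear_combination 2 * h1 - algebraMap F (QE a b) a * h0)).resolve_left hd
  have e0 : v 0 = 0 := (mul_eq_zero.1 (show
      (4 * algebraMap F (QE a b) b - algebraMap F (QE a b) a * algebraMap F (QE a b) a) * v 0 = 0 by
    linear_combination 2 * algebraMap F (QE a b) b * h0 - algebraMap F (QE a b) a * h1)).resolve_left hd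
  funext i
  fin_cases i <;> simp [e0, e1]

/-- Whether a similitude of a form of minus type interchanges the classes over the quadratic extension. -/
noncomputable def minusPar (hab : BinAniso a b) (hQ : Pre (qExt m (qBin a b))) :
    simSub hQ →* Multiplicative (ZMod 2) :=
  haveI := qe_fact hab
  (parityHom (polarNondeg_qe m hab) (finrank_qMinus_space m) (maxS_qe m hab)).comp
    (bcHom (algebraMap F (QE a b)) (compat_qMinus _ m a b) hQ)

/-- The inner-diagonal similitudes of minus type. -/
noncomputable def minusG (hab : BinAniso a b) (hQ : Pre (qExt m (qBin a b))) :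
    Subgroup (gammaO (qExt m (qBin a b))) :=
  (minusPar hab hQ).ker.map (simSub hQ).subtype

theorem mem_minusG (hab : BinAniso a b) (hQ : Pre (qExt m (qBin a b))) {T : gammaO (qExt m (qBin a b))} :
    T ∈ minusG hab hQ ↔ ∃ h : T ∈ simSub hQ, minusPar hab hQ ⟨T, h⟩ = 1 := by
  constructor
  · rintro ⟨S, hS, rfl⟩
    exact ⟨S.2, hS⟩
  · rintro ⟨h, hT⟩
    exact ⟨⟨T, h⟩, hT, rfl⟩

instance minusG_normal (hab : BinAniso a b) (hQ : Pre (qExt m (qBin a b))) : (minusG hab hQ).Normal := ⟨by
  haveI := qe_fact hab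
  intro T hT S
  obtain ⟨hTs, hT⟩ := (mem_minusG hab hQ).1 hT
  have hconj : S * T * S⁻¹ ∈ simSub hQ := (inferInstance : (sigHom hQ).ker.Normal).conj_mem T hTs S
  refine (mem_minusG hab hQ).2 ⟨hconj, ?_⟩
  obtain ⟨σ', hσ'⟩ := exists_ext (algebraMap F (QE a b)) (sigFun S)
  set S' := liftT (compat_qMinus (algebraMap F (QE a b)) m a b) σ' S hσ'
  change parityHom (polarNondeg_qe m hab) (finrank_qMinus_space m) (maxS_qe m hab)
    (bcHom (algebraMap F (QE a b)) (compat_qMinus _ m a b) hQ ⟨S * T * S⁻¹, hconj⟩) = 1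
  have e : bcHom (algebraMap F (QE a b)) (compat_qMinus _ m a b) hQ ⟨S * T * S⁻¹, hconj⟩ =
      S' * bcHom (algebraMap F (QE a b)) (compat_qMinus _ m a b) hQ ⟨T, hTs⟩ * S'⁻¹ := by
    rw [eq_mul_inv_iff_mul_eq]
    refine gamma_ext_rational (algebraMap F (QE a b)) ?_ fun w => ?_
    · refine (sigFun_unique _ (σ := σ') fun s v => ?_).trans (sigFun_unique _ (σ := σ') fun s v => ?_).symm
      · rw [gammaO_mul_apply, (semisim_spec _).smul, (semisim_spec _).smul, sigFun_bcHom, sigFun_liftT]
        rfl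
      · rw [gammaO_mul_apply, (semisim_spec _).smul, (semisim_spec _).smul, sigFun_bcHom, sigFun_liftT]
        rfl
    · rw [gammaO_mul_apply, gammaO_mul_apply, liftT_rational, bcHom_rational, bcHom_rational, liftT_rational,
        ← gammaO_mul_apply, ← gammaO_mul_apply, inv_mul_cancel_right]
  rw [e, map_mul, map_mul, map_inv, mul_right_comm, mul_inv_cancel, one_mul]
  exact hT⟩

end Minus

section Comap

variable [Fintype F]

/-- The inner-diagonal similitudes of plus type. -/
noncomputable def plusG {m : ℕ} (hQ : Pre (qPlus m F)) : Subgroup (gammaO (qPlus m F)) :=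
  simSub hQ ⊓ (parityHom hQ.nondeg (finrank_qPlus_space m) (maxS_xLin m)).ker

instance plusG_normal {m : ℕ} (hQ : Pre (qPlus m F)) : (plusG hQ).Normal := by
  haveI : (simSub hQ).Normal := (inferInstance : (sigHom hQ).ker.Normal)
  unfold plusG
  infer_instance

instance simSub_normal {Q : QuadraticForm F (ι → F)} (hQ : Pre Q) : (simSub hQ).Normal :=
  (inferInstance : (sigHom hQ).ker.Normal)

omit [Fintype F] in
theorem autSubgroupOf_eq {G H : Type*} [Group G] [Group H] (e : MulAut G ≃* H) (K : Subgroup H)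
    (P : (G ≃* G) → Prop) (h : ∀ x, P x ↔ e x ∈ K) : Cfsg.autSubgroupOf P = K.comap e.toMonoidHom :=
  closure_setOf_eq e K P h

theorem exists_matrix (hQ : Pre Q) {T : gammaO Q} (hT : T ∈ simSub hQ) :
    ∃ g : GL ι F, g ∈ Cfsg.Geo.quadSimilarityGroup (F := F) ⇑Q ∧ (∀ v, addT T v = (g : Matrix ι ι F) *ᵥ v) ∧
      ∀ β, Cfsg.IsInducedBySemilinearPOmega (⇑Q) g (RingEquiv.refl F) β ↔ autT Q hQ β = act Q T := by
  have hp := matOf_pair T
  rw [sigFun_of_simSub hQ hT] at hp
  have h1 : ∀ v, addT T v = (matOf T : Matrix ι ι F) *ᵥ v := fun v => by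
    have := matOf_mulVec T v
    rw [sigFun_of_simSub hQ hT] at this
    exact this.symm
  refine ⟨matOf T, isSemisimilarityPair_iff_simGroup.1 hp, h1, fun β => ?_⟩
  rw [induced_iff hQ hp]
  have e : semOf hp = T := gammaO_ext fun v => (h1 v).symm
  rw [e]

theorem inndiagOdd_eq {m : ℕ} (hQ : Pre (qOdd m F)) (hf : ⇑(qOdd m F) = Cfsg.quadFormOdd m F) :
    Cfsg.autSubgroupOf (fun β => Cfsg.IsSimilarityInducedAutPOmega (⇑(qOdd m F)) β) =
      ((simSub hQ).map (act _)).comap (autT _ hQ).toMonoidHom :=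
  autSubgroupOf_eq (autT _ hQ) _ _ (similarityInduced_iff hQ)

theorem inndiagPlus_eq {m : ℕ} (hQ : Pre (qPlus m F)) :
    Cfsg.autSubgroupOf (fun β => ∃ g : GL (Fin m ⊕ Fin m) F,
      g ∈ Cfsg.Geo.quadSimilarityGroup (F := F) ⇑(qPlus m F) ∧
      Cfsg.PreservesSingularClasses ⇑(qPlus m F) (g : Matrix (Fin m ⊕ Fin m) (Fin m ⊕ Fin m) F) ∧
      Cfsg.IsInducedBySemilinearPOmega ⇑(qPlus m F) g (RingEquiv.refl F) β) =
      ((plusG hQ).map (act _)).comap (autT _ hQ).toMonoidHom := by
  refine autSubgroupOf_eq (autT _ hQ) _ _ fun β => ⟨?_, ?_⟩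
  · rintro ⟨g, hg, hpres, hind⟩
    have hp := isSemisimilarityPair_iff_simGroup.2 hg
    refine ⟨semOf hp, ⟨sigHom_semOf hQ hp, ?_⟩, ((induced_iff hQ hp β).1 hind).symm⟩
    exact (preserves_iff hQ.nondeg (finrank_qPlus_space m) (maxS_xLin m) _ (semOf hp)
      (fun v => semOf_apply hp v)).1 hpres
  · rintro ⟨T, ⟨hT, hpar⟩, e⟩
    obtain ⟨g, hg, h1, h2⟩ := exists_matrix hQ hT
    exact ⟨g, hg, (preserves_iff hQ.nondeg (finrank_qPlus_space m) (maxS_xLin m) _ T h1).2 hpar, (h2 β).2 e.symm⟩

theorem algEquiv_coe {K L : Type*} [Field K] [Field L] [Algebra F K] [Algebra F L] (φ : K ≃ₐ[F] L) (s : F) :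
    φ.toRingEquiv.toRingHom (algebraMap F K s) = algebraMap F L s := φ.commutes s

theorem preservesMinus_iff {F : Type u} [Field F] [Fintype F] {m : ℕ} {a b : F} (hab : BinAniso a b)
    (hQ : Pre (qExt m (qBin a b))) {T : gammaO (qExt m (qBin a b))} (hT : T ∈ simSub hQ)
    (g : Matrix ((Fin m ⊕ Fin m) ⊕ Fin 2) ((Fin m ⊕ Fin m) ⊕ Fin 2) F) (hg : ∀ v, addT T v = g *ᵥ v) :
    Cfsg.PreservesSingularClassesMinus m a b g ↔ minusPar hab hQ ⟨T, hT⟩ = 1 := by
  haveI := qe_fact hab
  set T' := bcHom (algebraMap F (QE a b)) (compat_qMinus _ m a b) hQ ⟨T, hT⟩ with hT'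
  have hT'm : ∀ v, addT T' v = g.map (algebraMap F (QE a b)) *ᵥ v := fun v => DFunLike.congr_fun
    (semilinear_ext_rational (σ := RingEquiv.refl _) (A := (addT T').toAddMonoidHom)
      (B := (Matrix.toLin' (g.map (algebraMap F (QE a b)))).toAddMonoidHom)
      (fun s w => by
        change addT T' (s • w) = _
        rw [(semisim_spec T').smul, hT', sigFun_bcHom]
        rfl)
      (fun s w => by simp) (algebraMap F (QE a b)) fun w => by
        change addT T' (algebraMap F (QE a b) ∘ w) = g.map (algebraMap F (QE a b)) *ᵥ _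
        rw [hT', bcHom_rational, hg]
        exact funext fun i => RingHom.map_mulVec _ g w i) v
  have hiff := preserves_iff (polarNondeg_qe m hab) (finrank_qMinus_space m) (maxS_qe m hab) _ T' hT'm
  constructor
  · rintro ⟨K, hKf, hKa, hK, hpres⟩
    haveI : Module.Finite F K := Module.finite_of_finrank_eq_succ hK
    haveI : Finite K := Module.finite_of_finite F (M := K)
    haveI := Fintype.ofFinite K
    obtain ⟨φ⟩ := exists_algEquiv_of_finrank_two (QE a b) K (qe_finrank a b) hK
    set φ' : QE a b →+* K := φ.toRingEquiv.toRingHom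
    have hc : Compat φ' (qExt m (qBin (algebraMap F (QE a b) a) (algebraMap F (QE a b) b)))
        (qExt m (qBin (algebraMap F K a) (algebraMap F K b))) := by
      have h := compat_qMinus φ' m (algebraMap F (QE a b) a) (algebraMap F (QE a b) b)
      rwa [algEquiv_coe, algEquiv_coe] at h
    have hnd : PolarNondeg (qExt m (qBin (algebraMap F K a) (algebraMap F K b))) := by
      intro v hv
      have h0 : φ.toRingEquiv.symm ∘ v = 0 := polarNondeg_qe m hab _ fun u => φ'.injective (by
        rw [map_zero, ← hc.polar]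
        refine Eq.trans ?_ (hv (φ' ∘ u))
        congr 1
        exact funext fun i => φ.toRingEquiv.apply_symm_apply _)
      funext i
      simpa using congrFun h0 i
    haveI : Nonempty ((Fin m ⊕ Fin m) ⊕ Fin 2) := ⟨Sum.inr 0⟩
    have hσ : ∀ s, (RingEquiv.refl K) (φ' s) = φ' (sigFun T' s) := fun s => by
      rw [hT', sigFun_bcHom]; rfl
    set T'' := liftT hc (RingEquiv.refl K) T' hσ with hT''
    have hT''m : ∀ v, addT T'' v = g.map (algebraMap F K) *ᵥ v := fun v => DFunLike.congr_fun
      (semilinear_ext_rational (σ := RingEquiv.refl _) (A := (addT T'').toAddMonoidHom)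
        (B := (Matrix.toLin' (g.map (algebraMap F K))).toAddMonoidHom)
        (fun s w => by
          change addT T'' (s • w) = _
          rw [(semisim_spec T'').smul, hT'', sigFun_liftT]
          rfl)
        (fun s w => by simp) φ' fun w => by
          change addT T'' (φ' ∘ w) = g.map (algebraMap F K) *ᵥ _
          rw [hT'', liftT_rational, hT'm]
          refine funext fun i => (RingHom.map_mulVec φ' _ w i).trans ?_
          have e : (g.map (algebraMap F (QE a b))).map φ' = g.map (algebraMap F K) :=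
            Matrix.ext fun i j => algEquiv_coe φ _
          rw [e]) v
    have hMax : MaxS (qExt m (qBin (algebraMap F K a) (algebraMap F K b))) (m + 1) _ :=
      maxS_bcSub hc (maxS_qe m hab)
    rw [← coe_qExt_qBin] at hpres
    have h := (preserves_iff hnd (finrank_qMinus_space m) hMax _ T'' hT''m).1 hpres
    rw [hT'', parityHom_liftT hc (polarNondeg_qe m hab) hnd (finrank_qMinus_space m) _ (maxS_qe m hab) _ hσ] at h
    exact h
  · intro h
    refine ⟨QE a b, inferInstance, inferInstance, qe_finrank a b, ?_⟩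
    rw [← coe_qExt_qBin]
    exact hiff.2 h

theorem inndiagMinus_eq {F : Type u} [Field F] [Fintype F] {m : ℕ} {a b : F} (hab : BinAniso a b)
    (hQ : Pre (qExt m (qBin a b))) :
    Cfsg.autSubgroupOf (fun β => ∃ g : GL ((Fin m ⊕ Fin m) ⊕ Fin 2) F,
      g ∈ Cfsg.Geo.quadSimilarityGroup (F := F) ⇑(qExt m (qBin a b)) ∧
      Cfsg.PreservesSingularClassesMinus m a b (g : Matrix ((Fin m ⊕ Fin m) ⊕ Fin 2) ((Fin m ⊕ Fin m) ⊕ Fin 2) F) ∧
      Cfsg.IsInducedBySemilinearPOmega ⇑(qExt m (qBin a b)) g (RingEquiv.refl F) β) =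
      ((minusG hab hQ).map (act _)).comap (autT _ hQ).toMonoidHom := by
  refine autSubgroupOf_eq (autT _ hQ) _ _ fun β => ⟨?_, ?_⟩
  · rintro ⟨g, hg, hpres, hind⟩
    have hp := isSemisimilarityPair_iff_simGroup.2 hg
    have hs : semOf hp ∈ simSub hQ := sigHom_semOf hQ hp
    refine ⟨semOf hp, (mem_minusG hab hQ).2 ⟨hs, ?_⟩, ((induced_iff hQ hp β).1 hind).symm⟩
    exact (preservesMinus_iff hab hQ hs _ fun v => semOf_apply hp v).1 hpres
  · rintro ⟨T, hT, e⟩
    obtain ⟨hTs, hpar⟩ := (mem_minusG hab hQ).1 hT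
    obtain ⟨g, hg, h1, h2⟩ := exists_matrix hQ hTs
    exact ⟨g, hg, (preservesMinus_iff hab hQ hTs _ h1).2 hpar, (h2 β).2 e.symm⟩

end Comap

end CfsgLib.POAut
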