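/-
The common properties of the inner-diagonal similitude groups.
-/
import Cfsg.Agent.Lib.KnownSimple.POAut.Inndiag
import Cfsg.Agent.Lib.KnownSimple.POAut.Transfer

set_option autoImplicit false

namespace CfsgLib.POAut

open CfsgLib.Classical CfsgLib.Classical22

variable {F : Type*} [Field F] [Fintype F]

/-- A normal subgroup of index at most two of the similitudes containing the even isometries. -/
structure Diag {ι : Type} [Fintype ι] [DecidableEq ι] {Q : QuadraticForm F (ι → F)} (hQ : Pre Q) where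
  /-- The group. -/
  G : Subgroup (gammaO Q)
  normal : G.Normal
  le_sim : G ≤ simSub hQ
  scal_mem : ∀ c, scal Q c ∈ G
  eich_mem : ∀ g ∈ eichGroup Q, qIncl Q g ∈ G
  refl_pair : ∀ {u v : ι → F} (hu : Q u ≠ 0) (hv : Q v ≠ 0), qIncl Q (qRefl Q hu) * qIncl Q (qRefl Q hv) ∈ G
  adjust : ∀ k ∈ simSub hQ, ∀ {v : ι → F} (hv : Q v ≠ 0), k ∈ G ∨ k * qIncl Q (qRefl Q hv) ∈ G

theorem zmod2_cases (x : Multiplicative (ZMod 2)) : x = 1 ∨ x = Multiplicative.ofAdd 1 := by
  revert x
  decide

/-- The similitudes of odd-dimensional forms. -/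
noncomputable def oddDiag {ι : Type} [Fintype ι] [DecidableEq ι] {Q : QuadraticForm F (ι → F)} (hQ : Pre Q) :
    Diag hQ where
  G := simSub hQ
  normal := simSub_normal hQ
  le_sim := le_rfl
  scal_mem := scal_mem_simSub hQ
  eich_mem g _ := qIncl_mem_simSub hQ g
  refl_pair _ _ := mul_mem (qIncl_mem_simSub hQ _) (qIncl_mem_simSub hQ _)
  adjust _ hk _ _ := Or.inl hk

/-- The plus-type group. -/
noncomputable def plusDiag {m : ℕ} (hQ : Pre (qPlus m F)) : Diag hQ where
  G := plusG hQ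
  normal := plusG_normal hQ
  le_sim := inf_le_left
  scal_mem c := ⟨scal_mem_simSub hQ c, MonoidHom.mem_ker.2 (parityHom_scal _ _ _ c)⟩
  eich_mem g hg := ⟨qIncl_mem_simSub hQ g, MonoidHom.mem_ker.2
    (parityHom_eich _ _ _ (by have := hQ.seven; omega) hg)⟩
  refl_pair hu hv := ⟨mul_mem (qIncl_mem_simSub hQ _) (qIncl_mem_simSub hQ _), MonoidHom.mem_ker.2 (by
    rw [map_mul, parityHom_refl, parityHom_refl]
    rfl)⟩
  adjust k hk v hv := by
    rcases zmod2_cases (parityHom hQ.nondeg (finrank_qPlus_space m) (maxS_xLin m) k) with h | h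
    · exact Or.inl ⟨hk, MonoidHom.mem_ker.2 h⟩
    · refine Or.inr ⟨mul_mem hk (qIncl_mem_simSub hQ _), MonoidHom.mem_ker.2 ?_⟩
      rw [map_mul, h, parityHom_refl]
      rfl

section Minus

variable {m : ℕ} {a b : F}

theorem minusPar_refl (hab : BinAniso a b) (hQ : Pre (qExt m (qBin a b))) {v : (Fin m ⊕ Fin m) ⊕ Fin 2 → F}
    (hv : qExt m (qBin a b) v ≠ 0) :
    minusPar hab hQ ⟨qIncl _ (qRefl _ hv), qIncl_mem_simSub hQ _⟩ = Multiplicative.ofAdd 1 := by
  haveI := qe_fact hab
  set f := algebraMap F (QE a b)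
  have hc := compat_qMinus f m a b
  have hv' : qExt m (qBin (f a) (f b)) (f ∘ v) ≠ 0 := by
    rw [hc]
    exact (map_ne_zero f).2 hv
  change parityHom (polarNondeg_qe m hab) (finrank_qMinus_space m) (maxS_qe m hab)
    (bcHom f hc hQ ⟨qIncl _ (qRefl _ hv), qIncl_mem_simSub hQ _⟩) = _
  have e : bcHom f hc hQ ⟨qIncl _ (qRefl _ hv), qIncl_mem_simSub hQ _⟩ = qIncl _ (qRefl _ hv') := by
    refine gamma_ext_rational f ?_ fun w => ?_
    · rw [sigFun_bcHom]
      exact (sigFun_unique (qIncl (qExt m (qBin (f a) (f b))) (qRefl _ hv')) (σ := RingEquiv.refl (QE a b))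
        fun s u => (qRefl _ hv').1.map_smul s u).symm
    · rw [bcHom_rational, qIncl_apply, qIncl_apply, qRefl_apply, qRefl_apply, hc.polar]
      funext i
      simp [hc v, map_sub, map_mul]
  rw [e, parityHom_refl]

theorem minusPar_scal (hab : BinAniso a b) (hQ : Pre (qExt m (qBin a b))) (c : Fˣ) :
    minusPar hab hQ ⟨scal _ c, scal_mem_simSub hQ c⟩ = 1 := by
  haveI := qe_fact hab
  set f := algebraMap F (QE a b)
  have hc := compat_qMinus f m a b
  change parityHom (polarNondeg_qe m hab) (finrank_qMinus_space m) (maxS_qe m hab)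
    (bcHom f hc hQ ⟨scal _ c, scal_mem_simSub hQ c⟩) = _
  have e : bcHom f hc hQ ⟨scal _ c, scal_mem_simSub hQ c⟩ = scal _ (Units.map f.toMonoidHom c) := by
    refine gamma_ext_rational f ?_ fun w => ?_
    · rw [sigFun_bcHom]
      exact (sigFun_unique _ fun s u => by rw [scal_apply, scal_apply, smul_comm]; rfl).symm
    · rw [bcHom_rational, scal_apply, scal_apply]
      exact funext fun i => map_mul f _ _
  rw [e, parityHom_scal]

/-- The minus-type group. -/
noncomputable def minusDiag (hab : BinAniso a b) (hQ : Pre (qExt m (qBin a b))) : Diag hQ where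
  G := minusG hab hQ
  normal := minusG_normal hab hQ
  le_sim := by
    rintro _ ⟨T, -, rfl⟩
    exact T.2
  scal_mem c := (mem_minusG hab hQ).2 ⟨scal_mem_simSub hQ c, minusPar_scal hab hQ c⟩
  eich_mem g hg := by
    refine (mem_minusG hab hQ).2 ⟨qIncl_mem_simSub hQ g, ?_⟩
    rw [eichGroup_eq_commutator _ hQ.nondeg (by have := hQ.seven; omega)] at hg
    exact MonoidHom.mem_ker.1 (Abelianization.commutator_subset_ker
      ((minusPar hab hQ).comp ((qIncl (qExt m (qBin a b))).codRestrict (simSub hQ) (qIncl_mem_simSub hQ))) hg)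
  refl_pair hu hv := (mem_minusG hab hQ).2 ⟨mul_mem (qIncl_mem_simSub hQ _) (qIncl_mem_simSub hQ _), by
    change minusPar hab hQ (⟨_, qIncl_mem_simSub hQ _⟩ * ⟨_, qIncl_mem_simSub hQ _⟩) = 1
    rw [map_mul, minusPar_refl hab hQ hu, minusPar_refl hab hQ hv]
    rfl⟩
  adjust k hk v hv := by
    rcases zmod2_cases (minusPar hab hQ ⟨k, hk⟩) with h | h
    · exact Or.inl ((mem_minusG hab hQ).2 ⟨hk, h⟩)
    · refine Or.inr ((mem_minusG hab hQ).2 ⟨mul_mem hk (qIncl_mem_simSub hQ _), ?_⟩)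
      change minusPar hab hQ (⟨k, hk⟩ * ⟨_, qIncl_mem_simSub hQ _⟩) = 1
      rw [map_mul, h, minusPar_refl hab hQ hv]
      rfl

end Minus

end CfsgLib.POAut
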