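/-
Field-type semisimilarities: conjugacy, centralisers and splitting of classes in the inner-diagonal groups.
-/
import Cfsg.Agent.Lib.KnownSimple.POAut.Descent
import Cfsg.Agent.Lib.KnownSimple.POAut.Diag
import Cfsg.Agent.Lib.KnownSimple.PSLAut.FieldType
import Cfsg.Agent.Lib.Classical.QuadCentre

set_option autoImplicit false

namespace CfsgLib.POAut

open CfsgLib.Classical CfsgLib.Classical22
open CfsgLib.PSLAut (normHom normHom_ker nuHom nuHom_apply)

variable {F : Type*} [Field F] [Fintype F] {ι : Type} [Fintype ι] [DecidableEq ι] {Q : QuadraticForm F (ι → F)}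
variable {K : Type*} [Field K] {f : K →+* F} {σ : F ≃+* F}
variable {J : Type} [Fintype J] [DecidableEq J] {P₀ : QuadraticForm K (J → K)} {P : QuadraticForm F (J → F)}
variable [Nonempty J] (hcP : Compat f P₀ P) (hf : ∀ x, σ (f x) = f x)

/-- A transported standard field automorphism. -/
noncomputable def fieldX (S : Sim P Q) : gammaO Q := S.gam (phi f σ hcP hf)

omit [Fintype F] in
theorem phi_pow_apply (k : ℕ) (v : J → F) : addT (phi f σ hcP hf ^ k) v = (σ ^ k : F ≃+* F) ∘ v := by
  induction k generalizing v with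
  | zero => rw [pow_zero, pow_zero]; rfl
  | succ k ih =>
    rw [pow_succ', gammaO_mul_apply, ih, phi_apply, pow_succ']
    rfl

omit [Fintype F] in
theorem phi_pow_eq_one {r : ℕ} (hσ : orderOf σ = r) : phi f σ hcP hf ^ r = 1 := gammaO_ext fun v => by
  rw [phi_pow_apply, ← hσ, pow_orderOf_eq_one]
  rfl

omit [Fintype F] in
theorem fieldX_pow_eq_one (S : Sim P Q) {r : ℕ} (hσ : orderOf σ = r) : fieldX hcP hf S ^ r = 1 := by
  rw [fieldX, ← map_pow, phi_pow_eq_one hcP hf hσ, map_one]

variable (hQ : Pre Q)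

theorem sigHom_fieldX (S : Sim P Q) : sigHom hQ (fieldX hcP hf S) = σ := by
  haveI := nontrivial_of_good hQ
  exact (S.sigFun_gam _).trans (sigFun_phi hcP hf)

theorem orderOf_act {T : gammaO Q} {r : ℕ} (hr : r.Prime) (hne : sigHom hQ T ≠ 1) (hpow : ∃ c, T ^ r = scal Q c) :
    orderOf (act Q T) = r := by
  haveI := Fact.mk hr
  refine orderOf_eq_prime ?_ fun h => hne ?_
  · obtain ⟨c, hc⟩ := hpow
    rw [← map_pow, hc, act_scal]
  · obtain ⟨c, rfl⟩ := exists_scal_of_act hQ h
    exact sigHom_scal hQ c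

omit [Fintype F] in
/-- Rational reflections commute with the standard field automorphism. -/
theorem commute_refl_phi {v : J → K} (hv : P (f ∘ v) ≠ 0) :
    Commute (phi f σ hcP hf) (qIncl P (qRefl P hv)) := by
  refine gammaO_ext fun w => ?_
  rw [gammaO_mul_apply, gammaO_mul_apply, qIncl_apply, qIncl_apply, phi_apply, phi_apply, qRefl_apply, qRefl_apply]
  have hσv : σ ∘ (f ∘ v) = f ∘ v := funext fun i => hf (v i)
  have hpol : ∀ u : J → F, QuadraticMap.polar P (σ ∘ u) (f ∘ v) = σ (QuadraticMap.polar P u (f ∘ v)) := fun u => by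
    conv_lhs => rw [← hσv, ← phi_apply hcP hf, ← phi_apply hcP hf]
    have h1 : mulFac (phi f σ hcP hf) = 1 := by
      have h := (semisim_spec (phi f σ hcP hf)).quad (f ∘ v)
      rw [phi_rational, sigFun_phi, hcP, hf, ← hcP] at h
      exact mul_right_cancel₀ hv (h.symm.trans (one_mul _).symm)
    rw [(semisim_spec (phi f σ hcP hf)).polar, h1, one_mul, sigFun_phi]
  funext i
  simp only [Function.comp_apply, Pi.sub_apply, Pi.smul_apply, smul_eq_mul, hpol, map_sub, map_mul, map_inv₀,
    hcP v, hf]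

omit [Fintype F] in
/-- The linear part of a similitude between the models. -/
theorem exists_rational_vector (hcP : Compat f P₀ P) (hP₀ : PolarNondeg P₀) : ∃ v : J → K, P (f ∘ v) ≠ 0 := by
  by_contra h
  push Not at h
  obtain ⟨j⟩ := ‹Nonempty J›
  have h0 : ∀ v, P₀ v = 0 := fun v => (map_eq_zero f).1 ((hcP v).symm.trans (h v))
  exact one_ne_zero (α := K) (by
    simpa using congrFun (hP₀ (Pi.single j 1) fun u => by simp [QuadraticMap.polar, h0]) j)

variable (D : Diag hQ)

/-- Two transported standard field automorphisms are conjugate in the inner-diagonal group. -/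
theorem exists_conj_fieldX (hP₀ : PolarNondeg P₀) (S₁ S₂ : Sim P Q) :
    ∃ k ∈ D.G, fieldX hcP hf S₂ = k * fieldX hcP hf S₁ * k⁻¹ := by
  set R := S₁.symm.trans S₂
  have hlin : IsSemisim Q (RingEquiv.refl F) R.μ R.e.toAddEquiv :=
    ⟨fun s v => R.e.map_smul s v, fun v => R.quad v, R.ne⟩
  set k := mkGamma R.e.toAddEquiv hlin
  have hk : k ∈ simSub hQ := MonoidHom.mem_ker.2 (sigHom_eq hQ k fun s v => R.e.map_smul s v)
  have hconj : fieldX hcP hf S₂ * k = k * fieldX hcP hf S₁ := gammaO_ext fun w => by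
    obtain ⟨v, rfl⟩ := S₁.e.surjective w
    rw [gammaO_mul_apply, gammaO_mul_apply, fieldX, fieldX, Sim.gam_apply,
      show ∀ u, addT k (S₁.e u) = S₂.e u from fun u => by
        change S₂.e (S₁.e.symm (S₁.e u)) = _
        rw [S₁.e.symm_apply_apply],
      show ∀ u, addT k (S₁.e u) = S₂.e u from fun u => by
        change S₂.e (S₁.e.symm (S₁.e u)) = _
        rw [S₁.e.symm_apply_apply],
      Sim.gam_apply]
  obtain ⟨v, hv⟩ := exists_rational_vector hcP hP₀
  have hv' : Q (S₁.e (f ∘ v)) ≠ 0 := by rw [S₁.quad]; exact mul_ne_zero S₁.ne hv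
  rcases D.adjust k hk hv' with h | h
  · exact ⟨k, h, by rw [← hconj, mul_inv_cancel_right]⟩
  · refine ⟨_, h, ?_⟩
    have hc : fieldX hcP hf S₁ * qIncl Q (qRefl Q hv') = qIncl Q (qRefl Q hv') * fieldX hcP hf S₁ := by
      have := congrArg S₁.gam (commute_refl_phi hcP hf hv).eq
      rw [map_mul, map_mul, Sim.gam_qIncl, Sim.aut_refl] at this
      exact this
    rw [mul_assoc k, ← hc, ← mul_assoc k, ← hconj, mul_assoc (fieldX hcP hf S₂), mul_inv_cancel_right]

theorem commute_scal_of_sim {k : gammaO Q} (hk : k ∈ simSub hQ) (c : Fˣ) : k * scal Q c = scal Q c * k := by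
  rw [mul_scal, sigFun_of_simSub hQ hk]
  rfl

/-- Models of the same type are conjugate. -/
theorem exists_conj_model (hP₀ : PolarNondeg P₀) {T₁ T₂ : gammaO Q}
    (h₁ : ∃ (S : Sim P Q) (c : Fˣ), T₁ = scal Q c * fieldX hcP hf S)
    (h₂ : ∃ (S : Sim P Q) (c : Fˣ), T₂ = scal Q c * fieldX hcP hf S) :
    Cfsg.IsConjUnder (D.G.map (act Q)) (act Q T₁) (act Q T₂) := by
  obtain ⟨S₁, c₁, rfl⟩ := h₁
  obtain ⟨S₂, c₂, rfl⟩ := h₂
  obtain ⟨k, hk, e⟩ := exists_conj_fieldX hcP hf hQ D hP₀ S₁ S₂
  exact ⟨act Q k, ⟨k, hk, rfl⟩, by simp [e, act_scal]⟩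

/-- Elements of order `r` in the coset of a field-type element. -/
theorem orderOf_iff_conj (hP₀ : PolarNondeg P₀) {T A : gammaO Q} {r : ℕ} (hr : r.Prime) (hσ : orderOf σ = r)
    (hA : A ∈ D.G) (hT : sigHom hQ T = σ) (hpow : ∃ c, T ^ r = scal Q c)
    (hmodel : ∀ T' : gammaO Q, sigHom hQ T' = σ → (∃ c, T' ^ r = scal Q c) → T' * T⁻¹ ∈ D.G →
      ∃ (S : Sim P Q) (c : Fˣ), T' = scal Q c * fieldX hcP hf S) :
    orderOf (act Q A * act Q T) = r ↔ Cfsg.IsConjUnder (D.G.map (act Q)) (act Q T) (act Q A * act Q T) := by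
  have hne : sigHom hQ T ≠ 1 := by
    rw [hT]
    rintro rfl
    rw [orderOf_one] at hσ
    exact hr.one_lt.ne hσ
  constructor
  · intro h
    rw [← map_mul] at h ⊢
    refine exists_conj_model hcP hf hQ D hP₀
      (hmodel T hT hpow (by rw [mul_inv_cancel]; exact one_mem _)) (hmodel _ ?_ ?_ ?_)
    · rw [map_mul, MonoidHom.mem_ker.1 (D.le_sim hA), one_mul, hT]
    · obtain ⟨c, hc⟩ := exists_scal_of_act hQ (T := (A * T) ^ r) (by rw [map_pow, ← h, pow_orderOf_eq_one])
      exact ⟨c, hc⟩
    · rwa [mul_inv_cancel_right]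
  · rintro ⟨g, -, e⟩
    rw [e, show g * act Q T * g⁻¹ = MulAut.conj g (act Q T) from rfl, MulEquiv.orderOf_eq]
    exact orderOf_act hQ hr hne hpow

/-- The stabiliser of a field-type element in the similitudes. -/
theorem commute_act_iff (S : Sim P Q) {r : ℕ} (hσ : orderOf σ = r) {h : gammaO Q} (hh : h ∈ simSub hQ) :
    act Q h * act Q (fieldX hcP hf S) = act Q (fieldX hcP hf S) * act Q h ↔
      ∃ y : Fˣ, Commute (scal Q y * h) (fieldX hcP hf S) := by
  haveI : Nonempty ι := by
    by_contra hne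
    haveI := not_nonempty_iff.1 hne
    have := hQ.seven
    simp [Module.finrank_pi] at this
  set X := fieldX hcP hf S
  have hX : sigFun X = σ := sigHom_fieldX hcP hf hQ S
  constructor
  · intro e
    rw [← map_mul, ← map_mul] at e
    obtain ⟨c, hc⟩ := (act_eq_iff hQ).1 e.symm
    have key : ∀ k, X ^ k * h = scal Q (normHom σ k c) * (h * X ^ k) := by
      intro k
      induction k with
      | zero => rw [pow_zero, one_mul, mul_one, show normHom σ 0 c = 1 from rfl, map_one, one_mul]
      | succ k ih =>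
        rw [pow_succ', mul_assoc, ih, ← mul_assoc X, mul_scal, hX, mul_assoc, ← mul_assoc X h, hc, mul_assoc,
          mul_assoc, ← mul_assoc (scal Q _) (scal Q c), ← map_mul,
          show normHom σ (k + 1) c = c * Units.map σ.toRingHom.toMonoidHom (normHom σ k c) from rfl, mul_comm c]
    have h1 := key r
    rw [fieldX_pow_eq_one hcP hf S hσ, one_mul, mul_one] at h1
    have hN : normHom σ r c = 1 := scal_injective (Q := Q) ((map_one (scal Q)).symm ▸
      mul_right_cancel (b := h) (h1.symm.trans (one_mul h).symm))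
    obtain ⟨y, hy⟩ := normHom_ker hσ (MonoidHom.mem_ker.2 hN)
    refine ⟨y, ?_⟩
    rw [nuHom_apply] at hy
    show scal Q y * h * X = X * (scal Q y * h)
    rw [← mul_assoc X, mul_scal, hX, mul_assoc (scal Q _) X, hc, ← mul_assoc, ← map_mul, ← hy, mul_div_cancel, mul_assoc]
  · rintro ⟨y, hy⟩
    have := congrArg (act Q) hy.eq
    simpa [act_scal] using this

section Centraliser

variable [Fintype K] (hP : Pre P) (hP₀ : Pre P₀)

/-- Linear semisimilarities commuting with the field automorphism are rational. -/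
theorem exists_bcHom_eq (hfix : ∀ x : F, σ x = x ↔ x ∈ Set.range f) {h : gammaO P} (hh : h ∈ simSub hP)
    (hcomm : Commute h (phi f σ hcP hf)) : ∃ g : simSub hP₀, bcHom f hcP hP₀ g = h := by
  classical
  have hrat : ∀ w : J → K, ∀ i, addT h (f ∘ w) i ∈ Set.range f := fun w i => by
    have h1 := congrArg (fun T : gammaO P => addT T (f ∘ w)) hcomm.eq
    rw [gammaO_mul_apply, gammaO_mul_apply, phi_rational, phi_apply] at h1
    exact (hfix _).1 (congrFun h1.symm i)
  choose g hg using hrat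
  have hsg : ∀ s v, addT h (s • v) = s • addT h v := fun s v => by
    rw [(semisim_spec h).smul, linear_of_simSub hP hh]
  let G₁ : (J → K) →ₗ[K] (J → K) :=
    { toFun := g
      map_add' := fun v w => funext fun i => f.injective (by
        rw [hg, Pi.add_apply, map_add, hg, hg, comp_add', map_add]
        rfl)
      map_smul' := fun s v => funext fun i => f.injective (by
        rw [hg, RingHom.id_apply, Pi.smul_apply, smul_eq_mul, map_mul, hg, comp_smul_hom, hsg]
        rfl) }
  have hGf : ∀ w, f ∘ G₁ w = addT h (f ∘ w) := fun w => funext fun i => hg w i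
  let Ge : (J → K) ≃ₗ[K] (J → K) := LinearEquiv.ofInjectiveEndo G₁ fun v w e =>
    funext fun i => f.injective (congrFun ((addT h).injective ((hGf v).symm.trans
      ((congrArg (f ∘ ·) e).trans (hGf w)))) i)
  obtain ⟨v₀, hv₀⟩ := exists_rational_vector hcP hP₀.nondeg
  have hv₀' : P₀ v₀ ≠ 0 := fun e => hv₀ (by rw [hcP, e, map_zero])
  set d := P₀ (G₁ v₀) / P₀ v₀
  have hfd : f d = mulFac h := by
    rw [map_div₀, ← hcP, ← hcP, hGf, (semisim_spec h).quad, linear_of_simSub hP hh, mul_div_cancel_right₀ _ hv₀]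
  have hsim : IsSemisim P₀ (RingEquiv.refl K) d Ge.toAddEquiv :=
    ⟨fun s v => Ge.map_smul s v, fun v => f.injective (by
      change f (P₀ (G₁ v)) = f (d * P₀ v)
      rw [map_mul, hfd, ← hcP, ← hcP, hGf, (semisim_spec h).quad, linear_of_simSub hP hh]),
      fun e => (semisim_spec h).ne (by rw [← hfd, e, map_zero])⟩
  refine ⟨⟨mkGamma Ge.toAddEquiv hsim, MonoidHom.mem_ker.2 (sigHom_eq hP₀ _ fun s v => Ge.map_smul s v)⟩, ?_⟩
  refine gamma_ext_rational f ?_ fun w => ?_
  · rw [sigFun_bcHom, sigFun_of_simSub hP hh]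
  · rw [bcHom_rational]
    exact hGf w

theorem commute_bcHom (g : simSub hP₀) : Commute (bcHom f hcP hP₀ g) (phi f σ hcP hf) := by
  refine gamma_ext_rational f ?_ fun w => ?_
  · refine (sigFun_unique _ (σ := σ) fun s v => ?_).trans (sigFun_unique _ (σ := σ) fun s v => ?_).symm
    · rw [gammaO_mul_apply, (semisim_spec _).smul, (semisim_spec _).smul, sigFun_bcHom, sigFun_phi]
      rfl
    · rw [gammaO_mul_apply, (semisim_spec _).smul, (semisim_spec _).smul, sigFun_bcHom, sigFun_phi]
      rfl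
  · rw [gammaO_mul_apply, gammaO_mul_apply, phi_rational, bcHom_rational, phi_rational]

/-- The rational similitudes, carried to the space. -/
noncomputable def liftS (S : Sim P Q) : simSub hP₀ →* gammaO Q :=
  S.gam.toMonoidHom.comp (bcHom f hcP hP₀)

theorem liftS_mem_simSub (S : Sim P Q) (g : simSub hP₀) : liftS hcP hP₀ S g ∈ simSub hQ := by
  haveI := nontrivial_of_good hQ
  exact MonoidHom.mem_ker.2 ((S.sigFun_gam _).trans (sigFun_bcHom f hcP hP₀ g))

theorem commute_liftS (S : Sim P Q) (g : simSub hP₀) : Commute (liftS hcP hP₀ S g) (fieldX hcP hf S) :=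
  (commute_bcHom hcP hf hP₀ g).map S.gam

theorem exists_liftS_eq (hfix : ∀ x : F, σ x = x ↔ x ∈ Set.range f) (hP : Pre P) (S : Sim P Q) {h : gammaO Q}
    (hh : h ∈ simSub hQ) (hcomm : Commute h (fieldX hcP hf S)) : ∃ g, liftS hcP hP₀ S g = h := by
  haveI := nontrivial_of_good hP
  have h1 : S.gam.symm h ∈ simSub hP := MonoidHom.mem_ker.2 (by
    rw [← S.sigHom_gam hP hQ, MulEquiv.apply_symm_apply]
    exact hh)
  obtain ⟨g, hg⟩ := exists_bcHom_eq hcP hf hP hP₀ hfix h1 (by
    have h2 := hcomm.map S.gam.symm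
    rwa [fieldX, MulEquiv.symm_apply_apply] at h2)
  exact ⟨g, by rw [liftS, MonoidHom.comp_apply, hg]; exact S.gam.apply_symm_apply h⟩

/-- The centraliser in the inner-diagonal group is the group over the fixed field. -/
theorem centralizer_equiv {r : ℕ} (hσ : orderOf σ = r) (hfix : ∀ x : F, σ x = x ↔ x ∈ Set.range f) (hP : Pre P)
    (S : Sim P Q) (G₀ : Subgroup (gammaO P₀)) (hG₀ : G₀ ≤ simSub hP₀)
    (hcorr : ∀ g : simSub hP₀, liftS hcP hP₀ S g ∈ D.G ↔ g.1 ∈ G₀) :
    Nonempty (↥(D.G.map (act Q) ⊓ Subgroup.centralizer {act Q (fieldX hcP hf S)}) ≃*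
      ↥(G₀.map (act P₀))) := by
  let incl : G₀ →* simSub hP₀ := Subgroup.inclusion hG₀
  let Ψ : G₀ →* MulAut (TQ Q) := (act Q).comp ((liftS hcP hP₀ S).comp incl)
  let Ψ₀ : G₀ →* MulAut (TQ P₀) := (act P₀).comp G₀.subtype
  have hrange : Ψ.range = D.G.map (act Q) ⊓ Subgroup.centralizer {act Q (fieldX hcP hf S)} := by
    apply le_antisymm
    · rintro _ ⟨g, rfl⟩
      refine ⟨⟨_, (hcorr (incl g)).2 g.2, rfl⟩, Subgroup.mem_centralizer_singleton_iff.2 ?_⟩
      exact ((commute_liftS hcP hf hP₀ S (incl g)).map (act Q)).eq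
    · rintro _ ⟨⟨h, hh, rfl⟩, hc⟩
      obtain ⟨y, hy⟩ := (commute_act_iff hcP hf hQ S hσ (D.le_sim hh)).1
        (Subgroup.mem_centralizer_singleton_iff.1 hc)
      obtain ⟨g, hg⟩ := exists_liftS_eq hcP hf hQ hP₀ hfix hP S
        (mul_mem (scal_mem_simSub hQ y) (D.le_sim hh)) hy
      refine ⟨⟨g.1, (hcorr g).1 (hg ▸ mul_mem (D.scal_mem y) hh)⟩, ?_⟩
      change act Q (liftS hcP hP₀ S g) = _
      rw [hg, map_mul, act_scal, one_mul]
  have hrange₀ : Ψ₀.range = G₀.map (act P₀) := by
    rw [MonoidHom.range_comp, Subgroup.range_subtype]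
  have hker : Ψ.ker = Ψ₀.ker := by
    ext g
    haveI : Nonempty ι := by
      by_contra hne
      haveI := not_nonempty_iff.1 hne
      have := hQ.seven
      simp [Module.finrank_pi] at this
    simp only [MonoidHom.mem_ker]
    constructor
    · intro h
      obtain ⟨c, hc⟩ := exists_scal_of_act hQ h
      have h1 : bcHom f hcP hP₀ (incl g) = scal P c := S.gam.injective (hc.trans (S.gam_scal c).symm)
      obtain ⟨v, hv⟩ := exists_rational_vector hcP hP₀.nondeg
      obtain ⟨j, hj⟩ : ∃ j, v j ≠ 0 := by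
        by_contra h0
        push Not at h0
        exact hv (by rw [show v = 0 from funext h0]; simp)
      have h2 : ∀ w i, f (addT g.1 w i) = c * f (w i) := fun w i => by
        have h3 := congrFun (congrArg (fun T : gammaO P => addT T (f ∘ w)) h1) i
        rw [bcHom_rational, scal_apply] at h3
        exact h3
      set d := addT g.1 v j / v j
      have hd : f d = c := by rw [map_div₀, h2, mul_div_cancel_right₀ _ ((map_ne_zero f).2 hj)]
      have hd0 : d ≠ 0 := fun e => c.ne_zero (by rw [← hd, e, map_zero])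
      change act P₀ g.1 = 1
      rw [show g.1 = scal P₀ (Units.mk0 d hd0) from gammaO_ext fun w => funext fun i => f.injective (by
        rw [h2, scal_apply, Pi.smul_apply, Units.val_mk0, smul_eq_mul, map_mul, hd]), act_scal]
    · intro h
      obtain ⟨c, hc⟩ := exists_scal_of_act hP₀ (T := g.1) h
      change act Q (S.gam (bcHom f hcP hP₀ (incl g))) = 1
      have h1 : bcHom f hcP hP₀ (incl g) = scal P (Units.map f.toMonoidHom c) := by
        refine gamma_ext_rational f ?_ fun w => ?_
        · rw [sigFun_bcHom]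
          exact (sigFun_unique _ fun s u => by rw [scal_apply, scal_apply, smul_comm]; rfl).symm
        · rw [bcHom_rational, show (incl g).1 = g.1 from rfl, hc, scal_apply, scal_apply]
          exact funext fun i => map_mul f _ _
      rw [h1, S.gam_scal, act_scal]
  exact ⟨(MulEquiv.subgroupCongr hrange).symm.trans ((QuotientGroup.quotientKerEquivRange Ψ).symm.trans
    ((QuotientGroup.quotientMulEquivOfEq hker).trans
      ((QuotientGroup.quotientKerEquivRange Ψ₀).trans (MulEquiv.subgroupCongr hrange₀))))⟩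

end Centraliser

/-! ### Splitting -/

/-- The splitting number as an index. -/
theorem splitCount_eq (S : Sim P Q) :
    Cfsg.splitClassCount (D.G.map (act Q)) (Cfsg.Inn (TQ Q)) (act Q (fieldX hcP hf S)) =
      (((Subgroup.centralizer {act Q (fieldX hcP hf S)}).comap ((act Q).comp D.G.subtype)) ⊔
        ((eichGroup Q).map (qIncl Q)).subgroupOf D.G).index := by
  haveI := D.normal
  haveI : (((eichGroup Q).map (qIncl Q)).subgroupOf D.G).Normal := by
    refine ⟨fun n hn g => ?_⟩
    obtain ⟨e, he, hne⟩ := Subgroup.mem_subgroupOf.1 hn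
    refine Subgroup.mem_subgroupOf.2 ⟨_, (conjElt g.1 ⟨e, he⟩).2, ?_⟩
    rw [Subgroup.coe_mul, Subgroup.coe_mul, Subgroup.coe_inv, eq_mul_inv_iff_mul_eq, ← hne]
    exact gammaO_ext fun v => (conjElt_spec g.1 ⟨e, he⟩ v).symm
  rw [← CfsgLib.PSLAut.splitClassCount_eq_index]
  congr 1
  · rw [MonoidHom.range_comp, Subgroup.range_subtype]
  · rw [inn_eq, ← Subgroup.map_map, Subgroup.subgroupOf_map_subtype, inf_eq_left.2]
    rintro _ ⟨e, he, rfl⟩
    exact D.eich_mem e he

end CfsgLib.POAut
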