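/-
From automorphisms of the carrier to semisimilarities; descent types.
-/
import Cfsg.Agent.Lib.KnownSimple.POAut.FieldClass
import Cfsg.Agent.Lib.KnownSimple.POAut.Coords

set_option autoImplicit false

namespace CfsgLib.POAut

open CfsgLib.Classical CfsgLib.Classical22

section Iso

variable {X Y : Type*} [Group X] [Group Y] (e : X ≃* Y)

theorem isConjUnder_comap_iff (H : Subgroup Y) (x y : X) :
    Cfsg.IsConjUnder (H.comap e.toMonoidHom) x y ↔ Cfsg.IsConjUnder H (e x) (e y) := by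
  constructor
  · rintro ⟨h, hh, rfl⟩
    exact ⟨e h, hh, by simp⟩
  · rintro ⟨h, hh, he⟩
    exact ⟨e.symm h, by simpa using hh, e.injective (by simp [he])⟩

theorem splitClassCount_comap (H K : Subgroup Y) (x : X) :
    Cfsg.splitClassCount (H.comap e.toMonoidHom) (K.comap e.toMonoidHom) x = Cfsg.splitClassCount H K (e x) := by
  refine Nat.card_congr (Quot.congr (Equiv.subtypeEquiv e.toEquiv fun y => ?_) fun y z => ?_)
  · exact isConjUnder_comap_iff e H x y
  · exact isConjUnder_comap_iff e K y.1 z.1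

theorem centralizer_comap_equiv (H : Subgroup Y) (x : X) :
    Nonempty (↥(H.comap e.toMonoidHom ⊓ Subgroup.centralizer {x}) ≃* ↥(H ⊓ Subgroup.centralizer {e x})) := by
  refine ⟨((H.comap e.toMonoidHom ⊓ Subgroup.centralizer {x}).equivMapOfInjective e.toMonoidHom e.injective).trans
    (MulEquiv.subgroupCongr ?_)⟩
  ext y
  obtain ⟨y, rfl⟩ := e.surjective y
  simp only [Subgroup.mem_map, Subgroup.mem_inf, Subgroup.mem_comap, MulEquiv.coe_toMonoidHom,
    Subgroup.mem_centralizer_singleton_iff]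
  constructor
  · rintro ⟨z, ⟨hz, hzx⟩, hzy⟩
    obtain rfl := e.injective hzy
    exact ⟨hz, by rw [← map_mul, ← map_mul, hzx]⟩
  · rintro ⟨hy, hc⟩
    exact ⟨y, ⟨hy, e.injective (by simp [hc])⟩, rfl⟩

theorem comap_equiv (H : Subgroup Y) : Nonempty (↥(H.comap e.toMonoidHom) ≃* H) :=
  ⟨((H.comap e.toMonoidHom).equivMapOfInjective e.toMonoidHom e.injective).trans
    (MulEquiv.subgroupCongr (Subgroup.map_comap_eq_self_of_surjective e.surjective H))⟩

end Iso

variable {F : Type*} [Field F] [Fintype F] {ι : Type} [Fintype ι] [DecidableEq ι] {Q : QuadraticForm F (ι → F)}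

theorem inn_comap (hQ : Pre Q) :
    Cfsg.Inn (Cfsg.POmega F ⇑Q) = (Cfsg.Inn (TQ Q)).comap (autT Q hQ).toMonoidHom :=
  Subgroup.ext fun β => autT_mem_inn hQ β

/-- A field automorphism is a conjugate of a standard one. -/
theorem exists_of_fieldAutClass (hQ : Good Q) (hrat : ∀ (σ : F ≃+* F) v, Q (σ ∘ v) = σ (Q v))
    {x : MulAut (Cfsg.POmega F ⇑Q)} (hx : Cfsg.IsFieldAutClassPOmega (⇑Q) x) :
    ∃ (σ : F ≃+* F) (A : gammaO Q), σ ≠ 1 ∧
      autT Q hQ x = act Q (A * semOf (one_pair (hrat σ)) * A⁻¹) := by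
  obtain ⟨α, φ, σ, hσ, hφ, e⟩ := hx
  obtain ⟨A, hA⟩ := act_surjective hQ (autT Q hQ α⁻¹)
  refine ⟨σ, A, hσ, ?_⟩
  rw [map_mul, map_mul, map_inv, hA, ← (fieldAut_iff hQ (hrat σ) φ).1 hφ, ← map_inv (autT Q hQ), ← map_mul, ← map_mul,
    ← e]
  congr 1
  group

theorem sigHom_conj_semOf (hQ : Pre Q) (A : gammaO Q) {g : Matrix.GeneralLinearGroup ι F} {σ : F ≃+* F}
    (h : Cfsg.IsSemisimilarityPair (⇑Q) g σ) : sigHom hQ (A * semOf h * A⁻¹) = σ := by
  rw [map_mul, map_mul, map_inv, sigHom_semOf hQ h]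
  -- automorphism groups of finite fields are commutative
  obtain ⟨p, hp⟩ := CharP.exists F
  haveI : Fact p.Prime := ⟨CharP.char_is_prime F p⟩
  obtain ⟨i, hi⟩ := exists_pow_of_aut p (sigHom hQ A)
  obtain ⟨j, hj⟩ := exists_pow_of_aut p σ
  have hc : sigHom hQ A * σ = σ * sigHom hQ A := RingEquiv.ext fun x => by
    rw [RingAut.mul_apply, RingAut.mul_apply, hi, hj, hj, hi, ← pow_mul, ← pow_mul, mul_comm]
  rw [hc, mul_inv_cancel_right]

/-- The power of a lift is a scalar as soon as the power of the automorphism is trivial. -/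
theorem exists_pow_eq_scal (hQ : Pre Q) {T : gammaO Q} {r : ℕ} (h : act Q T ^ r = 1) :
    ∃ c, T ^ r = scal Q c :=
  exists_scal_of_act hQ (by rw [map_pow, h])

/-- The field automorphism of an automorphism of prime order. -/
theorem orderOf_sigHom (hQ : Pre Q) {T : gammaO Q} {r : ℕ} (hr : r.Prime) (h : act Q T ^ r = 1)
    (hne : sigHom hQ T ≠ 1) : orderOf (sigHom hQ T) = r := by
  haveI := Fact.mk hr
  refine orderOf_eq_prime ?_ hne
  obtain ⟨c, hc⟩ := exists_pow_eq_scal hQ h
  rw [← map_pow, hc, sigHom_scal]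

section Types

variable {K : Type*} [Field K] [Fintype K] {f : K →+* F} {σ : F ≃+* F}

instance nonempty_oddI (m : ℕ) : Nonempty (OddI m) := ⟨oZ⟩

/-- Odd dimension has one type. -/
theorem exists_model_odd {m : ℕ} (hQ : PolarNondeg (qOdd m F)) {T : gammaO (qOdd m F)} {r : ℕ}
    (hσ : orderOf σ = r) (hT : sigFun T = σ) (hpow : ∃ c, T ^ r = scal _ c)
    (hfix : ∀ x : F, σ x = x ↔ x ∈ Set.range f) :
    ∃ (S : Sim (qOdd m F) (qOdd m F)) (c : Fˣ),
      T = scal _ c * fieldX (compat_qOdd f m) (fun x => (hfix _).2 ⟨x, rfl⟩) S := by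
  refine exists_model_of_similar hQ hσ hT hpow hfix (compat_qOdd f m) fun R₀ hR₀ RF hc S c _ => ?_
  have hn : Module.finrank K (OddI m → K) = 2 * m + 1 := by
    simp [Module.finrank_pi]
    omega
  exact ((similar_odd m R₀ hR₀ hn).trans (Similar.of_isometry (oddLin m K) (qOdd_oddLin m))).symm

theorem similar_qPlus (m : ℕ) :
    Similar (qExt m (0 : QuadraticForm K (Fin 0 → K))) (qPlus m K) :=
  Similar.of_isometry (plusLin m K) (qPlus_plusLin m)

/-- An anisotropic binary form over the fixed field is isotropic over a field with an involution. -/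
theorem exists_root_of_two (hσ : orderOf σ = 2) (hfix : ∀ x : F, σ x = x ↔ x ∈ Set.range f) {a b : K}
    (hab : BinAniso a b) : ∃ α : F, α ^ 2 + f a * α + f b = 0 := by
  haveI := qe_fact hab
  letI : Algebra K F := f.toAlgebra
  have hcard : Fintype.card F = Fintype.card K ^ 2 := by
    rw [CfsgLib.PSLAut.card_fixedField σ, hσ, ← Nat.card_eq_fintype_card (α := K)]
    congr 1
    refine Nat.card_congr ((Equiv.ofInjective f f.injective).trans (Equiv.setCongr ?_)).symm
    exact Set.ext fun x => (hfix x).symm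
  have hfr : Module.finrank K F = 2 := by
    have h := Module.card_eq_pow_finrank (K := K) (V := F)
    rw [hcard] at h
    exact (Nat.pow_right_injective (Fintype.one_lt_card (α := K)) h).symm
  obtain ⟨e⟩ := exists_algEquiv_of_finrank_two (QE a b) F (qe_finrank a b) hfr
  refine ⟨e (-QuadraticAlgebra.omega), ?_⟩
  have h := congrArg e (qe_root a b)
  simp only [map_add, map_mul, map_pow, map_zero, AlgEquiv.commutes] at h
  exact h

/-- The standard field automorphism preserves the classes. -/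
theorem parity_phi_plus {m : ℕ} (hf : ∀ x, σ (f x) = f x) (hQ : PolarNondeg (qPlus m F)) [Nonempty (Fin m ⊕ Fin m)] :
    parityHom hQ (finrank_qPlus_space m) (maxS_xLin m) (phi f σ (compat_qPlus f m) hf) = 1 := by
  rw [parityHom_apply]
  have himg : imgT (phi f σ (compat_qPlus f m) hf) (LinearMap.range (xLin m)) = LinearMap.range (xLin (F := F) m) := by
    refine Submodule.eq_of_le_of_finrank_eq ?_ (finrank_imgT _ _)
    rintro _ ⟨_, ⟨x, rfl⟩, rfl⟩
    refine ⟨σ ∘ x, ?_⟩
    rw [phi_apply]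
    funext i
    cases i <;> simp [xLin]
  rw [himg, par2_self (F := F) (maxS_xLin (F := F) m).1, ofAdd_zero]

/-- The standard field automorphism of a twisted model interchanges the classes. -/
theorem parity_phi_twisted {n : ℕ} {a b : K} (hab : BinAniso a b) (hf : ∀ x, σ (f x) = f x)
    (hfix : ∀ x : F, σ x = x ↔ x ∈ Set.range f) {α : F} (hα : α ^ 2 + f a * α + f b = 0)
    (hP : PolarNondeg (qExt n (qBin (f a) (f b)))) [Nonempty ((Fin n ⊕ Fin n) ⊕ Fin 2)] :
    parityHom hP (finrank_qMinus_space n) (maxS_xzLin n hα) (phi f σ (compat_qMinus f n a b) hf) =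
      Multiplicative.ofAdd 1 := by
  have hne : σ α ≠ α := fun h => by
    obtain ⟨z, rfl⟩ := (hfix α).1 h
    have h1 : z ^ 2 + a * z + b = 0 := f.injective (by simpa [map_add, map_mul, map_pow] using hα)
    exact one_ne_zero (hab z 1 (by linear_combination h1)).2
  rw [parityHom_apply]
  have hinf : LinearMap.range (xzLin n α) ⊓ imgT (phi f σ (compat_qMinus f n a b) hf) (LinearMap.range (xzLin n α)) =
      LinearMap.range ((xzLin n α).comp (LinearMap.inl F (Fin n → F) F)) := by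
    apply le_antisymm
    · rintro _ ⟨⟨p, rfl⟩, _, ⟨q, rfl⟩, e⟩
      rw [phi_apply] at e
      have e1 := congrFun e (Sum.inr 0)
      have e2 := congrFun e (Sum.inr 1)
      simp [xzLin] at e1 e2
      have hp2 : p.2 = 0 := (mul_eq_zero.1 (show p.2 * (σ α - α) = 0 by
        linear_combination e1 - σ α * e2)).resolve_right (sub_ne_zero.2 hne)
      exact ⟨p.1, by rw [LinearMap.comp_apply, LinearMap.inl_apply, ← hp2]⟩
    · rintro _ ⟨x, rfl⟩
      refine ⟨⟨_, rfl⟩, xzLin n α (σ.symm ∘ x, 0), ⟨_, rfl⟩, ?_⟩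
      rw [phi_apply]
      funext i
      rcases i with (i | i) | i
      · simp [xzLin]
      · simp [xzLin]
      · fin_cases i <;> simp [xzLin]
  rw [par2, hinf, LinearMap.finrank_range_of_inj (fun x y h => funext fun i => by
    simpa [xzLin] using congrFun h (Sum.inl (Sum.inl i))), Module.finrank_pi, Fintype.card_fin,
    show n + 1 - n = 1 by omega, Nat.cast_one]

/-- The parity of a plus-type semisimilarity with scalar power determines its type. -/
theorem exists_model_plus {m : ℕ} [Nonempty (Fin m ⊕ Fin m)] (hQ : Pre (qPlus m F)) {T : gammaO (qPlus m F)} {r : ℕ} (hσ : orderOf σ = r)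
    (hT : sigFun T = σ) (hpow : ∃ c, T ^ r = scal _ c) (hfix : ∀ x : F, σ x = x ↔ x ∈ Set.range f) :
    (parityHom hQ.nondeg (finrank_qPlus_space m) (maxS_xLin m) T = 1 ∧
      ∃ (S : Sim (qPlus m F) (qPlus m F)) (c : Fˣ),
        T = scal _ c * fieldX (compat_qPlus f m) (fun x => (hfix _).2 ⟨x, rfl⟩) S) ∨
    (parityHom hQ.nondeg (finrank_qPlus_space m) (maxS_xLin m) T = Multiplicative.ofAdd 1 ∧
      ∃ (n : ℕ) (a b : K), m = n + 1 ∧ BinAniso a b ∧ (∃ α : F, α ^ 2 + f a * α + f b = 0) ∧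
      ∃ (S : Sim (qExt n (qBin (f a) (f b))) (qPlus m F)) (c : Fˣ),
        T = scal _ c * fieldX (compat_qMinus f n a b) (fun x => (hfix _).2 ⟨x, rfl⟩) S) := by
  have hm : 1 ≤ m := by
    have := hQ.seven
    simp [Module.finrank_pi] at this
    omega
  obtain ⟨n, rfl⟩ : ∃ n, m = n + 1 := ⟨m - 1, by omega⟩
  haveI : Nonempty (Fin (n + 1) ⊕ Fin (n + 1)) := ⟨Sum.inl 0⟩
  haveI : Nonempty ((Fin n ⊕ Fin n) ⊕ Fin 2) := ⟨Sum.inr 0⟩
  have hf : ∀ x, σ (f x) = f x := fun x => (hfix _).2 ⟨x, rfl⟩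
  obtain ⟨R₀, RF, hc, S, c, hR₀, e⟩ := exists_model hQ.nondeg hσ hT hpow hfix
  rcases similar_even n R₀ hR₀ (finrank_qPlus_space (n + 1)) with h | ⟨a, b, hab, h⟩
  · obtain ⟨S₀⟩ := Sim.nonempty_of_similar (h.trans (similar_qPlus (n + 1))).symm
    have hT' : T = scal _ c * fieldX (compat_qPlus f (n + 1)) hf ((bcSim (compat_qPlus f (n + 1)) hc S₀).trans S) := by
      rw [fieldX, Sim.gam_trans, bcSim_phi, e]
    refine Or.inl ⟨?_, _, c, hT'⟩
    rw [hT', map_mul, parityHom_scal, one_mul, fieldX,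
      Sim.parityHom_gam _ hQ.nondeg hQ.nondeg (finrank_qPlus_space _) _ (maxS_xLin _) _, parity_phi_plus hf]
  · obtain ⟨S₀⟩ := Sim.nonempty_of_similar h.symm
    set S' := (bcSim (compat_qMinus f n a b) hc S₀).trans S
    have hT' : T = scal _ c * fieldX (compat_qMinus f n a b) hf S' := by
      rw [fieldX, Sim.gam_trans, bcSim_phi, e]
    -- the binary part is isotropic over the larger field
    obtain ⟨α, hα⟩ : ∃ α : F, α ^ 2 + f a * α + f b = 0 := by
      by_contra hno
      push Not at hno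
      have hA : BinAniso (f a) (f b) := fun z₁ z₂ hz => by
        by_cases h2 : z₂ = 0
        · subst h2
          exact ⟨by simpa using hz, rfl⟩
        · refine absurd ?_ (hno (z₁ / z₂))
          field_simp
          linear_combination hz
      exact qExt_no_max hA _ (S'.symm.maxS_map (maxS_xLin (F := F) (n + 1)))
    have hP : PolarNondeg (qExt n (qBin (f a) (f b))) := S'.symm.polarNondeg hQ.nondeg
    refine Or.inr ⟨?_, n, a, b, rfl, hab, ⟨α, hα⟩, S', c, hT'⟩
    rw [hT', map_mul, parityHom_scal, one_mul, fieldX,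
      Sim.parityHom_gam _ hP hQ.nondeg (finrank_qMinus_space n) _ (maxS_xzLin n hα) _,
      parity_phi_twisted hab hf hfix hα]

/-- Minus type has one type, of odd degree. -/
theorem exists_model_minus {n : ℕ} {A B : F} (hAB : BinAniso A B) (hQ : Pre (qExt n (qBin A B)))
    {T : gammaO (qExt n (qBin A B))} {r : ℕ} (hσ : orderOf σ = r)
    (hT : sigFun T = σ) (hpow : ∃ c, T ^ r = scal _ c) (hfix : ∀ x : F, σ x = x ↔ x ∈ Set.range f) :
    ∃ (a b : K), BinAniso a b ∧ BinAniso (f a) (f b) ∧ r ≠ 2 ∧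
      ∃ (S : Sim (qExt n (qBin (f a) (f b))) (qExt n (qBin A B))) (c : Fˣ),
        T = scal _ c * fieldX (compat_qMinus f n a b) (fun x => (hfix _).2 ⟨x, rfl⟩) S := by
  haveI : Nonempty ((Fin n ⊕ Fin n) ⊕ Fin 2) := ⟨Sum.inr 0⟩
  have hf : ∀ x, σ (f x) = f x := fun x => (hfix _).2 ⟨x, rfl⟩
  obtain ⟨R₀, RF, hc, S, c, hR₀, e⟩ := exists_model hQ.nondeg hσ hT hpow hfix
  rcases similar_even n R₀ hR₀ (finrank_qMinus_space n) with h | ⟨a, b, hab, h⟩
  · obtain ⟨S₀⟩ := Sim.nonempty_of_similar (h.trans (similar_qPlus (n + 1))).symm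
    exact absurd (((bcSim (compat_qPlus f (n + 1)) hc S₀).trans S).maxS_map (maxS_xLin (F := F) (n + 1)))
      fun hU => qExt_no_max hAB _ hU
  · obtain ⟨S₀⟩ := Sim.nonempty_of_similar h.symm
    set S' := (bcSim (compat_qMinus f n a b) hc S₀).trans S
    have hiso : ¬ ∃ α : F, α ^ 2 + f a * α + f b = 0 := fun ⟨α, hα⟩ =>
      qExt_no_max hAB _ (S'.maxS_map (maxS_xzLin n hα))
    refine ⟨a, b, hab, fun z₁ z₂ hz => ?_, fun h2 => hiso (exists_root_of_two (h2 ▸ hσ) hfix hab), S', c, by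
      rw [fieldX, Sim.gam_trans, bcSim_phi, e]⟩
    by_cases h2 : z₂ = 0
    · subst h2
      exact ⟨by simpa using hz, rfl⟩
    · refine absurd ⟨z₁ / z₂, ?_⟩ hiso
      field_simp
      linear_combination hz

end Types

end CfsgLib.POAut
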