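/-
The named classes of automorphisms as semisimilarities; the criterion for order `r` in a coset.
-/
import Cfsg.Agent.Lib.KnownSimple.POAut.Bridge

set_option autoImplicit false

universe u

namespace CfsgLib.POAut

open CfsgLib.Classical CfsgLib.Classical22

variable {F : Type*} [Field F] [Fintype F]

theorem aut_comm (σ τ : F ≃+* F) : σ * τ = τ * σ := by
  obtain ⟨p, hp⟩ := CharP.exists F
  haveI : Fact p.Prime := ⟨CharP.char_is_prime F p⟩
  obtain ⟨i, hi⟩ := exists_pow_of_aut p σ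
  obtain ⟨j, hj⟩ := exists_pow_of_aut p τ
  exact RingEquiv.ext fun x => by
    rw [RingAut.mul_apply, RingAut.mul_apply, hi, hj, hj, hi, ← pow_mul, ← pow_mul, mul_comm]

section General

variable {ι : Type} [Fintype ι] [DecidableEq ι] {Q : QuadraticForm F (ι → F)}

theorem sigHom_conj (hQ : Pre Q) (A T : gammaO Q) : sigHom hQ (A * T * A⁻¹) = sigHom hQ T := by
  rw [map_mul, map_mul, map_inv, aut_comm (sigHom hQ A), mul_inv_cancel_right]

theorem rat_qOdd {m : ℕ} (σ : F ≃+* F) (v : OddI m → F) : qOdd m F (σ ∘ v) = σ (qOdd m F v) :=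
  compat_qOdd σ.toRingHom m v

theorem rat_qPlus {m : ℕ} (σ : F ≃+* F) (v : Fin m ⊕ Fin m → F) : qPlus m F (σ ∘ v) = σ (qPlus m F v) :=
  compat_qPlus σ.toRingHom m v

theorem rat_qMinus {m : ℕ} {a b : F} (σ : F ≃+* F) (ha : σ a = a) (hb : σ b = b)
    (v : (Fin m ⊕ Fin m) ⊕ Fin 2 → F) : qExt m (qBin a b) (σ ∘ v) = σ (qExt m (qBin a b) v) := by
  have h := compat_qMinus σ.toRingHom m a b v
  rw [show σ.toRingHom a = a from ha, show σ.toRingHom b = b from hb] at h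
  exact h

theorem prime_order_data (hQ : Pre Q) {x : MulAut (Cfsg.POmega F ⇑Q)} {T : gammaO Q} {σ : F ≃+* F} {r : ℕ}
    (hx : autT Q hQ x = act Q T) (hT : sigHom hQ T = σ) (hσ : σ ≠ 1) (hr : r.Prime) (hxr : orderOf x = r) :
    orderOf σ = r ∧ ∃ c, T ^ r = scal Q c := by
  have h : act Q T ^ r = 1 := by rw [← hx, ← map_pow, ← hxr, pow_orderOf_eq_one, map_one]
  exact ⟨hT ▸ orderOf_sigHom hQ hr h (hT ▸ hσ), exists_pow_eq_scal hQ h⟩

theorem fix_fixedField (σ : F ≃+* F) (x : F) :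
    σ x = x ↔ x ∈ Set.range (CfsgLib.PSLAut.fixedField σ).subtype :=
  ⟨fun h => ⟨⟨x, h⟩, rfl⟩, fun ⟨y, hy⟩ => hy ▸ y.2⟩

end General

section Carrier

variable {ι : Type} [Fintype ι] [DecidableEq ι] {Q : QuadraticForm F (ι → F)} {fq : (ι → F) → F}

/-- Automorphisms of the carrier of a form given as a function. -/
noncomputable def autE (h : ⇑Q = fq) (hQ : Pre Q) : MulAut (Cfsg.POmega F fq) ≃* MulAut (TQ Q) := by
  subst h
  exact autT Q hQ

theorem autE_rfl (hQ : Pre Q) : autE (rfl : ⇑Q = ⇑Q) hQ = autT Q hQ := rfl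

theorem inn_comapE (h : ⇑Q = fq) (hQ : Pre Q) :
    Cfsg.Inn (Cfsg.POmega F fq) = (Cfsg.Inn (TQ Q)).comap (autE h hQ).toMonoidHom := by
  subst h
  exact inn_comap hQ

theorem fieldAutClassE (h : ⇑Q = fq) (hQ : Good Q) (hrat : ∀ (σ : F ≃+* F) v, Q (σ ∘ v) = σ (Q v))
    {x : MulAut (Cfsg.POmega F fq)} (hx : Cfsg.IsFieldAutClassPOmega fq x) :
    ∃ (σ : F ≃+* F) (A : gammaO Q), σ ≠ 1 ∧
      autE h hQ x = act Q (A * semOf (one_pair (hrat σ)) * A⁻¹) := by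
  subst h
  exact exists_of_fieldAutClass hQ hrat hx

theorem transported_fieldAut {Q' : QuadraticForm F (ι → F)} {fq' : (ι → F) → F} (h : ⇑Q = fq) (h' : ⇑Q' = fq')
    (hQ : Good Q) (hQ' : Good Q') (S : Sim Q' Q) {σ : F ≃+* F} (hrat : ∀ v, Q' (σ ∘ v) = σ (Q' v))
    {x : MulAut (Cfsg.POmega F fq)} (ψ : Cfsg.POmega F fq ≃* Cfsg.POmega F fq')
    (hφ : Cfsg.IsFieldAutPOmegaOf fq' σ ((ψ.symm.trans x).trans ψ)) :
    ∃ A : gammaO Q, autE h hQ x = act Q (A * S.gam (semOf (one_pair hrat)) * A⁻¹) := by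
  subst h h'
  have hφ' := (fieldAut_iff hQ' hrat _).1 hφ
  set ψh : TQ Q ≃* TQ Q' := ((poEquiv _ hQ).symm.trans ψ).trans (poEquiv _ hQ')
  obtain ⟨B, hB⟩ := act_surjective hQ (ψh.trans (S.quot hQ' hQ))
  refine ⟨B⁻¹, ?_⟩
  rw [autE_rfl]
  have e : act _ (S.gam (semOf (one_pair hrat))) * act _ B = act _ B * autT _ hQ x := by
    rw [Sim.act_gam S hQ' hQ, ← hφ', hB]
    exact MulEquiv.ext fun z => by simp [MulAut.mul_apply, ψh, autT]
  rw [inv_inv, map_mul, map_mul, map_inv, mul_assoc, e, inv_mul_cancel_left]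

theorem prime_order_dataE (h : ⇑Q = fq) (hQ : Pre Q) {x : MulAut (Cfsg.POmega F fq)} {T : gammaO Q}
    {σ : F ≃+* F} {r : ℕ} (hx : autE h hQ x = act Q T) (hT : sigHom hQ T = σ) (hσ : σ ≠ 1) (hr : r.Prime)
    (hxr : orderOf x = r) : orderOf σ = r ∧ ∃ c, T ^ r = scal Q c := by
  subst h
  exact prime_order_data hQ hx hT hσ hr hxr

/-- The criterion for order `r` in a coset of an inner-diagonal group, at the level of the carrier. -/
theorem orderOf_coset_iff {J : Type} [Fintype J] [DecidableEq J] [Nonempty J] {K : Type*} [Field K]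
    {f : K →+* F} {σ : F ≃+* F} {P₀ : QuadraticForm K (J → K)} {P : QuadraticForm F (J → F)}
    (hcP : Compat f P₀ P) (hf : ∀ z, σ (f z) = f z) (h : ⇑Q = fq) (hQ : Pre Q) (D : Diag hQ) (hP₀ : PolarNondeg P₀)
    {x δ : MulAut (Cfsg.POmega F fq)} (hδ : δ ∈ (D.G.map (act Q)).comap (autE h hQ).toMonoidHom)
    {T : gammaO Q} (hx : autE h hQ x = act Q T) {r : ℕ} (hr : r.Prime) (hσ : orderOf σ = r)
    (hT : sigHom hQ T = σ) (hpow : ∃ c, T ^ r = scal Q c)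
    (hmodel : ∀ T' : gammaO Q, sigHom hQ T' = σ → (∃ c, T' ^ r = scal Q c) → T' * T⁻¹ ∈ D.G →
      ∃ (S : Sim P Q) (c : Fˣ), T' = scal Q c * fieldX hcP hf S) :
    orderOf (δ * x) = r ↔ Cfsg.IsConjUnder ((D.G.map (act Q)).comap (autE h hQ).toMonoidHom) x (δ * x) := by
  obtain ⟨A, hA, hAe⟩ := Subgroup.mem_comap.1 hδ
  rw [isConjUnder_comap_iff, ← MulEquiv.orderOf_eq (autE h hQ), map_mul, hx,
    show autE h hQ δ = act Q A from hAe.symm]
  exact orderOf_iff_conj hcP hf hQ D hP₀ hr hσ hA hT hpow hmodel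

theorem inndiagOdd_eqE {m : ℕ} (hQ : Pre (qOdd m F)) :
    Cfsg.inndiagPOmegaOdd m F = ((oddDiag hQ).G.map (act _)).comap (autE (coe_qOdd m F) hQ).toMonoidHom := by
  have key : ∀ fq (h : ⇑(qOdd m F) = fq), Cfsg.autSubgroupOf (fun β => Cfsg.IsSimilarityInducedAutPOmega fq β) =
      ((simSub hQ).map (act _)).comap (autE h hQ).toMonoidHom := by
    rintro _ rfl
    exact inndiagOdd_eq hQ (coe_qOdd m F)
  exact key _ _

theorem inndiagPlus_eqE {m : ℕ} (hQ : Pre (qPlus m F)) :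
    Cfsg.inndiagPOmegaPlus m F = ((plusDiag hQ).G.map (act _)).comap (autE (coe_qPlus m) hQ).toMonoidHom := by
  have key : ∀ fq (h : ⇑(qPlus m F) = fq), Cfsg.autSubgroupOf (fun β => ∃ g : Matrix.GeneralLinearGroup (Fin m ⊕ Fin m) F,
      g ∈ Cfsg.Geo.quadSimilarityGroup (F := F) fq ∧
      Cfsg.PreservesSingularClasses fq (g : Matrix (Fin m ⊕ Fin m) (Fin m ⊕ Fin m) F) ∧
      Cfsg.IsInducedBySemilinearPOmega fq g (RingEquiv.refl F) β) =
      ((plusG hQ).map (act _)).comap (autE h hQ).toMonoidHom := by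
    rintro _ rfl
    exact inndiagPlus_eq hQ
  exact key _ _

end Carrier

theorem inndiagMinus_eqE {F : Type u} [Field F] [Fintype F] {m : ℕ} {a b : F} (hab : BinAniso a b)
    (hQ : Pre (qExt m (qBin a b))) :
    Cfsg.inndiagPOmegaMinus m F a b =
      ((minusDiag hab hQ).G.map (act _)).comap (autE (coe_qExt_qBin m a b) hQ).toMonoidHom := by
  have key : ∀ fq (h : ⇑(qExt m (qBin a b)) = fq),
      Cfsg.autSubgroupOf (fun β => ∃ g : Matrix.GeneralLinearGroup ((Fin m ⊕ Fin m) ⊕ Fin 2) F,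
      g ∈ Cfsg.Geo.quadSimilarityGroup (F := F) fq ∧
      Cfsg.PreservesSingularClassesMinus m a b (g : Matrix ((Fin m ⊕ Fin m) ⊕ Fin 2) ((Fin m ⊕ Fin m) ⊕ Fin 2) F) ∧
      Cfsg.IsInducedBySemilinearPOmega fq g (RingEquiv.refl F) β) =
      ((minusG hab hQ).map (act _)).comap (autE h hQ).toMonoidHom := by
    rintro _ rfl
    exact inndiagMinus_eq hab hQ
  exact key _ _

/-- A minus-type field automorphism as a semisimilarity. -/
theorem exists_of_fieldAutClassMinus {m : ℕ} {a b : F} (hm : 3 ≤ m) (hab : BinAniso a b)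
    {x : MulAut (Cfsg.POmega F (Cfsg.quadFormMinus m F a b))} (hx : Cfsg.IsFieldAutClassPOmegaMinus m x) :
    ∃ (σ : F ≃+* F) (a' b' : F) (T : gammaO (qExt m (qBin a b))), σ ≠ 1 ∧ BinAniso a' b' ∧ σ a' = a' ∧ σ b' = b' ∧
      sigHom (good_qMinus hm hab).toPre T = σ ∧
      autE (coe_qExt_qBin m a b) (good_qMinus hm hab) x = act _ T := by
  obtain ⟨a', b', ψ, σ, hab', hσ, ha, hb, hφ⟩ := hx
  have hQ := good_qMinus (F := F) hm hab
  have hQ' := good_qMinus (F := F) hm (show BinAniso a' b' from hab')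
  obtain ⟨S⟩ := Sim.nonempty_of_similar (similar_qExt_qBin m (show BinAniso a' b' from hab') hab)
  obtain ⟨A, hA⟩ := transported_fieldAut (coe_qExt_qBin m a b) (coe_qExt_qBin m a' b') hQ hQ' S
    (rat_qMinus σ ha hb) ψ hφ
  refine ⟨σ, a', b', _, hσ, hab', ha, hb, ?_, hA⟩
  rw [sigHom_conj, Sim.sigHom_gam S hQ'.toPre hQ.toPre, sigHom_semOf hQ'.toPre]

set_option maxHeartbeats 1000000 in
/-- A plus-type graph-field automorphism as a semisimilarity. -/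
theorem exists_of_graphFieldClass {m : ℕ} (hQ : Good (qPlus m F))
    {x : MulAut (Cfsg.POmega F (Cfsg.quadFormPlus m F))} (hx : Cfsg.IsGraphFieldAutClassPOmegaPlus m x) :
    ∃ (σ : F ≃+* F) (A : gammaO (qPlus m F)) (v : Fin m ⊕ Fin m → F) (hv : qPlus m F v ≠ 0),
      σ ≠ 1 ∧ autE (coe_qPlus m) hQ x =
        act _ (A * (qIncl _ (qRefl _ hv) * semOf (one_pair (rat_qPlus σ))) * A⁻¹) := by
  obtain ⟨α, γ, φ, σ, v, g, hrest⟩ := hx
  revert hrest
  suffices key : ∀ fq (h : ⇑(qPlus m F) = fq) (α γ φ x : MulAut (Cfsg.POmega F fq)),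
      σ ≠ RingEquiv.refl F ∧ fq v ≠ 0 ∧ (∀ i, σ (v i) = v i) ∧
      (g : Matrix (Fin m ⊕ Fin m) (Fin m ⊕ Fin m) F) = Cfsg.reflectionMatrix fq v ∧
      Cfsg.IsInducedBySemilinearPOmega fq g (RingEquiv.refl F) γ ∧
      Cfsg.IsFieldAutPOmegaOf fq σ φ ∧ α * x * α⁻¹ = γ * φ →
      ∃ (σ : F ≃+* F) (A : gammaO (qPlus m F)) (v : Fin m ⊕ Fin m → F) (hv : qPlus m F v ≠ 0),
        σ ≠ 1 ∧ autE h hQ x = act _ (A * (qIncl _ (qRefl _ hv) * semOf (one_pair (rat_qPlus σ))) * A⁻¹) from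
    key _ _ α γ φ x
  rintro _ rfl α γ φ x ⟨hσ, hv, -, hg, hγ, hφ, e⟩
  have hp : Cfsg.IsSemisimilarityPair (⇑(qPlus m F)) g (RingEquiv.refl F) := ⟨1, fun u => by
    rw [Units.val_one, one_mul, hg]
    exact reflection_map (qPlus m F) v hv u⟩
  have hr : semOf hp = qIncl _ (qRefl _ hv) := gammaO_ext fun u => by
    rw [semOf_apply, qIncl_apply, qRefl_apply, hg, reflectionMatrix_mulVec]
    rfl
  obtain ⟨A, hA⟩ := act_surjective hQ (autT _ hQ α⁻¹)
  refine ⟨σ, A, v, hv, hσ, ?_⟩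
  rw [autE_rfl]
  rw [map_mul, map_mul, map_mul (act (qPlus m F)) (qIncl _ _), map_inv, hA, ← hr, ← (induced_iff hQ hp γ).1 hγ,
    ← (fieldAut_iff hQ (rat_qPlus σ) φ).1 hφ, ← map_inv (autT _ hQ), ← map_mul, ← map_mul, ← map_mul, ← e]
  congr 1
  group

end CfsgLib.POAut
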