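/-
The outer automorphism group as a quotient of the semisimilarities, and recognition lemmas for split extensions.
-/
import Cfsg.Agent.Lib.KnownSimple.POAut.Classes
import Cfsg.Agent.Lib.KnownSimple.PSLAut.Out

set_option autoImplicit false

namespace CfsgLib.POAut

open CfsgLib.Classical CfsgLib.Classical22

section Quot

variable {F : Type*} [Field F] {ι : Type} [Fintype ι] [DecidableEq ι] [Fintype F] {Q : QuadraticForm F (ι → F)}

/-- Semisimilarities to outer automorphisms. -/
noncomputable def outMap (Q : QuadraticForm F (ι → F)) : gammaO Q →* Cfsg.Out (TQ Q) :=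
  (QuotientGroup.mk' (Cfsg.Inn (TQ Q))).comp (act Q)

theorem outMap_surjective (hQ : Good Q) : Function.Surjective (outMap Q) :=
  (QuotientGroup.mk'_surjective _).comp (act_surjective hQ)

theorem outMap_eq_one_iff (hQ : Pre Q) {T : gammaO Q} :
    outMap Q T = 1 ↔ ∃ (c : Fˣ) (g : qAut Q), g ∈ eichGroup Q ∧ T = scal Q c * qIncl Q g := by
  change (QuotientGroup.mk' (Cfsg.Inn (TQ Q))) (act Q T) = 1 ↔ _
  rw [QuotientGroup.mk'_apply, QuotientGroup.eq_one_iff, inn_eq]
  constructor
  · rintro ⟨_, ⟨g, hg, rfl⟩, h⟩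
    obtain ⟨c, hc⟩ := (act_eq_iff hQ).1 h.symm
    exact ⟨c, g, hg, hc⟩
  · rintro ⟨c, g, hg, rfl⟩
    exact ⟨qIncl Q g, ⟨g, hg, rfl⟩, by rw [map_mul, act_scal, one_mul]⟩

theorem outMap_eich (hQ : Pre Q) {g : qAut Q} (hg : g ∈ eichGroup Q) : outMap Q (qIncl Q g) = 1 :=
  (outMap_eq_one_iff hQ).2 ⟨1, g, hg, by rw [map_one, one_mul]⟩

theorem outMap_scal (hQ : Pre Q) (c : Fˣ) : outMap Q (scal Q c) = 1 :=
  (outMap_eq_one_iff hQ).2 ⟨c, 1, one_mem _, by rw [map_one, mul_one]⟩

/-- The outer automorphism group of the carrier. -/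
theorem out_equiv {fq : (ι → F) → F} (h : ⇑Q = fq) (hQ : Good Q) :
    Nonempty (Cfsg.Out (Cfsg.POmega F fq) ≃* Cfsg.Out (TQ Q)) :=
  ⟨QuotientGroup.congr _ _ (autE h hQ) (by
    rw [inn_comapE h hQ]
    exact Subgroup.map_comap_eq_self_of_surjective (autE h hQ).surjective _)⟩

end Quot

section Groups

variable {G A : Type*} [Group G] [Group A]

/-- A split extension. -/
theorem exists_decomp_split (π : G →* A) (s : A →* G) (hs : ∀ a, π (s a) = a) (g : G) :
    ∃ k ∈ π.ker, g = k * s (π g) :=
  ⟨g * (s (π g))⁻¹, by rw [MonoidHom.mem_ker, map_mul, map_inv, hs, mul_inv_cancel], (inv_mul_cancel_right _ _).symm⟩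

/-- A split extension by a group of order two is a direct product. -/
theorem split_ker_two (π : G →* A) (s : A →* G) (hs : ∀ a, π (s a) = a) {d : G} (hd : d ∈ π.ker) (hd1 : d ≠ 1)
    (hall : ∀ k ∈ π.ker, k = 1 ∨ k = d) : Nonempty (G ≃* Multiplicative (ZMod 2) × A) := by
  have hcent : ∀ g, g * d = d * g := fun g => by
    rcases hall _ ((inferInstance : π.ker.Normal).conj_mem d hd g) with h | h
    · exact absurd (conj_eq_one_iff.1 h) hd1
    · exact mul_inv_eq_iff_eq_mul.1 h
  have hd2 : d * d = 1 := (hall _ (mul_mem hd hd)).resolve_right fun h => hd1 (mul_eq_left.1 h)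
  have z2 : ∀ i : Multiplicative (ZMod 2), i = 1 ∨ i = Multiplicative.ofAdd 1 := by decide
  let κ : Multiplicative (ZMod 2) →* G := MonoidHom.mk' (fun i => if i = 1 then 1 else d) fun i j => by
    rcases z2 i with rfl | rfl <;> rcases z2 j with rfl | rfl
    · simp
    · simp
    · simp
    · rw [show Multiplicative.ofAdd (1 : ZMod 2) * Multiplicative.ofAdd 1 = 1 by decide, if_pos rfl,
        if_neg (by decide), hd2]
  have hκ : ∀ i, κ i = if i = 1 then 1 else d := fun i => rfl
  let Φ : Multiplicative (ZMod 2) × A →* G := κ.noncommCoprod s fun i a => by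
    rcases z2 i with rfl | rfl
    · rw [map_one]; exact Commute.one_left _
    · rw [hκ, if_neg (by decide)]
      exact (hcent (s a)).symm
  have hΦ : ∀ i a, Φ (i, a) = κ i * s a := fun i a => MonoidHom.noncommCoprod_apply _ _ _ (i, a)
  refine ⟨(MulEquiv.ofBijective Φ ⟨?_, ?_⟩).symm⟩
  · rw [← MonoidHom.ker_eq_bot_iff, eq_bot_iff]
    rintro ⟨i, a⟩ h
    rw [MonoidHom.mem_ker, hΦ] at h
    have ha : a = 1 := by
      have h' := congrArg π h
      rwa [map_mul, hs, map_one, show π (κ i) = 1 by
        rw [hκ]; split_ifs with h0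
        · exact map_one π
        · exact hd, one_mul] at h'
    rw [ha, map_one, mul_one, hκ] at h
    rcases z2 i with rfl | rfl
    · rw [ha]; rfl
    · exact absurd h (by rw [if_neg (by decide)]; exact hd1)
  · intro g
    obtain ⟨k, hk, hg⟩ := exists_decomp_split π s hs g
    rcases hall k hk with rfl | rfl
    · exact ⟨(1, π g), by rw [hΦ, map_one]; exact hg.symm⟩
    · exact ⟨(Multiplicative.ofAdd 1, π g), by rw [hΦ, hκ, if_neg (by decide)]; exact hg.symm⟩

/-- A homomorphism from a dihedral group. -/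
theorem exists_dihedral_hom {n : ℕ} [NeZero n] {r s : G} (hr : r ^ n = 1) (hs : s * s = 1) (hsr : s * r * s = r⁻¹) :
    ∃ φ : DihedralGroup n →* G, φ (.r 1) = r ∧ φ (.sr 0) = s := by
  let p : ZMod n → G := fun i => r ^ i.val
  have padd : ∀ i j, p (i + j) = p i * p j := fun i j => by
    simp only [p]
    rw [← pow_add, ZMod.val_add]
    exact (pow_eq_pow_mod _ hr).symm
  have p0 : p 0 = 1 := by simp [p]
  have psub : ∀ i j, p (i - j) = p i * (p j)⁻¹ := fun i j => by
    rw [eq_mul_inv_iff_mul_eq, ← padd, sub_add_cancel]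
  have hsinv : s⁻¹ = s := inv_eq_of_mul_eq_one_right hs
  have hsp : ∀ i, s * p i * s = (p i)⁻¹ := fun i => by
    simp only [p]
    have h := conj_pow (a := s) (b := r) (i := i.val)
    rw [hsinv, hsr, inv_pow] at h
    exact h.symm
  have hps : ∀ i, p i * s = s * (p i)⁻¹ := fun i => by
    rw [← hsp i, ← mul_assoc, ← mul_assoc, hs, one_mul]
  let f : DihedralGroup n → G
    | .r i => p i
    | .sr i => s * p i
  have hf : ∀ a b, f (a * b) = f a * f b := by
    rintro (i | i) (j | j)
    · exact padd i j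
    · change s * p (j - i) = p i * (s * p j)
      rw [← mul_assoc, hps, psub, mul_assoc]
      congr 1
      rw [← psub, sub_eq_neg_add, padd, ← zero_sub, psub, p0, one_mul]
    · change s * p (i + j) = s * p i * p j
      rw [padd, mul_assoc]
    · change p (j - i) = s * p i * (s * p j)
      rw [mul_assoc, ← mul_assoc (p i), hps, mul_assoc, ← mul_assoc s, hs, one_mul, sub_eq_neg_add,
        padd, ← zero_sub, psub, p0, one_mul]
  refine ⟨MonoidHom.mk' f hf, ?_, ?_⟩
  · change r ^ (1 : ZMod n).val = r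
    rw [ZMod.val_one_eq_one_mod, ← pow_eq_pow_mod _ hr, pow_one]
  · change s * p 0 = s
    rw [p0, mul_one]

/-- A split extension of a cyclic group of order `2f`, `f` odd, by a cyclic group of order four inverted by the
involution. -/
theorem split_ker_four [Finite G] {f : ℕ} (hf : Odd f) (hA : Nat.card A = 2 * f) [IsCyclic A] (π : G →* A)
    (s : A →* G) (hs : ∀ a, π (s a) = a) {c : A} (hc : orderOf c = 2) {g : G} (hg : g ∈ π.ker) (hg4 : orderOf g = 4)
    (hall : π.ker ≤ Subgroup.zpowers g) (hinv : s c * g * s c = g⁻¹) :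
    Nonempty (G ≃* DihedralGroup 4 × Multiplicative (ZMod f)) := by
  classical
  haveI : NeZero f := ⟨by have := hf.pos; omega⟩
  haveI : Finite A := Nat.finite_of_card_ne_zero (by rw [hA]; have := hf.pos; omega)
  obtain ⟨u, hu⟩ := IsCyclic.exists_generator (α := A)
  have hu' : orderOf u = 2 * f := by rw [orderOf_eq_card_of_forall_mem_zpowers hu, hA]
  have hcu : c ∈ Subgroup.zpowers u := hu c
  have hcs : s c * s c = 1 := by rw [← map_mul, ← sq, ← hc, pow_orderOf_eq_one, map_one]
  obtain ⟨φ, hφr, hφs⟩ := exists_dihedral_hom (show g ^ 4 = 1 by rw [← hg4, pow_orderOf_eq_one]) hcs hinv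
  have huf : (u ^ 2) ^ f = 1 := by rw [← pow_mul, ← hu', pow_orderOf_eq_one]
  let ψ : Multiplicative (ZMod f) →* A :=
    MonoidHom.mk' (fun i => (u ^ 2) ^ (Multiplicative.toAdd i).val) fun i j => by
      rw [← pow_add, toAdd_mul, ZMod.val_add]
      exact (pow_eq_pow_mod _ huf).symm
  have hψf : ∀ i, ψ i ^ f = 1 := fun i => by
    change ((u ^ 2) ^ (Multiplicative.toAdd i).val) ^ f = 1
    rw [← pow_mul, mul_comm, pow_mul, huf, one_pow]
  have hgc : ∀ x : A, x ^ f = 1 → s x * g = g * s x := fun x hx => by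
    have hconj : s x * g * (s x)⁻¹ ∈ Subgroup.zpowers g := hall ((inferInstance : π.ker.Normal).conj_mem g hg _)
    have hord : orderOf (s x * g * (s x)⁻¹) = 4 := by
      rw [← hg4]; exact MulEquiv.orderOf_eq (MulAut.conj (s x)) g
    obtain ⟨i, hi⟩ := (mem_zpowers_iff_mem_range_orderOf).1 hconj |> Finset.mem_image.1
    obtain ⟨hi4, hi⟩ := hi
    rw [Finset.mem_range, hg4] at hi4
    change g ^ i = _ at hi
    rw [← hi, orderOf_pow, hg4] at hord
    have hcase : i = 1 ∨ i = 3 := by
      interval_cases i <;> simp at hord ⊢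
    rcases hcase with rfl | rfl
    · rw [pow_one] at hi
      exact mul_inv_eq_iff_eq_mul.1 hi.symm
    · exfalso
      have h3 : g ^ 3 = g⁻¹ := by
        refine eq_inv_of_mul_eq_one_left ?_
        rw [← pow_succ, show 3 + 1 = 4 from rfl, ← hg4, pow_orderOf_eq_one]
      have hstep : ∀ j : ℕ, s x ^ j * g * (s x ^ j)⁻¹ = g ^ ((-1 : ℤ) ^ j) := fun j => by
        induction j with
        | zero => simp
        | succ j ih =>
          have h1 : s x * g ^ ((-1 : ℤ) ^ j) * (s x)⁻¹ = (s x * g * (s x)⁻¹) ^ ((-1 : ℤ) ^ j) :=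
            (map_zpow (MulAut.conj (s x)) g _)
          rw [pow_succ', show s x * s x ^ j * g * (s x * s x ^ j)⁻¹ =
            s x * (s x ^ j * g * (s x ^ j)⁻¹) * (s x)⁻¹ by group, ih, h1, ← hi, h3, ← zpow_neg_one, ← zpow_mul,
            pow_succ' (-1 : ℤ)]
      have := hstep f
      rw [← map_pow, hx, map_one, one_mul, inv_one, mul_one, hf.neg_one_pow, zpow_neg_one] at this
      have h2 : g ^ 2 = 1 := by rw [sq]; exact mul_eq_one_iff_eq_inv.2 this
      have := orderOf_le_of_pow_eq_one two_pos h2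
      omega
  let Φ : DihedralGroup 4 × Multiplicative (ZMod f) →* G := φ.noncommCoprod (s.comp ψ) fun d i => by
    have h1 : Commute g (s (ψ i)) := (hgc _ (hψf i)).symm
    have h2 : Commute (s c) (s (ψ i)) := by
      obtain ⟨k, hk⟩ := hcu
      refine Commute.map ?_ s
      rw [← hk]
      exact (((Commute.refl u).pow_right 2).pow_right _).zpow_left k
    rcases d with j | j
    · rw [← ZMod.natCast_zmod_val j, ← DihedralGroup.r_one_pow, map_pow, hφr]
      exact h1.pow_left _
    · rw [show DihedralGroup.sr j = DihedralGroup.sr 0 * DihedralGroup.r j by simp,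
        ← ZMod.natCast_zmod_val j, ← DihedralGroup.r_one_pow, map_mul, map_pow, hφr, hφs]
      exact h2.mul_left (h1.pow_left _)
  have hΦ : ∀ d i, Φ (d, i) = φ d * s (ψ i) := fun d i => MonoidHom.noncommCoprod_apply _ _ _ (d, i)
  have hsurj : Function.Surjective Φ := by
    rw [← MonoidHom.range_eq_top, eq_top_iff]
    intro x _
    obtain ⟨k, hk, hx⟩ := exists_decomp_split π s hs x
    rw [hx]
    refine mul_mem ?_ ?_
    · have hgm : g ∈ Φ.range := ⟨(.r 1, 1), by rw [hΦ, map_one, map_one, mul_one, hφr]⟩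
      exact Subgroup.zpowers_le.2 hgm (hall hk)
    · have hum : s u ∈ Φ.range := by
        obtain ⟨e, he⟩ : ∃ e : ℕ, u = c * (u ^ 2) ^ e := by
          obtain ⟨t, rfl⟩ := hf
          refine ⟨t + 1, ?_⟩
          have hcu' : c = u ^ (2 * t + 1) := by
            obtain ⟨i, hi4, hi⟩ := Finset.mem_image.1 ((mem_zpowers_iff_mem_range_orderOf).1 hcu)
            rw [Finset.mem_range, hu'] at hi4
            change u ^ i = c at hi
            have h2 : u ^ (i * 2) = 1 := by rw [pow_mul, hi, ← hc, pow_orderOf_eq_one]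
            obtain ⟨v, hv⟩ := orderOf_dvd_of_pow_eq_one h2
            rw [hu'] at hv
            have hne : i ≠ 0 := fun h0 => by
              rw [← hi, h0, pow_zero, orderOf_one] at hc; omega
            have hv1 : v = 1 := by
              have h0 : v ≠ 0 := fun h => by rw [h, mul_zero] at hv; omega
              have h1 : v < 2 := by
                by_contra hlt
                have := Nat.mul_le_mul_left (2 * (2 * t + 1)) (not_lt.1 hlt)
                omega
              omega
            rw [hv1, mul_one] at hv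
            rw [← hi]
            congr 1
            omega
          rw [hcu', ← pow_mul, ← pow_add, show 2 * t + 1 + 2 * (t + 1) = 2 * (2 * t + 1) + 1 by ring, pow_succ,
            ← hu', pow_orderOf_eq_one, one_mul]
        refine ⟨(.sr 0, Multiplicative.ofAdd (e : ZMod f)), ?_⟩
        rw [hΦ, hφs, ← map_mul]
        congr 1
        change c * (u ^ 2) ^ ((e : ZMod f)).val = u
        rw [ZMod.val_natCast, ← pow_eq_pow_mod _ huf, ← he]
      obtain ⟨j, hj⟩ := hu (π x)
      rw [← hj, map_zpow]
      exact zpow_mem hum j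
  have hcard : Nat.card (DihedralGroup 4 × Multiplicative (ZMod f)) ≤ Nat.card G := by
    rw [Nat.card_prod, DihedralGroup.nat_card, Nat.card_eq_fintype_card (α := Multiplicative (ZMod f)),
      Fintype.card_multiplicative, ZMod.card, ← Subgroup.card_mul_index π.ker]
    have h4 : 4 ≤ Nat.card π.ker := by
      rw [← hg4, ← Nat.card_zpowers]
      exact Subgroup.card_le_of_le (Subgroup.zpowers_le.2 hg)
    have hi : π.ker.index = 2 * f := by
      rw [Subgroup.index_ker, MonoidHom.range_eq_top.2 (fun a => ⟨s a, hs a⟩), Subgroup.card_top, hA]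
    rw [hi]
    nlinarith
  haveI : Finite (DihedralGroup 4 × Multiplicative (ZMod f)) := inferInstance
  exact ⟨(MulEquiv.ofBijective Φ (Function.Surjective.bijective_of_nat_card_le hsurj hcard)).symm⟩

end Groups

end CfsgLib.POAut
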