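/-
The class parity of rational similitudes of forms of minus type.
-/
import Cfsg.Agent.Lib.KnownSimple.POAut.Classes

set_option autoImplicit false

namespace CfsgLib.POAut

open CfsgLib.Classical CfsgLib.Classical22

variable {K : Type*} [Field K] [Fintype K] {n : ℕ} {a b : K}

/-- Over any field where the binary part splits the parity is the same. -/
theorem parity_bcHom (hab : BinAniso a b) (hP₀ : Pre (qExt n (qBin a b))) {L : Type*} [Field L] [Fintype L]
    (g : K →+* L) {α : L} (hα : α ^ 2 + g a * α + g b = 0) (hPL : PolarNondeg (qExt n (qBin (g a) (g b))))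
    (T : simSub hP₀) :
    parityHom hPL (finrank_qMinus_space n) (maxS_xzLin n hα) (bcHom g (compat_qMinus g n a b) hP₀ T) =
      minusPar hab hP₀ T := by
  haveI := qe_fact hab
  letI : Algebra K L := g.toAlgebra
  haveI : Nonempty ((Fin n ⊕ Fin n) ⊕ Fin 2) := ⟨Sum.inr 0⟩
  have hu : (-α) * (-α) = (-b) • (1 : L) + a • (-α) := by
    rw [Algebra.smul_def, Algebra.smul_def, map_neg]
    change -α * -α = -(g b) * 1 + g a * -α
    linear_combination hα
  let j : QE a b →+* L := (QuadraticAlgebra.lift ⟨-α, hu⟩).toRingHom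
  have hj : ∀ z, j (algebraMap K (QE a b) z) = g z := fun z => (QuadraticAlgebra.lift ⟨-α, hu⟩).commutes z
  have hc : Compat j (qExt n (qBin (algebraMap K (QE a b) a) (algebraMap K (QE a b) b)))
      (qExt n (qBin (g a) (g b))) := by
    have h := compat_qMinus j n (algebraMap K (QE a b) a) (algebraMap K (QE a b) b)
    rwa [hj, hj] at h
  set T' := bcHom (algebraMap K (QE a b)) (compat_qMinus _ n a b) hP₀ T
  have hσ : ∀ s, (RingEquiv.refl L) (j s) = j (sigFun T' s) := fun s => by
    rw [sigFun_bcHom]; rfl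
  have e : bcHom g (compat_qMinus g n a b) hP₀ T = liftT hc (RingEquiv.refl L) T' hσ := by
    refine gamma_ext_rational g (by rw [sigFun_bcHom, sigFun_liftT]) fun w => ?_
    rw [bcHom_rational, show g ∘ w = j ∘ (algebraMap K (QE a b) ∘ w) from funext fun i => (hj (w i)).symm,
      liftT_rational, bcHom_rational]
    exact funext fun i => (hj _).symm
  rw [e, parityHom_liftT hc (polarNondeg_qe n hab) hPL (finrank_qMinus_space n) (finrank_qMinus_space n)
    (maxS_qe n hab) (maxS_xzLin n hα) hσ]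
  rfl

/-- A linear semisimilarity as a linear map. -/
noncomputable def bcLin {L : Type*} [Field L] {ι : Type} {Q : QuadraticForm L (ι → L)} (T : gammaO Q)
    (h : sigFun T = RingEquiv.refl L) : (ι → L) →ₗ[L] (ι → L) where
  toFun := addT T
  map_add' := map_add _
  map_smul' s v := by rw [(semisim_spec T).smul, h]; rfl

variable {F : Type*} [Field F] [Fintype F] {f : K →+* F}

/-- A twisted model inside a hyperbolic space. -/
theorem parity_liftS_plus (hab : BinAniso a b) (hP₀ : Pre (qExt n (qBin a b))) {α : F}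
    (hα : α ^ 2 + f a * α + f b = 0) {m : ℕ} (hm : m = n + 1) (hQ : Pre (qPlus m F))
    (S : Sim (qExt n (qBin (f a) (f b))) (qPlus m F)) (T : simSub hP₀) :
    parityHom hQ.nondeg (finrank_qPlus_space m) (maxS_xLin m) (liftS (compat_qMinus f n a b) hP₀ S T) =
      minusPar hab hP₀ T := by
  subst hm
  have hP : PolarNondeg (qExt n (qBin (f a) (f b))) := S.symm.polarNondeg hQ.nondeg
  rw [← parity_bcHom hab hP₀ f hα hP T]
  exact Sim.parityHom_gam S hP hQ.nondeg (finrank_qMinus_space n) (finrank_qPlus_space _) (maxS_xzLin n hα)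
    (maxS_xLin _) _

/-- A model inside a space of minus type. -/
theorem minusPar_liftS (hab : BinAniso a b) (hP₀ : Pre (qExt n (qBin a b))) (hab' : BinAniso (f a) (f b))
    {A B : F} (hAB : BinAniso A B) (hQ : Pre (qExt n (qBin A B)))
    (S : Sim (qExt n (qBin (f a) (f b))) (qExt n (qBin A B))) (T : simSub hP₀) :
    minusPar hAB hQ ⟨liftS (compat_qMinus f n a b) hP₀ S T, liftS_mem_simSub _ hQ hP₀ S T⟩ =
      minusPar hab hP₀ T := by
  haveI := qe_fact hAB
  haveI := qe_fact hab'
  haveI : Nonempty ((Fin n ⊕ Fin n) ⊕ Fin 2) := ⟨Sum.inr 0⟩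
  set gL := algebraMap F (QE A B)
  obtain ⟨φ⟩ := exists_algEquiv_of_finrank_two (QE (f a) (f b)) (QE A B) (qe_finrank _ _) (qe_finrank A B)
  have hα : φ (-QuadraticAlgebra.omega) ^ 2 + gL (f a) * φ (-QuadraticAlgebra.omega) + gL (f b) = 0 := by
    have h := congrArg φ (qe_root (f a) (f b))
    simpa only [map_add, map_mul, map_pow, map_zero, AlgEquiv.commutes] using h
  set hc := compat_qMinus gL n A B
  set hcP := compat_qMinus gL n (f a) (f b)
  set SL := bcSim hcP hc S
  have hPL : PolarNondeg (qExt n (qBin (gL (f a)) (gL (f b)))) :=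
    SL.symm.polarNondeg (polarNondeg_qe n hAB)
  rw [← parity_bcHom hab hP₀ (gL.comp f) hα hPL T]
  change parityHom (polarNondeg_qe n hAB) (finrank_qMinus_space n) (maxS_qe n hAB)
    (bcHom gL hc hQ ⟨liftS (compat_qMinus f n a b) hP₀ S T, _⟩) = _
  have e : bcHom gL hc hQ ⟨liftS (compat_qMinus f n a b) hP₀ S T, liftS_mem_simSub _ hQ hP₀ S T⟩ =
      SL.gam (bcHom (gL.comp f) (compat_qMinus (gL.comp f) n a b) hP₀ T) := by
    set T' := bcHom (gL.comp f) (compat_qMinus (gL.comp f) n a b) hP₀ T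
    refine gammaO_ext fun w => ?_
    obtain ⟨v, rfl⟩ := SL.e.surjective w
    rw [Sim.gam_apply]
    set L₁ := bcHom gL hc hQ ⟨liftS (compat_qMinus f n a b) hP₀ S T, liftS_mem_simSub _ hQ hP₀ S T⟩
    refine LinearMap.congr_fun (linear_ext_rational (gL.comp f)
      (A := (bcLin L₁ (sigFun_bcHom gL hc hQ _)).comp SL.e.toLinearMap)
      (B := SL.e.toLinearMap.comp (bcLin T' (sigFun_bcHom (gL.comp f) _ hP₀ T))) fun u => ?_) v
    change addT L₁ (bcEquiv gL S.e ((gL.comp f) ∘ u)) = bcEquiv gL S.e (addT T' ((gL.comp f) ∘ u))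
    rw [bcHom_rational, show (gL.comp f) ∘ u = gL ∘ (f ∘ u) from rfl, bcEquiv_rational, bcHom_rational,
      show (gL.comp f) ∘ addT T.1 u = gL ∘ (f ∘ addT T.1 u) from rfl, bcEquiv_rational]
    change gL ∘ addT (S.gam (bcHom f (compat_qMinus f n a b) hP₀ T)) (S.e (f ∘ u)) = _
    rw [Sim.gam_apply, bcHom_rational]
  rw [e]
  exact Sim.parityHom_gam SL hPL (polarNondeg_qe n hAB) (finrank_qMinus_space n) (finrank_qMinus_space n)
    (maxS_xzLin n hα) (maxS_qe n hAB) _

end CfsgLib.POAut
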