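/-
Classes of field-type elements do not split for odd degree.
-/
import Cfsg.Agent.Lib.KnownSimple.POAut.FieldClass

set_option autoImplicit false

namespace CfsgLib.POAut

open CfsgLib.Classical CfsgLib.Classical22

section Squares

variable {F K : Type*} [Field F] [Field K] [Fintype F] {f : K →+* F} {σ : F ≃+* F}

/-- In odd degree non-squares stay non-squares. -/
theorem isSquare_of_map {r : ℕ} (hσ : orderOf σ = r) (hr : Odd r) (hfix : ∀ x : F, σ x = x ↔ x ∈ Set.range f)
    {x : K} (h : IsSquare (f x)) : IsSquare x := by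
  obtain ⟨y, hy⟩ := h
  have h1 : σ y * σ y = y * y := by rw [← map_mul, ← hy, (hfix _).2 ⟨x, rfl⟩]
  rcases mul_self_eq_mul_self_iff.1 h1 with h2 | h2
  · obtain ⟨z, rfl⟩ := (hfix y).1 h2
    exact ⟨z, f.injective (by rw [hy, map_mul])⟩
  · have key : ∀ k : ℕ, (σ ^ k : F ≃+* F) y = (-1) ^ k * y := by
      intro k
      induction k with
      | zero => simp
      | succ k ih =>
        rw [pow_succ', RingAut.mul_apply, ih, map_mul, map_pow, map_neg, map_one, h2]
        ring
    have h3 := key r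
    rw [← hσ, pow_orderOf_eq_one, hσ, hr.neg_one_pow, RingAut.one_apply, neg_one_mul] at h3
    obtain ⟨z, rfl⟩ := (hfix y).1 (h2.trans h3.symm)
    exact ⟨z, f.injective (by rw [hy, map_mul])⟩

end Squares

variable {F : Type*} [Field F] [Fintype F] {ι : Type} [Fintype ι] [DecidableEq ι] {Q : QuadraticForm F (ι → F)}
variable {K : Type*} [Field K] [Fintype K] {f : K →+* F} {σ : F ≃+* F}
variable {J : Type} [Fintype J] [DecidableEq J] [Nonempty J] {P₀ : QuadraticForm K (J → K)}
  {P : QuadraticForm F (J → F)} (hcP : Compat f P₀ P) (hf : ∀ x, σ (f x) = f x) (hQ : Pre Q) (D : Diag hQ)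

omit [Nonempty J] in
/-- With odd degree, rational reflections and the Eichler group generate the isometries. -/
theorem eich_sup_rational (hcP : Compat f P₀ P) (hP : PolarNondeg P) (hP₀ : PolarNondeg P₀)
    (hn : 5 ≤ Fintype.card J) (hsq : ∀ x : K, IsSquare (f x) → IsSquare x) :
    eichGroup P ⊔ Subgroup.closure
      {g : qAut P | ∃ (v : J → K) (hv : P (f ∘ v) ≠ 0), g = qRefl P hv} = ⊤ := by
  classical
  set R := Subgroup.closure {g : qAut P | ∃ (v : J → K) (hv : P (f ∘ v) ≠ 0), g = qRefl P hv}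
  have hn' : 5 ≤ Module.finrank F (J → F) := by rwa [Module.finrank_pi]
  have hn₀ : 2 ≤ Module.finrank K (J → K) := by rw [Module.finrank_pi]; omega
  rw [eichGroup_eq_commutator P hP hn', eq_top_iff]
  intro g _
  haveI : Finite (J → F) := inferInstance
  haveI := finite_qAut P
  by_cases h2 : (2 : F) = 0
  · haveI : CharP F 2 := CharTwo.of_one_ne_zero_of_two_eq_zero one_ne_zero h2
    obtain ⟨v, hv⟩ := exists_value P₀ hP₀ hn₀ one_ne_zero
    have hv' : P (f ∘ v) ≠ 0 := by rw [hcP, hv, map_one]; exact one_ne_zero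
    obtain ⟨D, hD⟩ := exists_parity P hP (Or.inr (by omega))
    have hnot : qRefl P hv' ∉ commutator (qAut P) := fun h => by
      have := Abelianization.commutator_subset_ker D h
      rw [MonoidHom.mem_ker, hD] at this
      exact absurd this (by decide)
    have hidx := index_commutator_two P hP (by omega) (Or.inr (by omega))
    by_cases hg : g ∈ commutator (qAut P)
    · exact Subgroup.mem_sup_left hg
    · have hmem : g * qRefl P hv' ∈ commutator (qAut P) := by
        rw [Subgroup.mul_mem_iff_of_index_two hidx]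
        exact iff_of_false hg hnot
      rw [← mul_inv_cancel_right g (qRefl P hv')]
      exact Subgroup.mul_mem_sup hmem (inv_mem (Subgroup.subset_closure ⟨v, hv', rfl⟩))
  · obtain ⟨ψ, -, hker, h1, h2'⟩ := exists_abel_odd P h2 hP (by omega)
    have hK2 : ringChar K ≠ 2 := fun hc => h2 (by
      haveI : CharP K 2 := hc ▸ ringChar.charP K
      rw [← map_ofNat f, CharTwo.two_eq_zero, map_zero])
    obtain ⟨n, hn2⟩ := FiniteField.exists_nonsquare hK2
    have hn0 : n ≠ 0 := fun e => hn2 (e ▸ IsSquare.zero)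
    obtain ⟨v, hv⟩ := exists_value P₀ hP₀ hn₀ one_ne_zero
    obtain ⟨w, hw⟩ := exists_value P₀ hP₀ hn₀ hn0
    have hv' : P (f ∘ v) ≠ 0 := by rw [hcP, hv, map_one]; exact one_ne_zero
    have hw' : P (f ∘ w) ≠ 0 := by rw [hcP, hw]; exact (map_ne_zero f).2 hn0
    have hne : ψ (qRefl P hv') ≠ ψ (qRefl P hw') := fun e => hn2 (hsq n (by
      have := (h2' _ _ hv' hw').1 e
      rwa [hcP, hcP, hv, hw, map_one, one_mul] at this))
    have hne2 : (ψ (qRefl P hv')).2 ≠ (ψ (qRefl P hw')).2 := fun e =>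
      hne (Prod.ext ((h1 _ hv').trans (h1 _ hw').symm) e)
    have hgen : ∀ x : Multiplicative (ZMod 2) × ℤˣ,
        x = 1 ∨ x = ψ (qRefl P hv') ∨ x = ψ (qRefl P hw') ∨ x = ψ (qRefl P hv' * qRefl P hw') := by
      rintro ⟨x, e⟩
      rw [map_mul]
      have ha := h1 _ hv'
      have hb := h1 _ hw'
      generalize ψ (qRefl P hv') = A at *
      generalize ψ (qRefl P hw') = B at *
      obtain ⟨A1, A2⟩ := A
      obtain ⟨B1, B2⟩ := B
      subst ha hb
      revert x e A2 B2
      decide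
    have hRv : qRefl P hv' ∈ R := Subgroup.subset_closure ⟨v, hv', rfl⟩
    have hRw : qRefl P hw' ∈ R := Subgroup.subset_closure ⟨w, hw', rfl⟩
    obtain ⟨ρ, hρ, hρg⟩ : ∃ ρ ∈ R, ψ g = ψ ρ := by
      rcases hgen (ψ g) with h | h | h | h
      · exact ⟨1, one_mem _, by rw [h, map_one]⟩
      · exact ⟨_, hRv, h⟩
      · exact ⟨_, hRw, h⟩
      · exact ⟨_, mul_mem hRv hRw, h⟩
    rw [← inv_mul_cancel_right g ρ]
    refine Subgroup.mul_mem_sup ?_ hρ
    rw [← hker, MonoidHom.mem_ker, map_mul, map_inv, hρg, mul_inv_cancel]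

omit [Nonempty J] [Fintype K] in
theorem mulFac_mul (hQ : Pre Q) (S T : gammaO Q) : mulFac (S * T) = mulFac S * sigFun S (mulFac T) := by
  haveI := nontrivial_of_good hQ
  refine mulFac_eq hQ _ fun v => ?_
  rw [gammaO_mul_apply, (semisim_spec S).quad, (semisim_spec T).quad, map_mul,
    sigFun_unique (S * T) (σ := sigFun S * sigFun T) fun s u => by
      rw [gammaO_mul_apply, (semisim_spec T).smul, (semisim_spec S).smul]
      rfl,
    mul_assoc]
  rfl

omit [Fintype K] in
/-- In odd degree the class does not split. -/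
theorem splitCount_eq_one [Fintype K] (S : Sim P Q) {r : ℕ} (hσ : orderOf σ = r) (hP : PolarNondeg P)
    (hP₀ : PolarNondeg P₀) (hn : 5 ≤ Fintype.card J) (hsq : ∀ x : K, IsSquare (f x) → IsSquare x)
    (hmul : ∀ g ∈ D.G, ∃ g₀ ∈ D.G, Commute g₀ (fieldX hcP hf S) ∧ IsSquare (mulFac g / mulFac g₀)) :
    Cfsg.splitClassCount (D.G.map (act Q)) (Cfsg.Inn (TQ Q)) (act Q (fieldX hcP hf S)) = 1 := by
  rw [splitCount_eq hcP hf hQ D S, Subgroup.index_eq_one, eq_top_iff]
  rintro ⟨g, hg⟩ -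
  haveI := nontrivial_of_good hQ
  have hlin : ∀ T ∈ simSub hQ, ∀ s, sigFun T s = s := fun T hT => linear_of_simSub hQ hT
  set X := fieldX hcP hf S
  obtain ⟨g₀, hg₀, hc₀, t, ht⟩ := hmul g hg
  have ht0 : t ≠ 0 := fun e => by
    rw [e, mul_zero, div_eq_zero_iff] at ht
    exact ht.elim (semisim_spec g).ne (semisim_spec g₀).ne
  set b := scal Q (Units.mk0 t ht0) * g₀ with hb
  have hbG : b ∈ D.G := mul_mem (D.scal_mem _) hg₀
  have hmb : mulFac b = mulFac g := by
    rw [hb, mulFac_mul hQ, sigFun_of_simSub hQ (scal_mem_simSub hQ _), mulFac_eq hQ (scal Q (Units.mk0 t ht0))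
      (c := t * t) fun v => by
        rw [scal_apply, quad_smul, hlin _ (scal_mem_simSub hQ _)]
        rfl]
    change t * t * mulFac g₀ = _
    rw [← ht, div_mul_cancel₀ _ (semisim_spec g₀).ne]
  have hbi : b⁻¹ * g ∈ simSub hQ := mul_mem (inv_mem (D.le_sim hbG)) (D.le_sim hg)
  have hm1 : mulFac (b⁻¹ * g) = 1 := by
    have h := mulFac_mul hQ b (b⁻¹ * g)
    rw [mul_inv_cancel_left, hlin _ (D.le_sim hbG), hmb] at h
    exact mul_left_cancel₀ (semisim_spec g).ne (h.symm.trans (mul_one _).symm)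
  let L : (ι → F) →ₗ[F] (ι → F) :=
    { toFun := addT (b⁻¹ * g)
      map_add' := map_add _
      map_smul' := fun s v => by rw [(semisim_spec _).smul, hlin _ hbi, RingHom.id_apply] }
  let h₁ : qAut Q := ⟨LinearEquiv.ofBijective L (addT (b⁻¹ * g)).bijective, fun v => by
    change Q (addT (b⁻¹ * g) v) = Q v
    rw [(semisim_spec _).quad, hm1, hlin _ hbi, one_mul]⟩
  have hh₁ : qIncl Q h₁ = b⁻¹ * g := gammaO_ext fun _ => rfl
  set R := Subgroup.closure {u : qAut P | ∃ (v : J → K) (hv : P (f ∘ v) ≠ 0), u = qRefl P hv}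
  have hdec : h₁ ∈ eichGroup Q ⊔ R.map S.aut.toMonoidHom := by
    have h := congrArg (Subgroup.map S.aut.toMonoidHom) (eich_sup_rational hcP hP hP₀ hn hsq)
    rw [Subgroup.map_sup, Subgroup.map_top_of_surjective _ S.aut.surjective,
      eichGroup_eq_commutator P hP (by rwa [Module.finrank_pi])] at h
    rw [eichGroup_eq_commutator Q hQ.nondeg (by have := hQ.seven; omega), ← map_commutator_equiv S.aut, h]
    trivial
  haveI : (eichGroup Q).Normal := by
    rw [eichGroup_eq_commutator Q hQ.nondeg (by have := hQ.seven; omega)]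
    infer_instance
  rw [← SetLike.mem_coe, Subgroup.normal_mul, Set.mem_mul] at hdec
  obtain ⟨e, he, _, ⟨ρ, hρ, rfl⟩, hh⟩ := hdec
  have hρc : Commute (qIncl Q (S.aut ρ)) X := by
    have h : ∀ u ∈ R, Commute (qIncl P u) (phi f σ hcP hf) := by
      intro u hu
      induction hu using Subgroup.closure_induction with
      | mem x hx =>
        obtain ⟨v, hv, rfl⟩ := hx
        exact (commute_refl_phi hcP hf hv).symm
      | one => rw [map_one]; exact Commute.one_left _
      | mul x y _ _ hx hy => rw [map_mul]; exact hx.mul_left hy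
      | inv x _ hx => rw [map_inv]; exact hx.inv_left
    rw [← Sim.gam_qIncl]
    exact (h ρ hρ).map S.gam
  have hρG : qIncl Q (S.aut ρ) ∈ D.G := by
    have h : qIncl Q (S.aut ρ) = (qIncl Q e)⁻¹ * (b⁻¹ * g) := by
      rw [← hh₁, ← hh, map_mul, inv_mul_cancel_left]
      rfl
    rw [h]
    exact mul_mem (inv_mem (D.eich_mem e he)) (mul_mem (inv_mem hbG) hg)
  -- `g` is a product of the centraliser and an element of the Eichler group
  haveI := D.normal
  have hX : act Q X * act Q (b * qIncl Q (S.aut ρ)) = act Q (b * qIncl Q (S.aut ρ)) * act Q X := by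
    have hbc : Commute (g₀ * qIncl Q (S.aut ρ)) X := hc₀.mul_left hρc
    rw [hb, mul_assoc, map_mul (act Q) (scal Q _), act_scal, one_mul]
    exact ((hbc.map (act Q)).eq).symm
  have hsplit : g = (b * qIncl Q (S.aut ρ)) * ((qIncl Q (S.aut ρ))⁻¹ * qIncl Q e * qIncl Q (S.aut ρ)) := by
    have h : b⁻¹ * g = qIncl Q e * qIncl Q (S.aut ρ) := by rw [← hh₁, ← hh, map_mul]; rfl
    rw [eq_comm, ← mul_left_cancel_iff (a := b⁻¹), h]
    group
  have hs : (⟨b * qIncl Q (S.aut ρ), mul_mem hbG hρG⟩ : D.G) ∈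
      (Subgroup.centralizer {act Q X}).comap ((act Q).comp D.G.subtype) :=
    Subgroup.mem_centralizer_singleton_iff.2 hX.symm
  have he' : (qIncl Q (S.aut ρ))⁻¹ * qIncl Q e * qIncl Q (S.aut ρ) ∈ (eichGroup Q).map (qIncl Q) :=
    ⟨(S.aut ρ)⁻¹ * e * S.aut ρ, by simpa using ‹(eichGroup Q).Normal›.conj_mem e he (S.aut ρ)⁻¹, by simp⟩
  have hm : (⟨_, mul_mem (mul_mem (inv_mem hρG) (D.eich_mem e he)) hρG⟩ : D.G) ∈
      ((eichGroup Q).map (qIncl Q)).subgroupOf D.G := Subgroup.mem_subgroupOf.2 he'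
  rw [show (⟨g, hg⟩ : D.G) = ⟨b * qIncl Q (S.aut ρ), mul_mem hbG hρG⟩ *
    ⟨_, mul_mem (mul_mem (inv_mem hρG) (D.eich_mem e he)) hρG⟩ from Subtype.ext hsplit]
  exact Subgroup.mul_mem_sup hs hm

end CfsgLib.POAut
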