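/-
Standard similitudes of given multiplier preserving the two classes.
-/
import Cfsg.Agent.Lib.KnownSimple.POAut.Splitting
import Cfsg.Agent.Lib.KnownSimple.POAut.Inndiag

set_option autoImplicit false

namespace CfsgLib.POAut

open CfsgLib.Classical CfsgLib.Classical22

variable {F : Type*} [Field F]

/-- Multiply the first coordinates by `c` and act on the plane by `λ₀ + λ₁ ω`. -/
def torusLin (n : ℕ) (a b c l₀ l₁ : F) :
    ((Fin n ⊕ Fin n) ⊕ Fin 2 → F) →ₗ[F] ((Fin n ⊕ Fin n) ⊕ Fin 2 → F) where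
  toFun v := Sum.elim (Sum.elim (fun i => c * v (.inl (.inl i))) fun i => v (.inl (.inr i)))
    ![l₀ * v (.inr 0) - b * l₁ * v (.inr 1), l₁ * v (.inr 0) + (l₀ + a * l₁) * v (.inr 1)]
  map_add' u v := by
    funext i
    rcases i with (i | i) | i
    · simp [mul_add]
    · simp
    · fin_cases i <;> simp <;> ring
  map_smul' s v := by
    funext i
    rcases i with (i | i) | i
    · simp; ring
    · simp
    · fin_cases i <;> simp <;> ring

theorem torusLin_quad {n : ℕ} {a b c l₀ l₁ : F} (hl : l₀ ^ 2 + a * l₀ * l₁ + b * l₁ ^ 2 = c)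
    (v : (Fin n ⊕ Fin n) ⊕ Fin 2 → F) :
    qExt n (qBin a b) (torusLin n a b c l₀ l₁ v) = c * qExt n (qBin a b) v := by
  simp only [coe_qExt_qBin, Cfsg.quadFormMinus, torusLin, LinearMap.coe_mk, AddHom.coe_mk, Sum.elim_inl, Sum.elim_inr,
    Matrix.cons_val_zero, Matrix.cons_val_one, mul_add, Finset.mul_sum]
  congr 1
  · exact Finset.sum_congr rfl fun i _ => mul_assoc _ _ _
  · linear_combination (v (.inr 0) ^ 2 + a * v (.inr 0) * v (.inr 1) + b * v (.inr 1) ^ 2) * hl

theorem torusLin_injective {n : ℕ} {a b c l₀ l₁ : F} (hl : l₀ ^ 2 + a * l₀ * l₁ + b * l₁ ^ 2 = c) (hc : c ≠ 0) :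
    Function.Injective (torusLin n a b c l₀ l₁) := by
  rw [← LinearMap.ker_eq_bot, LinearMap.ker_eq_bot']
  intro v h
  have e := fun i => congrFun h i
  have e0 := e (.inr 0)
  have e1 := e (.inr 1)
  simp [torusLin] at e0 e1
  funext i
  rcases i with (i | i) | i
  · simpa [torusLin, hc] using e (.inl (.inl i))
  · simpa [torusLin] using e (.inl (.inr i))
  · fin_cases i
    · show v (.inr 0) = 0
      refine (mul_eq_zero.1 (show c * v (.inr 0) = 0 by
        linear_combination (l₀ + a * l₁) * e0 + b * l₁ * e1 - v (.inr 0) * hl)).resolve_left hc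
    · show v (.inr 1) = 0
      refine (mul_eq_zero.1 (show c * v (.inr 1) = 0 by
        linear_combination l₀ * e1 - l₁ * e0 - v (.inr 1) * hl)).resolve_left hc

/-- A torus element as a semisimilarity. -/
noncomputable def torusT {n : ℕ} {a b c l₀ l₁ : F} (hl : l₀ ^ 2 + a * l₀ * l₁ + b * l₁ ^ 2 = c) (hc : c ≠ 0) :
    gammaO (qExt n (qBin a b)) :=
  mkGamma (σ := RingEquiv.refl F) (c := c)
    (LinearEquiv.ofInjectiveEndo (torusLin n a b c l₀ l₁) (torusLin_injective hl hc)).toAddEquiv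
    ⟨fun s v => (torusLin n a b c l₀ l₁).map_smul s v, fun v => torusLin_quad hl v, hc⟩

theorem torusT_apply {n : ℕ} {a b c l₀ l₁ : F} (hl : l₀ ^ 2 + a * l₀ * l₁ + b * l₁ ^ 2 = c) (hc : c ≠ 0)
    (v : (Fin n ⊕ Fin n) ⊕ Fin 2 → F) : addT (torusT hl hc) v = torusLin n a b c l₀ l₁ v := rfl

variable [Fintype F]

theorem torusT_mem_simSub {n : ℕ} {a b c l₀ l₁ : F} (hQ : Pre (qExt n (qBin a b)))
    (hl : l₀ ^ 2 + a * l₀ * l₁ + b * l₁ ^ 2 = c) (hc : c ≠ 0) : torusT hl hc ∈ simSub hQ :=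
  MonoidHom.mem_ker.2 (sigHom_eq hQ _ fun s v => (torusLin n a b c l₀ l₁).map_smul s v)

theorem mulFac_torusT {n : ℕ} {a b c l₀ l₁ : F} (hQ : Pre (qExt n (qBin a b)))
    (hl : l₀ ^ 2 + a * l₀ * l₁ + b * l₁ ^ 2 = c) (hc : c ≠ 0) : mulFac (torusT (n := n) hl hc) = c :=
  mulFac_eq hQ _ fun v => by
    rw [torusT_apply, torusLin_quad hl, linear_of_simSub hQ (torusT_mem_simSub hQ hl hc)]

theorem torusT_mem_minusG {n : ℕ} {a b c l₀ l₁ : F} (hab : BinAniso a b) (hQ : Pre (qExt n (qBin a b)))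
    (hl : l₀ ^ 2 + a * l₀ * l₁ + b * l₁ ^ 2 = c) (hc : c ≠ 0) : torusT hl hc ∈ minusG hab hQ := by
  refine (mem_minusG hab hQ).2 ⟨torusT_mem_simSub hQ hl hc, ?_⟩
  haveI := qe_fact hab
  set f := algebraMap F (QE a b)
  set α : QE a b := -QuadraticAlgebra.omega
  have hα : α ^ 2 + f a * α + f b = 0 := qe_root a b
  change parityHom (polarNondeg_qe n hab) (finrank_qMinus_space n) (maxS_qe n hab)
    (bcHom f (compat_qMinus f n a b) hQ ⟨_, torusT_mem_simSub hQ hl hc⟩) = 1
  set T := bcHom f (compat_qMinus f n a b) hQ ⟨_, torusT_mem_simSub hQ hl hc⟩ with hT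
  have hTa : ∀ v, addT T v = torusLin n (f a) (f b) (f c) (f l₀) (f l₁) v := fun v =>
    DFunLike.congr_fun (semilinear_ext_rational (σ := RingEquiv.refl (QE a b)) (A := (addT T).toAddMonoidHom)
      (B := (torusLin n (f a) (f b) (f c) (f l₀) (f l₁)).toAddMonoidHom)
      (fun s w => by
        change addT T (s • w) = _
        rw [(semisim_spec T).smul, hT, sigFun_bcHom]
        rfl)
      (fun s w => (torusLin n (f a) (f b) (f c) (f l₀) (f l₁)).map_smul s w) f fun w => by
        change addT T (f ∘ w) = torusLin n (f a) (f b) (f c) (f l₀) (f l₁) (f ∘ w)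
        rw [hT, bcHom_rational, torusT_apply]
        funext i
        rcases i with (i | i) | i
        · simp [torusLin]
        · simp [torusLin]
        · fin_cases i <;> simp [torusLin]) v
  rw [parityHom_apply]
  have himg : imgT T (LinearMap.range (xzLin n α)) = LinearMap.range (xzLin n α) := by
    refine Submodule.eq_of_le_of_finrank_eq ?_ (finrank_imgT _ _)
    rintro _ ⟨_, ⟨p, rfl⟩, rfl⟩
    refine ⟨(fun i => f c * p.1 i, (f l₁ * α + f l₀ + f a * f l₁) * p.2), ?_⟩
    rw [hTa]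
    funext i
    rcases i with (i | i) | i
    · simp [torusLin, xzLin]
    · simp [torusLin, xzLin]
    · fin_cases i
      · simp [torusLin, xzLin]
        linear_combination p.2 * f l₁ * hα
      · simp [torusLin, xzLin]
        ring
  rw [himg, par2_self (F := QE a b) (maxS_qe n hab).1, ofAdd_zero]

/-- Every value is a multiplier. -/
theorem exists_minusG_mult {n : ℕ} {a b c : F} (hab : BinAniso a b) (hQ : Pre (qExt n (qBin a b))) (hc : c ≠ 0) :
    ∃ T ∈ minusG hab hQ, mulFac T = c := by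
  obtain ⟨z, hz⟩ := exists_value (qBin a b) (polarNondeg_qBin hab) (by simp [Module.finrank_pi]) hc
  rw [qBin_apply] at hz
  have hl : z 0 ^ 2 + a * z 0 * z 1 + b * z 1 ^ 2 = c := by linear_combination hz
  exact ⟨_, torusT_mem_minusG hab hQ hl hc, mulFac_torusT hQ hl hc⟩

end CfsgLib.POAut
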