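/-
Field automorphisms of groups of minus type.
-/
import Cfsg.Agent.Lib.KnownSimple.POAut.MinusPar
import Cfsg.Agent.Lib.KnownSimple.POAut.Similitudes

set_option autoImplicit false

namespace CfsgLib.POAut

open CfsgLib.Classical CfsgLib.Classical22

variable {F : Type*} [Field F] [Fintype F]

/-- The multiplier of a carried similitude. -/
theorem mulFac_liftS {K : Type*} [Field K] [Fintype K] {f : K →+* F} {ι : Type} [Fintype ι] [DecidableEq ι]
    {Q : QuadraticForm F (ι → F)} (hQ : Pre Q) {J : Type} [Fintype J] [DecidableEq J] [Nonempty J]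
    {P₀ : QuadraticForm K (J → K)} {P : QuadraticForm F (J → F)} (hcP : Compat f P₀ P) (hP₀ : Pre P₀)
    (S : Sim P Q) (g : simSub hP₀) : mulFac (liftS hcP hP₀ S g) = f (mulFac g.1) := by
  obtain ⟨v, hv⟩ := exists_rational_vector hcP hP₀.nondeg
  have h := (semisim_spec (liftS hcP hP₀ S g)).quad (S.e (f ∘ v))
  rw [linear_of_simSub hQ (liftS_mem_simSub hcP hQ hP₀ S g), liftS, MonoidHom.comp_apply] at h
  change Q (addT (S.gam (bcHom f hcP hP₀ g)) (S.e (f ∘ v))) =
    mulFac (S.gam (bcHom f hcP hP₀ g)) * Q (S.e (f ∘ v)) at h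
  rw [Sim.gam_apply, bcHom_rational, S.quad, S.quad, hcP, (semisim_spec g.1).quad, linear_of_simSub hP₀ g.2,
    map_mul, hcP v] at h
  refine mul_right_cancel₀ (mul_ne_zero S.ne (by rwa [hcP] at hv)) (h.symm.trans ?_)
  ring

/-- The data of a field automorphism of minus type. -/
theorem fieldMinus_data {K : Type*} [Field K] [Fintype K] {f : K →+* F} {σ : F ≃+* F} {n : ℕ} (hn : 3 ≤ n)
    {A B : F} (hAB : BinAniso A B) (hQ : Pre (qExt n (qBin A B))) {T : gammaO (qExt n (qBin A B))} {r : ℕ}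
    (hr : r.Prime) (hσ : orderOf σ = r) (hT : sigFun T = σ) (hpow : ∃ c, T ^ r = scal _ c)
    (hfix : ∀ x : F, σ x = x ↔ x ∈ Set.range f) :
    ∃ (a b : K) (hab : BinAniso a b),
      Odd r ∧
      Nonempty (↥((minusDiag hAB hQ).G.map (act _) ⊓ Subgroup.centralizer {act _ T}) ≃*
        ↥((minusG hab (good_qMinus hn hab).toPre).map (act _))) ∧
      Cfsg.splitClassCount ((minusDiag hAB hQ).G.map (act _)) (Cfsg.Inn (TQ (qExt n (qBin A B)))) (act _ T) = 1 := by
  haveI : Nonempty ((Fin n ⊕ Fin n) ⊕ Fin 2) := ⟨Sum.inr 0⟩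
  obtain ⟨a, b, hab, hab', h2, S, c, e⟩ := exists_model_minus hAB hQ hσ hT hpow hfix
  have hf : ∀ x, σ (f x) = f x := fun x => (hfix _).2 ⟨x, rfl⟩
  have hodd : Odd r := hr.odd_of_ne_two h2
  have hP₀ := (good_qMinus (F := K) hn hab).toPre
  have hP := (good_qMinus (F := F) hn hab').toPre
  have hxe : act _ T = act _ (fieldX (compat_qMinus f n a b) hf S) := by rw [e, map_mul, act_scal, one_mul]
  have hcorr : ∀ g : simSub hP₀, liftS (compat_qMinus f n a b) hP₀ S g ∈ (minusDiag hAB hQ).G ↔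
      g.1 ∈ minusG hab hP₀ := by
    intro g
    change _ ∈ minusG hAB hQ ↔ _
    rw [mem_minusG, mem_minusG]
    exact ⟨fun ⟨_, h⟩ => ⟨g.2, (minusPar_liftS hab hP₀ hab' hAB hQ S g).symm.trans h⟩,
      fun ⟨_, h⟩ => ⟨_, (minusPar_liftS hab hP₀ hab' hAB hQ S g).trans h⟩⟩
  refine ⟨a, b, hab, hodd, ?_, ?_⟩
  · rw [hxe]
    exact centralizer_equiv _ hf hQ (minusDiag hAB hQ) hP₀ hσ hfix hP S _ (minusDiag hab hP₀).le_sim hcorr
  · rw [hxe]
    refine splitCount_eq_one _ hf hQ _ S hσ hP.nondeg hP₀.nondeg (by simp; omega)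
      (fun x => isSquare_of_map hσ hodd hfix) fun g hg => ?_
    by_cases hs : IsSquare (mulFac g)
    · refine ⟨1, one_mem _, Commute.one_left _, ?_⟩
      rwa [mulFac_eq hQ 1 (c := 1) fun v => ?_, div_one]
      rw [linear_of_simSub hQ (one_mem _), one_mul]
      rfl
    · have h2' : ringChar F ≠ 2 := fun h => hs (FiniteField.isSquare_of_char_two h _)
      have hK2 : ringChar K ≠ 2 := fun hc => h2' (by
        haveI : CharP K 2 := hc ▸ ringChar.charP K
        haveI : CharP F 2 := charP_of_injective_ringHom f.injective 2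
        exact ringChar.eq F 2)
      obtain ⟨k, hk⟩ := FiniteField.exists_nonsquare hK2
      have hk0 : k ≠ 0 := fun e => hk (e ▸ IsSquare.zero)
      obtain ⟨U, hU, hUk⟩ := exists_minusG_mult hab hP₀ hk0
      have hUs : U ∈ simSub hP₀ := (minusDiag hab hP₀).le_sim hU
      refine ⟨_, (hcorr ⟨U, hUs⟩).2 hU, commute_liftS _ hf hP₀ S _, ?_⟩
      rw [mulFac_liftS hQ, hUk]
      have hfk : ¬ IsSquare (f k) := fun h => hk (isSquare_of_map hσ hodd hfix h)
      classical
      have hprod : IsSquare (mulFac g * f k) :=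
        (quadraticChar_one_iff_isSquare (mul_ne_zero (semisim_spec g).ne ((map_ne_zero f).2 hk0))).1 (by
          rw [map_mul, quadraticChar_neg_one_iff_not_isSquare.2 hs, quadraticChar_neg_one_iff_not_isSquare.2 hfk]
          norm_num)
      obtain ⟨t, ht⟩ := hprod
      refine ⟨t / f k, ?_⟩
      rw [div_mul_div_comm, ← ht, mul_div_mul_right _ _ ((map_ne_zero f).2 hk0)]

end CfsgLib.POAut
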