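/-
Scalars times isometries; rational isometries in coordinates.
-/
import Cfsg.Agent.Lib.KnownSimple.POAut.FieldMinus

set_option autoImplicit false

namespace CfsgLib.POAut

open CfsgLib.Classical CfsgLib.Classical22

variable {F : Type*} [Field F] [Fintype F]

section Decomp

variable {ι : Type} [Fintype ι] [DecidableEq ι] {Q : QuadraticForm F (ι → F)} (hQ : Pre Q)

theorem mulFac_scal (hQ : Pre Q) (c : Fˣ) : mulFac (scal Q c) = (c : F) * c :=
  mulFac_eq hQ _ fun v => by
    rw [scal_apply, quad_smul, linear_of_simSub hQ (scal_mem_simSub hQ c)]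

theorem mulFac_qIncl (hQ : Pre Q) (h : qAut Q) : mulFac (qIncl Q h) = 1 :=
  mulFac_eq hQ _ fun v => by
    rw [qIncl_apply, qAut_map, linear_of_simSub hQ (qIncl_mem_simSub hQ h), one_mul]

theorem qIncl_injective : Function.Injective (qIncl Q) := fun g h e => qAut_ext fun v => by
  rw [← qIncl_apply, e, qIncl_apply]

/-- A similitude with square multiplier is a scalar times an isometry. -/
theorem exists_decomp {g : gammaO Q} (hg : g ∈ simSub hQ) (hsq : IsSquare (mulFac g)) :
    ∃ (c : Fˣ) (h : qAut Q), g = scal Q c * qIncl Q h := by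
  obtain ⟨t, ht⟩ := hsq
  have ht0 : t ≠ 0 := fun e => (semisim_spec g).ne (by rw [ht, e, mul_zero])
  let c := Units.mk0 t ht0
  set b := scal Q c⁻¹ * g with hb
  have hbs : b ∈ simSub hQ := mul_mem (scal_mem_simSub hQ _) hg
  have hm : mulFac b = 1 := by
    rw [hb, mulFac_mul hQ, linear_of_simSub hQ (scal_mem_simSub hQ _), mulFac_scal hQ, ht, Units.val_inv_eq_inv_val,
      Units.val_mk0]
    field_simp
  let L : (ι → F) →ₗ[F] (ι → F) :=
    { toFun := addT b
      map_add' := map_add _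
      map_smul' := fun s v => by rw [(semisim_spec _).smul, linear_of_simSub hQ hbs, RingHom.id_apply] }
  refine ⟨c, ⟨LinearEquiv.ofBijective L (addT b).bijective, fun v => ?_⟩, ?_⟩
  · change Q (addT b v) = Q v
    rw [(semisim_spec _).quad, hm, linear_of_simSub hQ hbs, one_mul]
  · have h : ∀ k : gammaO Q, k = b → g = scal Q c * k := fun k hk => by
      rw [hk, hb, ← mul_assoc, ← map_mul, mul_inv_cancel, map_one, one_mul]
    exact h _ (gammaO_ext fun v => rfl)

end Decomp

section Rational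

variable {ι : Type} [Fintype ι] [DecidableEq ι] {Q : QuadraticForm F (ι → F)}
variable {K : Type*} [Field K] [Fintype K] {f : K →+* F}
variable {J : Type} [Fintype J] [DecidableEq J] [Nonempty J] {P₀ : QuadraticForm K (J → K)}
  {P : QuadraticForm F (J → F)} (hcP : Compat f P₀ P) (hP₀ : Pre P₀) (S : Sim P Q)

theorem liftS_scal (c : Kˣ) :
    liftS hcP hP₀ S ⟨scal P₀ c, scal_mem_simSub hP₀ c⟩ = scal Q (Units.map f.toMonoidHom c) := by
  change S.gam (bcHom f hcP hP₀ ⟨scal P₀ c, scal_mem_simSub hP₀ c⟩) = _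
  rw [← S.gam_scal]
  congr 1
  refine gamma_ext_rational f ?_ fun w => ?_
  · rw [sigFun_bcHom]
    exact (sigFun_unique _ fun s u => by rw [scal_apply, scal_apply, smul_comm]; rfl).symm
  · rw [bcHom_rational, scal_apply, scal_apply]
    exact funext fun i => map_mul f _ _

theorem liftS_refl {v : J → K} (hv : P₀ v ≠ 0) :
    ∃ hv' : Q (S.e (f ∘ v)) ≠ 0,
      liftS hcP hP₀ S ⟨qIncl P₀ (qRefl P₀ hv), qIncl_mem_simSub hP₀ _⟩ = qIncl Q (qRefl Q hv') := by
  have hvP : P (f ∘ v) ≠ 0 := by rw [hcP]; exact (map_ne_zero f).2 hv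
  refine ⟨by rw [S.quad]; exact mul_ne_zero S.ne hvP, ?_⟩
  change S.gam (bcHom f hcP hP₀ ⟨qIncl P₀ (qRefl P₀ hv), qIncl_mem_simSub hP₀ _⟩) = _
  rw [← Sim.aut_refl S hvP, ← Sim.gam_qIncl]
  congr 1
  refine gamma_ext_rational f ?_ fun w => ?_
  · rw [sigFun_bcHom]
    exact (sigFun_unique (qIncl P (qRefl P hvP)) (σ := RingEquiv.refl F)
      fun s u => (qRefl P hvP).1.map_smul s u).symm
  · rw [bcHom_rational, qIncl_apply, qIncl_apply, qRefl_apply, qRefl_apply, hcP.polar]
    funext i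
    simp [hcP v, map_sub, map_mul]

/-- A property of carried rational isometries follows from rational reflections. -/
theorem liftS_qIncl_induction (R : Subgroup (qAut Q))
    (hR : ∀ (v : J → K) (hv : Q (S.e (f ∘ v)) ≠ 0), qRefl Q hv ∈ R) (k : qAut P₀) :
    ∃ h ∈ R, liftS hcP hP₀ S ⟨qIncl P₀ k, qIncl_mem_simSub hP₀ k⟩ = qIncl Q h := by
  have hk : k ∈ reflGroup P₀ := by
    rw [reflGroup_eq_top P₀ hP₀.nondeg (Or.inr (by have := hP₀.seven; omega))]
    trivial
  let Φ : qAut P₀ →* gammaO Q := (liftS hcP hP₀ S).comp ((qIncl P₀).codRestrict (simSub hP₀) (qIncl_mem_simSub hP₀))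
  have hle : (reflGroup P₀).map Φ ≤ R.map (qIncl Q) := by
    rw [Subgroup.map_le_iff_le_comap]
    refine (Subgroup.closure_le _).2 ?_
    rintro _ ⟨v, hv, rfl⟩
    obtain ⟨hv', e⟩ := liftS_refl hcP hP₀ S hv
    exact ⟨qRefl Q hv', hR v hv', e.symm⟩
  obtain ⟨h, hh, e⟩ := hle ⟨k, hk, rfl⟩
  exact ⟨h, hh, e.symm⟩

end Rational

end CfsgLib.POAut
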