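/-
Field automorphisms of groups in odd dimension.
-/
import Cfsg.Agent.Lib.KnownSimple.POAut.Spinor

set_option autoImplicit false

namespace CfsgLib.POAut

open CfsgLib.Classical CfsgLib.Classical22

variable {F : Type*} [Field F] [Fintype F]

/-- In odd dimension every multiplier is a square. -/
theorem isSquare_mulFac_odd {ι : Type} [Fintype ι] [DecidableEq ι] {Q : QuadraticForm F (ι → F)} (hQ : Pre Q)
    {m : ℕ} (hn : Fintype.card ι = 2 * m + 1) {g : gammaO Q} (hg : g ∈ simSub hQ) : IsSquare (mulFac g) := by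
  classical
  let L : (ι → F) →ₗ[F] (ι → F) :=
    { toFun := addT g
      map_add' := map_add _
      map_smul' := fun s v => by rw [(semisim_spec _).smul, linear_of_simSub hQ hg, RingHom.id_apply] }
  let B : LinearMap.BilinForm F (ι → F) := QuadraticMap.polarBilin Q
  have hB : B.Nondegenerate := PolarNondeg.nondegenerate hQ.nondeg
  set c := mulFac g
  have h : B.comp L L = c • B := LinearMap.ext fun u => LinearMap.ext fun v => by
    change QuadraticMap.polar Q (addT g u) (addT g v) = c * QuadraticMap.polar Q u v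
    rw [(semisim_spec g).polar, linear_of_simSub hQ hg]
  let b := Pi.basisFun F ι
  have hd := congrArg (fun B' : LinearMap.BilinForm F (ι → F) => (LinearMap.BilinForm.toMatrix b B').det) h
  simp only [map_smul, Matrix.det_smul, LinearMap.BilinForm.toMatrix_comp b b, Matrix.det_mul, Matrix.det_transpose] at hd
  set x := (LinearMap.toMatrix b b L).det
  set d := (LinearMap.BilinForm.toMatrix b B).det with hddef
  have hd0 : d ≠ 0 := (LinearMap.BilinForm.nondegenerate_iff_det_ne_zero b).1 hB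
  rw [hn] at hd
  have h2 : x * x = c ^ (2 * m + 1) := mul_right_cancel₀ hd0 (by linear_combination hd)
  have hc : c ≠ 0 := (semisim_spec g).ne
  refine ⟨x / c ^ m, ?_⟩
  rw [div_mul_div_comm, h2, eq_div_iff (mul_ne_zero (pow_ne_zero _ hc) (pow_ne_zero _ hc))]
  ring

theorem z2pair_cases (A B : Multiplicative (ZMod 2) × ℤˣ) (hA : A.1 = Multiplicative.ofAdd 1)
    (hB : B.1 = Multiplicative.ofAdd 1) (h : A ≠ B) (x : Multiplicative (ZMod 2) × ℤˣ) :
    x = 1 ∨ x = A ∨ x = B ∨ x = A * B := by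
  obtain ⟨A1, A2⟩ := A
  obtain ⟨B1, B2⟩ := B
  obtain ⟨x1, x2⟩ := x
  simp only at hA hB
  subst hA hB
  rcases Int.units_eq_one_or A2 with rfl | rfl <;> rcases Int.units_eq_one_or B2 with rfl | rfl <;>
    rcases Int.units_eq_one_or x2 with rfl | rfl <;> revert h x1 <;> decide

theorem card_oddI (m : ℕ) : Fintype.card (OddI m) = 2 * m + 1 := by
  simp [OddI]
  omega

variable {K : Type*} [Field K] [Fintype K] {f : K →+* F} {σ : F ≃+* F}

/-- In even degree every element of the fixed field is a square. -/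
theorem isSquare_map_of_two (hσ : orderOf σ = 2) (hfix : ∀ x : F, σ x = x ↔ x ∈ Set.range f) (k : K) :
    IsSquare (f k) := by
  rcases eq_or_ne (ringChar F) 2 with h2 | h2
  · exact FiniteField.isSquare_of_char_two h2 _
  rcases eq_or_ne k 0 with rfl | hk
  · rw [map_zero]; exact IsSquare.zero
  classical
  have hcard : Fintype.card F = Fintype.card K ^ 2 := by
    rw [CfsgLib.PSLAut.card_fixedField σ, hσ, ← Nat.card_eq_fintype_card (α := K)]
    congr 1
    refine Nat.card_congr ((Equiv.ofInjective f f.injective).trans (Equiv.setCongr ?_)).symm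
    exact Set.ext fun x => (hfix x).symm
  have hK : ringChar K ≠ 2 := fun hc => h2 (by
    haveI : CharP K 2 := hc ▸ ringChar.charP K
    haveI : CharP F 2 := charP_of_injective_ringHom f.injective 2
    exact ringChar.eq F 2)
  have hodd := FiniteField.odd_card_of_char_ne_two hK
  rw [FiniteField.isSquare_iff h2 ((map_ne_zero f).2 hk), hcard]
  obtain ⟨q, hq⟩ : ∃ q, Fintype.card K = 2 * q + 1 := ⟨Fintype.card K / 2, by omega⟩
  rw [hq, show (2 * q + 1) ^ 2 / 2 = (2 * q) * (q + 1) by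
    rw [show (2 * q + 1) ^ 2 = 2 * ((2 * q) * (q + 1)) + 1 by ring]; omega, pow_mul, ← map_pow,
    show 2 * q = Fintype.card K - 1 by omega, FiniteField.pow_card_sub_one_eq_one k hk, map_one, one_pow]

/-- The class of an involutory field automorphism splits in two. -/
theorem splitCount_odd_two {ι J : Type} [Fintype ι] [DecidableEq ι] [Fintype J] [DecidableEq J] [Nonempty J]
    {Q : QuadraticForm F (ι → F)} {P₀ : QuadraticForm K (J → K)} {P : QuadraticForm F (J → F)}
    (hcP : Compat f P₀ P) (hf : ∀ x, σ (f x) = f x) (hQ : Pre Q) (hP₀ : Pre P₀) (hP : Pre P) (S : Sim P Q)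
    (hσ : orderOf σ = 2) (hfix : ∀ x : F, σ x = x ↔ x ∈ Set.range f) (h2 : (2 : F) ≠ 0) {m : ℕ}
    (hcard : Fintype.card ι = 2 * m + 1) (hcard₀ : Fintype.card J = 2 * m + 1) :
    Cfsg.splitClassCount ((oddDiag hQ).G.map (act Q)) (Cfsg.Inn (TQ Q)) (act Q (fieldX hcP hf S)) = 2 := by
  classical
  rw [splitCount_eq _ hf hQ _ S]
  set X := fieldX hcP hf S
  obtain ⟨ψ, -, hker, h1, hiff⟩ := exists_abel_odd (Q) h2 hQ.nondeg (by have := hQ.seven; omega)
  obtain ⟨v₀, hv₀⟩ := exists_rational_vector hcP hP₀.nondeg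
  have hv₀' : Q (S.e (f ∘ v₀)) ≠ 0 := by rw [S.quad]; exact mul_ne_zero S.ne hv₀
  set A := ψ (qRefl _ hv₀')
  let R : Subgroup (qAut (Q)) := (Subgroup.zpowers A).comap ψ
  have hR : ∀ (v : J → K) (hv : Q (S.e (f ∘ v)) ≠ 0), qRefl _ hv ∈ R := by
    intro v hv
    refine Subgroup.mem_comap.2 ?_
    rw [show ψ (qRefl _ hv) = A from (hiff _ _ hv hv₀').2 ?_]
    · exact Subgroup.mem_zpowers A
    · rw [S.quad, S.quad, hcP, hcP]
      obtain ⟨s, hs⟩ := (isSquare_map_of_two hσ hfix (P₀ v)).mul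
        (isSquare_map_of_two hσ hfix (P₀ v₀))
      exact ⟨S.μ * s, by linear_combination (S.μ * S.μ) * hs⟩
  have hneg : ∀ c : Fˣ, ∀ k : qAut (Q), scal _ c = qIncl _ k → ψ k ∈ Subgroup.zpowers A := by
    intro c k hck
    have hcc : (c : F) * c = 1 := by rw [← mulFac_scal hQ, hck, mulFac_qIncl hQ]
    rcases mul_self_eq_one_iff.1 hcc with h | h
    · rw [show k = 1 from qIncl_injective (by rw [← hck, map_one, show c = 1 from Units.ext h, map_one]), map_one]
      exact one_mem _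
    · let n : qAut (P₀) := ⟨LinearEquiv.neg K, fun v => QuadraticMap.map_neg _ v⟩
      obtain ⟨h', hh', e'⟩ := liftS_qIncl_induction hcP hP₀ S R hR n
      have en : (⟨qIncl _ n, qIncl_mem_simSub hP₀ n⟩ : simSub hP₀) = ⟨scal _ (-1), scal_mem_simSub hP₀ _⟩ :=
        Subtype.ext (gammaO_ext fun v => by
          rw [qIncl_apply, scal_apply, Units.val_neg, Units.val_one, neg_one_smul]
          rfl)
      rw [en, liftS_scal] at e'
      have : k = h' := qIncl_injective (by
        rw [← hck, ← e']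
        congr 1
        exact Units.ext (by simp [h]))
      exact this ▸ hh'
  set H := (Subgroup.centralizer {act _ X}).comap ((act _).comp (oddDiag hQ).G.subtype) ⊔
    ((eichGroup (Q)).map (qIncl _)).subgroupOf (oddDiag hQ).G
  have hH : ∀ g : (oddDiag hQ).G, g ∈ H ↔ ∃ c h, g.1 = scal _ c * qIncl _ h ∧ ψ h ∈ Subgroup.zpowers A := by
    intro g
    constructor
    · intro hg
      haveI : (((eichGroup (Q)).map (qIncl _)).subgroupOf (oddDiag hQ).G).Normal := by
        refine ⟨fun n hn g => ?_⟩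
        obtain ⟨e₁, he, hne⟩ := Subgroup.mem_subgroupOf.1 hn
        refine Subgroup.mem_subgroupOf.2 ⟨_, (conjElt g.1 ⟨e₁, he⟩).2, ?_⟩
        rw [Subgroup.coe_mul, Subgroup.coe_mul, Subgroup.coe_inv, eq_mul_inv_iff_mul_eq, ← hne]
        exact gammaO_ext fun v => (conjElt_spec g.1 ⟨e₁, he⟩ v).symm
      rw [← SetLike.mem_coe, Subgroup.mul_normal, Set.mem_mul] at hg
      obtain ⟨s, hs, n, hn, rfl⟩ := hg
      obtain ⟨e₁, he₁, hn'⟩ := Subgroup.mem_subgroupOf.1 hn
      obtain ⟨y, hy⟩ := (commute_act_iff hcP hf hQ S hσ s.2).1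
        (Subgroup.mem_centralizer_singleton_iff.1 (Subgroup.mem_comap.1 hs))
      obtain ⟨k, hk⟩ := exists_liftS_eq hcP hf hQ hP₀ hfix hP S (mul_mem (scal_mem_simSub hQ y) s.2) hy
      obtain ⟨d, k', hk'⟩ := exists_decomp hP₀ k.2 (isSquare_mulFac_odd hP₀ hcard₀ k.2)
      obtain ⟨h, hh, e'⟩ := liftS_qIncl_induction hcP hP₀ S R hR k'
      have hkk : k = ⟨scal _ d, scal_mem_simSub hP₀ d⟩ * ⟨qIncl _ k', qIncl_mem_simSub hP₀ k'⟩ := Subtype.ext hk'
      refine ⟨y⁻¹ * Units.map f.toMonoidHom d, h * e₁, ?_, ?_⟩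
      · have hs' : s.1 = scal _ y⁻¹ * (scal _ (Units.map f.toMonoidHom d) * qIncl _ h) := by
          rw [← e', ← liftS_scal hcP hP₀ S d, ← map_mul, ← hkk, hk, ← mul_assoc, ← map_mul, inv_mul_cancel,
            map_one, one_mul]
        rw [Subgroup.coe_mul, hs', ← hn', map_mul, map_mul]
        simp only [mul_assoc]
      · rw [map_mul]
        refine mul_mem hh ?_
        rw [show ψ e₁ = 1 from MonoidHom.mem_ker.1 (hker ▸ (eichGroup_eq_commutator (Q) hQ.nondeg
          (by have := hQ.seven; omega) ▸ he₁))]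
        exact one_mem _
    · rintro ⟨c, h, hg, hh⟩
      obtain ⟨i, hi⟩ := hh
      have hrefl : ∃ k : simSub hP₀, liftS hcP hP₀ S k = qIncl _ (qRefl _ hv₀') := by
        obtain ⟨hv', e'⟩ := liftS_refl hcP hP₀ S (v := v₀) (fun e => hv₀ (by rw [hcP, e, map_zero]))
        exact ⟨_, e'⟩
      obtain ⟨k, hk⟩ := hrefl
      have he₁ : ((qRefl _ hv₀') ^ i)⁻¹ * h ∈ eichGroup (Q) := by
        rw [eichGroup_eq_commutator (Q) hQ.nondeg (by have := hQ.seven; omega), ← hker, MonoidHom.mem_ker,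
          map_mul, map_inv, map_zpow]
        change (A ^ i)⁻¹ * ψ h = 1
        rw [show A ^ i = ψ h from hi, inv_mul_cancel]
      have hs : (⟨scal _ c * qIncl _ ((qRefl _ hv₀') ^ i), mul_mem (scal_mem_simSub hQ c)
          (qIncl_mem_simSub hQ _)⟩ : (oddDiag hQ).G) ∈
          (Subgroup.centralizer {act _ X}).comap ((act _).comp (oddDiag hQ).G.subtype) := by
        refine Subgroup.mem_centralizer_singleton_iff.2 ?_
        have hcm : Commute (qIncl _ ((qRefl _ hv₀') ^ i)) X := by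
          rw [map_zpow, ← hk]
          exact (commute_liftS hcP hf hP₀ S k).zpow_left i
        have key : act Q (scal Q c * qIncl Q ((qRefl Q hv₀') ^ i)) * act Q X =
            act Q X * act Q (scal Q c * qIncl Q ((qRefl Q hv₀') ^ i)) := by
          rw [map_mul (act Q) (scal Q c), act_scal, one_mul]
          exact (hcm.map (act Q)).eq
        exact key
      have : g = ⟨scal _ c * qIncl _ ((qRefl _ hv₀') ^ i), mul_mem (scal_mem_simSub hQ c)
          (qIncl_mem_simSub hQ _)⟩ * ⟨qIncl _ (((qRefl _ hv₀') ^ i)⁻¹ * h), qIncl_mem_simSub hQ _⟩ :=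
        Subtype.ext (by rw [Subgroup.coe_mul, mul_assoc, ← map_mul, mul_inv_cancel_left]; exact hg)
      rw [this]
      exact Subgroup.mul_mem_sup hs (Subgroup.mem_subgroupOf.2 ⟨_, he₁, rfl⟩)
  obtain ⟨z, hz⟩ := FiniteField.exists_nonsquare (F := F) fun hc => h2 (by
    haveI : CharP F 2 := hc ▸ ringChar.charP F
    exact CharTwo.two_eq_zero)
  have hz0 : z ≠ 0 := fun e => hz (e ▸ IsSquare.zero)
  obtain ⟨w, hw⟩ := exists_value (Q) hQ.nondeg (by have := hQ.seven; omega) (mul_ne_zero hv₀' hz0)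
  have hw0 : Q w ≠ 0 := hw ▸ mul_ne_zero hv₀' hz0
  set B := ψ (qRefl _ hw0)
  have hAB : A ≠ B := fun e => hz (by
    obtain ⟨s, hs⟩ := (hiff _ _ hv₀' hw0).1 e
    rw [hw] at hs
    exact ⟨s / Q (S.e (f ∘ v₀)), by field_simp; linear_combination hs⟩)
  have hA1 : A.1 = Multiplicative.ofAdd 1 := h1 _ _
  have hB1 : B.1 = Multiplicative.ofAdd 1 := h1 _ _
  have hsq : ∀ x : Multiplicative (ZMod 2) × ℤˣ, x * x = 1 := by decide
  have hcases : ∀ x : Multiplicative (ZMod 2) × ℤˣ, x = 1 ∨ x = A ∨ x = B ∨ x = A * B := by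
    exact z2pair_cases A B hA1 hB1 hAB
  have hBnot : ∀ i : ℤ, A ^ i ≠ B := by
    intro i
    have hA2 : A ^ (2 : ℤ) = 1 := (zpow_two A).trans (hsq A)
    rcases Int.even_or_odd' i with ⟨j, rfl | rfl⟩
    · rw [zpow_mul, hA2, one_zpow]
      intro e
      have h' := congrArg Prod.fst e
      rw [hB1] at h'
      exact absurd h' (by decide)
    · rw [zpow_add, zpow_mul, hA2, one_zpow, one_mul, zpow_one]
      exact hAB
  rw [Subgroup.index_eq_two_iff]
  refine ⟨⟨qIncl _ (qRefl _ hw0), qIncl_mem_simSub hQ _⟩, fun g => ?_⟩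
  obtain ⟨c, h, hg⟩ := exists_decomp hQ g.2 (isSquare_mulFac_odd hQ hcard g.2)
  by_cases hin : ψ h ∈ Subgroup.zpowers A
  · refine Or.inr ⟨(hH g).2 ⟨c, h, hg, hin⟩, fun hgb => ?_⟩
    obtain ⟨c', h', hg', hh'⟩ := (hH _).1 hgb
    rw [Subgroup.coe_mul, hg, mul_assoc, ← map_mul, ← eq_inv_mul_iff_mul_eq, ← mul_assoc, ← map_inv, ← map_mul,
      ← mul_inv_eq_iff_eq_mul, ← map_inv, ← map_mul] at hg'
    have h3 := hneg _ _ hg'.symm
    rw [map_mul, map_mul, map_inv] at h3
    refine hBnot _ ((Subgroup.mem_zpowers_iff.1 ?_).choose_spec)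
    exact (Subgroup.mul_mem_cancel_left _ hin).1 ((Subgroup.mul_mem_cancel_right _ (inv_mem hh')).1 h3)
  · refine Or.inl ⟨(hH _).2 ⟨c, h * qRefl _ hw0, ?_, ?_⟩, fun hgin => hin ?_⟩
    · rw [Subgroup.coe_mul, hg, map_mul, mul_assoc]
    · rw [map_mul]
      change ψ h * B ∈ _
      have hBB : B * B = 1 := hsq B
      rcases hcases (ψ h) with e | e | e | e
      · exact absurd (e ▸ one_mem _) hin
      · exact absurd (e ▸ Subgroup.mem_zpowers A) hin
      · rw [e, hBB]; exact one_mem _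
      · rw [e, mul_assoc, hBB, mul_one]; exact Subgroup.mem_zpowers A
    · obtain ⟨c', h', hg', hh'⟩ := (hH _).1 hgin
      rw [hg, ← eq_inv_mul_iff_mul_eq, ← mul_assoc, ← map_inv, ← map_mul,
        ← mul_inv_eq_iff_eq_mul, ← map_inv, ← map_mul] at hg'
      have h3 := hneg _ _ hg'.symm
      rw [map_mul, map_inv] at h3
      exact (Subgroup.mul_mem_cancel_right _ (inv_mem hh')).1 h3

/-- The data of a field automorphism in odd dimension. -/
theorem fieldOdd_data (hodd : Odd (Fintype.card F)) {m : ℕ} (hm : 3 ≤ m) (hQ : Pre (qOdd m F))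
    {T : gammaO (qOdd m F)} {r : ℕ} (hr : r.Prime) (hσ : orderOf σ = r) (hT : sigFun T = σ)
    (hpow : ∃ c, T ^ r = scal _ c) (hfix : ∀ x : F, σ x = x ↔ x ∈ Set.range f)
    (hP₀ : Pre (qOdd m K)) :
    Nonempty (↥((oddDiag hQ).G.map (act _) ⊓ Subgroup.centralizer {act _ T}) ≃*
        ↥((oddDiag hP₀).G.map (act _))) ∧
      (Odd r → Cfsg.splitClassCount ((oddDiag hQ).G.map (act _)) (Cfsg.Inn (TQ (qOdd m F))) (act _ T) = 1) ∧
      (r = 2 → Cfsg.splitClassCount ((oddDiag hQ).G.map (act _)) (Cfsg.Inn (TQ (qOdd m F))) (act _ T) = 2) := by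
  classical
  obtain ⟨S, c, e⟩ := exists_model_odd hQ.nondeg hσ hT hpow hfix
  have hf : ∀ x, σ (f x) = f x := fun x => (hfix _).2 ⟨x, rfl⟩
  have h2 : (2 : F) ≠ 0 := two_ne_zero_of_odd_card hodd
  set hcP := compat_qOdd f m
  set X := fieldX hcP hf S
  have hxe : act _ T = act _ X := by rw [e, map_mul, act_scal, one_mul]
  have hcard := card_oddI m
  refine ⟨?_, fun hr' => ?_, fun hr' => ?_⟩
  · rw [hxe]
    exact centralizer_equiv _ hf hQ (oddDiag hQ) hP₀ hσ hfix hQ S _ (oddDiag hP₀).le_sim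
      fun g => ⟨fun _ => g.2, fun _ => liftS_mem_simSub _ hQ hP₀ S g⟩
  · rw [hxe]
    refine splitCount_eq_one _ hf hQ _ S hσ hQ.nondeg hP₀.nondeg (by omega)
      (fun x => isSquare_of_map hσ hr' hfix) fun g hg => ⟨1, one_mem _, Commute.one_left _, ?_⟩
    rw [mulFac_eq hQ 1 (c := 1) fun v => by rw [linear_of_simSub hQ (one_mem _), one_mul]; rfl, div_one]
    exact isSquare_mulFac_odd hQ hcard hg
  · subst hr'
    rw [hxe]
    exact splitCount_odd_two hcP hf hQ hP₀ hQ S hσ hfix h2 hcard hcard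

end CfsgLib.POAut
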