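/-
The spinor character on the diagonal torus of a hyperbolic space, and split planes.
-/
import Cfsg.Agent.Lib.KnownSimple.POAut.FieldOdd

set_option autoImplicit false

namespace CfsgLib.POAut

open CfsgLib.Classical CfsgLib.Classical22

variable {F : Type*} [Field F] {M : ℕ}

/-- The diagonal torus. -/
noncomputable def diagTorus (M : ℕ) : (Fin M → Fˣ) →* qAut (qPlus M F) :=
  MonoidHom.mk' (fun t => ⟨LinearEquiv.piCongrRight
      (Sum.elim (fun i => LinearEquiv.smulOfUnit (t i)) fun i => LinearEquiv.smulOfUnit (t i)⁻¹ :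
        Fin M ⊕ Fin M → (F ≃ₗ[F] F)), fun v => by
      simp only [coe_qPlus, Cfsg.quadFormPlus]
      refine Finset.sum_congr rfl fun i _ => ?_
      change ((t i : Fˣ) : F) * v (Sum.inl i) * (((t i)⁻¹ : Fˣ) * v (Sum.inr i)) = _
      rw [mul_mul_mul_comm, ← Units.val_mul, mul_inv_cancel, Units.val_one, one_mul]⟩)
    fun t u => qAut_ext fun v => funext fun i => by
      rcases i with i | i
      · change ((t i * u i : Fˣ) : F) * v (Sum.inl i) = (t i : F) * ((u i : F) * v (Sum.inl i))
        rw [Units.val_mul, mul_assoc]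
      · change (((t i * u i)⁻¹ : Fˣ) : F) * v (Sum.inr i) = (((t i)⁻¹ : Fˣ) : F) * ((((u i)⁻¹ : Fˣ) : F) * v (Sum.inr i))
        rw [mul_inv, Units.val_mul, mul_assoc]

theorem diagTorus_inl (t : Fin M → Fˣ) (v : Fin M ⊕ Fin M → F) (i : Fin M) :
    (diagTorus M t).1 v (Sum.inl i) = (t i : F) * v (Sum.inl i) := rfl

theorem diagTorus_inr (t : Fin M → Fˣ) (v : Fin M ⊕ Fin M → F) (i : Fin M) :
    (diagTorus M t).1 v (Sum.inr i) = (((t i)⁻¹ : Fˣ) : F) * v (Sum.inr i) := rfl

/-- The vector `x_i - t y_i`. -/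
def pairVec (i : Fin M) (t : F) : Fin M ⊕ Fin M → F := Pi.single (Sum.inl i) 1 - t • Pi.single (Sum.inr i) 1

theorem pairVec_quad (i : Fin M) (t : F) : qPlus M F (pairVec i t) = -t := by
  classical
  simp only [coe_qPlus, Cfsg.quadFormPlus, pairVec]
  rw [Finset.sum_eq_single i (fun j _ hj => by simp [hj]) (by simp)]
  simp

theorem polar_pairVec (i : Fin M) (t : F) (v : Fin M ⊕ Fin M → F) :
    QuadraticMap.polar (qPlus M F) v (pairVec i t) = v (Sum.inr i) - t * v (Sum.inl i) := by
  classical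
  simp only [QuadraticMap.polar, coe_qPlus, Cfsg.quadFormPlus, pairVec]
  rw [← Finset.sum_sub_distrib, ← Finset.sum_sub_distrib, Finset.sum_eq_single i (fun j _ hj => by simp [hj]) (by simp)]
  simp
  ring

theorem diagTorus_single (i : Fin M) (t : Fˣ) :
    diagTorus M (Pi.mulSingle i t) = qRefl (qPlus M F) (v := pairVec i 1) (by simp [pairVec_quad]) *
      qRefl (qPlus M F) (v := pairVec i (t : F)) (by simp [pairVec_quad]) := by
  classical
  refine qAut_ext fun v => funext fun j => ?_
  rw [qAut_mul_apply, qRefl_apply, qRefl_apply, pairVec_quad, pairVec_quad, polar_pairVec, polar_pairVec]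
  have ht := t.ne_zero
  rcases j with j | j
  · rw [diagTorus_inl]
    rcases eq_or_ne j i with rfl | hj
    · simp [pairVec]
      field_simp
      ring
    · simp [pairVec, hj]
  · rw [diagTorus_inr]
    rcases eq_or_ne j i with rfl | hj
    · simp [pairVec]
      field_simp
      ring
    · simp [pairVec, hj]

variable [Fintype F]

/-- The spinor character on the torus. -/
theorem psi_diagTorus {ψ : qAut (qPlus M F) →* Multiplicative (ZMod 2) × ℤˣ}
    (h1 : ∀ (v : Fin M ⊕ Fin M → F) (hv : qPlus M F v ≠ 0), (ψ (qRefl _ hv)).1 = Multiplicative.ofAdd 1)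
    (hiff : ∀ (v w : Fin M ⊕ Fin M → F) (hv : qPlus M F v ≠ 0) (hw : qPlus M F w ≠ 0),
      ψ (qRefl _ hv) = ψ (qRefl _ hw) ↔ IsSquare (qPlus M F v * qPlus M F w))
    (t : Fin M → Fˣ) : ψ (diagTorus M t) = 1 ↔ IsSquare (∏ i, (t i : F)) := by
  classical
  let χ : Fˣ →* ℤˣ := ((quadraticChar F).toUnitHom)
  let χ' : Fˣ →* Multiplicative (ZMod 2) × ℤˣ := (1 : Fˣ →* Multiplicative (ZMod 2)).prod χ
  have hχ : ∀ u : Fˣ, χ u = 1 ↔ IsSquare (u : F) := fun u => by
    rw [← Units.val_inj, MulChar.coe_toUnitHom, Units.val_one, quadraticChar_one_iff_isSquare u.ne_zero]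
  have hsingle : ∀ (i : Fin M) (u : Fˣ), ψ (diagTorus M (Pi.mulSingle i u)) = χ' u := fun i u => by
    rw [diagTorus_single, map_mul]
    have hA := h1 (pairVec i 1) (by simp [pairVec_quad])
    have hB := h1 (pairVec i (u : F)) (by simp [pairVec_quad])
    have hab := hiff (pairVec i 1) (pairVec i (u : F)) (by simp [pairVec_quad]) (by simp [pairVec_quad])
    have hsq : IsSquare (qPlus M F (pairVec i 1) * qPlus M F (pairVec i (u : F))) ↔ χ u = 1 := by
      rw [hχ, pairVec_quad, pairVec_quad, neg_mul_neg, one_mul]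
    rw [hsq] at hab
    revert hA hB hab
    generalize ψ (qRefl _ _) = A
    generalize ψ (qRefl _ _) = B
    intro hA hB hab
    refine Prod.ext ?_ ?_
    · rw [Prod.fst_mul, hA, hB]
      rfl
    · change A.2 * B.2 = χ u
      rcases Int.units_eq_one_or (χ u) with h | h
      · rw [hab.2 h, Int.units_mul_self, h]
      · have hne : A.2 ≠ B.2 := fun e => by
          rw [h] at hab
          exact absurd (hab.1 (Prod.ext (hA.trans hB.symm) e)) (by decide)
        rw [h]
        rcases Int.units_eq_one_or A.2 with ha | ha <;> rcases Int.units_eq_one_or B.2 with hb | hb <;>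
          simp_all
  have hprod : ψ (diagTorus M t) = χ' (∏ i, t i) := by
    conv_lhs => rw [← Finset.univ_prod_mulSingle t]
    rw [map_prod χ', ← MonoidHom.comp_apply ψ (diagTorus M), map_prod]
    exact Finset.prod_congr rfl fun i _ => hsingle i (t i)
  rw [hprod, ← Units.coe_prod, ← hχ]
  exact ⟨fun h => congrArg Prod.snd h, fun h => Prod.ext rfl h⟩

/-! ### Split planes -/

omit [Fintype F] in
/-- Splitting the binary part by two roots. -/
noncomputable def splitSim (n : ℕ) {a b α β : F} (hs : α + β = -a) (hp : α * β = b) (hne : α ≠ β) :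
    Sim (qExt n (qBin a b)) (qPlus (n + 1) F) where
  e := LinearEquiv.ofBijective
    ({ toFun := fun v => Sum.elim
        (Fin.cons (v (.inr 0) - α * v (.inr 1)) fun i => v (.inl (.inl i)))
        (Fin.cons (v (.inr 0) - β * v (.inr 1)) fun i => v (.inl (.inr i)))
       map_add' := fun u v => funext fun i => by
        rcases i with i | i <;> refine Fin.cases ?_ (fun k => ?_) i <;> simp <;> ring
       map_smul' := fun c v => funext fun i => by
        rcases i with i | i <;> refine Fin.cases ?_ (fun k => ?_) i <;> simp <;> ring } :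
      ((Fin n ⊕ Fin n) ⊕ Fin 2 → F) →ₗ[F] (Fin (n + 1) ⊕ Fin (n + 1) → F))
    ⟨fun u v h => by
      have e := fun i => congrFun h i
      have e0 := e (.inl 0)
      have e1 := e (.inr 0)
      simp at e0 e1
      have h1 : u (.inr 1) = v (.inr 1) := mul_left_cancel₀ (sub_ne_zero.2 hne) (by linear_combination e1 - e0)
      funext i
      rcases i with (i | i) | i
      · simpa using e (.inl i.succ)
      · simpa using e (.inr i.succ)
      · fin_cases i
        · show u (.inr 0) = v (.inr 0)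
          linear_combination e0 + α * h1
        · exact h1,
    fun w => by
      obtain ⟨z1, hz1⟩ : ∃ z1, z1 = (w (.inr 0) - w (.inl 0)) / (α - β) := ⟨_, rfl⟩
      refine ⟨Sum.elim (Sum.elim (fun i => w (.inl i.succ)) fun i => w (.inr i.succ))
        ![w (.inl 0) + α * z1, z1], funext fun i => ?_⟩
      have hd : α - β ≠ 0 := sub_ne_zero.2 hne
      rcases i with i | i <;> refine Fin.cases ?_ (fun k => ?_) i <;> simp
      rw [hz1]
      field_simp
      ring⟩
  μ := 1
  ne := one_ne_zero
  quad v := by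
    simp only [coe_qPlus, Cfsg.quadFormPlus, coe_qExt_qBin, Cfsg.quadFormMinus, one_mul, Fin.sum_univ_succ]
    change (v (.inr 0) - α * v (.inr 1)) * (v (.inr 0) - β * v (.inr 1)) +
      ∑ i, v (.inl (.inl i)) * v (.inl (.inr i)) = _
    linear_combination -(v (.inr 0) * v (.inr 1)) * hs + v (.inr 1) ^ 2 * hp

omit [Fintype F] in
theorem splitSim_inl_zero {n : ℕ} {a b α β : F} (hs : α + β = -a) (hp : α * β = b) (hne : α ≠ β)
    (v : (Fin n ⊕ Fin n) ⊕ Fin 2 → F) :
    (splitSim n hs hp hne).e v (.inl 0) = v (.inr 0) - α * v (.inr 1) := rfl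

omit [Fintype F] in
theorem splitSim_inr_zero {n : ℕ} {a b α β : F} (hs : α + β = -a) (hp : α * β = b) (hne : α ≠ β)
    (v : (Fin n ⊕ Fin n) ⊕ Fin 2 → F) :
    (splitSim n hs hp hne).e v (.inr 0) = v (.inr 0) - β * v (.inr 1) := rfl

omit [Fintype F] in
theorem splitSim_inl_succ {n : ℕ} {a b α β : F} (hs : α + β = -a) (hp : α * β = b) (hne : α ≠ β)
    (v : (Fin n ⊕ Fin n) ⊕ Fin 2 → F) (i : Fin n) :
    (splitSim n hs hp hne).e v (.inl i.succ) = v (.inl (.inl i)) := rfl

omit [Fintype F] in
theorem splitSim_inr_succ {n : ℕ} {a b α β : F} (hs : α + β = -a) (hp : α * β = b) (hne : α ≠ β)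
    (v : (Fin n ⊕ Fin n) ⊕ Fin 2 → F) (i : Fin n) :
    (splitSim n hs hp hne).e v (.inr i.succ) = v (.inl (.inr i)) := rfl

end CfsgLib.POAut
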