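/-
Graph-field automorphisms of groups of plus type.
-/
import Cfsg.Agent.Lib.KnownSimple.POAut.PlusTorus

set_option autoImplicit false
set_option maxHeartbeats 1000000

namespace CfsgLib.POAut

open CfsgLib.Classical CfsgLib.Classical22

variable {F : Type*} [Field F] [Fintype F]

/-- The parity of a standard field automorphism with a reflection. -/
theorem parity_refl_field {m : ℕ} (hQ : Pre (qPlus m F)) (σ : F ≃+* F) (A : gammaO (qPlus m F))
    {v : Fin m ⊕ Fin m → F} (hv : qPlus m F v ≠ 0) :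
    parityHom hQ.nondeg (finrank_qPlus_space m) (maxS_xLin m)
      (A * (qIncl _ (qRefl _ hv) * semOf (one_pair (rat_qPlus σ))) * A⁻¹) = Multiplicative.ofAdd 1 := by
  have h : parityHom hQ.nondeg (finrank_qPlus_space m) (maxS_xLin m) (semOf (one_pair (rat_qPlus (m := m) σ))) = 1 := by
    rw [parityHom_apply]
    have himg : imgT (semOf (one_pair (rat_qPlus (m := m) σ))) (LinearMap.range (xLin m)) =
        LinearMap.range (xLin (F := F) m) := by
      refine Submodule.eq_of_le_of_finrank_eq ?_ (finrank_imgT _ _)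
      rintro _ ⟨_, ⟨x, rfl⟩, rfl⟩
      refine ⟨σ ∘ x, ?_⟩
      rw [semOf_apply, Units.val_one, Matrix.one_mulVec]
      funext i
      cases i <;> simp [xLin]
    rw [himg, par2_self (F := F) (maxS_xLin (F := F) m).1, ofAdd_zero]
  rw [map_mul, map_mul, map_mul, map_inv, parityHom_refl, h, mul_one, mul_right_comm, mul_inv_cancel, one_mul]

/-- Involutory semisimilarities interchanging the classes with the same field automorphism are conjugate. -/
theorem graph_exists_conj {m : ℕ} (hQ : Pre (qPlus m F)) [Nonempty (Fin m ⊕ Fin m)] {σ : F ≃+* F}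
    (hσ : orderOf σ = 2) {T T' : gammaO (qPlus m F)} (hT : sigFun T = σ) (hT' : sigFun T' = σ)
    (hpow : ∃ c, T ^ 2 = scal _ c) (hpow' : ∃ c, T' ^ 2 = scal _ c)
    (hp : parityHom hQ.nondeg (finrank_qPlus_space m) (maxS_xLin m) T = Multiplicative.ofAdd 1)
    (hp' : parityHom hQ.nondeg (finrank_qPlus_space m) (maxS_xLin m) T' = Multiplicative.ofAdd 1) :
    Cfsg.IsConjUnder ((plusDiag hQ).G.map (act _)) (act _ T) (act _ T') := by
  haveI : Fintype (CfsgLib.PSLAut.fixedField σ) := Fintype.ofFinite _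
  have hfix := fix_fixedField σ
  have hdec : (1 : Multiplicative (ZMod 2)) ≠ Multiplicative.ofAdd 1 := by decide
  rcases exists_model_plus hQ hσ hT hpow hfix with ⟨h, -⟩ | ⟨-, n, a, b, rfl, hab, -, S, c, e⟩
  · exact absurd (h.symm.trans hp) hdec
  rcases exists_model_plus hQ hσ hT' hpow' hfix with ⟨h, -⟩ | ⟨-, n', a', b', hn, hab', -, S', c', e'⟩
  · exact absurd (h.symm.trans hp') hdec
  obtain rfl : n = n' := by omega
  haveI : Nonempty ((Fin n ⊕ Fin n) ⊕ Fin 2) := ⟨Sum.inr 0⟩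
  obtain ⟨S₀⟩ := Sim.nonempty_of_similar (similar_qExt_qBin n hab hab')
  refine exists_conj_model (compat_qMinus _ n a b) (fun z => (hfix _).2 ⟨z, rfl⟩) hQ _
    (polarNondeg_qExt (polarNondeg_qBin hab) n) ⟨S, c, e⟩
    ⟨(bcSim (compat_qMinus _ n a b) (compat_qMinus _ n a' b') S₀).trans S', c', ?_⟩
  rw [e', fieldX, fieldX, Sim.gam_trans, bcSim_phi]

/-- The parity on isometries is the first component of the abelian invariant. -/
theorem fst_eq_parity {m : ℕ} (hQ : Pre (qPlus m F)) {ψ : qAut (qPlus m F) →* Multiplicative (ZMod 2) × ℤˣ}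
    (h1 : ∀ (v : Fin m ⊕ Fin m → F) (hv : qPlus m F v ≠ 0), (ψ (qRefl _ hv)).1 = Multiplicative.ofAdd 1)
    (h : qAut (qPlus m F)) :
    (ψ h).1 = parityHom hQ.nondeg (finrank_qPlus_space m) (maxS_xLin m) (qIncl _ h) := by
  have hgen := reflGroup_eq_top (qPlus m F) hQ.nondeg (Or.inr (by have := hQ.seven; omega))
  have hmem : h ∈ reflGroup (qPlus m F) := hgen ▸ Subgroup.mem_top h
  induction hmem using Subgroup.closure_induction with
  | mem x hx =>
    obtain ⟨v, hv, rfl⟩ := hx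
    rw [h1, parityHom_refl]
  | one => simp
  | mul x y _ _ hx hy => rw [map_mul, map_mul, map_mul, Prod.fst_mul, hx, hy]
  | inv x _ hx => rw [map_inv, map_inv, map_inv, Prod.fst_inv, hx]

section Split

variable {K : Type*} [Field K] [Fintype K] {f : K →+* F} {σ : F ≃+* F} {n : ℕ} {a b : K}
variable (hQ : Pre (qPlus (n + 1) F)) (S : Sim (qExt n (qBin (f a) (f b))) (qPlus (n + 1) F))

/-- The shape of the centraliser up to inner automorphisms. -/
theorem graph_stab (hP₀ : Pre (qExt n (qBin a b))) (hP : Pre (qExt n (qBin (f a) (f b))))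
    (hf : ∀ x, σ (f x) = f x) (hfix : ∀ x : F, σ x = x ↔ x ∈ Set.range f) (hσ : orderOf σ = 2)
    [Nonempty ((Fin n ⊕ Fin n) ⊕ Fin 2)] (g : gammaO (qPlus (n + 1) F)) (hg : g ∈ simSub hQ)
    (hc : act _ g * act _ (fieldX (compat_qMinus f n a b) hf S) =
      act _ (fieldX (compat_qMinus f n a b) hf S) * act _ g) :
    ∃ (k : simSub hP₀) (y : Fˣ), g = scal _ y * liftS (compat_qMinus f n a b) hP₀ S k := by
  obtain ⟨y, hy⟩ := (commute_act_iff _ hf hQ S hσ hg).1 hc
  obtain ⟨k, hk⟩ := exists_liftS_eq _ hf hQ hP₀ hfix hP S (mul_mem (scal_mem_simSub hQ y) hg) hy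
  exact ⟨k, y⁻¹, by rw [hk, ← mul_assoc, ← map_mul, inv_mul_cancel, map_one, one_mul]⟩

variable (hab : BinAniso a b) (hP₀ : Pre (qExt n (qBin a b))) (hP : Pre (qExt n (qBin (f a) (f b))))
  (hf : ∀ x, σ (f x) = f x) (hfix : ∀ x : F, σ x = x ↔ x ∈ Set.range f) (hσ : orderOf σ = 2)
  [Nonempty ((Fin n ⊕ Fin n) ⊕ Fin 2)]

local notation "parP" => parityHom hQ.nondeg (finrank_qPlus_space (n + 1)) (maxS_xLin (n + 1))
local notation "XP" => fieldX (compat_qMinus f n a b) hf S

theorem hdec_ne : (1 : Multiplicative (ZMod 2)) ≠ Multiplicative.ofAdd 1 := by decide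

include hσ in
theorem card_eq_sq (hfix : ∀ x : F, σ x = x ↔ x ∈ Set.range f) : Fintype.card F = Fintype.card K ^ 2 := by
  rw [CfsgLib.PSLAut.card_fixedField σ, hσ, ← Nat.card_eq_fintype_card (α := K)]
  congr 1
  refine Nat.card_congr ((Equiv.ofInjective f f.injective).trans (Equiv.setCongr ?_)).symm
  exact Set.ext fun x => (hfix x).symm

theorem graph_count_char_two (h2 : ringChar F = 2) :
    Cfsg.splitClassCount ((plusDiag hQ).G.map (act _)) (Cfsg.Inn (TQ (qPlus (n + 1) F))) (act _ XP) = 1 := by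
  set par := parityHom hQ.nondeg (finrank_qPlus_space (n + 1)) (maxS_xLin (n + 1))
  set X := fieldX (compat_qMinus f n a b) hf S
  have hdec := hdec_ne
  haveI : CharP F 2 := h2 ▸ ringChar.charP F
  rw [splitCount_eq (compat_qMinus f n a b) hf hQ _ S, Subgroup.index_eq_one, eq_top_iff]
  rintro ⟨g, hg⟩ -
  obtain ⟨d, h, hgd⟩ := exists_decomp hQ hg.1 (FiniteField.isSquare_of_char_two h2 _)
  have hh : h ∈ eichGroup (qPlus (n + 1) F) := by
    rw [eichGroup_eq_commutator _ hQ.nondeg (by have := hQ.seven; omega)]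
    obtain ⟨v, hv⟩ := exists_value (qPlus (n + 1) F) hQ.nondeg (by have := hQ.seven; omega) one_ne_zero
    have hv' : qPlus (n + 1) F v ≠ 0 := hv ▸ one_ne_zero
    have hidx := index_commutator_two (qPlus (n + 1) F) hQ.nondeg (by have := hQ.seven; omega)
      (Or.inr (by have := hQ.seven; omega))
    have hzero : ∀ x ∈ commutator (qAut (qPlus (n + 1) F)), par (qIncl _ x) = 1 := fun x hx =>
      MonoidHom.mem_ker.1 (Abelianization.commutator_subset_ker (par.comp (qIncl (qPlus (n + 1) F))) hx)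
    have hr : qRefl _ hv' ∉ commutator (qAut (qPlus (n + 1) F)) := fun hmem =>
      hdec ((hzero _ hmem).symm.trans (parityHom_refl _ _ _ hv'))
    by_contra hcon
    have h1 := hzero _ ((Subgroup.mul_mem_iff_of_index_two hidx).2 (iff_of_false hcon hr))
    have h0 : par (qIncl _ h) = 1 := by
      have := MonoidHom.mem_ker.1 hg.2
      rwa [hgd, map_mul, parityHom_scal, one_mul] at this
    rw [map_mul, map_mul, h0, one_mul, parityHom_refl] at h1
    exact hdec h1.symm
  have hs : (⟨scal _ d, (plusDiag hQ).scal_mem d⟩ : (plusDiag hQ).G) ∈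
      (Subgroup.centralizer {act _ X}).comap ((act _).comp (plusDiag hQ).G.subtype) :=
    Subgroup.mem_centralizer_singleton_iff.2 (by
      show act _ (scal (qPlus (n + 1) F) d) * act _ X = act _ X * act _ (scal _ d)
      rw [act_scal, one_mul, mul_one])
  rw [show (⟨g, hg⟩ : (plusDiag hQ).G) = ⟨scal _ d, (plusDiag hQ).scal_mem d⟩ *
    ⟨qIncl _ h, (plusDiag hQ).eich_mem h hh⟩ from Subtype.ext hgd]
  exact Subgroup.mul_mem_sup hs (Subgroup.mem_subgroupOf.2 ⟨h, hh, rfl⟩)

include hσ hfix hP₀ in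
/-- Rational isometries preserving the classes lie in the Eichler group. -/
theorem graph_rational {ψ : qAut (qPlus (n + 1) F) →* Multiplicative (ZMod 2) × ℤˣ}
    (h1 : ∀ (v : Fin (n + 1) ⊕ Fin (n + 1) → F) (hv : qPlus (n + 1) F v ≠ 0),
      (ψ (qRefl _ hv)).1 = Multiplicative.ofAdd 1)
    (hiff : ∀ (v w : Fin (n + 1) ⊕ Fin (n + 1) → F) (hv : qPlus (n + 1) F v ≠ 0) (hw : qPlus (n + 1) F w ≠ 0),
      ψ (qRefl _ hv) = ψ (qRefl _ hw) ↔ IsSquare (qPlus (n + 1) F v * qPlus (n + 1) F w))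
    (k : qAut (qExt n (qBin a b))) (h : qAut (qPlus (n + 1) F))
    (hk : liftS (compat_qMinus f n a b) hP₀ S ⟨qIncl _ k, qIncl_mem_simSub hP₀ k⟩ = qIncl _ h)
    (hh : parP (qIncl _ h) = 1) : ψ h = 1 := by
  have hfst := fst_eq_parity hQ h1
  have hdec := hdec_ne
  set hcP := compat_qMinus f n a b
  obtain ⟨v₀, hv₀⟩ := exists_rational_vector hcP hP₀.nondeg
  have hv₀' : qPlus (n + 1) F (S.e (f ∘ v₀)) ≠ 0 := by rw [S.quad]; exact mul_ne_zero S.ne hv₀
  set A := ψ (qRefl _ hv₀')
  obtain ⟨h', hh', e'⟩ := liftS_qIncl_induction hcP hP₀ S ((Subgroup.zpowers A).comap ψ) (fun v hv => by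
    refine Subgroup.mem_comap.2 ?_
    rw [show ψ (qRefl _ hv) = A from (hiff _ _ hv hv₀').2 ?_]
    · exact Subgroup.mem_zpowers A
    · rw [S.quad, S.quad, hcP, hcP]
      obtain ⟨s, hs⟩ := (isSquare_map_of_two hσ hfix (qExt n (qBin a b) v)).mul
        (isSquare_map_of_two hσ hfix (qExt n (qBin a b) v₀))
      exact ⟨S.μ * s, by linear_combination (S.μ * S.μ) * hs⟩) k
  obtain rfl : h = h' := qIncl_injective (hk.symm.trans e')
  obtain ⟨i, hi⟩ := Subgroup.mem_comap.1 hh'
  have hi' : A ^ i = ψ h := hi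
  have hsq : A * A = 1 := by
    have key : ∀ x : Multiplicative (ZMod 2) × ℤˣ, x * x = 1 := by decide
    exact key A
  rcases Int.even_or_odd' i with ⟨j, rfl | rfl⟩
  · rw [← hi', zpow_mul, zpow_two, hsq, one_zpow]
  · exfalso
    rw [zpow_add, zpow_mul, zpow_two, hsq, one_zpow, one_mul, zpow_one] at hi'
    have h3 := hfst h
    rw [hh, ← hi', h1] at h3
    exact hdec h3.symm

include hσ hf hfix hab hP₀ in
/-- The torus element of non-square multiplier and its spinor. -/
theorem graph_torus {α : F} (hα : α ^ 2 + f a * α + f b = 0) (h2 : ringChar F ≠ 2)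
    {ψ : qAut (qPlus (n + 1) F) →* Multiplicative (ZMod 2) × ℤˣ}
    (h1 : ∀ (v : Fin (n + 1) ⊕ Fin (n + 1) → F) (hv : qPlus (n + 1) F v ≠ 0),
      (ψ (qRefl _ hv)).1 = Multiplicative.ofAdd 1)
    (hiff : ∀ (v w : Fin (n + 1) ⊕ Fin (n + 1) → F) (hv : qPlus (n + 1) F v ≠ 0) (hw : qPlus (n + 1) F w ≠ 0),
      ψ (qRefl _ hv) = ψ (qRefl _ hw) ↔ IsSquare (qPlus (n + 1) F v * qPlus (n + 1) F w)) :
    ∃ (U : simSub hP₀) (d : Fˣ) (hg : qAut (qPlus (n + 1) F)),
      liftS (compat_qMinus f n a b) hP₀ S U = scal _ d * qIncl _ hg ∧ U.1 ∈ minusG hab hP₀ ∧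
      ¬ IsSquare (mulFac U.1) ∧ (ψ hg = 1 ↔ Odd (n + 1) ∧ Fintype.card K % 4 = 1) := by
  classical
  have h2' : (2 : F) ≠ 0 := Ring.two_ne_zero h2
  have hK2 : ringChar K ≠ 2 := fun hc => h2 (by
    haveI : CharP K 2 := hc ▸ ringChar.charP K
    haveI : CharP F 2 := charP_of_injective_ringHom f.injective 2
    exact ringChar.eq F 2)
  set hcP := compat_qMinus f n a b
  -- the torus element of non-square multiplier
  obtain ⟨k₀, hk₀⟩ := FiniteField.exists_nonsquare hK2
  have hk₀0 : k₀ ≠ 0 := fun e => hk₀ (e ▸ IsSquare.zero)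
  obtain ⟨z, hz⟩ := exists_value (qBin a b) (polarNondeg_qBin hab) (by simp [Module.finrank_pi]) hk₀0
  rw [qBin_apply] at hz
  have hl : z 0 ^ 2 + a * z 0 * z 1 + b * z 1 ^ 2 = k₀ := by linear_combination hz
  set U : simSub hP₀ := ⟨torusT hl hk₀0, torusT_mem_simSub hP₀ hl hk₀0⟩
  have hUG : U.1 ∈ minusG hab hP₀ := torusT_mem_minusG hab hP₀ hl hk₀0
  set L := liftS hcP hP₀ S U
  obtain ⟨s, hs⟩ := isSquare_map_of_two hσ hfix k₀
  have hs0 : s ≠ 0 := fun e => (map_ne_zero f).2 hk₀0 (by rw [hs, e, mul_zero])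
  have hαK : σ α ≠ α := fun h => by
    obtain ⟨w, rfl⟩ := (hfix α).1 h
    have h1 : w ^ 2 + a * w + b = 0 := f.injective (by simpa [map_add, map_mul, map_pow] using hα)
    exact one_ne_zero (hab w 1 (by linear_combination h1)).2
  have hβ : (σ α) ^ 2 + f a * σ α + f b = 0 := by
    have := congrArg σ hα
    simpa [map_add, map_mul, map_pow, hf] using this
  have hsum : α + σ α = -f a :=
    mul_left_cancel₀ (sub_ne_zero.2 hαK.symm) (by linear_combination hα - hβ)
  have hprod : α * σ α = f b := by linear_combination α * hsum - hα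
  set S₂ := (splitSim n hsum hprod hαK.symm).symm.trans S
  set ν : F → F := fun x => f (z 0) - x * f (z 1)
  have hν : ν α * ν (σ α) = f k₀ := by
    rw [← hl]
    simp only [ν, map_add, map_mul, map_pow]
    linear_combination -(f (z 0) * f (z 1)) * hsum + f (z 1) ^ 2 * hprod
  have hν1 : ν α ≠ 0 := fun e => (map_ne_zero f).2 hk₀0 (by rw [← hν, e, zero_mul])
  let t : Fin (n + 1) → Fˣ :=
    Fin.cons (Units.mk0 (ν α / s) (div_ne_zero hν1 hs0)) fun _ => Units.mk0 s hs0
  set hg := S₂.aut (diagTorus (n + 1) t)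
  have hL : L = scal _ (Units.mk0 s hs0) * qIncl _ hg := gammaO_ext fun w => by
    obtain ⟨v, rfl⟩ := S.e.surjective w
    rw [gammaO_mul_apply, scal_apply, qIncl_apply]
    have hgv : hg.1 (S.e v) = S.e ((splitSim n hsum hprod hαK.symm).e.symm
        ((diagTorus (n + 1) t).1 ((splitSim n hsum hprod hαK.symm).e v))) := by
      have h := Sim.aut_apply S₂ (diagTorus (n + 1) t) ((splitSim n hsum hprod hαK.symm).e v)
      simp only [S₂, Sim.trans, Sim.symm, LinearEquiv.trans_apply, LinearEquiv.symm_apply_apply] at h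
      exact h
    rw [hgv, show L = S.gam (bcHom f hcP hP₀ U) from rfl, Sim.gam_apply, ← map_smul]
    congr 1
    apply (splitSim n hsum hprod hαK.symm).e.injective
    rw [map_smul, LinearEquiv.apply_symm_apply]
    have hT : ∀ u, addT (bcHom f hcP hP₀ U) u = torusLin n (f a) (f b) (f k₀) (f (z 0)) (f (z 1)) u :=
      fun u => DFunLike.congr_fun (semilinear_ext_rational (σ := RingEquiv.refl F)
        (A := (addT (bcHom f hcP hP₀ U)).toAddMonoidHom)
        (B := (torusLin n (f a) (f b) (f k₀) (f (z 0)) (f (z 1))).toAddMonoidHom)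
        (fun r w => by
          change addT (bcHom f hcP hP₀ U) (r • w) = _
          rw [(semisim_spec _).smul, sigFun_bcHom]
          rfl)
        (fun r w => (torusLin n (f a) (f b) (f k₀) (f (z 0)) (f (z 1))).map_smul r w) f fun w => by
          change addT (bcHom f hcP hP₀ U) (f ∘ w) = torusLin n (f a) (f b) (f k₀) (f (z 0)) (f (z 1)) (f ∘ w)
          rw [bcHom_rational, torusT_apply]
          funext i
          rcases i with (i | i) | i
          · simp [torusLin]
          · simp [torusLin]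
          · fin_cases i <;> simp [torusLin]) u
    rw [hT]
    funext i
    rcases i with i | i <;> refine Fin.cases ?_ (fun j => ?_) i
    · rw [splitSim_inl_zero, Pi.smul_apply, diagTorus_inl, splitSim_inl_zero]
      simp [torusLin, t, ν]
      field_simp
      linear_combination (f (z 1) * v (.inr 0) + f (z 1) * v (.inr 1) * f a) * (0 : F) -
        (f (z 1) * v (.inr 1)) * hα
    · rw [splitSim_inl_succ, Pi.smul_apply, diagTorus_inl, splitSim_inl_succ]
      simp [torusLin, t, hs]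
      ring
    · rw [splitSim_inr_zero, Pi.smul_apply, diagTorus_inr, splitSim_inr_zero]
      simp [torusLin, t]
      have hν2 : ν (σ α) = f (z 0) - σ α * f (z 1) := rfl
      rw [show s * (s / ν α * (v (.inr 0) - σ α * v (.inr 1))) =
        ν (σ α) * (v (.inr 0) - σ α * v (.inr 1)) by
          field_simp
          linear_combination (v (.inr 1) * σ α - v (.inr 0)) * (hν + hs), hν2]
      linear_combination -(f (z 1) * v (.inr 1)) * hβ
    · rw [splitSim_inr_succ, Pi.smul_apply, diagTorus_inr, splitSim_inr_succ]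
      simp [torusLin, t]
      field_simp
  have hval : ψ hg = 1 ↔ IsSquare (s ^ n * (ν α / s)) := by
    let ψ₂ := ψ.comp S₂.aut.toMonoidHom
    have h21 : ∀ (v : Fin (n + 1) ⊕ Fin (n + 1) → F) (hv : qPlus (n + 1) F v ≠ 0),
        (ψ₂ (qRefl _ hv)).1 = Multiplicative.ofAdd 1 := fun v hv => by
      change (ψ (S₂.aut (qRefl _ hv))).1 = _
      rw [Sim.aut_refl]
      exact h1 _ _
    have h22 : ∀ (v w : Fin (n + 1) ⊕ Fin (n + 1) → F) (hv : qPlus (n + 1) F v ≠ 0) (hw : qPlus (n + 1) F w ≠ 0),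
        ψ₂ (qRefl _ hv) = ψ₂ (qRefl _ hw) ↔ IsSquare (qPlus (n + 1) F v * qPlus (n + 1) F w) := fun v w hv hw => by
      change ψ (S₂.aut (qRefl _ hv)) = ψ (S₂.aut (qRefl _ hw)) ↔ _
      rw [Sim.aut_refl, Sim.aut_refl, hiff, S₂.quad, S₂.quad]
      constructor
      · rintro ⟨r, hr⟩
        exact ⟨r / S₂.μ, by field_simp [S₂.ne]; linear_combination hr⟩
      · rintro ⟨r, hr⟩
        exact ⟨r * S₂.μ, by linear_combination (S₂.μ * S₂.μ) * hr⟩
    have := psi_diagTorus h21 h22 t
    rw [Fin.prod_univ_succ] at this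
    simp only [t, Fin.cons_zero, Fin.cons_succ, Units.val_mk0, Finset.prod_const, Finset.card_univ,
      Fintype.card_fin] at this
    rw [mul_comm (s ^ n)]
    exact this
  have hνns : ¬ IsSquare (ν α) := by
    rintro ⟨y, hy⟩
    have hσσ : σ (σ y) = y := by
      rw [← RingAut.mul_apply, ← sq, ← hσ, pow_orderOf_eq_one, RingAut.one_apply]
    obtain ⟨w, hw⟩ := (hfix (y * σ y)).1 (by rw [map_mul, hσσ, mul_comm])
    refine hk₀ ⟨w, f.injective ?_⟩
    have hsν : σ (ν α) = ν (σ α) := by simp [ν, map_sub, map_mul, hf]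
    rw [← hν, map_mul, hw, ← hsν, hy, map_mul]
    ring
  have hssq : IsSquare s ↔ ¬ Fintype.card K % 4 = 1 := by
    rw [FiniteField.isSquare_iff h2 hs0]
    have hcard : Fintype.card F = Fintype.card K ^ 2 := by
      rw [CfsgLib.PSLAut.card_fixedField σ, hσ, ← Nat.card_eq_fintype_card (α := K)]
      congr 1
      refine Nat.card_congr ((Equiv.ofInjective f f.injective).trans (Equiv.setCongr ?_)).symm
      exact Set.ext fun x => (hfix x).symm
    obtain ⟨q, hq⟩ : ∃ q, Fintype.card K = 2 * q + 1 :=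
      ⟨Fintype.card K / 2, by have := FiniteField.odd_card_of_char_ne_two hK2; omega⟩
    have hkq : k₀ ^ q = -1 := by
      rcases FiniteField.pow_dichotomy hK2 hk₀0 with h | h
      · exact absurd ((FiniteField.isSquare_iff hK2 hk₀0).2 h) hk₀
      · rwa [show Fintype.card K / 2 = q by omega] at h
    have hpow : s ^ (Fintype.card F / 2) = (-1) ^ (q + 1) := by
      rw [hcard, hq, show (2 * q + 1) ^ 2 / 2 = 2 * q * (q + 1) by
        rw [show (2 * q + 1) ^ 2 = 2 * (2 * q * (q + 1)) + 1 by ring]; omega, pow_mul, pow_mul, sq, ← hs,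
        ← map_pow, hkq, map_neg, map_one]
    rw [hpow, hq]
    rcases Nat.even_or_odd q with ⟨r, rfl⟩ | ⟨r, rfl⟩
    · rw [show r + r + 1 = 2 * r + 1 by ring, pow_succ, pow_mul, neg_one_sq, one_pow, one_mul]
      refine iff_of_false (fun h => h2' ?_) (by omega)
      linear_combination -h
    · rw [show 2 * r + 1 + 1 = 2 * (r + 1) by ring, pow_mul, neg_one_sq, one_pow]
      exact iff_of_true rfl (by omega)
  have hval' : ψ hg = 1 ↔ Odd (n + 1) ∧ Fintype.card K % 4 = 1 := by
    rw [hval]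
    have hsn : IsSquare (s ^ n * (ν α / s)) ↔ IsSquare (s ^ (n + 1) * ν α) := by
      constructor
      · rintro ⟨r, hr⟩
        refine ⟨r * s, ?_⟩
        field_simp at hr
        linear_combination s * hr
      · rintro ⟨r, hr⟩
        refine ⟨r / s, ?_⟩
        field_simp
        linear_combination hr
    rw [hsn, ← quadraticChar_one_iff_isSquare (mul_ne_zero (pow_ne_zero _ hs0) hν1), map_mul, map_pow,
      quadraticChar_neg_one_iff_not_isSquare.2 hνns]
    by_cases hc : Fintype.card K % 4 = 1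
    · rw [quadraticChar_neg_one_iff_not_isSquare.2 fun h => hssq.1 h hc]
      rcases Nat.even_or_odd (n + 1) with h | h
      · simp [h.neg_one_pow, Nat.not_odd_iff_even.2 h]
      · simp [h.neg_one_pow, h, hc]
    · rw [(quadraticChar_one_iff_isSquare hs0).2 (hssq.2 hc)]
      simp [hc]
  exact ⟨U, Units.mk0 s hs0, hg, hL, hUG, by rw [mulFac_torusT hP₀ hl hk₀0]; exact hk₀, hval'⟩

include hσ hfix hab hP₀ hP in
/-- The splitting number in odd characteristic. -/
theorem graph_count_odd {α : F} (hα : α ^ 2 + f a * α + f b = 0) (h2 : ringChar F ≠ 2) :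
    Cfsg.splitClassCount ((plusDiag hQ).G.map (act _)) (Cfsg.Inn (TQ (qPlus (n + 1) F))) (act _ XP) =
      if Odd (n + 1) ∧ Fintype.card K % 4 = 1 then 4 else 2 := by
  classical
  have h2' : (2 : F) ≠ 0 := Ring.two_ne_zero h2
  set hcP := compat_qMinus f n a b
  set X := fieldX hcP hf S
  set par := parityHom hQ.nondeg (finrank_qPlus_space (n + 1)) (maxS_xLin (n + 1))
  obtain ⟨ψ, -, hker, h1, hiff⟩ := exists_abel_odd (qPlus (n + 1) F) h2' hQ.nondeg (by have := hQ.seven; omega)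
  have hfst := fst_eq_parity hQ h1
  have heich : ∀ h, h ∈ eichGroup (qPlus (n + 1) F) ↔ ψ h = 1 := fun h => by
    rw [eichGroup_eq_commutator _ hQ.nondeg (by have := hQ.seven; omega), ← hker, MonoidHom.mem_ker]
  have hrat := graph_rational hQ S hP₀ hfix hσ h1 hiff
  obtain ⟨U, d₀, hg, hL, hUG, hUns, hval'⟩ := graph_torus S hab hP₀ hf hfix hσ hα h2 h1 hiff
  set L := liftS hcP hP₀ S U
  have hLG : L ∈ (plusDiag hQ).G := ⟨liftS_mem_simSub _ hQ hP₀ S U, MonoidHom.mem_ker.2 (by
    rw [parity_liftS_plus hab hP₀ hα rfl hQ S U]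
    obtain ⟨_, h⟩ := (mem_minusG hab hP₀).1 hUG
    exact h)⟩
  have hgG : qIncl _ hg ∈ (plusDiag hQ).G := by
    rw [show qIncl _ hg = (scal _ d₀)⁻¹ * L by rw [hL, inv_mul_cancel_left]]
    exact mul_mem (inv_mem ((plusDiag hQ).scal_mem _)) hLG
  rw [splitCount_eq hcP hf hQ _ S]
  set H := (Subgroup.centralizer {act _ X}).comap ((act _).comp (plusDiag hQ).G.subtype) ⊔
    ((eichGroup (qPlus (n + 1) F)).map (qIncl _)).subgroupOf (plusDiag hQ).G
  have hfst0 : ∀ h, qIncl _ h ∈ (plusDiag hQ).G → (ψ h).1 = 1 := fun h hh =>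
    (hfst h).trans (MonoidHom.mem_ker.1 hh.2)
  have hH : ∀ g : (plusDiag hQ).G, g ∈ H ↔ ∃ (d : Fˣ) (h : qAut (qPlus (n + 1) F)),
      g.1 = scal _ d * qIncl _ h ∧ (ψ h = 1 ∨ ψ h = ψ hg) := by
    intro g
    constructor
    · intro hgm
      haveI : (((eichGroup (qPlus (n + 1) F)).map (qIncl _)).subgroupOf (plusDiag hQ).G).Normal := by
        refine ⟨fun u hu g => ?_⟩
        obtain ⟨e₁, he, hue⟩ := Subgroup.mem_subgroupOf.1 hu
        refine Subgroup.mem_subgroupOf.2 ⟨_, (conjElt g.1 ⟨e₁, he⟩).2, ?_⟩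
        rw [Subgroup.coe_mul, Subgroup.coe_mul, Subgroup.coe_inv, eq_mul_inv_iff_mul_eq, ← hue]
        exact gammaO_ext fun v => (conjElt_spec g.1 ⟨e₁, he⟩ v).symm
      rw [← SetLike.mem_coe, Subgroup.mul_normal, Set.mem_mul] at hgm
      obtain ⟨u, hu, e', he', rfl⟩ := hgm
      obtain ⟨e₁, he₁, he''⟩ := Subgroup.mem_subgroupOf.1 he'
      obtain ⟨k, y, hk⟩ := graph_stab hQ S hP₀ hP hf hfix hσ u.1 u.2.1
        (Subgroup.mem_centralizer_singleton_iff.1 (Subgroup.mem_comap.1 hu))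
      have hkG : liftS hcP hP₀ S k ∈ (plusDiag hQ).G := by
        rw [show liftS hcP hP₀ S k = (scal _ y)⁻¹ * u.1 by rw [hk, inv_mul_cancel_left]]
        exact mul_mem (inv_mem ((plusDiag hQ).scal_mem y)) u.2
      -- write it with a square multiplier part
      obtain ⟨d, h, hdh, hψ⟩ : ∃ (d : Fˣ) (h : qAut (qPlus (n + 1) F)),
          liftS hcP hP₀ S k = scal _ d * qIncl _ h ∧ (ψ h = 1 ∨ ψ h = ψ hg) := by
        have hsqcase : ∀ j : simSub hP₀, IsSquare (mulFac j.1) → liftS hcP hP₀ S j ∈ (plusDiag hQ).G →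
            ∃ (d : Fˣ) (h : qAut (qPlus (n + 1) F)), liftS hcP hP₀ S j = scal _ d * qIncl _ h ∧ ψ h = 1 := by
          intro j hj hjG
          obtain ⟨d, j', hj'⟩ := exists_decomp hP₀ j.2 hj
          obtain ⟨h, -, e'⟩ := liftS_qIncl_induction hcP hP₀ S ⊤ (fun _ _ => trivial) j'
          have hjj : j = ⟨scal _ d, scal_mem_simSub hP₀ d⟩ * ⟨qIncl _ j', qIncl_mem_simSub hP₀ j'⟩ :=
            Subtype.ext hj'
          have e'' : liftS hcP hP₀ S j = scal _ (Units.map f.toMonoidHom d) * qIncl _ h := by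
            rw [hjj, map_mul, liftS_scal, e']
          refine ⟨_, h, e'', hrat j' h e' ?_⟩
          have := MonoidHom.mem_ker.1 hjG.2
          rwa [e'', map_mul, parityHom_scal, one_mul] at this
        by_cases hk2 : IsSquare (mulFac k.1)
        · obtain ⟨d, h, h', hψ⟩ := hsqcase k hk2 hkG
          exact ⟨d, h, h', Or.inl hψ⟩
        · have hm : IsSquare (mulFac (U⁻¹ * k).1) := by
            have h3 := mulFac_mul hP₀ U.1 (U⁻¹ * k).1
            rw [← Subgroup.coe_mul, mul_inv_cancel_left, linear_of_simSub hP₀ U.2] at h3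
            by_contra hns
            refine hk2 ?_
            rw [h3]
            exact (quadraticChar_one_iff_isSquare (mul_ne_zero (semisim_spec _).ne (semisim_spec _).ne)).1 (by
              rw [map_mul, quadraticChar_neg_one_iff_not_isSquare.2 hUns,
                quadraticChar_neg_one_iff_not_isSquare.2 hns]
              norm_num)
          obtain ⟨d, h, h', hψ⟩ := hsqcase (U⁻¹ * k) hm (by
            rw [map_mul, map_inv]
            exact mul_mem (inv_mem hLG) hkG)
          refine ⟨d₀ * d, hg * h, ?_, Or.inr (by rw [map_mul, hψ, mul_one])⟩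
          rw [map_mul, map_mul, mul_assoc (scal _ _) (scal _ d), ← mul_assoc (scal _ d),
            ← commute_scal_of_sim hQ (qIncl_mem_simSub hQ hg) d, mul_assoc, ← h', ← mul_assoc, ← hL, ← map_mul,
            mul_inv_cancel_left]
      refine ⟨y * d, h * e₁, ?_, ?_⟩
      · rw [Subgroup.coe_mul, hk, hdh, ← he'', map_mul, map_mul]
        simp only [mul_assoc]
      · rw [map_mul, (heich e₁).1 he₁, mul_one]
        exact hψ
    · rintro ⟨d, h, hgh, hψ⟩
      have hmul : ∀ x : gammaO (qPlus (n + 1) F), ∀ hx : x ∈ (plusDiag hQ).G,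
          act _ x * act _ X = act _ X * act _ x → ∀ e₁ ∈ eichGroup (qPlus (n + 1) F),
          g.1 = x * qIncl _ e₁ → g ∈ H := by
        intro x hx hcx e₁ he₁ hgx
        rw [show g = ⟨x, hx⟩ * ⟨qIncl _ e₁, (plusDiag hQ).eich_mem e₁ he₁⟩ from Subtype.ext hgx]
        exact Subgroup.mul_mem_sup (Subgroup.mem_centralizer_singleton_iff.2 hcx)
          (Subgroup.mem_subgroupOf.2 ⟨e₁, he₁, rfl⟩)
      rcases hψ with hψ | hψ
      · exact hmul _ ((plusDiag hQ).scal_mem d) (by rw [act_scal, one_mul, mul_one]) h ((heich h).2 hψ) hgh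
      · refine hmul (scal _ d * qIncl _ hg) (mul_mem ((plusDiag hQ).scal_mem d) hgG) ?_ (hg⁻¹ * h)
          ((heich _).2 (by rw [map_mul, map_inv, hψ, inv_mul_cancel])) ?_
        · have hcm := ((commute_liftS hcP hf hP₀ S U).map (act _)).eq
          rw [show liftS hcP hP₀ S U = scal _ (d₀) * qIncl _ hg from hL, map_mul, act_scal,
            one_mul] at hcm
          rw [map_mul, act_scal, one_mul]
          exact hcm
        · rw [mul_assoc, ← map_mul, mul_inv_cancel_left]
          exact hgh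
  -- the subgroup of square multipliers
  let G₁ : Subgroup (plusDiag hQ).G :=
    { carrier := {g | IsSquare (mulFac g.1)}
      one_mem' := by
        show IsSquare (mulFac (1 : gammaO (qPlus (n + 1) F)))
        rw [← map_one (scal (qPlus (n + 1) F)), mulFac_scal hQ]
        exact ⟨1, by simp⟩
      mul_mem' := fun {x y} hx hy => by
        show IsSquare (mulFac (x.1 * y.1))
        rw [mulFac_mul hQ, linear_of_simSub hQ x.2.1]
        exact IsSquare.mul hx hy
      inv_mem' := fun {x} hx => by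
        show IsSquare (mulFac x.1⁻¹)
        have h3 := mulFac_mul hQ x.1 x.1⁻¹
        rw [mul_inv_cancel, linear_of_simSub hQ x.2.1, ← map_one (scal (qPlus (n + 1) F)), mulFac_scal hQ,
          Units.val_one, one_mul] at h3
        rw [eq_inv_of_mul_eq_one_right h3.symm]
        exact IsSquare.inv hx }
  have hG₁ : G₁.index = 2 := by
    obtain ⟨u, hu⟩ := FiniteField.exists_nonsquare h2
    have hu0 : u ≠ 0 := fun e => hu (e ▸ IsSquare.zero)
    let A : (Fin (n + 1) ⊕ Fin (n + 1) → F) ≃ₗ[F] (Fin (n + 1) ⊕ Fin (n + 1) → F) :=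
      LinearEquiv.piCongrRight (Sum.elim (fun _ => LinearEquiv.smulOfUnit (Units.mk0 u hu0))
        fun _ => LinearEquiv.refl F F)
    have hA : ∀ v, qPlus (n + 1) F (A v) = u * qPlus (n + 1) F v := fun v => by
      simp only [coe_qPlus, Cfsg.quadFormPlus, Finset.mul_sum]
      exact Finset.sum_congr rfl fun i _ => mul_assoc u (v (.inl i)) (v (.inr i))
    let gu := mkGamma (σ := RingEquiv.refl F) (c := u) A.toAddEquiv ⟨fun r w => A.map_smul r w, hA, hu0⟩
    have hgus : gu ∈ simSub hQ := MonoidHom.mem_ker.2 (sigHom_eq hQ _ fun r w => A.map_smul r w)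
    have hguG : gu ∈ (plusDiag hQ).G := by
      refine ⟨hgus, MonoidHom.mem_ker.2 ?_⟩
      rw [parityHom_apply]
      have himg : imgT gu (LinearMap.range (xLin (n + 1))) = LinearMap.range (xLin (F := F) (n + 1)) := by
        refine Submodule.eq_of_le_of_finrank_eq ?_ (finrank_imgT _ _)
        rintro _ ⟨_, ⟨x, rfl⟩, rfl⟩
        refine ⟨fun i => u * x i, funext fun i => ?_⟩
        rcases i with i | i
        · rfl
        · show (0 : F) = 0
          rfl
      rw [himg, par2_self (F := F) (maxS_xLin (F := F) (n + 1)).1, ofAdd_zero]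
    have hmu : mulFac gu = u := mulFac_eq hQ _ fun v => by
      rw [linear_of_simSub hQ hgus]
      exact hA v
    rw [Subgroup.index_eq_two_iff]
    refine ⟨⟨gu, hguG⟩, fun g => ?_⟩
    have hmg : mulFac (g.1 * gu) = mulFac g.1 * u := by rw [mulFac_mul hQ, linear_of_simSub hQ g.2.1, hmu]
    by_cases hgs : IsSquare (mulFac g.1)
    · refine Or.inr ⟨hgs, fun h => hu ?_⟩
      have h' : IsSquare (mulFac g.1 * u) := hmg ▸ h
      have := h'.mul hgs.inv
      rwa [mul_comm (mulFac g.1), mul_inv_cancel_right₀ (semisim_spec g.1).ne] at this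
    · refine Or.inl ⟨?_, hgs⟩
      show IsSquare (mulFac (g.1 * gu))
      rw [hmg]
      exact (quadraticChar_one_iff_isSquare (mul_ne_zero (semisim_spec _).ne hu0)).1 (by
        rw [map_mul, quadraticChar_neg_one_iff_not_isSquare.2 hgs, quadraticChar_neg_one_iff_not_isSquare.2 hu]
        norm_num)
  have hle : H ≤ G₁ := fun g hgm => by
    obtain ⟨d, h, hgh, -⟩ := (hH g).1 hgm
    show IsSquare (mulFac g.1)
    rw [hgh, mulFac_mul hQ, linear_of_simSub hQ (scal_mem_simSub hQ d), mulFac_qIncl hQ, mul_one, mulFac_scal hQ]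
    exact ⟨d, rfl⟩
  have hG₁dec : ∀ g ∈ G₁, ∃ (d : Fˣ) (h : qAut (qPlus (n + 1) F)),
      g.1 = scal _ d * qIncl _ h ∧ (ψ h).1 = 1 ∧ qIncl _ h ∈ (plusDiag hQ).G := fun g hgs => by
    obtain ⟨d, h, hgh⟩ := exists_decomp hQ g.2.1 hgs
    have hmem : qIncl _ h ∈ (plusDiag hQ).G := by
      rw [show qIncl _ h = (scal _ d)⁻¹ * g.1 by rw [hgh, inv_mul_cancel_left]]
      exact mul_mem (inv_mem ((plusDiag hQ).scal_mem d)) g.2
    exact ⟨d, h, hgh, hfst0 h hmem, hmem⟩
  have hg1 : (ψ hg).1 = 1 := hfst0 hg hgG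
  have hpair : ∀ x : Multiplicative (ZMod 2) × ℤˣ, x.1 = 1 → x = 1 ∨ x = (1, -1) := by decide
  rw [← Subgroup.relIndex_mul_index hle, hG₁]
  by_cases hv : ψ hg = 1
  · rw [if_pos (hval'.1 hv)]
    suffices h : H.relIndex G₁ = 2 by rw [h]
    rw [Subgroup.relIndex, Subgroup.index_eq_two_iff]
    -- a product of two reflections of non-trivial spinor
    obtain ⟨u, hu⟩ := FiniteField.exists_nonsquare h2
    have hu0 : u ≠ 0 := fun e => hu (e ▸ IsSquare.zero)
    obtain ⟨v1, hv1⟩ := exists_value (qPlus (n + 1) F) hQ.nondeg (by have := hQ.seven; omega) one_ne_zero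
    obtain ⟨v2, hv2⟩ := exists_value (qPlus (n + 1) F) hQ.nondeg (by have := hQ.seven; omega) hu0
    have hv1' : qPlus (n + 1) F v1 ≠ 0 := hv1 ▸ one_ne_zero
    have hv2' : qPlus (n + 1) F v2 ≠ 0 := hv2 ▸ hu0
    set w := qRefl _ hv1' * qRefl _ hv2' with hw
    have hwG : qIncl _ w ∈ (plusDiag hQ).G := by rw [hw, map_mul]; exact (plusDiag hQ).refl_pair hv1' hv2'
    have hwψ : ψ w = (1, -1) := by
      refine (hpair _ (hfst0 w hwG)).resolve_left fun hw1 => hu ?_
      rw [hw, map_mul] at hw1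
      have h3 : ψ (qRefl _ hv1') = ψ (qRefl _ hv2') := by
        rw [← inv_eq_of_mul_eq_one_right hw1, ← map_inv, qRefl_inv]
      have := (hiff _ _ hv1' hv2').1 h3
      rwa [hv1, hv2, one_mul] at this
    have hwG₁ : (⟨qIncl _ w, hwG⟩ : (plusDiag hQ).G) ∈ G₁ := by
      show IsSquare (mulFac (qIncl _ w))
      rw [mulFac_qIncl hQ]
      exact ⟨1, by simp⟩
    have huniq : ∀ g : (plusDiag hQ).G, ∀ d h, g.1 = scal _ d * qIncl _ h → (g ∈ H ↔ ψ h = 1) := by
      intro g d h hgh
      constructor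
      · intro hgm
        obtain ⟨d', h', hgh', hψ'⟩ := (hH g).1 hgm
        rw [hv, or_self] at hψ'
        rw [hgh, ← eq_inv_mul_iff_mul_eq, ← mul_assoc, ← map_inv, ← map_mul,
          ← mul_inv_eq_iff_eq_mul, ← map_inv, ← map_mul] at hgh'
        -- the scalar is `±1`, both in the Eichler group
        set c₁ := d⁻¹ * d'
        have hneg : ψ (h * h'⁻¹) = 1 := by
          have hcc : (c₁ : F) * c₁ = 1 := by rw [← mulFac_scal hQ, ← hgh', mulFac_qIncl hQ]
          rcases mul_self_eq_one_iff.1 hcc with h4 | h4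
          · rw [show h * h'⁻¹ = 1 from qIncl_injective (by
              rw [hgh', show c₁ = 1 from Units.ext h4, map_one, map_one]), map_one]
          · let ng : qAut (qExt n (qBin a b)) := ⟨LinearEquiv.neg K, fun v => QuadraticMap.map_neg _ v⟩
            refine hrat ng _ ?_ (by rw [hgh', parityHom_scal])
            have en : (⟨qIncl _ ng, qIncl_mem_simSub hP₀ ng⟩ : simSub hP₀) =
                ⟨scal _ (-1), scal_mem_simSub hP₀ _⟩ :=
              Subtype.ext (gammaO_ext fun v => by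
                rw [qIncl_apply, scal_apply, Units.val_neg, Units.val_one, neg_one_smul]
                rfl)
            rw [en, liftS_scal, hgh']
            congr 1
            exact Units.ext (by simp [h4])
        rwa [map_mul, map_inv, hψ', inv_one, mul_one] at hneg
      · exact fun hψ => (hH g).2 ⟨d, h, hgh, Or.inl hψ⟩
    refine ⟨⟨⟨qIncl _ w, hwG⟩, hwG₁⟩, fun g => ?_⟩
    obtain ⟨d, h, hgh, hh1, -⟩ := hG₁dec g.1 g.2
    have hm1 := huniq g.1 d h hgh
    have hm2 := huniq (g.1 * ⟨qIncl _ w, hwG⟩) d (h * w) (by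
      rw [map_mul (qIncl _) h w, ← mul_assoc, ← hgh]
      rfl)
    rcases hpair _ hh1 with hh | hh
    · refine Or.inr ⟨Subgroup.mem_subgroupOf.2 (hm1.2 hh), fun h' => ?_⟩
      have h5 := hm2.1 (Subgroup.mem_subgroupOf.1 h')
      rw [map_mul, hh, hwψ] at h5
      exact absurd h5 (by decide)
    · refine Or.inl ⟨Subgroup.mem_subgroupOf.2 (hm2.2 (by rw [map_mul, hh, hwψ]; rfl)), fun h' => ?_⟩
      have h5 := hm1.1 (Subgroup.mem_subgroupOf.1 h')
      rw [hh] at h5
      exact absurd h5 (by decide)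
  · rw [if_neg (fun h => hv (hval'.2 h))]
    suffices h : H.relIndex G₁ = 1 by rw [h]
    rw [Subgroup.relIndex_eq_one]
    intro g hgs
    obtain ⟨d, h, hgh, hh1, -⟩ := hG₁dec g hgs
    refine (hH g).2 ⟨d, h, hgh, ?_⟩
    rcases hpair _ hh1 with hh | hh
    · exact Or.inl hh
    · exact Or.inr (by rw [hh, (hpair _ hg1).resolve_left hv])

end Split

/-- The data of a graph-field involution. -/
theorem graphField_data {K : Type*} [Field K] [Fintype K] {f : K →+* F} {σ : F ≃+* F} {m : ℕ} (hm : 5 ≤ m)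
    (hQ : Pre (qPlus m F)) {T : gammaO (qPlus m F)} (hσ : orderOf σ = 2) (hT : sigFun T = σ)
    (hpow : ∃ c, T ^ 2 = scal _ c) (hfix : ∀ x : F, σ x = x ↔ x ∈ Set.range f)
    (hp : parityHom hQ.nondeg (finrank_qPlus_space m) (maxS_xLin m) T = Multiplicative.ofAdd 1) :
    ∃ (a b : K) (hab : BinAniso a b) (hk : 3 ≤ m - 1),
      Nonempty (↥((plusDiag hQ).G.map (act _) ⊓ Subgroup.centralizer {act _ T}) ≃*
        ↥((minusG hab (good_qMinus hk hab).toPre).map (act _))) ∧
      (ringChar F = 2 → Cfsg.splitClassCount ((plusDiag hQ).G.map (act _)) (Cfsg.Inn (TQ (qPlus m F))) (act _ T) = 1) ∧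
      (ringChar F ≠ 2 → Cfsg.splitClassCount ((plusDiag hQ).G.map (act _)) (Cfsg.Inn (TQ (qPlus m F))) (act _ T) =
        if Odd m ∧ Fintype.card K % 4 = 1 then 4 else 2) := by
  classical
  haveI : Nonempty (Fin m ⊕ Fin m) := ⟨Sum.inl ⟨0, by omega⟩⟩
  have hdec : (1 : Multiplicative (ZMod 2)) ≠ Multiplicative.ofAdd 1 := by decide
  rcases exists_model_plus hQ hσ hT hpow hfix with ⟨h, -⟩ | ⟨-, n, a, b, rfl, hab, ⟨α, hα⟩, S, c, e⟩
  · exact absurd (h.symm.trans hp) hdec
  haveI : Nonempty ((Fin n ⊕ Fin n) ⊕ Fin 2) := ⟨Sum.inr 0⟩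
  have hn : 3 ≤ n := by omega
  have hf : ∀ x, σ (f x) = f x := fun x => (hfix _).2 ⟨x, rfl⟩
  have hP₀ := (good_qMinus (F := K) hn hab).toPre
  have hP : Pre (qExt n (qBin (f a) (f b))) :=
    ⟨S.symm.polarNondeg hQ.nondeg, by rw [finrank_qMinus_space]; omega⟩
  set hcP := compat_qMinus f n a b
  set X := fieldX hcP hf S
  have hxe : act _ T = act _ X := by rw [e, map_mul, act_scal, one_mul]
  set par := parityHom hQ.nondeg (finrank_qPlus_space (n + 1)) (maxS_xLin (n + 1))
  have hpar : ∀ k : simSub hP₀, par (liftS hcP hP₀ S k) = minusPar hab hP₀ k :=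
    fun k => parity_liftS_plus hab hP₀ hα rfl hQ S k
  have hcorr : ∀ k : simSub hP₀, liftS hcP hP₀ S k ∈ (plusDiag hQ).G ↔ k.1 ∈ minusG hab hP₀ := fun k => by
    rw [mem_minusG]
    exact ⟨fun h => ⟨k.2, (hpar k).symm.trans (MonoidHom.mem_ker.1 h.2)⟩, fun ⟨_, h⟩ =>
      ⟨liftS_mem_simSub _ hQ hP₀ S k, MonoidHom.mem_ker.2 ((hpar k).trans h)⟩⟩
  refine ⟨a, b, hab, (show 3 ≤ n + 1 - 1 by omega), ?_, fun h2 => ?_, fun h2 => ?_⟩
  · have := centralizer_equiv hcP hf hQ (plusDiag hQ) hP₀ hσ hfix hP S _ (minusDiag hab hP₀).le_sim hcorr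
    rw [hxe]
    exact this
  · rw [hxe]
    exact graph_count_char_two hQ S hf h2
  · rw [hxe]
    exact graph_count_odd hQ S hab hP₀ hP hf hfix hσ hα h2

end CfsgLib.POAut
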