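/-
The outer automorphism group in odd dimension.
-/
import Cfsg.Agent.Lib.KnownSimple.POAut.OutBase
import Cfsg.Agent.Lib.KnownSimple.POAut.FieldOdd

set_option autoImplicit false

namespace CfsgLib.POAut

open CfsgLib.Classical CfsgLib.Classical22

variable {F : Type*} [Field F] [Fintype F]

/-- The negative of the identity. -/
def negAut {V : Type*} [AddCommGroup V] [Module F V] (Q : QuadraticForm F V) : qAut Q :=
  ⟨LinearEquiv.neg F, fun v => QuadraticMap.map_neg _ v⟩

theorem negAut_eq_scal {ι : Type} [Fintype ι] [DecidableEq ι] (Q : QuadraticForm F (ι → F)) :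
    qIncl Q (negAut Q) = scal Q (-1) := gammaO_ext fun v => by
  rw [qIncl_apply, scal_apply, Units.val_neg, Units.val_one, neg_one_smul]
  rfl

/-- Isometries which are trivial up to scalars and the Eichler group. -/
theorem outMap_qIncl_eq_one {ι : Type} [Fintype ι] [DecidableEq ι] {Q : QuadraticForm F (ι → F)} (hQ : Pre Q)
    {h : qAut Q} (he : outMap Q (qIncl Q h) = 1) : h ∈ eichGroup Q ∨ negAut Q * h ∈ eichGroup Q := by
  obtain ⟨c, g, hg, e⟩ := (outMap_eq_one_iff hQ).1 he
  have hcc : (c : F) * c = 1 := by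
    have h1 : qIncl Q (h * g⁻¹) = scal Q c := by rw [map_mul, e, map_inv, mul_inv_cancel_right]
    rw [← mulFac_scal hQ, ← h1, mulFac_qIncl hQ]
  rcases mul_self_eq_one_iff.1 hcc with h1 | h1
  · left
    rw [show c = 1 from Units.ext h1, map_one, one_mul] at e
    rwa [qIncl_injective e]
  · right
    rw [show c = -1 from Units.ext (by simpa using h1), ← negAut_eq_scal, ← map_mul] at e
    rw [qIncl_injective e, ← mul_assoc, show negAut Q * negAut Q = 1 from qAut_ext fun v => neg_neg v, one_mul]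
    exact hg

set_option maxHeartbeats 600000 in
/-- The outer automorphism group in odd dimension. -/
theorem out_odd {p f m : ℕ} [Fact p.Prime] (hF : Fintype.card F = p ^ f) (hodd : Odd (Fintype.card F)) (hm : 3 ≤ m) :
    Nonempty (Cfsg.Out (TQ (qOdd m F)) ≃* Multiplicative (ZMod 2 × ZMod f)) := by
  classical
  have hQ := good_qOdd (F := F) hodd hm
  set Q := qOdd m F
  have hr2 : ringChar F ≠ 2 := fun hc => by
    rw [FiniteField.even_card_iff_char_two] at hc
    rw [Nat.odd_iff] at hodd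
    omega
  have h2 : (2 : F) ≠ 0 := Ring.two_ne_zero hr2
  have hn : 2 ≤ Module.finrank F _ := le_trans (by omega) hQ.seven
  obtain ⟨ψ, -, hker, h1, hiff⟩ := exists_abel_odd Q h2 hQ.nondeg hn
  have heich : ∀ h, h ∈ eichGroup Q ↔ ψ h = 1 := fun h => by
    rw [eichGroup_eq_commutator _ hQ.nondeg (le_trans (by omega) hQ.seven), ← hker, MonoidHom.mem_ker]
  -- the parity of the negative of the identity
  have hneg : (ψ (negAut Q)).1 = Multiplicative.ofAdd 1 := by
    obtain ⟨e, c, hc, hec⟩ := exists_normal_basis h2 (QuadraticMap.polarBilin Q)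
      (fun u v => QuadraticMap.polar_comm Q u v) (fun v hv => hQ.nondeg v hv)
      (show Module.finrank F (OddI m → F) = 2 * m + 1 by simp [Module.finrank_pi]; omega)
    simp only [QuadraticMap.polarBilin_apply_apply] at hec
    have he : ∀ i, Q (e i) ≠ 0 := fun i h => by
      have h' := hec i i
      rw [quad_polar_self, h, mul_zero, if_pos rfl] at h'
      split_ifs at h'
      · exact hc h'.symm
      · exact zero_ne_one h'
    obtain ⟨h, hh, hψ⟩ := exists_refl_prod Q ψ e he (fun i i' hii => by rw [hec, if_neg hii]) Finset.univ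
    have hgh : negAut Q = h := by
      have hl : ((negAut Q).1 : (OddI m → F) →ₗ[F] (OddI m → F)) = (h.1 : (OddI m → F) →ₗ[F] (OddI m → F)) :=
        e.ext fun i => by
          change -(e i) = h.1 (e i)
          rw [hh i, if_pos (Finset.mem_univ i)]
      exact qAut_ext fun x => LinearMap.congr_fun hl x
    rw [hgh, hψ, Prod.fst_prod, Finset.prod_congr rfl fun i _ => h1 _ (he i), Finset.prod_const, Finset.card_univ,
      Fintype.card_fin, pow_succ, pow_mul]
    rw [show (Multiplicative.ofAdd (1 : ZMod 2)) ^ 2 = 1 by decide, one_pow, one_mul]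
  -- an isometry of non-trivial spinor
  obtain ⟨u, hu⟩ := FiniteField.exists_nonsquare hr2
  have hu0 : u ≠ 0 := fun e => hu (e ▸ IsSquare.zero)
  obtain ⟨v₁, hv₁⟩ := exists_value Q hQ.nondeg hn one_ne_zero
  obtain ⟨v₂, hv₂⟩ := exists_value Q hQ.nondeg hn hu0
  have hv₁' : Q v₁ ≠ 0 := hv₁ ▸ one_ne_zero
  have hv₂' : Q v₂ ≠ 0 := hv₂ ▸ hu0
  set w := qRefl Q hv₁' * qRefl Q hv₂' with hw
  have hwψ : ψ w = (1, -1) := by
    have hpair : ∀ x : Multiplicative (ZMod 2) × ℤˣ, x.1 = 1 → x = 1 ∨ x = (1, -1) := by decide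
    refine (hpair _ ?_).resolve_left fun hw1 => hu ?_
    · rw [hw, map_mul, Prod.fst_mul, h1, h1]; rfl
    · rw [hw, map_mul] at hw1
      have h3 : ψ (qRefl Q hv₁') = ψ (qRefl Q hv₂') := by
        rw [← inv_eq_of_mul_eq_one_right hw1, ← map_inv, qRefl_inv]
      have := (hiff _ _ hv₁' hv₂').1 h3
      rwa [hv₁, hv₂, one_mul] at this
  -- the projection to field automorphisms and its section
  obtain ⟨autSig, hautSig⟩ := exists_autSig hQ
  have hle : Cfsg.Inn (TQ Q) ≤ autSig.ker := by
    rw [inn_eq]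
    rintro _ ⟨_, ⟨g, -, rfl⟩, rfl⟩
    rw [MonoidHom.mem_ker, hautSig, sigHom_qIncl]
  let π : Cfsg.Out (TQ Q) →* (F ≃+* F) := QuotientGroup.lift _ autSig hle
  have hπ : ∀ T, π (outMap Q T) = sigHom hQ T := fun T => hautSig T
  let s : (F ≃+* F) →* Cfsg.Out (TQ Q) :=
    MonoidHom.mk' (fun σ => outMap Q (semOf (one_pair (rat_qOdd (m := m) σ)))) fun σ τ => by
      rw [← map_mul]
      congr 1
      refine gammaO_ext fun v => ?_
      rw [gammaO_mul_apply, semOf_apply, semOf_apply, semOf_apply]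
      simp only [Units.val_one, Matrix.one_mulVec]
      rfl
  have hs : ∀ σ, π (s σ) = σ := fun σ => by
    change π (outMap Q (semOf _)) = σ
    rw [hπ, sigHom_semOf]
  have hd : outMap Q (qIncl Q w) ∈ π.ker := by rw [MonoidHom.mem_ker, hπ, sigHom_qIncl]
  have hd1 : outMap Q (qIncl Q w) ≠ 1 := fun h => by
    rcases outMap_qIncl_eq_one hQ h with h' | h'
    · rw [heich, hwψ] at h'
      exact absurd h' (by decide)
    · have := congrArg Prod.fst ((heich _).1 h')
      rw [map_mul, Prod.fst_mul, hneg, hwψ] at this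
      exact absurd this (by decide)
  have hall : ∀ k ∈ π.ker, k = 1 ∨ k = outMap Q (qIncl Q w) := by
    intro k hk
    obtain ⟨T, rfl⟩ := outMap_surjective hQ k
    rw [MonoidHom.mem_ker, hπ] at hk
    obtain ⟨d, h, rfl⟩ := exists_decomp hQ (MonoidHom.mem_ker.2 hk) (isSquare_mulFac_odd hQ (m := m) (by simp; omega) (MonoidHom.mem_ker.2 hk))
    rw [map_mul, outMap_scal hQ, one_mul]
    have hneg1 : outMap Q (qIncl Q (negAut Q)) = 1 := by rw [negAut_eq_scal, outMap_scal hQ]
    have hsplit : ∀ e, outMap Q (qIncl Q e) = 1 → e⁻¹ * h ∈ eichGroup Q →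
        outMap Q (qIncl Q h) = 1 := fun e he hh => by
      rw [← mul_inv_cancel_left e h, map_mul, map_mul, he, one_mul, outMap_eich hQ hh]
    have hcase : ∀ x : Multiplicative (ZMod 2) × ℤˣ, x = 1 ∨ x = (1, -1) ∨
        x.1 = Multiplicative.ofAdd 1 := by decide
    have hcase2 : ∀ x a : Multiplicative (ZMod 2) × ℤˣ, x.1 = Multiplicative.ofAdd 1 → a.1 = Multiplicative.ofAdd 1 →
        a⁻¹ * x = 1 ∨ (a * (1, -1))⁻¹ * x = 1 := by decide
    rcases hcase (ψ h) with hh | hh | hh
    · exact Or.inl (outMap_eich hQ ((heich _).2 hh))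
    · refine Or.inr ?_
      rw [← mul_inv_cancel_left w h, map_mul, map_mul, outMap_eich hQ ((heich (w⁻¹ * h)).2 (by
        rw [map_mul, map_inv, hwψ, hh, inv_mul_cancel])), mul_one]
    · rcases hcase2 _ _ hh hneg with e | e
      · exact Or.inl (hsplit _ hneg1 ((heich _).2 (by rw [map_mul, map_inv, e])))
      · refine Or.inr ?_
        rw [← hwψ, ← map_mul, ← map_inv, ← map_mul] at e
        rw [← mul_inv_cancel_left (negAut Q * w) h, map_mul, map_mul, outMap_eich hQ ((heich _).2 e), mul_one,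
          map_mul, map_mul, hneg1, one_mul]
  obtain ⟨e⟩ := split_ker_two π s hs hd hd1 hall
  obtain ⟨e'⟩ := CfsgLib.PSLAut.exists_ringAut_equiv (F := F) hF
  exact ⟨(e.trans ((MulEquiv.refl _).prodCongr e')).trans (MulEquiv.prodMultiplicative (ZMod 2) (ZMod f)).symm⟩

end CfsgLib.POAut
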