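/-
The similitudes modulo the special orthogonal group and modulo the inner automorphisms.
-/
import Cfsg.Agent.Lib.KnownSimple.POAut.OutOdd
import Cfsg.Agent.Lib.KnownSimple.POAut.Inndiag

set_option autoImplicit false
set_option maxHeartbeats 800000

namespace CfsgLib.POAut

open Matrix CfsgLib.Classical CfsgLib.Classical22

section Groups

variable {G A B V : Type*} [Group G] [Group A] [Group B] [CommGroup V]

/-- A homomorphism onto an abstract copy of an image. -/
theorem exists_hom_range (f : G →* B) (j : A →* B) (hj : ∀ a, j a = 1 → a = 1) (h1 : ∀ g, f g ∈ j.range)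
    (h2 : j.range ≤ f.range) : ∃ φ : G →* A, Function.Surjective φ ∧ φ.ker = f.ker := by
  have hinj : Function.Injective j := (MonoidHom.ker_eq_bot_iff j).1 (eq_bot_iff.2 fun a ha => hj a ha)
  let e := MonoidHom.ofInjective hinj
  refine ⟨e.symm.toMonoidHom.comp (f.codRestrict j.range h1), fun a => ?_, ?_⟩
  · obtain ⟨g, hg⟩ := h2 ⟨a, rfl⟩
    exact ⟨g, e.symm_apply_eq.2 (Subtype.ext hg)⟩
  · ext g
    rw [MonoidHom.mem_ker, MonoidHom.mem_ker, MonoidHom.comp_apply, MulEquiv.coe_toMonoidHom,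
      e.symm_apply_eq, map_one, Subtype.ext_iff]
    rfl

/-- The dihedral group of order eight as an image. -/
theorem dihedral_hom_of (f : G →* B) (χ : G →* V) {W R S : G}
    (hker : ∀ g, χ g = 1 → f g = 1 ∨ f g = f W) (hle : ∀ g, f g = 1 → χ g = 1) (hW : f W * f W = 1)
    (hR2 : f R * f R ≠ 1) (hRV : χ R * χ R = 1) (hS : f S * f S = 1) (hSR : f S * f R * f S * f R = 1)
    (hS1 : χ S ≠ 1) (hSR1 : χ S ≠ χ R) (hV : ∀ g, χ g = 1 ∨ χ g = χ R ∨ χ g = χ S ∨ χ g = χ R * χ S) :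
    ∃ φ : G →* DihedralGroup 4, Function.Surjective φ ∧ φ.ker = f.ker := by
  have hR2W : f R * f R = f W := by
    rw [← map_mul] at hR2 ⊢
    exact (hker _ (by rw [map_mul, hRV])).resolve_left hR2
  have hR4 : f R ^ 4 = 1 := by rw [show 4 = 2 * 2 from rfl, pow_mul, sq, sq, hR2W, hW]
  obtain ⟨j, hjr, hjs⟩ := exists_dihedral_hom hR4 hS (eq_inv_of_mul_eq_one_left hSR)
  have hjri : ∀ i : ZMod 4, j (.r i) = f R ^ i.val := fun i => by
    rw [← ZMod.natCast_zmod_val i, ← DihedralGroup.r_one_pow, map_pow, hjr, ZMod.val_natCast, Nat.mod_eq_of_lt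
      (ZMod.val_lt i)]
  have hjsi : ∀ i : ZMod 4, j (.sr i) = f S * f R ^ i.val := fun i => by
    rw [show DihedralGroup.sr i = DihedralGroup.sr 0 * DihedralGroup.r i by simp, map_mul, hjs, hjri]
  refine exists_hom_range f j ?_ ?_ ?_
  · rintro (i | i) h
    · rw [hjri] at h
      have h3 : f R ^ 3 = 1 → f R = 1 := fun h => by rw [← one_mul (f R), ← h, ← pow_succ, hR4, h]
      have hR1 : f R ≠ 1 := fun e => hR2 (by rw [e, one_mul])
      have : i.val = 0 := by
        have := ZMod.val_lt i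
        interval_cases hi : i.val
        · rfl
        · exact absurd (by rwa [pow_one] at h) hR1
        · exact absurd (by rwa [sq] at h) hR2
        · exact absurd (h3 h) hR1
      rw [show i = 0 from (ZMod.val_eq_zero i).1 this]
      rfl
    · exfalso
      rw [hjsi, ← map_pow, ← map_mul] at h
      have h1 := hle _ h
      rw [map_mul, map_pow] at h1
      rcases Nat.even_or_odd' i.val with ⟨k, hk | hk⟩
      · rw [hk, pow_mul, sq, hRV, one_pow, mul_one] at h1
        exact hS1 h1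
      · rw [hk, pow_succ, pow_mul, sq, hRV, one_pow, one_mul] at h1
        exact hSR1 (by rw [← mul_one (χ S), ← hRV, ← mul_assoc, h1, one_mul])
  · intro g
    have key : ∀ x : G, f x ∈ j.range → χ g = χ x → f g ∈ j.range := fun x hx e => by
      have hc : f (x⁻¹ * g) ∈ j.range := by
        rcases hker (x⁻¹ * g) (by rw [map_mul, map_inv, e, inv_mul_cancel]) with h | h
        · rw [h]; exact one_mem _
        · rw [h, ← hR2W]
          exact mul_mem ⟨_, hjr⟩ ⟨_, hjr⟩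
      have := mul_mem hx hc
      rwa [← map_mul, mul_inv_cancel_left] at this
    rcases hV g with e | e | e | e
    · exact key 1 (by rw [map_one]; exact one_mem _) (by rw [map_one, e])
    · exact key R ⟨_, hjr⟩ e
    · exact key S ⟨_, hjs⟩ e
    · exact key (R * S) (by rw [map_mul]; exact mul_mem ⟨_, hjr⟩ ⟨_, hjs⟩) (by rw [map_mul, e])
  · rintro _ ⟨i | i, rfl⟩
    · exact ⟨R ^ i.val, by rw [map_pow, hjri]⟩
    · exact ⟨S * R ^ i.val, by rw [map_mul, map_pow, hjsi]⟩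

/-- The cyclic group of order four as an image. -/
theorem four_hom_of (f : G →* B) (χ : G →* V) {W R : G} (hker : ∀ g, χ g = 1 → f g = 1 ∨ f g = f W)
    (hW : f W * f W = 1) (hR2 : f R * f R ≠ 1) (hRV : χ R * χ R = 1) (hV : ∀ g, χ g = 1 ∨ χ g = χ R) :
    ∃ φ : G →* Multiplicative (ZMod 4), Function.Surjective φ ∧ φ.ker = f.ker := by
  have hR2W : f R * f R = f W := by
    rw [← map_mul] at hR2 ⊢
    exact (hker _ (by rw [map_mul, hRV])).resolve_left hR2
  have hR4 : f R ^ 4 = 1 := by rw [show 4 = 2 * 2 from rfl, pow_mul, sq, sq, hR2W, hW]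
  have hR1 : f R ≠ 1 := fun e => hR2 (by rw [e, one_mul])
  let j : Multiplicative (ZMod 4) →* B :=
    MonoidHom.mk' (fun i => f R ^ (Multiplicative.toAdd i).val) fun i k => by
      rw [← pow_add, toAdd_mul, ZMod.val_add]
      exact (pow_eq_pow_mod _ hR4).symm
  have hj1 : f R ∈ j.range := ⟨Multiplicative.ofAdd 1, by
    change f R ^ (1 : ZMod 4).val = f R
    rw [show (1 : ZMod 4).val = 1 from rfl, pow_one]⟩
  refine exists_hom_range f j ?_ ?_ ?_
  · intro i h
    change f R ^ (Multiplicative.toAdd i).val = 1 at h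
    have h3 : f R ^ 3 = 1 → f R = 1 := fun h => by rw [← one_mul (f R), ← h, ← pow_succ, hR4, h]
    have : (Multiplicative.toAdd i).val = 0 := by
      have := ZMod.val_lt (Multiplicative.toAdd i)
      interval_cases hi : (Multiplicative.toAdd i).val
      · rfl
      · exact absurd (by rwa [pow_one] at h) hR1
      · exact absurd (by rwa [sq] at h) hR2
      · exact absurd (h3 h) hR1
    exact Multiplicative.toAdd.injective ((ZMod.val_eq_zero _).1 this)
  · intro g
    have key : ∀ x : G, f x ∈ j.range → χ g = χ x → f g ∈ j.range := fun x hx e => by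
      have hc : f (x⁻¹ * g) ∈ j.range := by
        rcases hker (x⁻¹ * g) (by rw [map_mul, map_inv, e, inv_mul_cancel]) with h | h
        · rw [h]; exact one_mem _
        · rw [h, ← hR2W]
          exact mul_mem hj1 hj1
      have := mul_mem hx hc
      rwa [← map_mul, mul_inv_cancel_left] at this
    rcases hV g with e | e
    · exact key 1 (by rw [map_one]; exact one_mem _) (by rw [map_one, e])
    · exact key R hj1 e
  · rintro _ ⟨i, rfl⟩
    exact ⟨R ^ (Multiplicative.toAdd i).val, map_pow _ _ _⟩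

/-- The four group as an image. -/
theorem klein_hom_of (f : G →* B) (χ : G →* V) {W R : G} (hker : ∀ g, χ g = 1 → f g = 1 ∨ f g = f W)
    (hle : ∀ g, f g = 1 → χ g = 1) (hW : f W * f W = 1) (hW1 : f W ≠ 1) (hχW : χ W = 1) (hχR : χ R ≠ 1)
    (hR : f R * f R = 1) (hRW : Commute (f R) (f W)) (hV : ∀ g, χ g = 1 ∨ χ g = χ R) :
    ∃ φ : G →* Multiplicative (ZMod 2 × ZMod 2), Function.Surjective φ ∧ φ.ker = f.ker := by
  have hcases : ∀ i : ZMod 2 × ZMod 2, i = (0, 0) ∨ i = (1, 0) ∨ i = (0, 1) ∨ i = (1, 1) := by decide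
  let j : Multiplicative (ZMod 2 × ZMod 2) →* B :=
    MonoidHom.mk' (fun i => f R ^ (Multiplicative.toAdd i).1.val * f W ^ (Multiplicative.toAdd i).2.val)
      fun i k => by
        rw [mul_assoc, ← mul_assoc (f W ^ _), ((hRW.pow_pow _ _).symm).eq, ← mul_assoc, ← mul_assoc, ← pow_add,
          mul_assoc, ← pow_add, toAdd_mul, Prod.fst_add, Prod.snd_add, ZMod.val_add, ZMod.val_add]
        rw [← pow_eq_pow_mod _ (by rwa [sq]), ← pow_eq_pow_mod _ (by rwa [sq])]
  have hjR : j (Multiplicative.ofAdd (1, 0)) = f R := by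
    change f R ^ (1 : ZMod 2).val * f W ^ (0 : ZMod 2).val = f R
    rw [ZMod.val_one, ZMod.val_zero, pow_one, pow_zero, mul_one]
  have hjW : j (Multiplicative.ofAdd (0, 1)) = f W := by
    change f R ^ (0 : ZMod 2).val * f W ^ (1 : ZMod 2).val = f W
    rw [ZMod.val_one, ZMod.val_zero, pow_one, pow_zero, one_mul]
  have hjRW : j (Multiplicative.ofAdd (1, 1)) = f R * f W := by
    change f R ^ (1 : ZMod 2).val * f W ^ (1 : ZMod 2).val = _
    rw [ZMod.val_one, pow_one, pow_one]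
  refine exists_hom_range f j ?_ ?_ ?_
  · intro i h
    obtain ⟨i, rfl⟩ := Multiplicative.ofAdd.surjective i
    rcases hcases i with rfl | rfl | rfl | rfl
    · rfl
    · rw [hjR] at h
      exact absurd (hle _ h) hχR
    · rw [hjW] at h
      exact absurd h hW1
    · rw [hjRW, ← map_mul] at h
      have := hle _ h
      rw [map_mul, hχW, mul_one] at this
      exact absurd this hχR
  · intro g
    have key : ∀ x : G, f x ∈ j.range → χ g = χ x → f g ∈ j.range := fun x hx e => by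
      have hc : f (x⁻¹ * g) ∈ j.range := by
        rcases hker (x⁻¹ * g) (by rw [map_mul, map_inv, e, inv_mul_cancel]) with h | h
        · rw [h]; exact one_mem _
        · exact ⟨_, hjW.trans h.symm⟩
      have := mul_mem hx hc
      rwa [← map_mul, mul_inv_cancel_left] at this
    rcases hV g with e | e
    · exact key 1 (by rw [map_one]; exact one_mem _) (by rw [map_one, e])
    · exact key R ⟨_, hjR⟩ e
  · rintro _ ⟨i, rfl⟩
    exact ⟨R ^ (Multiplicative.toAdd i).1.val * W ^ (Multiplicative.toAdd i).2.val, by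
      rw [map_mul, map_pow, map_pow]; rfl⟩

end Groups

variable {F : Type*} [Field F] [Fintype F] {ι : Type} [Fintype ι] [DecidableEq ι] {Q : QuadraticForm F (ι → F)}

/-- A character of similitudes trivial on scalars descends to the automorphisms. -/
theorem exists_aut_hom {A : Type*} [Group A] (hQ : Pre Q) (S : Subgroup (gammaO Q))
    (hscal : ∀ c, scal Q c ∈ S) (χ : S →* A) (hsurj : Function.Surjective χ)
    (h0 : ∀ c, χ ⟨scal Q c, hscal c⟩ = 1) :
    ∃ φ : ↥((S.map (act Q)).comap (autT Q hQ).toMonoidHom) →* A, Function.Surjective φ ∧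
      φ.ker = (((χ.ker.map S.subtype).map (act Q)).comap (autT Q hQ).toMonoidHom).subgroupOf
        ((S.map (act Q)).comap (autT Q hQ).toMonoidHom) := by
  have hex : ∀ x : ↥((S.map (act Q)).comap (autT Q hQ).toMonoidHom),
      ∃ T : S, act Q T.1 = autT Q hQ x.1 := fun x => by
    obtain ⟨T, hT, e⟩ := x.2
    exact ⟨⟨T, hT⟩, e⟩
  choose t ht using hex
  have hwd : ∀ T U : S, act Q T.1 = act Q U.1 → χ T = χ U := fun T U e => by
    obtain ⟨c, hc⟩ := (act_eq_iff hQ).1 e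
    rw [show T = ⟨scal Q c, hscal c⟩ * U from Subtype.ext hc, map_mul, h0, one_mul]
  let φ : ↥((S.map (act Q)).comap (autT Q hQ).toMonoidHom) →* A :=
    MonoidHom.mk' (fun x => χ (t x)) fun x y => by
      rw [← map_mul]
      refine hwd _ _ ?_
      rw [Subgroup.coe_mul, map_mul, ht, ht, ht, Subgroup.coe_mul, map_mul]
  refine ⟨φ, fun a => ?_, ?_⟩
  · obtain ⟨T, rfl⟩ := hsurj a
    obtain ⟨β, hβ⟩ := (autT Q hQ).surjective (act Q T.1)
    refine ⟨⟨β, T.1, T.2, hβ.symm⟩, hwd _ _ ?_⟩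
    rw [ht, hβ]
  · ext x
    rw [MonoidHom.mem_ker, Subgroup.mem_subgroupOf]
    constructor
    · intro h
      exact ⟨_, ⟨t x, h, rfl⟩, ht x⟩
    · rintro ⟨_, ⟨T, hT, rfl⟩, e⟩
      exact (hwd _ _ ((ht x).trans e.symm)).trans hT

/-- The isometries of determinant one. -/
def detOne (Q : QuadraticForm F (ι → F)) : Subgroup (qAut Q) where
  carrier := {h | LinearMap.det (h.1 : (ι → F) →ₗ[F] (ι → F)) = 1}
  mul_mem' {g h} hg hh := by
    change LinearMap.det ((g.1 : (ι → F) →ₗ[F] (ι → F)) ∘ₗ (h.1 : (ι → F) →ₗ[F] (ι → F))) = 1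
    rw [LinearMap.det_comp, hg, hh, one_mul]
  one_mem' := LinearMap.det_id
  inv_mem' {g} hg := by
    have h := LinearEquiv.det_coe_symm g.1
    change LinearMap.det ((g.1.symm : (ι → F) ≃ₗ[F] (ι → F)) : (ι → F) →ₗ[F] (ι → F)) = 1
    rw [h, show LinearMap.det (g.1 : (ι → F) →ₗ[F] (ι → F)) = 1 from hg, inv_one]

omit [Fintype F] in
theorem det_qRefl {v : ι → F} (hv : Q v ≠ 0) :
    LinearMap.det ((qRefl Q hv).1 : (ι → F) →ₗ[F] (ι → F)) = -1 := by
  let f : Module.Dual F (ι → F) := (-(Q v)⁻¹) • QuadraticMap.polarBilin Q v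
  have e : ((qRefl Q hv).1 : (ι → F) →ₗ[F] (ι → F)) = LinearMap.transvection f v := LinearMap.ext fun x => by
    rw [LinearMap.transvection.apply]
    change (qRefl Q hv).1 x = _
    rw [qRefl_apply, sub_eq_add_neg, ← neg_smul]
    congr 2
    simp [f, QuadraticMap.polar_comm Q x v]
  rw [e, LinearMap.transvection.det]
  have h2 : f v = -2 := by
    simp [f, quad_polar_self]
    field_simp
  rw [h2]
  ring

/-- Determinant one is an even number of reflections. -/
theorem mem_detOne_iff (hQ : Pre Q) (h2 : (2 : F) ≠ 0) {ψ : qAut Q →* Multiplicative (ZMod 2) × ℤˣ}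
    (h1 : ∀ (v : ι → F) (hv : Q v ≠ 0), (ψ (qRefl Q hv)).1 = Multiplicative.ofAdd 1) (h : qAut Q) :
    h ∈ detOne Q ↔ (ψ h).1 = 1 := by
  have hgen := reflGroup_eq_top Q hQ.nondeg (Or.inr (by have := hQ.seven; omega))
  have hmem : h ∈ reflGroup Q := hgen ▸ Subgroup.mem_top h
  have hne : (-1 : F) ≠ 1 := fun e => h2 (by linear_combination -e)
  have hmul : ∀ x y : qAut Q, LinearMap.det (((x * y : qAut Q)).1 : (ι → F) →ₗ[F] (ι → F)) =
      LinearMap.det (x.1 : (ι → F) →ₗ[F] (ι → F)) * LinearMap.det (y.1 : (ι → F) →ₗ[F] (ι → F)) := fun x y => by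
    rw [← LinearMap.det_comp]
    rfl
  have key : LinearMap.det (h.1 : (ι → F) →ₗ[F] (ι → F)) = if (ψ h).1 = 1 then 1 else -1 := by
    induction hmem using Subgroup.closure_induction with
    | mem x hx =>
      obtain ⟨v, hv, rfl⟩ := hx
      rw [h1, if_neg (by decide)]
      exact det_qRefl hv
    | one =>
      rw [map_one, Prod.fst_one, if_pos rfl]
      exact LinearMap.det_id
    | mul x y _ _ hx hy =>
      rw [hmul, hx, hy, map_mul, Prod.fst_mul]
      rcases zmod2_cases (ψ x).1 with e | e <;> rcases zmod2_cases (ψ y).1 with e' | e' <;> rw [e, e'] <;> simp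
      exact fun hf => absurd (by decide) hf
    | inv x _ hx =>
      have hxx := hmul x⁻¹ x
      rw [inv_mul_cancel, hx] at hxx
      rw [show LinearMap.det ((1 : qAut Q).1 : (ι → F) →ₗ[F] (ι → F)) = 1 from LinearMap.det_id] at hxx
      rw [map_inv ψ, Prod.fst_inv]
      rcases zmod2_cases (ψ x).1 with e | e <;> rw [e] at hxx ⊢
      · rw [if_pos rfl, mul_one] at hxx
        rw [inv_one, if_pos rfl, ← hxx]
      · rw [if_neg (by decide), mul_neg, mul_one] at hxx
        rw [if_neg (by decide)]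
        linear_combination hxx
  change LinearMap.det (h.1 : (ι → F) →ₗ[F] (ι → F)) = 1 ↔ _
  rw [key]
  by_cases hc : (ψ h).1 = 1 <;> simp [hc, hne]

theorem pgoAut_eq (hQ : Pre Q) :
    Cfsg.pgoAut F (⇑Q) = ((simSub hQ).map (act Q)).comap (autT Q hQ).toMonoidHom :=
  autSubgroupOf_eq (autT Q hQ) _ _ (similarityInduced_iff hQ)

theorem psoAut_eq (hQ : Pre Q) :
    Cfsg.psoAut F (⇑Q) = (((detOne Q).map (qIncl Q)).map (act Q)).comap (autT Q hQ).toMonoidHom := by
  refine autSubgroupOf_eq (autT Q hQ) _ _ fun β => ⟨?_, ?_⟩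
  · rintro ⟨g, ⟨hiso, hdet⟩, hind⟩
    have hq : ∀ v, Q ((g : Matrix ι ι F) *ᵥ v) = Q v := fun v => by
      simpa using hiso v v
    have hp : Cfsg.IsSemisimilarityPair (⇑Q) g (RingEquiv.refl F) :=
      ⟨1, fun v => by rw [Units.val_one, one_mul]; exact hq v⟩
    let L : (ι → F) ≃ₗ[F] (ι → F) := LinearEquiv.ofInjectiveEndo (Matrix.toLin' (g : Matrix ι ι F))
      fun v w e => (semMap g (RingEquiv.refl F)).injective e
    let h : qAut Q := ⟨L, hq⟩
    have hdet' : LinearMap.det (L : (ι → F) →ₗ[F] (ι → F)) = 1 := by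
      rw [show (L : (ι → F) →ₗ[F] (ι → F)) = Matrix.toLin' (g : Matrix ι ι F) from rfl, LinearMap.det_toLin']
      exact congrArg Units.val hdet
    refine ⟨qIncl Q h, ⟨h, hdet', rfl⟩, ?_⟩
    rw [(induced_iff hQ hp β).1 hind]
    exact congrArg _ (gammaO_ext fun v => rfl)
  · rintro ⟨_, ⟨h, hh, rfl⟩, e⟩
    obtain ⟨g, hg, h1, h2⟩ := exists_matrix hQ (qIncl_mem_simSub hQ h)
    have hq : ∀ v, Q ((g : Matrix ι ι F) *ᵥ v) = Q v := fun v => by
      rw [← h1, qIncl_apply]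
      exact qAut_map h v
    refine ⟨g, ⟨fun v u => by simpa using hq v, ?_⟩, (h2 β).2 e.symm⟩
    · refine MonoidHom.mem_ker.2 (Units.ext ?_)
      change LinearMap.det (h.1 : (ι → F) →ₗ[F] (ι → F)) = 1 at hh
      rw [show LinearMap.det (h.1 : (ι → F) →ₗ[F] (ι → F)) = LinearMap.det (Matrix.toLin' (g : Matrix ι ι F)) from
        congrArg _ (LinearMap.ext fun v => by rw [Matrix.toLin'_apply, ← h1, qIncl_apply]; rfl),
        LinearMap.det_toLin'] at hh
      exact hh

theorem innAut_eq (hQ : Pre Q) :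
    Cfsg.Inn (Cfsg.POmega F ⇑Q) = (((eichGroup Q).map (qIncl Q)).map (act Q)).comap (autT Q hQ).toMonoidHom := by
  ext β
  rw [autT_mem_inn hQ, inn_eq, Subgroup.mem_comap]
  rfl

/-- The class of the multiplier. -/
noncomputable def mulClass (hQ : Pre Q) (h2 : (2 : F) ≠ 0) : simSub hQ →* Multiplicative (ZMod 2) :=
  haveI : DecidablePred (IsSquare : F → Prop) := Classical.decPred _
  MonoidHom.mk' (fun T => if IsSquare (mulFac T.1) then 1 else Multiplicative.ofAdd 1) fun S T => by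
    have hm : mulFac (S * T).1 = mulFac S.1 * mulFac T.1 := by
      rw [Subgroup.coe_mul, mulFac_mul hQ, linear_of_simSub hQ S.2]
    by_cases hs : IsSquare (mulFac S.1) <;> by_cases ht : IsSquare (mulFac T.1)
    · rw [if_pos hs, if_pos ht, if_pos (hm ▸ hs.mul ht), one_mul]
    · rw [if_pos hs, if_neg ht, one_mul, if_neg]
      intro h
      refine ht ?_
      have := (h.mul hs)
      obtain ⟨r, hr⟩ := hs
      have hr0 : r ≠ 0 := fun e => (semisim_spec S.1).ne (by rw [hr, e, mul_zero])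
      rw [hm] at h
      have h' := h.mul (show IsSquare (r⁻¹ * r⁻¹) from ⟨_, rfl⟩)
      rwa [hr, show r * r * mulFac T.1 * (r⁻¹ * r⁻¹) = mulFac T.1 by field_simp] at h'
    · rw [if_neg hs, if_pos ht, mul_one, if_neg]
      intro h
      refine hs ?_
      obtain ⟨r, hr⟩ := ht
      have hr0 : r ≠ 0 := fun e => (semisim_spec T.1).ne (by rw [hr, e, mul_zero])
      rw [hm] at h
      have h' := h.mul (show IsSquare (r⁻¹ * r⁻¹) from ⟨_, rfl⟩)
      rwa [hr, show mulFac S.1 * (r * r) * (r⁻¹ * r⁻¹) = mulFac S.1 by field_simp] at h'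
    · rw [if_neg hs, if_neg ht, if_pos (hm ▸ isSquare_mul_of_not_isSquare h2 hs ht)]
      decide

theorem mulClass_apply (hQ : Pre Q) (h2 : (2 : F) ≠ 0) [DecidablePred (IsSquare : F → Prop)] (T : simSub hQ) :
    mulClass hQ h2 T = if IsSquare (mulFac T.1) then 1 else Multiplicative.ofAdd 1 := by
  simp only [mulClass, MonoidHom.mk'_apply]
  congr

theorem mulClass_eq_one (hQ : Pre Q) (h2 : (2 : F) ≠ 0) (T : simSub hQ) :
    mulClass hQ h2 T = 1 ↔ IsSquare (mulFac T.1) := by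
  classical
  rw [mulClass_apply]
  split_ifs with h
  · exact iff_of_true rfl h
  · exact iff_of_false (by decide) h

/-- The data controlling the similitudes in odd characteristic. -/
structure SimData (hQ : Pre Q) where
  h2 : (2 : F) ≠ 0
  ψ : qAut Q →* Multiplicative (ZMod 2) × ℤˣ
  heich : ∀ h, h ∈ eichGroup Q ↔ ψ h = 1
  h1 : ∀ (v : ι → F) (hv : Q v ≠ 0), (ψ (qRefl Q hv)).1 = Multiplicative.ofAdd 1
  hiff : ∀ (v w : ι → F) (hv : Q v ≠ 0) (hw : Q w ≠ 0),
    ψ (qRefl Q hv) = ψ (qRefl Q hw) ↔ IsSquare (Q v * Q w)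
  par : simSub hQ →* Multiplicative (ZMod 2)
  par_scal : ∀ c, par ⟨scal Q c, scal_mem_simSub hQ c⟩ = 1
  par_incl : ∀ h, par ⟨qIncl Q h, qIncl_mem_simSub hQ h⟩ = (ψ h).1
  w : qAut Q
  hw : ψ w = (1, -1)
  T : simSub hQ
  hT : par T = 1
  hTμ : ¬ IsSquare (mulFac T.1)
  refl : qAut Q
  hrefl : (ψ refl).1 = Multiplicative.ofAdd 1

namespace SimData

variable {hQ : Pre Q} (D : SimData hQ)
include D

/-- The two invariants. -/
noncomputable def chi : simSub hQ →* Multiplicative (ZMod 2 × ZMod 2) :=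
  (MulEquiv.prodMultiplicative (ZMod 2) (ZMod 2)).symm.toMonoidHom.comp ((mulClass hQ D.h2).prod D.par)

theorem chi_eq_one (T : simSub hQ) : D.chi T = 1 ↔ IsSquare (mulFac T.1) ∧ D.par T = 1 := by
  rw [chi, MonoidHom.comp_apply, MulEquiv.coe_toMonoidHom, MulEquiv.map_eq_one_iff, MonoidHom.prod_apply,
    Prod.ext_iff, Prod.fst_one, Prod.snd_one, mulClass_eq_one]

theorem chi_apply (T : simSub hQ) : D.chi T = Multiplicative.ofAdd
    (Multiplicative.toAdd (mulClass hQ D.h2 T), Multiplicative.toAdd (D.par T)) := rfl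

theorem chi_scal (c : Fˣ) : D.chi ⟨scal Q c, scal_mem_simSub hQ c⟩ = 1 :=
  (D.chi_eq_one _).2 ⟨by rw [mulFac_scal hQ]; exact ⟨_, rfl⟩, D.par_scal c⟩

theorem chi_refl : D.chi ⟨qIncl Q D.refl, qIncl_mem_simSub hQ _⟩ = Multiplicative.ofAdd (0, 1) := by
  rw [chi_apply, D.par_incl, D.hrefl, (mulClass_eq_one hQ D.h2 _).2 (by rw [mulFac_qIncl hQ]; exact IsSquare.one)]
  rfl

theorem chi_T : D.chi D.T = Multiplicative.ofAdd (1, 0) := by
  classical
  rw [chi_apply, D.hT, mulClass_apply, if_neg D.hTμ]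
  rfl

theorem chi_surjective : Function.Surjective D.chi := by
  intro x
  obtain ⟨x, rfl⟩ := Multiplicative.ofAdd.surjective x
  rcases (by decide : ∀ x : ZMod 2 × ZMod 2, x = (0, 0) ∨ x = (1, 0) ∨ x = (0, 1) ∨ x = (1, 1)) x with
    rfl | rfl | rfl | rfl
  · exact ⟨1, map_one _⟩
  · exact ⟨_, D.chi_T⟩
  · exact ⟨_, D.chi_refl⟩
  · exact ⟨D.T * ⟨qIncl Q D.refl, qIncl_mem_simSub hQ _⟩, by rw [map_mul, D.chi_T, D.chi_refl]; rfl⟩

/-- The outer class. -/
noncomputable def cl (_D : SimData hQ) : simSub hQ →* Cfsg.Out (TQ Q) := (outMap Q).comp (simSub hQ).subtype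

/-- The special isometry of non-trivial spinor norm. -/
noncomputable def W (D : SimData hQ) : simSub hQ := ⟨qIncl Q D.w, qIncl_mem_simSub hQ _⟩

theorem chi_W : D.chi D.W = 1 :=
  (D.chi_eq_one _).2 ⟨by rw [show (D.W).1 = qIncl Q D.w from rfl, mulFac_qIncl hQ]; exact IsSquare.one,
    (D.par_incl _).trans (by rw [D.hw])⟩

theorem kerS_eq : D.chi.ker.map (simSub hQ).subtype = (scal Q).range ⊔ (detOne Q).map (qIncl Q) := by
  refine le_antisymm ?_ (sup_le ?_ ?_)
  · rintro _ ⟨T, hT, rfl⟩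
    obtain ⟨hsq, hpar⟩ := (D.chi_eq_one T).1 hT
    obtain ⟨d, h, e⟩ := exists_decomp hQ T.2 hsq
    change T.1 ∈ _
    rw [e]
    refine mul_mem (Subgroup.mem_sup_left ⟨d, rfl⟩) (Subgroup.mem_sup_right ⟨h, ?_, rfl⟩)
    refine (mem_detOne_iff hQ D.h2 D.h1 h).2 ?_
    rw [show T = ⟨scal Q d, scal_mem_simSub hQ d⟩ * ⟨qIncl Q h, qIncl_mem_simSub hQ h⟩ from Subtype.ext e, map_mul,
      D.par_scal, one_mul, D.par_incl] at hpar
    exact hpar
  · rintro _ ⟨c, rfl⟩
    exact ⟨_, D.chi_scal c, rfl⟩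
  · rintro _ ⟨h, hh, rfl⟩
    exact ⟨⟨qIncl Q h, qIncl_mem_simSub hQ h⟩, (D.chi_eq_one _).2 ⟨by rw [mulFac_qIncl hQ]; exact IsSquare.one,
      (D.par_incl h).trans ((mem_detOne_iff hQ D.h2 D.h1 h).1 hh)⟩, rfl⟩

theorem map_act_sup (N : Subgroup (gammaO Q)) : ((scal Q).range ⊔ N).map (act Q) = N.map (act Q) := by
  rw [Subgroup.map_sup, sup_eq_right]
  rintro _ ⟨_, ⟨c, rfl⟩, rfl⟩
  rw [act_scal]
  exact one_mem _

theorem cl_eq_one {T : simSub hQ} (h : D.cl T = 1) : D.chi T = 1 := by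
  obtain ⟨c, g, hg, e⟩ := (outMap_eq_one_iff hQ).1 h
  rw [show T = ⟨scal Q c, scal_mem_simSub hQ c⟩ * ⟨qIncl Q g, qIncl_mem_simSub hQ g⟩ from Subtype.ext e, map_mul,
    D.chi_scal, one_mul, D.chi_eq_one, mulFac_qIncl hQ]
  exact ⟨IsSquare.one, (D.par_incl g).trans (by rw [(D.heich g).1 hg]; rfl)⟩

theorem cl_cases {T : simSub hQ} (h : D.chi T = 1) : D.cl T = 1 ∨ D.cl T = D.cl D.W := by
  obtain ⟨hsq, hpar⟩ := (D.chi_eq_one T).1 h
  obtain ⟨d, g, e⟩ := exists_decomp hQ T.2 hsq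
  have hg : (D.ψ g).1 = 1 := by
    rw [show T = ⟨scal Q d, scal_mem_simSub hQ d⟩ * ⟨qIncl Q g, qIncl_mem_simSub hQ g⟩ from Subtype.ext e, map_mul,
      D.par_scal, one_mul, D.par_incl] at hpar
    exact hpar
  have hc : D.cl T = outMap Q (qIncl Q g) := by
    change outMap Q T.1 = _
    rw [e, map_mul, outMap_scal hQ, one_mul]
  rw [hc]
  rcases (by decide : ∀ x : Multiplicative (ZMod 2) × ℤˣ, x.1 = 1 → x = 1 ∨ x = (1, -1)) _ hg with hx | hx
  · exact Or.inl (outMap_eich hQ ((D.heich g).2 hx))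
  · refine Or.inr ?_
    change _ = outMap Q (qIncl Q D.w)
    rw [← mul_inv_cancel_left D.w g, map_mul, map_mul, outMap_eich hQ (g := D.w⁻¹ * g) ((D.heich _).2 (by
      rw [map_mul, map_inv, D.hw]
      rw [hx, inv_mul_cancel])), mul_one]

theorem cl_W_sq : D.cl D.W * D.cl D.W = 1 := by
  change outMap Q (qIncl Q D.w) * outMap Q (qIncl Q D.w) = 1
  rw [← map_mul, ← map_mul]
  exact outMap_eich hQ ((D.heich _).2 (by rw [map_mul, D.hw]; decide))

theorem cl_W_eq_one_iff : D.cl D.W = 1 ↔ D.ψ (negAut Q) = (1, -1) := by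
  constructor
  · intro h
    rcases outMap_qIncl_eq_one hQ h with h' | h'
    · rw [D.heich, D.hw] at h'
      exact absurd h' (by decide)
    · rw [D.heich, map_mul, D.hw] at h'
      rw [eq_inv_of_mul_eq_one_left h']
      decide
  · intro h
    change outMap Q (qIncl Q D.w) = 1
    rw [← mul_inv_cancel_left (negAut Q) D.w, map_mul, map_mul, negAut_eq_scal, outMap_scal hQ, one_mul]
    exact outMap_eich hQ ((D.heich _).2 (by rw [map_mul, map_inv, h, D.hw, inv_mul_cancel]))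

/-- The similitudes modulo the special orthogonal group. -/
theorem pgo_mod_pso : ∃ φ : ↥(Cfsg.pgoAut F (⇑Q)) →* Multiplicative (ZMod 2 × ZMod 2),
    Function.Surjective φ ∧ φ.ker = (Cfsg.psoAut F (⇑Q)).subgroupOf (Cfsg.pgoAut F (⇑Q)) := by
  obtain ⟨φ, h1, h2⟩ := exists_aut_hom hQ (simSub hQ) (scal_mem_simSub hQ) D.chi D.chi_surjective D.chi_scal
  rw [D.kerS_eq, D.map_act_sup] at h2
  rw [pgoAut_eq hQ, psoAut_eq hQ]
  exact ⟨φ, h1, h2⟩

/-- Descent of a homomorphism killing the inner classes. -/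
theorem mod_inn {A : Type*} [Group A] (S : Subgroup (simSub hQ)) (hscal : ∀ c, ⟨scal Q c, scal_mem_simSub hQ c⟩ ∈ S)
    (heich : ∀ g ∈ eichGroup Q, ⟨qIncl Q g, qIncl_mem_simSub hQ g⟩ ∈ S)
    {φ : S →* A} (hs : Function.Surjective φ) (hk : φ.ker = (D.cl.comp S.subtype).ker) :
    ∃ Φ : ↥(((S.map (simSub hQ).subtype).map (act Q)).comap (autT Q hQ).toMonoidHom) →* A,
      Function.Surjective Φ ∧ Φ.ker = (Cfsg.Inn (Cfsg.POmega F ⇑Q)).subgroupOf
        (((S.map (simSub hQ).subtype).map (act Q)).comap (autT Q hQ).toMonoidHom) := by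
  let e := S.equivMapOfInjective (simSub hQ).subtype (Subgroup.subtype_injective _)
  have hmem : ∀ c, scal Q c ∈ S.map (simSub hQ).subtype := fun c => ⟨_, hscal c, rfl⟩
  have hmem' : ∀ x : ↥(S.map (simSub hQ).subtype), ((e.symm x : ↥S) : simSub hQ).1 = x.1 := fun x => by
    conv_rhs => rw [← e.apply_symm_apply x]
    rfl
  have hker : ∀ x : ↥(S.map (simSub hQ).subtype), φ (e.symm x) = 1 ↔ outMap Q x.1 = 1 := fun x => by
    rw [← MonoidHom.mem_ker, hk, MonoidHom.mem_ker, ← hmem' x]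
    rfl
  obtain ⟨Φ, h1, h2⟩ := exists_aut_hom hQ _ hmem (φ.comp e.symm.toMonoidHom)
    (hs.comp e.symm.surjective) fun c => (hker _).2 (outMap_scal hQ c)
  refine ⟨Φ, h1, h2.trans ?_⟩
  congr 1
  rw [innAut_eq hQ]
  congr 1
  refine le_antisymm ?_ (Subgroup.map_mono ?_)
  · rintro _ ⟨_, ⟨x, hx, rfl⟩, rfl⟩
    obtain ⟨c, g, hg, e'⟩ := (outMap_eq_one_iff hQ).1 ((hker x).1 hx)
    refine ⟨_, ⟨g, hg, rfl⟩, ?_⟩
    change _ = act Q x.1
    rw [e', map_mul, act_scal, one_mul]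
  · rintro _ ⟨g, hg, rfl⟩
    exact ⟨⟨qIncl Q g, _, heich g hg, rfl⟩, (hker _).2 (outMap_eich hQ hg), rfl⟩

theorem mod_inn_top {A : Type*} [Group A] {φ : simSub hQ →* A} (hs : Function.Surjective φ)
    (hk : φ.ker = D.cl.ker) : ∃ Φ : ↥(Cfsg.pgoAut F (⇑Q)) →* A, Function.Surjective Φ ∧
      Φ.ker = (Cfsg.Inn (Cfsg.POmega F ⇑Q)).subgroupOf (Cfsg.pgoAut F (⇑Q)) := by
  obtain ⟨Φ, h1, h2⟩ := D.mod_inn ⊤ (fun _ => trivial) (fun _ _ => trivial)
    (φ := φ.comp (Subgroup.topEquiv (G := simSub hQ)).toMonoidHom)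
    (hs.comp (Subgroup.topEquiv (G := simSub hQ)).surjective) (by rw [← MonoidHom.comap_ker, hk, MonoidHom.comap_ker]; rfl)
  revert Φ
  rw [show (⊤ : Subgroup (simSub hQ)).map (simSub hQ).subtype = simSub hQ by
    rw [← MonoidHom.range_eq_map, Subgroup.range_subtype], ← pgoAut_eq hQ]
  exact fun Φ h1 h2 => ⟨Φ, h1, h2⟩

/-- The index of the inner automorphisms in the special orthogonal group. -/
theorem pso_relIndex :
    (D.ψ (negAut Q) = (1, -1) → (Cfsg.Inn (Cfsg.POmega F ⇑Q)).relIndex (Cfsg.psoAut F (⇑Q)) = 1) ∧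
      (D.ψ (negAut Q) ≠ (1, -1) → (Cfsg.Inn (Cfsg.POmega F ⇑Q)).relIndex (Cfsg.psoAut F (⇑Q)) = 2) := by
  have hS : D.chi.ker.map (simSub hQ).subtype = (scal Q).range ⊔ (detOne Q).map (qIncl Q) := D.kerS_eq
  have hscal : ∀ c, (⟨scal Q c, scal_mem_simSub hQ c⟩ : simSub hQ) ∈ D.chi.ker := D.chi_scal
  have heich : ∀ g ∈ eichGroup Q, (⟨qIncl Q g, qIncl_mem_simSub hQ g⟩ : simSub hQ) ∈ D.chi.ker := fun g hg =>
    D.cl_eq_one (outMap_eich hQ hg)
  have hpso : ((D.chi.ker.map (simSub hQ).subtype).map (act Q)).comap (autT Q hQ).toMonoidHom =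
      Cfsg.psoAut F (⇑Q) := by rw [hS, D.map_act_sup, psoAut_eq hQ]
  constructor
  · intro h
    have h1 := (D.cl_W_eq_one_iff).2 h
    obtain ⟨Φ, hs, hk⟩ := D.mod_inn D.chi.ker hscal heich (A := PUnit.{1}) (φ := 1) (fun a => ⟨1, rfl⟩) (by
      rw [MonoidHom.ker_one]
      exact eq_comm.1 (eq_top_iff.2 fun T _ => MonoidHom.mem_ker.2 ((D.cl_cases T.2).elim id fun e => e.trans h1)))
    rw [← hpso]
    revert Φ
    generalize ((D.chi.ker.map (simSub hQ).subtype).map (act Q)).comap (autT Q hQ).toMonoidHom = P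
    intro Φ hs hk
    rw [Subgroup.relIndex, ← hk, Subgroup.index_ker, MonoidHom.range_eq_top.2 hs, Subgroup.card_top]
    simp
  · intro h
    have h1 : D.cl D.W ≠ 1 := fun e => h ((D.cl_W_eq_one_iff).1 e)
    let j : Multiplicative (ZMod 2) →* Cfsg.Out (TQ Q) :=
      MonoidHom.mk' (fun i => D.cl D.W ^ (Multiplicative.toAdd i).val) fun i k => by
        rw [← pow_add, toAdd_mul, ZMod.val_add, ← pow_eq_pow_mod _ (by rw [sq, D.cl_W_sq])]
    have hjW : j (Multiplicative.ofAdd 1) = D.cl D.W := by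
      change D.cl D.W ^ (1 : ZMod 2).val = _
      rw [ZMod.val_one, pow_one]
    have hinj : ∀ i, j i = 1 → i = 1 := fun i hi => by
      rcases zmod2_cases i with rfl | rfl
      · rfl
      · rw [hjW] at hi
        exact absurd hi h1
    have hin : ∀ T : D.chi.ker, (D.cl.comp D.chi.ker.subtype) T ∈ j.range := fun T => by
      change D.cl T.1 ∈ j.range
      rcases D.cl_cases (T := T.1) T.2 with e | e
      · rw [e]; exact one_mem _
      · rw [e, ← hjW]; exact ⟨_, rfl⟩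
    have hout : j.range ≤ (D.cl.comp D.chi.ker.subtype).range := by
      rintro _ ⟨i, rfl⟩
      rcases zmod2_cases i with rfl | rfl
      · rw [map_one]; exact one_mem _
      · rw [hjW]; exact ⟨⟨D.W, D.chi_W⟩, rfl⟩
    obtain ⟨φ, hφ, hφk⟩ := exists_hom_range (D.cl.comp D.chi.ker.subtype) j hinj hin hout
    obtain ⟨Φ, hs, hk⟩ := D.mod_inn D.chi.ker hscal heich hφ hφk
    rw [← hpso]
    revert Φ
    generalize ((D.chi.ker.map (simSub hQ).subtype).map (act Q)).comap (autT Q hQ).toMonoidHom = P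
    intro Φ hs hk
    rw [Subgroup.relIndex, ← hk, Subgroup.index_ker, MonoidHom.range_eq_top.2 hs, Subgroup.card_top]
    simp

/-- The small case of the similitudes modulo inner automorphisms. -/
theorem pgo_mod_inn_klein (h : D.ψ (negAut Q) = (1, -1)) :
    ∃ φ : ↥(Cfsg.pgoAut F (⇑Q)) →* Multiplicative (ZMod 2 × ZMod 2), Function.Surjective φ ∧
      φ.ker = (Cfsg.Inn (Cfsg.POmega F ⇑Q)).subgroupOf (Cfsg.pgoAut F (⇑Q)) := by
  refine D.mod_inn_top D.chi_surjective (le_antisymm (fun T hT => ?_) fun T hT => D.cl_eq_one hT)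
  exact (D.cl_cases hT).elim id fun e => e.trans ((D.cl_W_eq_one_iff).2 h)

/-- The dihedral case. -/
theorem pgo_mod_inn_dihedral (R S : simSub hQ) (hR2 : D.cl R * D.cl R ≠ 1) (hS : D.cl S * D.cl S = 1)
    (hSR : D.cl S * D.cl R * D.cl S * D.cl R = 1) (hS1 : D.chi S ≠ 1) (hSR1 : D.chi S ≠ D.chi R) :
    ∃ φ : ↥(Cfsg.pgoAut F (⇑Q)) →* DihedralGroup 4, Function.Surjective φ ∧
      φ.ker = (Cfsg.Inn (Cfsg.POmega F ⇑Q)).subgroupOf (Cfsg.pgoAut F (⇑Q)) := by
  have hv : ∀ v : Multiplicative (ZMod 2 × ZMod 2), v * v = 1 := by decide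
  have hv4 : ∀ r s g : Multiplicative (ZMod 2 × ZMod 2), r ≠ 1 → s ≠ 1 → s ≠ r →
      g = 1 ∨ g = r ∨ g = s ∨ g = r * s := by decide
  have hR1 : D.chi R ≠ 1 := fun e => hR2 (by
    rcases D.cl_cases e with h | h
    · rw [h, one_mul]
    · rw [h]; exact D.cl_W_sq)
  obtain ⟨φ, h1, h2⟩ := dihedral_hom_of D.cl D.chi (fun g hg => D.cl_cases hg) (fun g hg => D.cl_eq_one hg)
    D.cl_W_sq hR2 (hv _) hS hSR hS1 hSR1 fun g => hv4 _ _ _ hR1 hS1 hSR1
  exact D.mod_inn_top h1 h2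

/-- The inner-diagonal subgroup. -/
noncomputable def diagS : Subgroup (simSub hQ) := D.par.ker

theorem diag_scal (c : Fˣ) : (⟨scal Q c, scal_mem_simSub hQ c⟩ : simSub hQ) ∈ D.diagS := D.par_scal c

theorem diag_eich {g : qAut Q} (hg : g ∈ eichGroup Q) :
    (⟨qIncl Q g, qIncl_mem_simSub hQ g⟩ : simSub hQ) ∈ D.diagS :=
  (D.par_incl g).trans (by rw [(D.heich g).1 hg]; rfl)

theorem diag_chi (T : D.diagS) : D.chi T.1 = 1 ∨ D.chi T.1 = D.chi D.T := by
  rw [D.chi_T, chi_apply, show D.par T.1 = 1 from T.2]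
  rcases zmod2_cases (mulClass hQ D.h2 T.1) with e | e <;> rw [e]
  · exact Or.inl rfl
  · exact Or.inr rfl

theorem diag_two (h : D.ψ (negAut Q) = (1, -1)) :
    ∃ φ : ↥(((D.diagS.map (simSub hQ).subtype).map (act Q)).comap (autT Q hQ).toMonoidHom) →*
        Multiplicative (ZMod 2), Function.Surjective φ ∧ φ.ker = (Cfsg.Inn (Cfsg.POmega F ⇑Q)).subgroupOf
        (((D.diagS.map (simSub hQ).subtype).map (act Q)).comap (autT Q hQ).toMonoidHom) := by
  classical
  refine D.mod_inn D.diagS D.diag_scal (fun g hg => D.diag_eich hg)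
    (φ := (mulClass hQ D.h2).comp D.diagS.subtype) (fun i => ?_) (le_antisymm (fun T hT => ?_) fun T hT => ?_)
  · rcases zmod2_cases i with rfl | rfl
    · exact ⟨1, map_one _⟩
    · refine ⟨⟨D.T, D.hT⟩, ?_⟩
      rw [MonoidHom.comp_apply, mulClass_apply]
      exact if_neg D.hTμ
  · have hT' : mulClass hQ D.h2 T.1 = 1 := hT
    rw [mulClass_eq_one] at hT'
    exact MonoidHom.mem_ker.2 ((D.cl_cases ((D.chi_eq_one _).2 ⟨hT', T.2⟩)).elim id fun e =>
      e.trans ((D.cl_W_eq_one_iff).2 h))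
  · exact (mulClass_eq_one hQ D.h2 _).2 ((D.chi_eq_one _).1 (D.cl_eq_one hT)).1

theorem diag_four (hT2 : D.cl D.T * D.cl D.T ≠ 1) :
    ∃ φ : ↥(((D.diagS.map (simSub hQ).subtype).map (act Q)).comap (autT Q hQ).toMonoidHom) →*
        Multiplicative (ZMod 4), Function.Surjective φ ∧ φ.ker = (Cfsg.Inn (Cfsg.POmega F ⇑Q)).subgroupOf
        (((D.diagS.map (simSub hQ).subtype).map (act Q)).comap (autT Q hQ).toMonoidHom) := by
  obtain ⟨φ, h1, h2⟩ := four_hom_of (D.cl.comp D.diagS.subtype) (D.chi.comp D.diagS.subtype)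
    (W := ⟨D.W, (D.par_incl _).trans (by rw [D.hw])⟩) (R := ⟨D.T, D.hT⟩)
    (fun g hg => D.cl_cases hg) D.cl_W_sq hT2 ((by decide : ∀ v : Multiplicative (ZMod 2 × ZMod 2), v * v = 1) _)
    D.diag_chi
  exact D.mod_inn D.diagS D.diag_scal (fun g hg => D.diag_eich hg) h1 h2

theorem diag_klein (h : D.ψ (negAut Q) ≠ (1, -1)) (hT2 : D.cl D.T * D.cl D.T = 1) :
    ∃ φ : ↥(((D.diagS.map (simSub hQ).subtype).map (act Q)).comap (autT Q hQ).toMonoidHom) →*
        Multiplicative (ZMod 2 × ZMod 2), Function.Surjective φ ∧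
      φ.ker = (Cfsg.Inn (Cfsg.POmega F ⇑Q)).subgroupOf
        (((D.diagS.map (simSub hQ).subtype).map (act Q)).comap (autT Q hQ).toMonoidHom) := by
  have hcomm : Commute (D.cl D.T) (D.cl D.W) := by
    have h1 : D.chi (D.T * D.W * D.T⁻¹) = 1 := by
      rw [map_mul, map_mul, map_inv, D.chi_W, mul_one, mul_inv_cancel]
    rcases D.cl_cases h1 with e | e
    · exfalso
      refine h ((D.cl_W_eq_one_iff).1 ?_)
      rwa [map_mul, map_mul, map_inv, conj_eq_one_iff] at e
    · rw [map_mul, map_mul, map_inv, mul_inv_eq_iff_eq_mul] at e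
      exact e
  obtain ⟨φ, h1, h2⟩ := klein_hom_of (D.cl.comp D.diagS.subtype) (D.chi.comp D.diagS.subtype)
    (W := ⟨D.W, (D.par_incl _).trans (by rw [D.hw])⟩) (R := ⟨D.T, D.hT⟩)
    (fun g hg => D.cl_cases hg) (fun g hg => D.cl_eq_one hg) D.cl_W_sq
    (fun e => h ((D.cl_W_eq_one_iff).1 e)) D.chi_W
    (fun e => absurd (D.chi_T.symm.trans e) (by decide)) hT2 hcomm D.diag_chi
  exact D.mod_inn D.diagS D.diag_scal (fun g hg => D.diag_eich hg) h1 h2

end SimData

end CfsgLib.POAut
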