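/-
The similitudes of a hyperbolic space modulo inner automorphisms.
-/
import Cfsg.Agent.Lib.KnownSimple.POAut.PGOStruct
import Cfsg.Agent.Lib.KnownSimple.POAut.PlusTorus

set_option autoImplicit false
set_option maxHeartbeats 800000

namespace CfsgLib.POAut

open CfsgLib.Classical CfsgLib.Classical22

namespace SimData

variable {F : Type*} [Field F] [Fintype F] {ι : Type} [Fintype ι] [DecidableEq ι] {Q : QuadraticForm F (ι → F)}
  {hQ : Pre Q} (D : SimData hQ)
include D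

theorem neg_cases : D.ψ (negAut Q) = 1 ∨ D.ψ (negAut Q) = (1, -1) := by
  refine (by decide : ∀ x : Multiplicative (ZMod 2) × ℤˣ, x.1 = 1 → x = 1 ∨ x = (1, -1)) _ ?_
  rw [← D.par_incl]
  conv_lhs => arg 2; arg 1; rw [negAut_eq_scal]
  exact D.par_scal _

theorem cl_incl_eq_one_iff (hneg : D.ψ (negAut Q) = 1) (h : qAut Q) :
    D.cl ⟨qIncl Q h, qIncl_mem_simSub hQ h⟩ = 1 ↔ D.ψ h = 1 := by
  refine ⟨fun he => ?_, fun he => outMap_eich hQ ((D.heich h).2 he)⟩
  rcases outMap_qIncl_eq_one hQ he with h' | h'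
  · exact (D.heich h).1 h'
  · rwa [D.heich, map_mul, hneg, one_mul] at h'

theorem neg_ne (hneg : D.ψ (negAut Q) = 1) : D.ψ (negAut Q) ≠ (1, -1) := by
  rw [hneg]; decide

end SimData

variable {F : Type*} [Field F] [Fintype F] {m : ℕ}

/-- Scaling the first half of the coordinates. -/
noncomputable def halfT (m : ℕ) (u : Fˣ) : gammaO (qPlus m F) :=
  mkGamma (LinearEquiv.piCongrRight (Sum.elim (fun _ => LinearEquiv.smulOfUnit u) fun _ => LinearEquiv.refl F F :
      Fin m ⊕ Fin m → (F ≃ₗ[F] F))).toAddEquiv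
    (σ := RingEquiv.refl F) (c := (u : F)) ⟨fun s v => LinearEquiv.map_smul (LinearEquiv.piCongrRight (Sum.elim (fun _ => LinearEquiv.smulOfUnit u) fun _ => LinearEquiv.refl F F : Fin m ⊕ Fin m → (F ≃ₗ[F] F))) s v, fun v => by
      simp only [coe_qPlus, Cfsg.quadFormPlus, RingEquiv.refl_apply, Finset.mul_sum]
      refine Finset.sum_congr rfl fun i _ => ?_
      change ((u : F) * v (Sum.inl i)) * v (Sum.inr i) = _
      ring, u.ne_zero⟩

omit [Fintype F] in
theorem halfT_inl (u : Fˣ) (v : Fin m ⊕ Fin m → F) (i : Fin m) :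
    addT (halfT m u) v (Sum.inl i) = (u : F) * v (Sum.inl i) := rfl

omit [Fintype F] in
theorem halfT_inr (u : Fˣ) (v : Fin m ⊕ Fin m → F) (i : Fin m) :
    addT (halfT m u) v (Sum.inr i) = v (Sum.inr i) := rfl

theorem halfT_mem (hQ : Pre (qPlus m F)) (u : Fˣ) : halfT m u ∈ simSub hQ :=
  sigHom_eq hQ _ fun s v => by
    funext i
    rcases i with i | i
    · rw [halfT_inl, Pi.smul_apply, Pi.smul_apply, smul_eq_mul, smul_eq_mul, halfT_inl]
      change _ = s * _
      ring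
    · rw [halfT_inr, Pi.smul_apply, Pi.smul_apply, smul_eq_mul, smul_eq_mul, halfT_inr]
      rfl

theorem mulFac_halfT (hQ : Pre (qPlus m F)) (u : Fˣ) : mulFac (halfT m u) = (u : F) :=
  mulFac_eq hQ _ fun v => by
    rw [sigFun_of_simSub hQ (halfT_mem hQ u), RingEquiv.refl_apply]
    simp only [coe_qPlus, Cfsg.quadFormPlus, Finset.mul_sum, halfT_inl, halfT_inr]
    exact Finset.sum_congr rfl fun i _ => by ring

omit [Fintype F] in
theorem finrank_xLin (m : ℕ) : Module.finrank F (LinearMap.range (xLin (F := F) m)) = m :=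
  And.left (maxS_xLin (F := F) m)

theorem parity_halfT (hQ : Pre (qPlus m F)) (u : Fˣ) :
    parityHom hQ.nondeg (finrank_qPlus_space m) (maxS_xLin m) (halfT m u) = 1 := by
  rw [parityHom_apply]
  have e : imgT (halfT m u) (LinearMap.range (xLin (F := F) m)) = LinearMap.range (xLin m) := by
    refine Submodule.eq_of_le_of_finrank_eq ?_ (finrank_imgT _ _)
    intro z hz
    obtain ⟨y, hy, rfl⟩ := mem_imgT.1 hz
    obtain ⟨x, rfl⟩ := LinearMap.mem_range.1 hy
    refine LinearMap.mem_range.2 ⟨(u : F) • x, funext fun i => ?_⟩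
    rcases i with i | i
    · rw [halfT_inl]
      simp [xLin]
    · rw [halfT_inr]
      simp [xLin]
  rw [e, par2_self (finrank_xLin (F := F) m), ofAdd_zero]

/-- The parity on the isometries. -/
theorem parity_incl (hQ : Pre (qPlus m F)) {ψ : qAut (qPlus m F) →* Multiplicative (ZMod 2) × ℤˣ}
    (h1 : ∀ (v : Fin m ⊕ Fin m → F) (hv : qPlus m F v ≠ 0), (ψ (qRefl _ hv)).1 = Multiplicative.ofAdd 1)
    (h : qAut (qPlus m F)) :
    parityHom hQ.nondeg (finrank_qPlus_space m) (maxS_xLin m) (qIncl _ h) = (ψ h).1 := by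
  have hgen := reflGroup_eq_top (qPlus m F) hQ.nondeg (Or.inr (by have := hQ.seven; omega))
  have hmem : h ∈ reflGroup (qPlus m F) := hgen ▸ Subgroup.mem_top h
  induction hmem using Subgroup.closure_induction with
  | mem x hx =>
    obtain ⟨v, hv, rfl⟩ := hx
    rw [h1, parityHom_refl]
  | one => simp
  | mul x y _ _ hx hy => rw [map_mul, map_mul, map_mul, Prod.fst_mul, hx, hy]
  | inv x _ hx => rw [map_inv, map_inv, map_inv, Prod.fst_inv, hx]

omit [Fintype F] in
theorem halfT_sq (u : Fˣ) :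
    halfT m u * halfT m u = scal _ u * qIncl (qPlus m F) (diagTorus m fun _ => u) := gammaO_ext fun v => by
  rw [gammaO_mul_apply, gammaO_mul_apply, scal_apply, qIncl_apply]
  funext i
  have hu := u.ne_zero
  rcases i with i | i
  · rw [halfT_inl, halfT_inl, Pi.smul_apply, smul_eq_mul, diagTorus_inl]
  · rw [halfT_inr, halfT_inr, Pi.smul_apply, smul_eq_mul, diagTorus_inr]
    simp

omit [Fintype F] in
theorem swap_half (u : Fˣ) (i : Fin m) (h : qPlus m F (pairVec i 1) ≠ 0) :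
    qIncl _ (qRefl _ h) * halfT m u * qIncl _ (qRefl _ h) * halfT m u =
      scal _ u * qIncl (qPlus m F) (diagTorus m (Function.update (fun _ => u) i 1)) := gammaO_ext fun v => by
  have href : ∀ w : Fin m ⊕ Fin m → F, (qRefl (qPlus m F) h).1 w =
      w + (w (Sum.inr i) - w (Sum.inl i)) • pairVec i (1 : F) := fun w => by
    rw [qRefl_apply, polar_pairVec, pairVec_quad, inv_neg, inv_one, one_mul, neg_one_mul, neg_smul, sub_neg_eq_add]
  rw [gammaO_mul_apply, gammaO_mul_apply, gammaO_mul_apply, gammaO_mul_apply, scal_apply, qIncl_apply, qIncl_apply,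
    qIncl_apply, href, href]
  funext j
  have hu := u.ne_zero
  rcases j with j | j
  · rw [Pi.smul_apply, smul_eq_mul, diagTorus_inl]
    rcases eq_or_ne j i with rfl | hj
    · simp [pairVec, halfT_inl, halfT_inr]
      ring
    · simp [pairVec, halfT_inl, halfT_inr, hj]
  · rw [Pi.smul_apply, smul_eq_mul, diagTorus_inr]
    rcases eq_or_ne j i with rfl | hj
    · simp [pairVec, halfT_inl, halfT_inr]
    · simp [pairVec, halfT_inl, halfT_inr, hj]

theorem isSquare_pow_iff {u : F} (hu : ¬ IsSquare u) (k : ℕ) : IsSquare (u ^ k) ↔ Even k := by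
  refine ⟨fun h => ?_, fun h => Even.isSquare_pow h u⟩
  by_contra hk
  obtain ⟨j, rfl⟩ := Nat.not_even_iff_odd.1 hk
  obtain ⟨r, hr⟩ := h
  have hu0 : u ≠ 0 := fun e => hu (e ▸ IsSquare.zero)
  refine hu ⟨r * (u ^ j)⁻¹, ?_⟩
  rw [show r * (u ^ j)⁻¹ * (r * (u ^ j)⁻¹) = r * r * ((u ^ j)⁻¹ * (u ^ j)⁻¹) by ring, ← hr]
  field_simp
  ring

set_option maxHeartbeats 2000000 in
/-- All the data in plus type. -/
theorem exists_plus_data (hodd : Odd (Fintype.card F)) (hm : 4 ≤ m) (hQ : Pre (qPlus m F)) :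
    ∃ D : SimData hQ, (D.diagS.map (simSub hQ).subtype = plusG hQ) ∧
      ((Odd m ∧ Fintype.card F % 4 = 3) → D.ψ (negAut _) = (1, -1)) ∧
      (¬ (Odd m ∧ Fintype.card F % 4 = 3) → D.ψ (negAut _) = 1 ∧
        (Odd m → D.cl D.T * D.cl D.T ≠ 1) ∧ (Even m → D.cl D.T * D.cl D.T = 1) ∧
        ¬ Commute (D.cl ⟨qIncl _ D.refl, qIncl_mem_simSub hQ _⟩) (D.cl D.T) ∧
        ∃ R S : simSub hQ, D.cl R * D.cl R ≠ 1 ∧ D.cl S * D.cl S = 1 ∧
          D.cl S * D.cl R * D.cl S * D.cl R = 1 ∧ D.chi S ≠ 1 ∧ D.chi S ≠ D.chi R) := by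
  classical
  have hr2 : ringChar F ≠ 2 := fun hc => by
    rw [FiniteField.even_card_iff_char_two] at hc
    rw [Nat.odd_iff] at hodd
    omega
  have h2 : (2 : F) ≠ 0 := Ring.two_ne_zero hr2
  have hn : 2 ≤ Module.finrank F (Fin m ⊕ Fin m → F) := le_trans (by omega) hQ.seven
  obtain ⟨ψ, hsurj, hker, h1, hiff⟩ := exists_abel_odd (qPlus m F) h2 hQ.nondeg hn
  have heich : ∀ h, h ∈ eichGroup (qPlus m F) ↔ ψ h = 1 := fun h => by
    rw [eichGroup_eq_commutator _ hQ.nondeg (le_trans (by omega) hQ.seven), ← hker, MonoidHom.mem_ker]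
  obtain ⟨w, hw⟩ := hsurj (1, -1)
  obtain ⟨u₀, hu₀⟩ := FiniteField.exists_nonsquare hr2
  obtain ⟨u, rfl⟩ : ∃ u : Fˣ, (u : F) = u₀ := ⟨Units.mk0 u₀ fun e => hu₀ (e ▸ IsSquare.zero), rfl⟩
  let i₀ : Fin m := ⟨0, by omega⟩
  have hv : qPlus m F (pairVec i₀ 1) ≠ 0 := by rw [pairVec_quad]; exact neg_ne_zero.2 one_ne_zero
  let D : SimData hQ :=
    { h2 := h2
      ψ := ψ
      heich := heich
      h1 := h1
      hiff := hiff
      par := (parityHom hQ.nondeg (finrank_qPlus_space m) (maxS_xLin m)).comp (simSub hQ).subtype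
      par_scal := fun c => parityHom_scal hQ.nondeg (finrank_qPlus_space m) (maxS_xLin m) c
      par_incl := fun h => parity_incl hQ h1 h
      w := w
      hw := hw
      T := ⟨halfT m u, halfT_mem hQ u⟩
      hT := parity_halfT hQ u
      hTμ := by rw [mulFac_halfT hQ]; exact hu₀
      refl := qRefl _ hv
      hrefl := h1 _ hv }
  have hneg : negAut (qPlus m F) = diagTorus m fun _ => -1 := qAut_ext fun v => funext fun i => by
    rcases i with i | i
    · rw [diagTorus_inl]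
      change -v (Sum.inl i) = _
      simp
    · rw [diagTorus_inr]
      change -v (Sum.inr i) = _
      simp
  have hψneg : ψ (negAut (qPlus m F)) = 1 ↔ ¬ (Odd m ∧ Fintype.card F % 4 = 3) := by
    rw [hneg, psi_diagTorus h1 hiff, Finset.prod_const, Finset.card_univ, Fintype.card_fin, Units.val_neg,
      Units.val_one]
    by_cases h3 : Fintype.card F % 4 = 3
    · rw [isSquare_pow_iff (fun hs => FiniteField.isSquare_neg_one_iff.1 hs h3), ← Nat.not_odd_iff_even]
      exact ⟨fun h hh => h hh.1, fun h hh => h ⟨hh, h3⟩⟩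
    · exact iff_of_true ((FiniteField.isSquare_neg_one_iff.2 h3).pow m) fun hh => h3 hh.2
  refine ⟨D, ?_, fun hcase => ?_, fun hcase => ?_⟩
  · ext T
    constructor
    · rintro ⟨T, hT, rfl⟩
      exact ⟨T.2, hT⟩
    · rintro ⟨hT, hp⟩
      exact ⟨⟨T, hT⟩, hp, rfl⟩
  · exact D.neg_cases.resolve_left fun h => (hψneg.1 h) hcase
  have hn1 : D.ψ (negAut (qPlus m F)) = 1 := hψneg.2 hcase
  have hscal : ∀ (c : Fˣ) (t : Fin m → Fˣ) (T : simSub hQ),
      T.1 = scal _ c * qIncl (qPlus m F) (diagTorus m t) → (D.cl T = 1 ↔ IsSquare (∏ i, (t i : F))) := by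
    intro c t T hT
    rw [show T = ⟨scal _ c, scal_mem_simSub hQ c⟩ * ⟨qIncl _ (diagTorus m t), qIncl_mem_simSub hQ _⟩ from
      Subtype.ext hT, map_mul, show D.cl ⟨scal _ c, scal_mem_simSub hQ c⟩ = 1 from outMap_scal hQ c, one_mul,
      D.cl_incl_eq_one_iff hn1]
    exact psi_diagTorus h1 hiff t
  have hT2 : D.cl D.T * D.cl D.T = 1 ↔ Even m := by
    rw [← map_mul, hscal u (fun _ => u) _ (halfT_sq u), Finset.prod_const, Finset.card_univ, Fintype.card_fin,
      isSquare_pow_iff hu₀]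
  let ρ : simSub hQ := ⟨qIncl _ (qRefl _ hv), qIncl_mem_simSub hQ _⟩
  have hρT : D.cl ρ * D.cl D.T * D.cl ρ * D.cl D.T = 1 ↔ Odd m := by
    have hprod : ∏ i, ((Function.update (fun _ => u) i₀ 1 i : Fˣ) : F) = (u : F) ^ (m - 1) := by
      rw [← Units.coe_prod, ← Units.val_pow_eq_pow_val, Finset.prod_update_of_mem (Finset.mem_univ _), one_mul,
        Finset.prod_const, Finset.card_sdiff, Finset.inter_univ, Finset.card_singleton, Finset.card_univ,
        Fintype.card_fin]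
    rw [← map_mul, ← map_mul, ← map_mul, hscal u _ (ρ * D.T * ρ * D.T) (swap_half u i₀ hv), hprod,
      isSquare_pow_iff hu₀]
    rw [Nat.even_iff, Nat.odd_iff]
    omega
  have hρ2 : D.cl ρ * D.cl ρ = 1 := by
    rw [← map_mul, show ρ * ρ = 1 from Subtype.ext (by
      change qIncl _ (qRefl _ hv) * qIncl _ (qRefl _ hv) = 1
      rw [← map_mul, qRefl_mul_self, map_one]), map_one]
  have hnc : ¬ Commute (D.cl ρ) (D.cl D.T) := fun hc => by
    have e : D.cl ρ * D.cl D.T * D.cl ρ * D.cl D.T = D.cl D.T * D.cl D.T := by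
      rw [hc.eq, mul_assoc (D.cl D.T) (D.cl ρ), hρ2, mul_one]
    rw [e, hT2, ← Nat.not_odd_iff_even] at hρT
    exact not_iff_self hρT
  refine ⟨hn1, fun h h' => Nat.not_even_iff_odd.2 h (hT2.1 h'), fun h => hT2.2 h, hnc, ?_⟩
  rcases Nat.even_or_odd m with he | ho
  · refine ⟨D.T * ρ, D.T, fun h => ?_, hT2.2 he, ?_, ?_, ?_⟩
    · refine Nat.not_even_iff_odd.2 (hρT.1 ?_) he
      have h' : (D.cl D.T)⁻¹ * (D.cl (D.T * ρ) * D.cl (D.T * ρ)) * D.cl D.T = 1 := by
        rw [h, mul_one, inv_mul_cancel]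
      rw [← h', map_mul]
      group
    · rw [map_mul, show D.cl D.T * (D.cl D.T * D.cl ρ) * D.cl D.T * (D.cl D.T * D.cl ρ) =
        (D.cl D.T * D.cl D.T) * D.cl ρ * (D.cl D.T * D.cl D.T) * D.cl ρ by simp only [mul_assoc], hT2.2 he,
        one_mul, mul_one, hρ2]
    · rw [D.chi_T]; decide
    · rw [map_mul, D.chi_T, show D.chi ρ = _ from D.chi_refl]; decide
  · refine ⟨D.T, ρ, fun h => Nat.not_even_iff_odd.2 ho (hT2.1 h), hρ2, hρT.2 ho, ?_, ?_⟩
    · rw [show D.chi ρ = _ from D.chi_refl]; decide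
    · rw [show D.chi ρ = _ from D.chi_refl, D.chi_T]; decide

end CfsgLib.POAut
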