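/-
The inner-diagonal group of plus type is normal among all automorphisms, also in dimension eight.
-/
import Cfsg.Agent.Lib.KnownSimple.POAut.PGOPlus
import Cfsg.Agent.Lib.Known.ChevAutOut
import Cfsg.Agent.Lib.Chev.Ortho.D4

set_option autoImplicit false
set_option maxHeartbeats 1000000

universe v

namespace CfsgLib.POAut

open CfsgLib.Classical CfsgLib.Classical22

variable {F : Type v} [Field F] [Fintype F] {m : ℕ}

theorem eich_of_parity_two (h2 : ringChar F = 2) (hQ : Pre (qPlus m F)) {h : qAut (qPlus m F)}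
    (hp : parityHom hQ.nondeg (finrank_qPlus_space m) (maxS_xLin m) (qIncl _ h) = 1) :
    h ∈ eichGroup (qPlus m F) := by
  haveI : CharP F 2 := h2 ▸ ringChar.charP F
  have hn := hQ.seven
  set par := parityHom hQ.nondeg (finrank_qPlus_space m) (maxS_xLin m)
  have hdec : (1 : Multiplicative (ZMod 2)) ≠ Multiplicative.ofAdd 1 := by decide
  rw [eichGroup_eq_commutator _ hQ.nondeg (by omega)]
  obtain ⟨v, hv⟩ := exists_value (qPlus m F) hQ.nondeg (by omega) one_ne_zero
  have hv' : qPlus m F v ≠ 0 := hv ▸ one_ne_zero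
  have hidx := index_commutator_two (qPlus m F) hQ.nondeg (by omega) (Or.inr (by omega))
  have hzero : ∀ x ∈ commutator (qAut (qPlus m F)), par (qIncl _ x) = 1 := fun x hx =>
    MonoidHom.mem_ker.1 (Abelianization.commutator_subset_ker (par.comp (qIncl (qPlus m F))) hx)
  have hr : qRefl _ hv' ∉ commutator (qAut (qPlus m F)) := fun hmem =>
    hdec ((hzero _ hmem).symm.trans (parityHom_refl _ _ _ hv'))
  by_contra hcon
  have h1 := hzero _ ((Subgroup.mul_mem_iff_of_index_two hidx).2 (iff_of_false hcon hr))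
  rw [map_mul, map_mul, hp, one_mul, parityHom_refl] at h1
  exact hdec h1.symm

theorem parity_diagTorus (hQ : Pre (qPlus m F)) (t : Fin m → Fˣ) :
    parityHom hQ.nondeg (finrank_qPlus_space m) (maxS_xLin m) (qIncl _ (diagTorus m t)) = 1 := by
  have e : ∀ i u, parityHom hQ.nondeg (finrank_qPlus_space m) (maxS_xLin m)
      (qIncl _ (diagTorus m (Pi.mulSingle i u))) = 1 := fun i u => by
    rw [diagTorus_single, map_mul, map_mul, parityHom_refl, parityHom_refl]
    rfl
  classical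
  rw [← Finset.univ_prod_mulSingle t]
  refine Finset.prod_induction _ (fun t => parityHom hQ.nondeg (finrank_qPlus_space m) (maxS_xLin m)
      (qIncl _ (diagTorus m t)) = 1) (fun a b ha hb => ?_) ?_ fun i _ => e i _
  · rw [map_mul, map_mul, map_mul, ha, hb, one_mul]
  · simp

/-- A diagonal similitude. -/
noncomputable def diagSim (m : ℕ) (μ : Fˣ) (t : Fin m → Fˣ) : gammaO (qPlus m F) :=
  halfT m μ * qIncl _ (diagTorus m t)

theorem diagSim_mem (hQ : Pre (qPlus m F)) (μ : Fˣ) (t : Fin m → Fˣ) : diagSim m μ t ∈ plusG hQ :=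
  ⟨mul_mem (halfT_mem hQ μ) (qIncl_mem_simSub hQ _), MonoidHom.mem_ker.2 (by
    rw [diagSim, map_mul, parity_halfT hQ, parity_diagTorus hQ, one_mul])⟩

theorem plusG_decomp (hm : 0 < m) (hQ : Pre (qPlus m F)) {g : gammaO (qPlus m F)} (hg : g ∈ plusG hQ) :
    ∃ (μ : Fˣ) (t : Fin m → Fˣ) (c : Fˣ) (h : qAut (qPlus m F)),
      h ∈ eichGroup (qPlus m F) ∧ g = scal _ c * diagSim m μ t * qIncl _ h := by
  classical
  set μ : Fˣ := Units.mk0 (mulFac g) (semisim_spec g).ne with hμ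
  have hm1 : mulFac ((halfT m μ)⁻¹ * g) = 1 := by
    have h := mulFac_mul hQ (halfT m μ) ((halfT m μ)⁻¹ * g)
    rw [mul_inv_cancel_left, mulFac_halfT hQ, linear_of_simSub hQ (halfT_mem hQ μ)] at h
    exact mul_left_cancel₀ μ.ne_zero (h.symm.trans (mul_one _).symm)
  obtain ⟨c, h, e⟩ := exists_decomp hQ (mul_mem (inv_mem (halfT_mem hQ μ)) hg.1) (by rw [hm1]; exact IsSquare.one)
  have hp : parityHom hQ.nondeg (finrank_qPlus_space m) (maxS_xLin m) (qIncl _ h) = 1 := by
    have h1 := congrArg (parityHom hQ.nondeg (finrank_qPlus_space m) (maxS_xLin m)) e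
    rw [map_mul, map_mul, map_inv, parity_halfT hQ, parityHom_scal, MonoidHom.mem_ker.1 hg.2] at h1
    simpa using h1.symm
  obtain ⟨t, h', hh', eh⟩ : ∃ (t : Fin m → Fˣ) (h' : qAut (qPlus m F)), h' ∈ eichGroup (qPlus m F) ∧
      h = diagTorus m t * h' := by
    by_cases h2 : ringChar F = 2
    · exact ⟨1, h, eich_of_parity_two h2 hQ hp, by rw [map_one, one_mul]⟩
    obtain ⟨ψ, -, hker, h1, hiff⟩ := exists_abel_odd (qPlus m F) (Ring.two_ne_zero h2) hQ.nondeg
      (by have := hQ.seven; omega)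
    have heich : ∀ h, h ∈ eichGroup (qPlus m F) ↔ ψ h = 1 := fun h => by
      rw [eichGroup_eq_commutator _ hQ.nondeg (by have := hQ.seven; omega), ← hker, MonoidHom.mem_ker]
    have hfst : ∀ h, parityHom hQ.nondeg (finrank_qPlus_space m) (maxS_xLin m) (qIncl _ h) = (ψ h).1 :=
      fun h => parity_incl hQ h1 h
    have hpair : ∀ x : Multiplicative (ZMod 2) × ℤˣ, x.1 = 1 → x = 1 ∨ x = (1, -1) := by decide
    by_cases hh : ψ h = 1
    · exact ⟨1, h, (heich h).2 hh, by rw [map_one, one_mul]⟩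
    obtain ⟨u, hu⟩ := FiniteField.exists_nonsquare h2
    have hu0 : u ≠ 0 := fun e => hu (e ▸ IsSquare.zero)
    set t : Fin m → Fˣ := Pi.mulSingle ⟨0, hm⟩ (Units.mk0 u hu0) with ht
    have htψ : ψ (diagTorus m t) = (1, -1) := by
      refine (hpair _ ((hfst _).symm.trans (parity_diagTorus hQ t))).resolve_left fun h3 => hu ?_
      have h4 := (psi_diagTorus h1 hiff t).1 h3
      rwa [← Units.coe_prod, ht, Finset.prod_pi_mulSingle', if_pos (Finset.mem_univ _), Units.val_mk0] at h4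
    refine ⟨t, (diagTorus m t)⁻¹ * h, (heich _).2 ?_, (mul_inv_cancel_left _ _).symm⟩
    rw [map_mul, map_inv, htψ, (hpair _ ((hfst h).symm.trans hp)).resolve_left hh, inv_mul_cancel]
  refine ⟨μ, t, c, h', hh', ?_⟩
  rw [inv_mul_eq_iff_eq_mul.1 e, eh, map_mul, diagSim, ← mul_assoc, ← mul_assoc, ← mul_assoc,
    commute_scal_of_sim hQ (halfT_mem hQ μ) c]

section Eight

open CfsgLib.Chev CfsgLib.Chev.Ortho CfsgLib.Chev.AutThm Cfsg.Lie

theorem exists_equiv_D4 (hQ : Pre (qPlus 4 F)) :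
    ∃ e : ↥(chevD4.group F) ≃* TQ (qPlus 4 F), ∀ r < chevD4.nroots, ∀ (t : F) (hx : xU chevD4 r t ∈ chevD4.group F)
      (hw : eich (qPlus 4 F) (bv F (rtD.tb r).1) (((((rtD.tb r).2.2 : ℤ) : F) * t) • bv F (rtD.tb r).2.1)
        ∈ eichGroup (qPlus 4 F)),
      e ⟨_, hx⟩ = cls _ ⟨_, hw⟩ := by
  obtain ⟨⟨co, hF⟩, hC⟩ := good_D4.{v}
  have hR := real_D (F := F)
  obtain ⟨φ, hφ⟩ := exists_phi (F := F) hR rootB_D hF commAllB_D torusAllB_D
  have hS : spanB fdD rtD chevD4 = true := by decide +kernel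
  have hO : oneB chevD4 = true := by decide +kernel
  have hrange : φ.range = Cfsg.Omega F ⇑(qPlus 4 F) := by
    rw [range_eq_eGen hR rootB_D hS hφ]
    exact le_antisymm (eGen_le_commutator_of_one hR rootB_D commAllB_D hO hS hφ)
      (commutator_le_eGen hR split_D PD pD_mono gen_D comm_D)
  obtain ⟨θ, hθ, hker, hθx⟩ := hF.exists_surj hC (hasNbr_of_mem (by simp)) (K := F)
  let φ' : chevD4.SteinbergGroup F →* Cfsg.Omega F ⇑(qPlus 4 F) := φ.codRestrict _ fun x => hrange ▸ ⟨x, rfl⟩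
  have hφ' : Function.Surjective φ' := fun g => by
    obtain ⟨x, hx⟩ : (g : Cfsg.isometryGroup F ⇑(qPlus 4 F)) ∈ φ.range := hrange.symm ▸ g.2
    exact ⟨x, Subtype.ext hx⟩
  let ψ := ((cls (qPlus 4 F)).comp (omegaEquiv (qPlus 4 F) hQ).toMonoidHom).comp φ'
  have hψ : Function.Surjective ψ :=
    ((cls_surjective _).comp (omegaEquiv (qPlus 4 F) hQ).surjective).comp hφ'
  have hle : θ.ker ≤ ψ.ker := by
    rw [hker]
    intro z hz
    rw [MonoidHom.mem_ker]
    change cls (qPlus 4 F) (omegaEquiv (qPlus 4 F) hQ (φ' z)) = 1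
    rw [cls, QuotientGroup.mk'_apply, QuotientGroup.eq_one_iff, Subgroup.mem_center_iff]
    intro y
    obtain ⟨y, rfl⟩ := (omegaEquiv (qPlus 4 F) hQ).surjective y
    obtain ⟨x, rfl⟩ := hφ' y
    rw [← map_mul, ← map_mul, ← map_mul, ← map_mul, Subgroup.mem_center_iff.1 hz x]
  have hn : (ψ.ker.map θ).Normal := Subgroup.Normal.map inferInstance θ hθ
  have hsimp := (simple_of_perfect good_D4 linked_D4 (perfect_of_singleStep good_D4 singleStep_D4) (K := F)).1
  have he : θ.ker = ψ.ker := by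
    rcases hsimp.eq_bot_or_eq_top_of_normal _ hn with h | h
    · exact le_antisymm hle ((Subgroup.map_eq_bot_iff _).1 h)
    · exfalso
      have htop : ψ.ker = ⊤ := by rw [← Subgroup.comap_map_eq_self hle, h, Subgroup.comap_top]
      obtain ⟨r, s, hr, hs, t, u, e⟩ := rho_commutator hR rootB_D commAllB_D hO
        (show 12 < chevD4.nroots by decide) (1 : F)
      have hc : ∀ a b, φ a * φ b = φ b * φ a := fun a b => by
        have ha : φ' a ∈ Subgroup.center (Cfsg.Omega F ⇑(qPlus 4 F)) := Subgroup.mem_center_iff.2 fun y => by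
          have h1 : omegaEquiv (qPlus 4 F) hQ (φ' a) ∈ Subgroup.center (eichGroup (qPlus 4 F)) := by
            rw [← QuotientGroup.eq_one_iff]
            exact (MonoidHom.mem_ker (f := ψ)).1 (htop ▸ trivial)
          exact (omegaEquiv (qPlus 4 F) hQ).injective (by rw [map_mul, map_mul]; exact Subgroup.mem_center_iff.1 h1 _)
        exact (congrArg Subtype.val (Subgroup.mem_center_iff.1 ha (φ' b))).symm
      have h1 := hc (chevD4.stGen F r t) (chevD4.stGen F s u)
      rw [hφ r t hr, hφ s u hs] at h1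
      rw [h1, inv_mul_cancel] at e
      exact rho_ne_one hR rootB_D (show 12 < chevD4.nroots by decide) one_ne_zero (j := .inr 2)
        (by simp [rtD]) (by simp [rtD, fdD]) (by decide) (by decide) e
  refine ⟨(QuotientGroup.quotientKerEquivOfSurjective θ hθ).symm.trans
    ((QuotientGroup.quotientMulEquivOfEq he).trans (QuotientGroup.quotientKerEquivOfSurjective ψ hψ)),
    fun r hr t hx hw => ?_⟩
  have e1 : θ (chevD4.stGen F r t) = ⟨_, hx⟩ := Subtype.ext (Units.ext (by rw [hθx r t hr, hF.xU_val hr]))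
  rw [← e1]
  have e2 : (QuotientGroup.quotientKerEquivOfSurjective θ hθ).symm (θ (chevD4.stGen F r t)) =
      QuotientGroup.mk (chevD4.stGen F r t) := by
    rw [MulEquiv.symm_apply_eq]; rfl
  rw [MulEquiv.trans_apply, e2]
  change ψ (chevD4.stGen F r t) = _
  refine congrArg (cls _) (Subtype.ext (qAut_ext fun x => ?_))
  change isoApply (φ (chevD4.stGen F r t)) x = _
  rw [hφ r t hr, rho, ei, ← isoEquiv_apply, MulEquiv.apply_symm_apply]

/-- The root coefficients of a diagonal similitude. -/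
def rootCoef (μ : Fˣ) (t : Fin 4 → Fˣ) : Fin chevD4.rank → Fˣ :=
  fun i => ([t 0 / t 1, t 1 / t 2, t 2 / t 3, μ * t 2 * t 3].getD i.val 1)

theorem act_diagSim_D4 (hQ : Pre (qPlus 4 F)) {co : ℕ → ℕ → ℤ} (hF : Facts chevD4 co)
    {e : ↥(chevD4.group F) ≃* TQ (qPlus 4 F)}
    (he : ∀ r < chevD4.nroots, ∀ (t : F) (hx : xU chevD4 r t ∈ chevD4.group F)
      (hw : eich (qPlus 4 F) (bv F (rtD.tb r).1) (((((rtD.tb r).2.2 : ℤ) : F) * t) • bv F (rtD.tb r).2.1)
        ∈ eichGroup (qPlus 4 F)), e ⟨_, hx⟩ = cls _ ⟨_, hw⟩) (μ : Fˣ) (t : Fin 4 → Fˣ) :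
    (MulAut.congr e).symm (act _ (diagSim 4 μ t)) = dHom hF (rootCoef μ t) := by
  set T := diagSim 4 μ t
  set lam : Fin 4 ⊕ Fin 4 → F := Sum.elim (fun i => (μ : F) * t i) fun i => (((t i)⁻¹ : Fˣ) : F)
  have hT : ∀ j, addT T (bv F j) = lam j • bv F j := fun j => by
    funext i
    rw [show T = halfT 4 μ * qIncl _ (diagTorus 4 t) from rfl, gammaO_mul_apply, qIncl_apply]
    rcases i with i | i
    · rw [halfT_inl, diagTorus_inl]
      rcases eq_or_ne (Sum.inl i) j with rfl | hne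
      · simp [lam, bv]
      · simp [bv, Pi.single_apply, hne]
    · rw [halfT_inr, diagTorus_inr]
      rcases eq_or_ne (Sum.inr i) j with rfl | hne
      · simp [lam, bv]
      · simp [bv, Pi.single_apply, hne]
  have hTμ : mulFac T = μ := by
    rw [show T = halfT 4 μ * qIncl _ (diagTorus 4 t) from rfl, mulFac_mul hQ, mulFac_qIncl hQ, map_one, mul_one,
      mulFac_halfT hQ]
  have hroot : ∀ r < chevD4.nroots, ∀ (c : F),
      lam (rtD.tb r).1 * lam (rtD.tb r).2.1 = c * μ →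
      ∀ s : F, app ((MulAut.congr e).symm (act _ T)) (xU chevD4 r s) = xU chevD4 r (c * s) := by
    intro r hr c hc s
    obtain ⟨h1, h2⟩ := root_ok (real_D (F := F)) rootB_D hr
    have hR := real_D (F := F)
    have hu : qPlus 4 F (bv F (rtD.tb r).1) = 0 := by rw [hR.quad, h1, Int.cast_zero]
    have hp : QuadraticMap.polar (qPlus 4 F) (bv F (rtD.tb r).1) (bv F (rtD.tb r).2.1) = 0 := by
      rw [hR.polar, h2, Int.cast_zero]
    have hw : ∀ s : F, eich (qPlus 4 F) (bv F (rtD.tb r).1)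
        (((((rtD.tb r).2.2 : ℤ) : F) * s) • bv F (rtD.tb r).2.1) ∈ eichGroup (qPlus 4 F) := fun s =>
      eich_mem _ hu (by rw [QuadraticMap.polar_smul_right, hp, smul_zero])
    rw [app_eq _ (mem_x hF hr s)]
    suffices h : act _ T (e ⟨_, mem_x hF hr s⟩) = e ⟨_, mem_x hF hr (c * s)⟩ by
      change (((e.symm (act _ T (e ⟨_, mem_x hF hr s⟩))) : ↥(chevD4.group F)) : GL chevD4.Idx F) = _
      rw [h, MulEquiv.symm_apply_apply]
    rw [he r hr s _ (hw s), he r hr (c * s) _ (hw (c * s)), act_cls]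
    refine congrArg _ (conjElt_unique fun x => ?_)
    change addT T ((eich _ _ _).1 x) = _
    rw [(semisim_spec T).map_eich hu (by rw [QuadraticMap.polar_smul_right, hp, smul_zero]),
      (semisim_spec T).smul, hT, hT, linear_of_simSub hQ (diagSim_mem hQ μ t).1, hTμ, eich_smul_left _ hu
        (by simp only [QuadraticMap.polar_smul_right, hp, smul_zero])]
    congr 3
    rw [smul_smul, smul_smul, smul_smul]
    congr 1
    have := μ.ne_zero
    field_simp
    linear_combination ((((rtD.tb r).2.2 : ℤ) : F) * s) * hc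
  refine ext_gen hF fun i s => ?_
  have hi := hF.simple_lt' i.isLt
  rw [(dHom_gen hF _ i s).1, (dHom_gen hF _ i s).2, hroot _ hi _ ?_ s, hroot _ (hF.neg_lt hi) _ ?_ s]
  · exact ⟨rfl, rfl⟩
  all_goals
    obtain ⟨i, hi4⟩ := i
    have ht : ∀ j, (t j : F) ≠ 0 := fun j => (t j).ne_zero
    have := μ.ne_zero
    rcases (by have : i < 4 := hi4; omega : i = 0 ∨ i = 1 ∨ i = 2 ∨ i = 3) with rfl | rfl | rfl | rfl <;>
      simp [rootCoef, lam, rtD, ChevalleyDatum.simple, ChevalleyDatum.neg, chevD4, chevD4SimpleIdx, chevD4NegIdx] <;>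
      field_simp

theorem rootCoef_surj (w : Fin chevD4.rank → Fˣ) : ∃ μ t, rootCoef μ t = w := by
  let w' : Fin 4 → Fˣ := fun i => w (Fin.cast rfl i)
  refine ⟨w' 3 / w' 2, ![w' 0 * w' 1 * w' 2, w' 1 * w' 2, w' 2, 1], funext fun i => ?_⟩
  obtain ⟨i, hi4⟩ := i
  rcases (by have : i < 4 := hi4; omega : i = 0 ∨ i = 1 ∨ i = 2 ∨ i = 3) with rfl | rfl | rfl | rfl <;>
    simp [rootCoef, w'] <;> rfl

theorem plus_map_normal_eight (hQ : Pre (qPlus 4 F)) : ((plusG hQ).map (act (qPlus 4 F))).Normal := by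
  obtain ⟨e, he⟩ := exists_equiv_D4 hQ
  obtain ⟨⟨co, hF⟩, hC⟩ := good_D4.{v}
  have key : (plusG hQ).map (act (qPlus 4 F)) = (innD hF).map (MulAut.congr e).toMonoidHom := by
    apply le_antisymm
    · rintro _ ⟨g, hg, rfl⟩
      obtain ⟨μ, t, c, h, hh, rfl⟩ := plusG_decomp (by omega) hQ hg
      rw [map_mul, map_mul, act_scal, one_mul]
      refine mul_mem ⟨dHom hF (rootCoef μ t), Subgroup.mem_sup_right ⟨_, rfl⟩, ?_⟩
        ⟨MulAut.conj (e.symm (cls _ ⟨h, hh⟩)), Subgroup.mem_sup_left ⟨_, rfl⟩, ?_⟩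
      · change MulAut.congr e _ = _
        rw [← act_diagSim_D4 hQ hF he μ t, MulEquiv.apply_symm_apply]
      · rw [act_qIncl ⟨h, hh⟩]
        refine MulEquiv.ext fun y => ?_
        simp [MulAut.congr, MulAut.conj_apply]
    · rw [innD, Subgroup.map_sup, sup_le_iff]
      constructor
      · rintro _ ⟨_, ⟨x, rfl⟩, rfl⟩
        obtain ⟨g, hg⟩ := cls_surjective _ (e x)
        refine ⟨qIncl _ g.1, (plusDiag hQ).eich_mem _ g.2, ?_⟩
        rw [act_qIncl g, hg]
        refine MulEquiv.ext fun y => ?_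
        simp [MulAut.congr, MulAut.conj_apply]
      · rintro _ ⟨_, ⟨w, rfl⟩, rfl⟩
        obtain ⟨μ, t, rfl⟩ := rootCoef_surj w
        refine ⟨_, diagSim_mem hQ μ t, ?_⟩
        change _ = MulAut.congr e _
        rw [← act_diagSim_D4 hQ hF he μ t, MulEquiv.apply_symm_apply]
  rw [key]
  exact Subgroup.Normal.map (innD_normal hF hC form_D4) _ (MulAut.congr e).surjective

end Eight

theorem plus_map_normal (hm : 4 ≤ m) (hQ : Pre (qPlus m F)) :
    ((plusG hQ).map (act (qPlus m F))).Normal := by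
  rcases hm.lt_or_eq with h | rfl
  · exact Subgroup.Normal.map (plusG_normal hQ) _ (act_surjective (good_qPlus h))
  · exact plus_map_normal_eight hQ

end CfsgLib.POAut
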