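/-
Field automorphisms of groups of plus type.
-/
import Cfsg.Agent.Lib.KnownSimple.POAut.FieldMinus
import Cfsg.Agent.Lib.KnownSimple.POAut.FieldGraph
import Cfsg.Agent.Lib.KnownSimple.POAut.PlusNormal

set_option autoImplicit false
set_option maxHeartbeats 1000000

namespace CfsgLib.POAut

open CfsgLib.Classical CfsgLib.Classical22

variable {F : Type*} [Field F] [Fintype F] {K : Type*} [Field K] [Fintype K] {f : K →+* F} {σ : F ≃+* F} {m : ℕ}

/-- The identity as a similitude. -/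
noncomputable def idSim (m : ℕ) (F : Type*) [Field F] : Sim (qPlus m F) (qPlus m F) :=
  ⟨LinearEquiv.refl F _, 1, one_ne_zero, fun v => (one_mul _).symm⟩

theorem idSim_gam (T : gammaO (qPlus m F)) : (idSim m F).gam T = T := gammaO_ext fun v => by
  exact (idSim m F).gam_apply T v

variable (hP₀ : Pre (qPlus m K)) (hQ : Pre (qPlus m F)) [Nonempty (Fin m ⊕ Fin m)]

theorem semOf_eq_fieldX (hf : ∀ x, σ (f x) = f x) :
    semOf (one_pair (rat_qPlus (m := m) σ)) = fieldX (compat_qPlus f m) hf (idSim m F) := by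
  rw [fieldX, idSim_gam]
  exact gammaO_ext fun v => by rw [semOf_apply, Units.val_one, Matrix.one_mulVec, phi_apply]

theorem parity_liftS_id (g : simSub hP₀) :
    parityHom hQ.nondeg (finrank_qPlus_space m) (maxS_xLin m) (liftS (compat_qPlus f m) hP₀ (idSim m F) g) =
      parityHom hP₀.nondeg (finrank_qPlus_space m) (maxS_xLin m) g.1 := by
  rw [show liftS (compat_qPlus f m) hP₀ (idSim m F) g = bcHom f (compat_qPlus f m) hP₀ g from idSim_gam _]
  exact parityHom_liftT (compat_qPlus f m) hP₀.nondeg hQ.nondeg _ _ _ _ _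

theorem liftS_mem_plusG (g : simSub hP₀) :
    liftS (compat_qPlus f m) hP₀ (idSim m F) g ∈ plusG hQ ↔ g.1 ∈ plusG hP₀ :=
  ⟨fun h => ⟨g.2, MonoidHom.mem_ker.2 ((parity_liftS_id hP₀ hQ g).symm.trans (MonoidHom.mem_ker.1 h.2))⟩,
    fun h => ⟨liftS_mem_simSub _ hQ hP₀ _ g, MonoidHom.mem_ker.2 ((parity_liftS_id hP₀ hQ g).trans
      (MonoidHom.mem_ker.1 h.2))⟩⟩

theorem liftS_halfT (k : Kˣ) :
    liftS (compat_qPlus f m) hP₀ (idSim m F) ⟨halfT m k, halfT_mem hP₀ k⟩ =
      halfT m (Units.map f.toMonoidHom k) := by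
  rw [show liftS (compat_qPlus f m) hP₀ (idSim m F) ⟨halfT m k, halfT_mem hP₀ k⟩ =
    bcHom f (compat_qPlus f m) hP₀ ⟨halfT m k, halfT_mem hP₀ k⟩ from idSim_gam _]
  refine gamma_ext_rational f ?_ fun w => ?_
  · rw [sigFun_bcHom]
    refine (sigFun_unique _ fun s u => funext fun i => ?_).symm
    rcases i with i | i
    · rw [halfT_inl, Pi.smul_apply, Pi.smul_apply, halfT_inl, RingEquiv.refl_apply, smul_eq_mul, smul_eq_mul]
      ring
    · rw [halfT_inr, Pi.smul_apply, Pi.smul_apply, halfT_inr, RingEquiv.refl_apply]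
  · rw [bcHom_rational]
    funext i
    rcases i with i | i
    · rw [Function.comp_apply, halfT_inl, halfT_inl, map_mul]
      rfl
    · rw [Function.comp_apply, halfT_inr, halfT_inr]
      rfl

theorem halfT_of_sq {u s : Fˣ} (h : u = s * s) :
    halfT m u = scal _ s * qIncl (qPlus m F) (diagTorus m fun _ => s) := gammaO_ext fun v => by
  rw [gammaO_mul_apply, scal_apply, qIncl_apply]
  funext i
  rcases i with i | i
  · rw [halfT_inl, Pi.smul_apply, smul_eq_mul, diagTorus_inl, h, Units.val_mul, mul_assoc]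
  · rw [halfT_inr, Pi.smul_apply, smul_eq_mul, diagTorus_inr, ← mul_assoc, ← Units.val_mul, mul_inv_cancel,
      Units.val_one, one_mul]

omit [Fintype K] in
theorem square_root_nonsquare [Fintype K] (hσ : orderOf σ = 2) (hfix : ∀ x : F, σ x = x ↔ x ∈ Set.range f)
    (h2 : ringChar F ≠ 2) {k : K} (hk : ¬ IsSquare k) {s : F} (hs : f k = s * s) :
    ¬ IsSquare s ↔ Fintype.card K % 4 = 1 := by
  classical
  have hK2 : ringChar K ≠ 2 := fun hc => h2 (by
    haveI : CharP K 2 := hc ▸ ringChar.charP K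
    haveI : CharP F 2 := charP_of_injective_ringHom f.injective 2
    exact ringChar.eq F 2)
  have hk0 : k ≠ 0 := fun e => hk (e ▸ IsSquare.zero)
  have hs0 : s ≠ 0 := fun e => (map_ne_zero f).2 hk0 (by rw [hs, e, mul_zero])
  have hkm : k ^ (Fintype.card K / 2) = -1 :=
    (FiniteField.pow_dichotomy hK2 hk0).resolve_left fun h => hk ((FiniteField.isSquare_iff hK2 hk0).2 h)
  have hq := FiniteField.odd_card_of_char_ne_two hK2
  have hcard := card_eq_sq hσ hfix
  rw [FiniteField.isSquare_iff h2 hs0, hcard]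
  obtain ⟨j, hj⟩ : ∃ j, Fintype.card K = 2 * j + 1 := ⟨Fintype.card K / 2, by omega⟩
  have e : (2 * j + 1) ^ 2 / 2 = 2 * (j * (j + 1)) := by
    rw [show (2 * j + 1) ^ 2 = 2 * (2 * (j * (j + 1))) + 1 by ring]
    omega
  rw [show Fintype.card K / 2 = j by omega] at hkm
  rw [hj, e, pow_mul, sq, ← hs, pow_mul, ← map_pow, hkm, map_neg, map_one]
  rcases Nat.even_or_odd (j + 1) with h | h
  · rw [h.neg_one_pow]
    refine iff_of_false (not_not.2 rfl) ?_
    rw [Nat.even_iff] at h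
    omega
  · rw [h.neg_one_pow]
    refine iff_of_true (Ring.neg_one_ne_one_of_char_ne_two h2) ?_
    rw [Nat.odd_iff] at h
    omega

omit hP₀ [Fintype K] [Nonempty (Fin m ⊕ Fin m)] in
/-- The index of a subgroup given by the values of the abelian invariant. -/
theorem index_of_invariant (h2 : ringChar F ≠ 2) {ψ : qAut (qPlus m F) →* Multiplicative (ZMod 2) × ℤˣ}
    (h1 : ∀ (v : Fin m ⊕ Fin m → F) (hv : qPlus m F v ≠ 0), (ψ (qRefl _ hv)).1 = Multiplicative.ofAdd 1)
    (hiff : ∀ (v w : Fin m ⊕ Fin m → F) (hv : qPlus m F v ≠ 0) (hw : qPlus m F w ≠ 0),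
      ψ (qRefl _ hv) = ψ (qRefl _ hw) ↔ IsSquare (qPlus m F v * qPlus m F w))
    (hneg : IsSquare (-1 : F)) (hm : 0 < m) {hg : qAut (qPlus m F)}
    (H : Subgroup (plusG hQ))
    (hH : ∀ g : plusG hQ, g ∈ H ↔ ∃ (d : Fˣ) (h : qAut (qPlus m F)),
      g.1 = scal _ d * qIncl _ h ∧ (ψ h = 1 ∨ ψ h = ψ hg))
    (hg1 : (ψ hg).1 = 1) :
    H.index = if ψ hg = 1 then 4 else 2 := by
  classical
  have hfst0 : ∀ h, qIncl _ h ∈ plusG hQ → (ψ h).1 = 1 := fun h hh =>
    (parity_incl hQ h1 h).symm.trans (MonoidHom.mem_ker.1 hh.2)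
  let G₁ : Subgroup (plusG hQ) :=
    { carrier := {g | IsSquare (mulFac g.1)}
      one_mem' := by
        show IsSquare (mulFac (1 : gammaO (qPlus m F)))
        rw [← map_one (scal (qPlus m F)), mulFac_scal hQ]
        exact ⟨1, by simp⟩
      mul_mem' := fun {x y} hx hy => by
        show IsSquare (mulFac (x.1 * y.1))
        rw [mulFac_mul hQ, linear_of_simSub hQ x.2.1]
        exact IsSquare.mul hx hy
      inv_mem' := fun {x} hx => by
        show IsSquare (mulFac x.1⁻¹)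
        have h3 := mulFac_mul hQ x.1 x.1⁻¹
        rw [mul_inv_cancel, linear_of_simSub hQ x.2.1, ← map_one (scal (qPlus m F)), mulFac_scal hQ,
          Units.val_one, one_mul] at h3
        rw [eq_inv_of_mul_eq_one_right h3.symm]
        exact IsSquare.inv hx }
  obtain ⟨u, hu⟩ := FiniteField.exists_nonsquare h2
  have hu0 : u ≠ 0 := fun e => hu (e ▸ IsSquare.zero)
  have hG₁ : G₁.index = 2 := by
    rw [Subgroup.index_eq_two_iff]
    refine ⟨⟨halfT m (Units.mk0 u hu0), halfT_mem hQ _, MonoidHom.mem_ker.2 (parity_halfT hQ _)⟩, fun g => ?_⟩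
    have hmg : mulFac (g.1 * halfT m (Units.mk0 u hu0)) = mulFac g.1 * u := by
      rw [mulFac_mul hQ, linear_of_simSub hQ g.2.1, mulFac_halfT hQ]; rfl
    by_cases hgs : IsSquare (mulFac g.1)
    · refine Or.inr ⟨hgs, fun h => hu ?_⟩
      have h' : IsSquare (mulFac g.1 * u) := hmg ▸ h
      have := h'.mul hgs.inv
      rwa [mul_comm (mulFac g.1), mul_inv_cancel_right₀ (semisim_spec g.1).ne] at this
    · refine Or.inl ⟨?_, hgs⟩
      show IsSquare (mulFac (g.1 * _))
      rw [hmg]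
      exact (quadraticChar_one_iff_isSquare (mul_ne_zero (semisim_spec _).ne hu0)).1 (by
        rw [map_mul, quadraticChar_neg_one_iff_not_isSquare.2 hgs, quadraticChar_neg_one_iff_not_isSquare.2 hu]
        norm_num)
  have hle : H ≤ G₁ := fun g hgm => by
    obtain ⟨d, h, hgh, -⟩ := (hH g).1 hgm
    show IsSquare (mulFac g.1)
    rw [hgh, mulFac_mul hQ, linear_of_simSub hQ (scal_mem_simSub hQ d), mulFac_qIncl hQ, mul_one, mulFac_scal hQ]
    exact ⟨d, rfl⟩
  have hdec : ∀ g ∈ G₁, ∃ (d : Fˣ) (h : qAut (qPlus m F)), g.1 = scal _ d * qIncl _ h ∧ (ψ h).1 = 1 :=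
    fun g hgs => by
      obtain ⟨d, h, hgh⟩ := exists_decomp hQ g.2.1 hgs
      refine ⟨d, h, hgh, hfst0 h ?_⟩
      rw [show qIncl _ h = (scal _ d)⁻¹ * g.1 by rw [hgh, inv_mul_cancel_left]]
      exact mul_mem (inv_mem ((plusDiag hQ).scal_mem d)) g.2
  have hpair : ∀ x : Multiplicative (ZMod 2) × ℤˣ, x.1 = 1 → x = 1 ∨ x = (1, -1) := by decide
  rw [← Subgroup.relIndex_mul_index hle, hG₁]
  by_cases hv : ψ hg = 1
  · rw [if_pos hv]
    suffices h : H.relIndex G₁ = 2 by rw [h]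
    rw [Subgroup.relIndex, Subgroup.index_eq_two_iff]
    set t : Fin m → Fˣ := Pi.mulSingle ⟨0, hm⟩ (Units.mk0 u hu0) with ht
    set w := diagTorus m t
    have hwG : qIncl _ w ∈ plusG hQ := ⟨qIncl_mem_simSub hQ _, MonoidHom.mem_ker.2 (parity_diagTorus hQ t)⟩
    have hwψ : ψ w = (1, -1) := by
      refine (hpair _ (hfst0 w hwG)).resolve_left fun hw1 => hu ?_
      have h4 := (psi_diagTorus h1 hiff t).1 hw1
      rwa [← Units.coe_prod, ht, Finset.prod_pi_mulSingle', if_pos (Finset.mem_univ _), Units.val_mk0] at h4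
    have hwG₁ : (⟨qIncl _ w, hwG⟩ : plusG hQ) ∈ G₁ := by
      show IsSquare (mulFac (qIncl _ w))
      rw [mulFac_qIncl hQ]
      exact ⟨1, by simp⟩
    have huniq : ∀ g : plusG hQ, ∀ d h, g.1 = scal _ d * qIncl _ h → (g ∈ H ↔ ψ h = 1) := by
      intro g d h hgh
      refine ⟨fun hgm => ?_, fun hψ => (hH g).2 ⟨d, h, hgh, Or.inl hψ⟩⟩
      obtain ⟨d', h', hgh', hψ'⟩ := (hH g).1 hgm
      rw [hv, or_self] at hψ'
      rw [hgh, ← eq_inv_mul_iff_mul_eq, ← mul_assoc, ← map_inv, ← map_mul,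
        ← mul_inv_eq_iff_eq_mul, ← map_inv, ← map_mul] at hgh'
      set c₁ := d⁻¹ * d'
      have hcc : (c₁ : F) * c₁ = 1 := by rw [← mulFac_scal hQ, ← hgh', mulFac_qIncl hQ]
      have hneg1 : ψ (h * h'⁻¹) = 1 := by
        have he : h * h'⁻¹ = diagTorus m fun _ => c₁ := by
          refine qIncl_injective (hgh'.trans (gammaO_ext fun v => funext fun i => ?_))
          rw [scal_apply, qIncl_apply, Pi.smul_apply, smul_eq_mul]
          rcases i with i | i
          · rw [diagTorus_inl]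
          · rw [diagTorus_inr, Units.val_inv_eq_inv_val, show (c₁ : F)⁻¹ = c₁ from inv_eq_of_mul_eq_one_right hcc]
        rw [he, psi_diagTorus h1 hiff, Finset.prod_const, Finset.card_univ, Fintype.card_fin]
        rcases mul_self_eq_one_iff.1 hcc with h4 | h4 <;> rw [h4]
        · exact IsSquare.one.pow _
        · exact hneg.pow _
      rwa [map_mul, map_inv, hψ', inv_one, mul_one] at hneg1
    refine ⟨⟨⟨qIncl _ w, hwG⟩, hwG₁⟩, fun g => ?_⟩
    obtain ⟨d, h, hgh, hh1⟩ := hdec g.1 g.2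
    have hm1 := huniq g.1 d h hgh
    have hm2 := huniq (g.1 * ⟨qIncl _ w, hwG⟩) d (h * w) (by
      rw [map_mul (qIncl _) h w, ← mul_assoc, ← hgh]
      rfl)
    rcases hpair _ hh1 with hh | hh
    · refine Or.inr ⟨Subgroup.mem_subgroupOf.2 (hm1.2 hh), fun h' => ?_⟩
      have h5 := hm2.1 (Subgroup.mem_subgroupOf.1 h')
      rw [map_mul, hh, hwψ] at h5
      exact absurd h5 (by decide)
    · refine Or.inl ⟨Subgroup.mem_subgroupOf.2 (hm2.2 (by rw [map_mul, hh, hwψ]; rfl)), fun h' => ?_⟩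
      have h5 := hm1.1 (Subgroup.mem_subgroupOf.1 h')
      rw [hh] at h5
      exact absurd h5 (by decide)
  · rw [if_neg hv]
    suffices h : H.relIndex G₁ = 1 by rw [h]
    rw [Subgroup.relIndex_eq_one]
    intro g hgs
    obtain ⟨d, h, hgh, hh1⟩ := hdec g hgs
    refine (hH g).2 ⟨d, h, hgh, ?_⟩
    rcases hpair _ hh1 with hh | hh
    · exact Or.inl hh
    · exact Or.inr (by rw [hh, (hpair _ hg1).resolve_left hv])

variable {r : ℕ} (hσ : orderOf σ = r) (hfix : ∀ x : F, σ x = x ↔ x ∈ Set.range f)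

local notation "XF" => act (qPlus m F) (semOf (one_pair (rat_qPlus (m := m) σ)))

include hP₀ hσ hfix in
theorem fieldPlus_centralizer :
    Nonempty (↥((plusG hQ).map (act _) ⊓ Subgroup.centralizer {XF}) ≃* ↥((plusG hP₀).map (act _))) := by
  have hf : ∀ x, σ (f x) = f x := fun x => (hfix _).2 ⟨x, rfl⟩
  rw [semOf_eq_fieldX (f := f) hf]
  exact centralizer_equiv (compat_qPlus f m) hf hQ (plusDiag hQ) hP₀ hσ hfix hQ (idSim m F) _ inf_le_left
    (liftS_mem_plusG hP₀ hQ)

include hP₀ hσ hfix in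
theorem fieldPlus_count_one (h : Odd r ∨ ringChar F = 2) :
    Cfsg.splitClassCount ((plusG hQ).map (act _)) (Cfsg.Inn (TQ (qPlus m F))) XF = 1 := by
  have hf : ∀ x, σ (f x) = f x := fun x => (hfix _).2 ⟨x, rfl⟩
  have hKF : ringChar K = 2 → ringChar F = 2 := fun hc => by
    haveI : CharP K 2 := hc ▸ ringChar.charP K
    haveI : CharP F 2 := charP_of_injective_ringHom f.injective 2
    exact ringChar.eq F 2
  have hFK : ringChar F = 2 → ringChar K = 2 := fun hc => by
    haveI : CharP F 2 := hc ▸ ringChar.charP F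
    haveI : CharP K 2 := f.charP f.injective 2
    exact ringChar.eq K 2
  have hsq : ∀ x : K, IsSquare (f x) → IsSquare x := fun x hx => by
    rcases h with h | h
    · exact isSquare_of_map hσ h hfix hx
    · exact FiniteField.isSquare_of_char_two (hFK h) x
  rw [semOf_eq_fieldX (f := f) hf]
  refine splitCount_eq_one (compat_qPlus f m) hf hQ (plusDiag hQ) (idSim m F) hσ hQ.nondeg hP₀.nondeg
    (by have := hQ.seven; rw [Module.finrank_pi] at this; omega) hsq fun g hg => ?_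
  by_cases hs : IsSquare (mulFac g)
  · refine ⟨1, one_mem _, Commute.one_left _, ?_⟩
    rwa [mulFac_eq hQ 1 (c := 1) fun v => ?_, div_one]
    rw [linear_of_simSub hQ (one_mem _), one_mul]
    rfl
  have h2' : ringChar F ≠ 2 := fun h => hs (FiniteField.isSquare_of_char_two h _)
  obtain ⟨k, hk⟩ := FiniteField.exists_nonsquare (fun hc => h2' (hKF hc))
  have hk0 : k ≠ 0 := fun e => hk (e ▸ IsSquare.zero)
  have hfk : ¬ IsSquare (f k) := fun h => hk (hsq k h)
  refine ⟨_, (liftS_mem_plusG hP₀ hQ ⟨halfT m (Units.mk0 k hk0), halfT_mem hP₀ _⟩).2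
    ⟨halfT_mem hP₀ _, MonoidHom.mem_ker.2 (parity_halfT hP₀ _)⟩, commute_liftS _ hf hP₀ _ _, ?_⟩
  rw [liftS_halfT, mulFac_halfT hQ]
  classical
  have hprod : IsSquare (mulFac g * f k) :=
    (quadraticChar_one_iff_isSquare (mul_ne_zero (semisim_spec g).ne ((map_ne_zero f).2 hk0))).1 (by
      rw [map_mul, quadraticChar_neg_one_iff_not_isSquare.2 hs, quadraticChar_neg_one_iff_not_isSquare.2 hfk]
      norm_num)
  obtain ⟨t, ht⟩ := hprod
  refine ⟨t / f k, ?_⟩
  change mulFac g / f k = _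
  rw [div_mul_div_comm, ← ht, mul_div_mul_right _ _ ((map_ne_zero f).2 hk0)]

include hP₀ hfix in
theorem fieldPlus_count_odd (hσ2 : orderOf σ = 2) (hm : 0 < m) (h2 : ringChar F ≠ 2) :
    Cfsg.splitClassCount ((plusG hQ).map (act _)) (Cfsg.Inn (TQ (qPlus m F))) XF =
      if Odd m ∧ Fintype.card K % 4 = 1 then 2 else 4 := by
  classical
  have hf : ∀ x, σ (f x) = f x := fun x => (hfix _).2 ⟨x, rfl⟩
  obtain ⟨ψ, -, hker, h1, hiff⟩ := exists_abel_odd (qPlus m F) (Ring.two_ne_zero h2) hQ.nondeg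
    (by have := hQ.seven; omega)
  have heich : ∀ h, h ∈ eichGroup (qPlus m F) ↔ ψ h = 1 := fun h => by
    rw [eichGroup_eq_commutator _ hQ.nondeg (by have := hQ.seven; omega), ← hker, MonoidHom.mem_ker]
  set hcP := compat_qPlus f m
  set S := idSim m F
  have hK2 : ringChar K ≠ 2 := fun hc => h2 (by
    haveI : CharP K 2 := hc ▸ ringChar.charP K
    haveI : CharP F 2 := charP_of_injective_ringHom f.injective 2
    exact ringChar.eq F 2)
  have hneg : IsSquare (-1 : F) := by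
    have := isSquare_map_of_two hσ2 hfix (-1)
    rwa [map_neg, map_one] at this
  obtain ⟨k₀, hk₀⟩ := FiniteField.exists_nonsquare hK2
  have hk₀0 : k₀ ≠ 0 := fun e => hk₀ (e ▸ IsSquare.zero)
  obtain ⟨s, hs⟩ := isSquare_map_of_two hσ2 hfix k₀
  have hs0 : s ≠ 0 := fun e => (map_ne_zero f).2 hk₀0 (by rw [hs, e, mul_zero])
  set U : simSub hP₀ := ⟨halfT m (Units.mk0 k₀ hk₀0), halfT_mem hP₀ _⟩
  set hg := diagTorus (F := F) m fun _ => Units.mk0 s hs0
  set L := liftS hcP hP₀ S U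
  have hL : L = scal _ (Units.mk0 s hs0) * qIncl _ hg := by
    rw [show L = halfT m (Units.map f.toMonoidHom (Units.mk0 k₀ hk₀0)) from liftS_halfT hP₀ _]
    exact halfT_of_sq (Units.ext hs)
  have hLG : L ∈ plusG hQ := (liftS_mem_plusG hP₀ hQ U).2
    ⟨halfT_mem hP₀ _, MonoidHom.mem_ker.2 (parity_halfT hP₀ _)⟩
  have hg1 : (ψ hg).1 = 1 := (parity_incl hQ h1 hg).symm.trans (parity_diagTorus hQ _)
  have hval : ψ hg = 1 ↔ ¬ (Odd m ∧ Fintype.card K % 4 = 1) := by
    rw [psi_diagTorus h1 hiff, Finset.prod_const, Finset.card_univ, Fintype.card_fin, Units.val_mk0,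
      ← square_root_nonsquare hσ2 hfix h2 hk₀ hs]
    by_cases hss : IsSquare s
    · exact iff_of_true (hss.pow m) fun h => h.2 hss
    · rw [isSquare_pow_iff hss, ← Nat.not_odd_iff_even]
      exact ⟨fun h h' => h h'.1, fun h h' => h ⟨h', hss⟩⟩
  -- rational isometries keeping the classes
  have hrat : ∀ (k : qAut (qPlus m K)) (h : qAut (qPlus m F)),
      liftS hcP hP₀ S ⟨qIncl _ k, qIncl_mem_simSub hP₀ k⟩ = qIncl _ h →
      qIncl _ h ∈ plusG hQ → ψ h = 1 := by
    intro k h hk hh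
    obtain ⟨v₀, hv₀⟩ := exists_rational_vector hcP hP₀.nondeg
    have hv₀' : qPlus m F (S.e (f ∘ v₀)) ≠ 0 := hv₀
    set A := ψ (qRefl _ hv₀')
    obtain ⟨h', hh', e'⟩ := liftS_qIncl_induction hcP hP₀ S ((Subgroup.zpowers A).comap ψ) (fun v hv => by
      refine Subgroup.mem_comap.2 ?_
      rw [show ψ (qRefl _ hv) = A from (hiff _ _ hv hv₀').2 ?_]
      · exact Subgroup.mem_zpowers A
      · change IsSquare (qPlus m F (f ∘ v) * qPlus m F (f ∘ v₀))
        rw [hcP, hcP]
        exact (isSquare_map_of_two hσ2 hfix _).mul (isSquare_map_of_two hσ2 hfix _)) k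
    obtain rfl : h = h' := qIncl_injective (hk.symm.trans e')
    obtain ⟨i, hi⟩ := Subgroup.mem_comap.1 hh'
    have hi' : A ^ i = ψ h := hi
    have h3 : (ψ h).1 = 1 := (parity_incl hQ h1 h).symm.trans (MonoidHom.mem_ker.1 hh.2)
    have hsq : A * A = 1 := by
      have key : ∀ x : Multiplicative (ZMod 2) × ℤˣ, x * x = 1 := by decide
      exact key A
    rcases Int.even_or_odd' i with ⟨j, rfl | rfl⟩
    · rw [← hi', zpow_mul, zpow_two, hsq, one_zpow]
    · exfalso
      rw [zpow_add, zpow_mul, zpow_two, hsq, one_zpow, one_mul, zpow_one] at hi'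
      rw [← hi', show A.1 = _ from h1 _ hv₀'] at h3
      exact absurd h3 (by decide)
  rw [semOf_eq_fieldX (f := f) hf, show (plusG hQ).map (act (qPlus m F)) = (plusDiag hQ).G.map (act _) from rfl,
    splitCount_eq hcP hf hQ _ S]
  refine (index_of_invariant hQ h2 h1 hiff hneg hm (hg := hg) _ (fun g => ?_) hg1).trans ?_
  swap
  · by_cases hc : Odd m ∧ Fintype.card K % 4 = 1
    · rw [if_pos hc, if_neg fun h => hval.1 h hc]
    · rw [if_neg hc, if_pos (hval.2 hc)]
  set H := (Subgroup.centralizer {act _ (fieldX hcP hf S)}).comap ((act _).comp (plusDiag hQ).G.subtype) ⊔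
    ((eichGroup (qPlus m F)).map (qIncl _)).subgroupOf (plusDiag hQ).G
  constructor
  · intro hgm
    haveI : (((eichGroup (qPlus m F)).map (qIncl _)).subgroupOf (plusDiag hQ).G).Normal := by
      refine ⟨fun u hu g => ?_⟩
      obtain ⟨e₁, he, hue⟩ := Subgroup.mem_subgroupOf.1 hu
      refine Subgroup.mem_subgroupOf.2 ⟨_, (conjElt g.1 ⟨e₁, he⟩).2, ?_⟩
      rw [Subgroup.coe_mul, Subgroup.coe_mul, Subgroup.coe_inv, eq_mul_inv_iff_mul_eq, ← hue]
      exact gammaO_ext fun v => (conjElt_spec g.1 ⟨e₁, he⟩ v).symm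
    replace hgm : g ∈ (H : Set (plusDiag hQ).G) := hgm
    rw [Subgroup.mul_normal] at hgm
    obtain ⟨u, hu, e', he', rfl⟩ := Set.mem_mul.1 hgm
    obtain ⟨e₁, he₁, he''⟩ := Subgroup.mem_subgroupOf.1 he'
    obtain ⟨y, hy⟩ := (commute_act_iff hcP hf hQ S hσ2 u.2.1).1
      (Subgroup.mem_centralizer_singleton_iff.1 (Subgroup.mem_comap.1 hu))
    obtain ⟨k, hk⟩ := exists_liftS_eq hcP hf hQ hP₀ hfix hQ S (mul_mem (scal_mem_simSub hQ y) u.2.1) hy
    have hkG : liftS hcP hP₀ S k ∈ plusG hQ := by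
      rw [hk]; exact mul_mem ((plusDiag hQ).scal_mem y) u.2
    obtain ⟨d, h, hdh, hψ⟩ : ∃ (d : Fˣ) (h : qAut (qPlus m F)),
        liftS hcP hP₀ S k = scal _ d * qIncl _ h ∧ (ψ h = 1 ∨ ψ h = ψ hg) := by
      have hsqcase : ∀ j : simSub hP₀, IsSquare (mulFac j.1) → liftS hcP hP₀ S j ∈ plusG hQ →
          ∃ (d : Fˣ) (h : qAut (qPlus m F)), liftS hcP hP₀ S j = scal _ d * qIncl _ h ∧ ψ h = 1 := by
        intro j hj hjG
        obtain ⟨d, j', hj'⟩ := exists_decomp hP₀ j.2 hj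
        obtain ⟨h, -, e'⟩ := liftS_qIncl_induction hcP hP₀ S ⊤ (fun _ _ => trivial) j'
        have hjj : j = ⟨scal _ d, scal_mem_simSub hP₀ d⟩ * ⟨qIncl _ j', qIncl_mem_simSub hP₀ j'⟩ :=
          Subtype.ext hj'
        have e'' : liftS hcP hP₀ S j = scal _ (Units.map f.toMonoidHom d) * qIncl _ h := by
          rw [hjj, map_mul, liftS_scal, e']
        refine ⟨_, h, e'', hrat j' h e' ?_⟩
        rw [← inv_mul_eq_iff_eq_mul.2 e'']
        exact mul_mem (inv_mem ((plusDiag hQ).scal_mem _)) hjG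
      by_cases hk2 : IsSquare (mulFac k.1)
      · obtain ⟨d, h, h', hψ⟩ := hsqcase k hk2 hkG
        exact ⟨d, h, h', Or.inl hψ⟩
      · have hm : IsSquare (mulFac (U⁻¹ * k).1) := by
          have h3 := mulFac_mul hP₀ U.1 (U⁻¹ * k).1
          rw [← Subgroup.coe_mul, mul_inv_cancel_left, linear_of_simSub hP₀ U.2,
            show mulFac U.1 = k₀ from mulFac_halfT hP₀ _] at h3
          by_contra hns
          refine hk2 ?_
          rw [h3]
          exact (quadraticChar_one_iff_isSquare (mul_ne_zero hk₀0 (semisim_spec _).ne)).1 (by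
            rw [map_mul, quadraticChar_neg_one_iff_not_isSquare.2 hk₀,
              quadraticChar_neg_one_iff_not_isSquare.2 hns]
            norm_num)
        obtain ⟨d, h, h', hψ⟩ := hsqcase (U⁻¹ * k) hm (by
          rw [map_mul, map_inv]
          exact mul_mem (inv_mem hLG) hkG)
        refine ⟨Units.mk0 s hs0 * d, hg * h, ?_, Or.inr (by rw [map_mul, hψ, mul_one])⟩
        rw [map_mul, map_mul, mul_assoc (scal _ _) (scal _ d), ← mul_assoc (scal _ d),
          ← commute_scal_of_sim hQ (qIncl_mem_simSub hQ hg) d, mul_assoc, ← h', ← mul_assoc, ← hL, ← map_mul,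
          mul_inv_cancel_left]
    refine ⟨y⁻¹ * d, h * e₁, ?_, ?_⟩
    · change u.1 * e'.1 = _
      rw [← he'', map_mul, map_mul, map_inv, mul_assoc _ (scal _ d), ← mul_assoc (scal _ d),
        ← hdh, hk]
      group
    · rw [map_mul, (heich e₁).1 he₁, mul_one]
      exact hψ
  · rintro ⟨d, h, hgh, hψ⟩
    have hmul : ∀ x : gammaO (qPlus m F), ∀ hx : x ∈ plusG hQ,
        act _ x * act _ (fieldX hcP hf S) = act _ (fieldX hcP hf S) * act _ x →
        ∀ e₁ ∈ eichGroup (qPlus m F), g.1 = x * qIncl _ e₁ → g ∈ H := by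
      intro x hx hcx e₁ he₁ hgx
      rw [show g = ⟨x, hx⟩ * ⟨qIncl _ e₁, (plusDiag hQ).eich_mem e₁ he₁⟩ from Subtype.ext hgx]
      exact Subgroup.mul_mem_sup (Subgroup.mem_centralizer_singleton_iff.2 hcx)
        (Subgroup.mem_subgroupOf.2 ⟨e₁, he₁, rfl⟩)
    rcases hψ with hψ | hψ
    · exact hmul _ ((plusDiag hQ).scal_mem d) (by rw [act_scal, one_mul, mul_one]) h ((heich h).2 hψ) hgh
    · refine hmul (scal _ d * qIncl _ hg) ?_ ?_ (hg⁻¹ * h)
        ((heich _).2 (by rw [map_mul, map_inv, hψ, inv_mul_cancel])) ?_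
      · exact mul_mem ((plusDiag hQ).scal_mem d) ⟨qIncl_mem_simSub hQ _, MonoidHom.mem_ker.2 (parity_diagTorus hQ _)⟩
      · have hcm := ((commute_liftS hcP hf hP₀ S U).map (act _)).eq
        rw [show liftS hcP hP₀ S U = scal _ (Units.mk0 s hs0) * qIncl _ hg from hL, map_mul, act_scal,
          one_mul] at hcm
        rw [map_mul, act_scal, one_mul]
        exact hcm
      · rw [mul_assoc, ← map_mul, mul_inv_cancel_left]
        exact hgh

end CfsgLib.POAut
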