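/-
The outer automorphism group of the orthogonal group of plus type in dimension eight.
-/
import Cfsg.Agent.Lib.KnownSimple.POAut.FieldPlus
import Cfsg.Agent.Lib.KnownSimple.POAut.OutBase
import Cfsg.Agent.Lib.Known.ChevAutGraph
import Mathlib.GroupTheory.Perm.ViaEmbedding

set_option autoImplicit false
set_option maxHeartbeats 1000000

universe v

namespace CfsgLib.POAut

open CfsgLib.Classical CfsgLib.Classical22 CfsgLib.Chev CfsgLib.Chev.Ortho CfsgLib.Chev.AutThm Cfsg.Lie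

variable {F : Type v} [Field F] [Fintype F]

/-- A node of the diagram. -/
def nd (i : Fin 4) : Fin chevD4.rank := Fin.cast rfl i

/-- The symmetries of the diagram. -/
def symD4 : Subgroup (Equiv.Perm (Fin chevD4.rank)) :=
  MulAction.stabilizer (Equiv.Perm (Fin chevD4.rank)) (⟨1, by decide +kernel⟩ : Fin chevD4.rank)

theorem rootCoef_val (μ : Fˣ) (t : Fin 4 → Fˣ) :
    rootCoef μ t (nd 0) = t 0 / t 1 ∧ rootCoef μ t (nd 1) = t 1 / t 2 ∧ rootCoef μ t (nd 2) = t 2 / t 3 ∧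
      rootCoef μ t (nd 3) = μ * t 2 * t 3 :=
  ⟨rfl, rfl, rfl, rfl⟩

theorem isSquare_mul_sq_iff {a s : F} (hs : s ≠ 0) : IsSquare (a * (s * s)) ↔ IsSquare a := by
  refine ⟨fun h => ?_, fun h => h.mul ⟨s, rfl⟩⟩
  have h' := h.mul (show IsSquare (s⁻¹ * s⁻¹) from ⟨_, rfl⟩)
  rwa [show a * (s * s) * (s⁻¹ * s⁻¹) = a by field_simp] at h'

/-- The inner ones among the diagonal automorphisms. -/
theorem dHom_mem_inn_iff {co : ℕ → ℕ → ℤ} (hF : Facts chevD4 co) (w : Fin chevD4.rank → Fˣ) :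
    dHom hF w ∈ Cfsg.Inn ↥(chevD4.group F) ↔
      IsSquare ((w (nd 0) : F) * w (nd 2)) ∧ IsSquare ((w (nd 2) : F) * w (nd 3)) := by
  classical
  have hQ := pre_qPlus (F := F) (m := 4) le_rfl
  obtain ⟨e, he⟩ := exists_equiv_D4 hQ
  obtain ⟨μ, t, rfl⟩ := rootCoef_surj w
  obtain ⟨hw0, -, hw2, hw3⟩ := rootCoef_val μ t
  rw [hw0, hw2, hw3, ← act_diagSim_D4 hQ hF he μ t]
  have htr : ∀ β : MulAut (TQ (qPlus 4 F)), (MulAut.congr e).symm β ∈ Cfsg.Inn ↥(chevD4.group F) ↔
      β ∈ Cfsg.Inn (TQ (qPlus 4 F)) := fun β => by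
    constructor
    · rintro ⟨x, hx⟩
      refine ⟨e x, ?_⟩
      rw [← (MulAut.congr e).apply_symm_apply β, ← hx]
      refine MulEquiv.ext fun y => ?_
      simp [MulAut.congr, MulAut.conj_apply]
    · rintro ⟨x, rfl⟩
      refine ⟨e.symm x, ?_⟩
      refine MulEquiv.ext fun y => ?_
      simp [MulAut.congr, MulAut.conj_apply]
  rw [htr]
  have hout : act (qPlus 4 F) (diagSim 4 μ t) ∈ Cfsg.Inn (TQ (qPlus 4 F)) ↔
      outMap (qPlus 4 F) (diagSim 4 μ t) = 1 := by
    rw [outMap, MonoidHom.comp_apply, QuotientGroup.mk'_apply, QuotientGroup.eq_one_iff]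
  rw [hout, outMap_eq_one_iff hQ]
  have hmu : mulFac (diagSim 4 μ t) = μ := by
    rw [diagSim, mulFac_mul hQ, mulFac_qIncl hQ, map_one, mul_one, mulFac_halfT hQ]
  have h0 := (t 0).ne_zero
  have h1 := (t 1).ne_zero
  have h2 := (t 2).ne_zero
  have h3 := (t 3).ne_zero
  have e02 : ((t 0 / t 1 : Fˣ) : F) * (t 2 / t 3 : Fˣ) =
      (t 0 : F) * t 1 * t 2 * t 3 * ((t 1 * t 3 : F)⁻¹ * (t 1 * t 3 : F)⁻¹) := by
    simp only [Units.val_div_eq_div_val]
    field_simp
  have e23 : ((t 2 / t 3 : Fˣ) : F) * (μ * t 2 * t 3 : Fˣ) = (μ : F) * (t 2 * t 2) := by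
    simp only [Units.val_div_eq_div_val, Units.val_mul]
    field_simp
  rw [e02, e23, isSquare_mul_sq_iff (inv_ne_zero (mul_ne_zero h1 h3)), isSquare_mul_sq_iff h2]
  haveI : Nonempty (Fin 4 ⊕ Fin 4) := ⟨Sum.inl 0⟩
  have hsplit : ∀ c : Fˣ, μ = c * c →
      diagSim 4 μ t = scal _ c * qIncl _ (diagTorus 4 fun i => c * t i) := fun c hc => by
    rw [diagSim, halfT_of_sq hc, mul_assoc, ← map_mul, ← map_mul]
    rfl
  have hprod : ∀ c : Fˣ, IsSquare (∏ i, ((c * t i : Fˣ) : F)) ↔ IsSquare ((t 0 : F) * t 1 * t 2 * t 3) :=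
    fun c => by
      rw [show (∏ i, ((c * t i : Fˣ) : F)) = (t 0 : F) * t 1 * t 2 * t 3 * (((c : F) * c) * ((c : F) * c)) by
        simp [Fin.prod_univ_four]; ring]
      exact isSquare_mul_sq_iff (mul_ne_zero c.ne_zero c.ne_zero)
  constructor
  · rintro ⟨c, g, hg, hT⟩
    have hμc : μ = c * c := by
      refine Units.ext ?_
      rw [← hmu, hT, mulFac_mul hQ, linear_of_simSub hQ (scal_mem_simSub hQ c), mulFac_qIncl hQ, mul_one,
        mulFac_scal hQ, Units.val_mul]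
    refine ⟨?_, ⟨c, by rw [hμc]; rfl⟩⟩
    by_cases hc2 : ringChar F = 2
    · exact FiniteField.isSquare_of_char_two hc2 _
    obtain ⟨ψ, -, hker, hψ1, hψiff⟩ := exists_abel_odd (qPlus 4 F) (Ring.two_ne_zero hc2) hQ.nondeg
      (by have := hQ.seven; omega)
    rw [hsplit c hμc] at hT
    have hg' := qIncl_injective (mul_left_cancel hT)
    rw [← hg', eichGroup_eq_commutator _ hQ.nondeg (by have := hQ.seven; omega), ← hker, MonoidHom.mem_ker,
      psi_diagTorus hψ1 hψiff, hprod] at hg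
    exact hg
  · rintro ⟨ht, ⟨s, hs⟩⟩
    have hs0 : s ≠ 0 := fun h => μ.ne_zero (by rw [hs, h, mul_zero])
    refine ⟨Units.mk0 s hs0, _, ?_, hsplit (Units.mk0 s hs0) (Units.ext hs)⟩
    by_cases hc2 : ringChar F = 2
    · exact eich_of_parity_two hc2 hQ (parity_diagTorus hQ _)
    obtain ⟨ψ, -, hker, hψ1, hψiff⟩ := exists_abel_odd (qPlus 4 F) (Ring.two_ne_zero hc2) hQ.nondeg
      (by have := hQ.seven; omega)
    rw [eichGroup_eq_commutator _ hQ.nondeg (by have := hQ.seven; omega), ← hker, MonoidHom.mem_ker,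
      psi_diagTorus hψ1 hψiff, hprod]
    exact ht

section Graph

variable {co : ℕ → ℕ → ℤ} (hF : Facts chevD4 co)

/-- The automorphism permuting the generators. -/
def Pure (θ : MulAut ↥(chevD4.group F)) (π : Equiv.Perm (Fin chevD4.rank)) : Prop :=
  ∀ (i : Fin chevD4.rank) (t : F),
    app θ (xU chevD4 (chevD4.simple i) t) = xU chevD4 (chevD4.simple (π i)) t ∧
    app θ (xU chevD4 (chevD4.neg (chevD4.simple i)) t) = xU chevD4 (chevD4.neg (chevD4.simple (π i))) t

include hF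

theorem Pure.mul {θ ψ : MulAut ↥(chevD4.group F)} {π ρ : Equiv.Perm (Fin chevD4.rank)} (h : Pure θ π)
    (h' : Pure ψ ρ) : Pure (θ * ψ) (π * ρ) := fun i t => by
  have hi := hF.simple_lt' i.isLt
  rw [app_comp _ _ (mem_x hF hi t), app_comp _ _ (mem_x hF (hF.neg_lt hi) t), (h' i t).1, (h' i t).2,
    (h (ρ i) t).1, (h (ρ i) t).2, Equiv.Perm.mul_apply]
  exact ⟨rfl, rfl⟩

theorem Pure.unique {θ ψ : MulAut ↥(chevD4.group F)} {π : Equiv.Perm (Fin chevD4.rank)} (h : Pure θ π)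
    (h' : Pure ψ π) : θ = ψ :=
  ext_gen hF fun i t => ⟨(h i t).1.trans (h' i t).1.symm, (h i t).2.trans (h' i t).2.symm⟩

theorem Pure.one : Pure (1 : MulAut ↥(chevD4.group F)) 1 := fun i t => by
  have hi := hF.simple_lt' i.isLt
  rw [app_id (mem_x hF hi t), app_id (mem_x hF (hF.neg_lt hi) t)]
  exact ⟨rfl, rfl⟩

theorem pure_of_isGraph {P : TwPar} {α : ↥(chevD4.group F) ≃* ↥(chevD4.group F)} (hα : IsGraph chevD4 P α)
    (π : Equiv.Perm (Fin chevD4.rank)) (hπ : ∀ i : Fin chevD4.rank, P.pi i = (π i).val) (hlam : ∀ r, P.lam r = 1) :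
    Pure α π := by
  intro i t
  have hi := hF.simple_lt' i.isLt
  have hj := hF.simple_lt' (π i).isLt
  refine ⟨?_, ?_⟩
  · rw [app_eq _ (mem_x hF hi t)]
    have h := (hα ⟨_, mem_x hF hi t⟩ i.val t i.isLt).1 (hF.xU_val hi t)
    rw [hπ i, hlam, pow_one, ← hF.xU_val hj] at h
    exact Units.ext h
  · rw [app_eq _ (mem_x hF (hF.neg_lt hi) t)]
    have h := (hα ⟨_, mem_x hF (hF.neg_lt hi) t⟩ i.val t i.isLt).2 (hF.xU_val (hF.neg_lt hi) t)
    rw [hπ i, hlam, pow_one, ← hF.xU_val (hF.neg_lt hj)] at h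
    exact Units.ext h

/-- The graph automorphisms form a group isomorphic to the group of symmetries. -/
theorem exists_graphHom :
    ∃ gr : symD4 →* MulAut ↥(chevD4.group F), ∀ π : symD4, Pure (gr π) (π : Equiv.Perm (Fin chevD4.rank)) := by
  classical
  let H : Subgroup (Equiv.Perm (Fin chevD4.rank)) :=
    { carrier := {π | ∃ θ : MulAut ↥(chevD4.group F), Pure θ π}
      one_mem' := ⟨1, Pure.one hF⟩
      mul_mem' := fun ⟨θ, h⟩ ⟨ψ, h'⟩ => ⟨θ * ψ, h.mul hF h'⟩
      inv_mem' := fun {π} ⟨θ, h⟩ => ⟨θ⁻¹, fun i t => by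
        obtain ⟨e1, e2⟩ := h (π⁻¹ i) t
        rw [show π (π⁻¹ i) = i from π.apply_symm_apply i] at e1 e2
        have hi := hF.simple_lt' (π⁻¹ i).isLt
        rw [← e1, ← e2, ← app_comp _ _ (mem_x hF hi t), ← app_comp _ _ (mem_x hF (hF.neg_lt hi) t), inv_mul_cancel,
          app_id (mem_x hF hi t), app_id (mem_x hF (hF.neg_lt hi) t)]
        exact ⟨rfl, rfl⟩⟩ }
  obtain ⟨α, hα⟩ := exists_graph_D4t (F := F)
  obtain ⟨β, hβ⟩ : ∃ β : ↥(chevD4.group F) ≃* ↥(chevD4.group F), IsGraph chevD4 parD4 β :=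
    exists_graph (K := F) good_D4 (hasNbr_of_mem (by simp)) parD4_ok parD4r_ok
      (e := 1) (Nat.cast_zero) (Nat.cast_zero) (fun _ _ => exists_pow_one) (fun _ _ => exists_pow_one)
      (by decide +kernel) (by decide +kernel) (MulEquiv.refl _) (fun r _ t _ => by simp)
  let a : Fin chevD4.rank := ⟨0, by decide +kernel⟩
  let b : Fin chevD4.rank := ⟨2, by decide +kernel⟩
  let c : Fin chevD4.rank := ⟨3, by decide +kernel⟩
  obtain ⟨τ, hτ, hτ3, hτS⟩ : ∃ τ : Equiv.Perm (Fin chevD4.rank), (∀ i : Fin chevD4.rank, parD4.pi i = (τ i).val) ∧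
      orderOf τ = 3 ∧ τ ∈ symD4 := by
    have : ∃ τ : Equiv.Perm (Fin chevD4.rank), (∀ i : Fin chevD4.rank, parD4.pi i = (τ i).val) ∧ τ ^ 3 = 1 ∧
        τ ≠ 1 ∧ τ ∈ symD4 := by
      by_cases hc : ∀ i : Fin chevD4.rank, parD4.pi i = ((Equiv.swap a b * Equiv.swap b c) i).val
      · exact ⟨_, hc, by decide +kernel, by decide +kernel, MulAction.mem_stabilizer_iff.2 (by decide +kernel)⟩
      · refine ⟨Equiv.swap b c * Equiv.swap a b, ?_, by decide +kernel, by decide +kernel,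
          MulAction.mem_stabilizer_iff.2 (by decide +kernel)⟩
        revert hc
        decide +kernel
    obtain ⟨τ, h1, h2, h3, h4⟩ := this
    haveI := Fact.mk Nat.prime_three
    exact ⟨τ, h1, orderOf_eq_prime h2 h3, h4⟩
  have hsw : Equiv.swap a b ∈ H ⊓ symD4 :=
    ⟨⟨α, pure_of_isGraph hF hα (Equiv.swap a b) (by decide +kernel) (fun _ => rfl)⟩,
      MulAction.mem_stabilizer_iff.2 (by decide +kernel)⟩
  have hτH : τ ∈ H ⊓ symD4 := ⟨⟨β, pure_of_isGraph hF hβ τ hτ (fun _ => rfl)⟩, hτS⟩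
  have hle : symD4 ≤ H := by
    have h2 : 2 ∣ Nat.card ↥(H ⊓ symD4) :=
      (orderOf_eq_prime (p := 2) (x := Equiv.swap a b) (by decide +kernel) (by decide +kernel)) ▸
        (H ⊓ symD4).orderOf_dvd_natCard hsw
    have h3 : 3 ∣ Nat.card ↥(H ⊓ symD4) := hτ3 ▸ (H ⊓ symD4).orderOf_dvd_natCard hτH
    have h6 : 6 ≤ Nat.card ↥(H ⊓ symD4) :=
      Nat.le_of_dvd Nat.card_pos (Nat.Coprime.mul_dvd_of_dvd_of_dvd (by decide) h2 h3)
    have heq : H ⊓ symD4 = symD4 :=
      Subgroup.eq_of_le_of_card_ge inf_le_right (le_of_eq_of_le card_stab_D4 h6)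
    exact heq ▸ inf_le_left
  choose θ hθ using fun π : symD4 => hle π.2
  exact ⟨MonoidHom.mk' θ fun π ρ => (hθ (π * ρ)).unique hF ((hθ π).mul hF (hθ ρ)), hθ⟩

variable (hC : CommF.{v} chevD4) {gr : symD4 →* MulAut ↥(chevD4.group F)}
  (hgr : ∀ π : symD4, Pure (gr π) (π : Equiv.Perm (Fin chevD4.rank)))
include hgr

theorem gr_dHom (π : symD4) (w : Fin chevD4.rank → Fˣ) :
    gr π * dHom hF w = dHom hF (fun i => w ((π : Equiv.Perm (Fin chevD4.rank))⁻¹ i)) * gr π := by
  refine ext_gen hF fun i t => ?_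
  have hi := hF.simple_lt' i.isLt
  have hm := mem_x (F := F) hF hi
  have hm' := mem_x (F := F) hF (hF.neg_lt hi)
  rw [app_comp _ _ (hm t), app_comp _ _ (hm' t), app_comp _ _ (hm t), app_comp _ _ (hm' t),
    (dHom_gen hF w i t).1, (dHom_gen hF w i t).2, (hgr π i t).1, (hgr π i t).2, (hgr π i _).1, (hgr π i _).2,
    (dHom_gen hF _ _ t).1, (dHom_gen hF _ _ t).2]
  simp

theorem gr_fHom (π : symD4) (σ : F ≃+* F) : gr π * fHom hF σ = fHom hF σ * gr π := by
  refine ext_gen hF fun i t => ?_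
  have hi := hF.simple_lt' i.isLt
  have hj := hF.simple_lt' ((π : Equiv.Perm (Fin chevD4.rank)) i).isLt
  have hm := mem_x (F := F) hF hi
  have hm' := mem_x (F := F) hF (hF.neg_lt hi)
  rw [app_comp _ _ (hm t), app_comp _ _ (hm' t), app_comp _ _ (hm t), app_comp _ _ (hm' t),
    fHom_x hF σ hi, fHom_x hF σ (hF.neg_lt hi), (hgr π i t).1, (hgr π i t).2, (hgr π i _).1, (hgr π i _).2,
    fHom_x hF σ hj, fHom_x hF σ (hF.neg_lt hj)]
  exact ⟨rfl, rfl⟩

theorem piHom_gr (π : symD4) : piHom hF hC (gr π) = π :=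
  piHom_of_norm hF hC fun i t => ⟨⟨t, (hgr π i t).1⟩, ⟨t, (hgr π i t).2⟩⟩

include hC in
theorem exists_product (θ : MulAut ↥(chevD4.group F)) :
    ∃ (x : ↥(chevD4.group F)) (w : Fin chevD4.rank → Fˣ) (π : symD4) (σ : F ≃+* F),
      θ = MulAut.conj x * dHom hF w * gr π * fHom hF σ := by
  obtain ⟨x, c, τ, -, hP, h⟩ := exists_form_of hF hC form_D4 θ
  set π := piHom hF hC θ
  refine ⟨x⁻¹, fun j => c (π⁻¹ j), ⟨π, adj_D4 hP⟩, τ, ?_⟩
  have e : MulAut.conj x * θ = dHom hF (fun j => c (π⁻¹ j)) * gr ⟨π, adj_D4 hP⟩ * fHom hF τ := by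
    refine ext_gen hF fun i t => ?_
    have hi := hF.simple_lt' i.isLt
    have hg : gE F π i = 1 := by
      have : ∀ j : Fin chevD4.rank, chevD4.isLong (chevD4.simple j) = false := by decide +kernel
      simp [gE, ChevalleyDatum.graphExp, this]
    obtain ⟨e1, e2⟩ := h i t
    rw [hg, pow_one] at e1 e2
    rw [mul_assoc, app_comp (dHom hF _) _ (mem_x hF hi t), app_comp (dHom hF _) _ (mem_x hF (hF.neg_lt hi) t),
      app_comp (gr _) _ (mem_x hF hi t), app_comp (gr _) _ (mem_x hF (hF.neg_lt hi) t), fHom_x hF τ hi,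
      fHom_x hF τ (hF.neg_lt hi), (hgr _ i (τ t)).1, (hgr _ i (τ t)).2, (dHom_gen hF _ _ (τ t)).1,
      (dHom_gen hF _ _ (τ t)).2, e1, e2]
    simp [π]
  calc θ = MulAut.conj x⁻¹ * (MulAut.conj x * θ) := by
        rw [← mul_assoc, ← map_mul, inv_mul_cancel, map_one, one_mul]
    _ = _ := by rw [e, mul_assoc, mul_assoc, mul_assoc]

end Graph

theorem gal_equiv {p f : ℕ} [Fact p.Prime] (hF : Fintype.card F = p ^ f) (hf : 1 ≤ f) :
    Nonempty (Multiplicative (ZMod f) ≃* (F ≃+* F)) := by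
  haveI : CharP F p := by
    obtain ⟨q, hq⟩ := CharP.exists F
    obtain ⟨n, hqp, hn⟩ := FiniteField.card F q
    rw [hF] at hn
    obtain rfl : p = q := (Nat.prime_dvd_prime_iff_eq (Fact.out : p.Prime) hqp).1
      ((Fact.out : p.Prime).dvd_of_dvd_pow (hn ▸ dvd_pow_self p (by omega)))
    exact hq
  haveI : NeZero f := ⟨by omega⟩
  haveI := isCyclic_aut_field (K := F)
  exact ⟨mulEquivOfCyclicCardEq (by
    rw [card_aut_field hF, Nat.card_eq_fintype_card, Fintype.card_multiplicative, ZMod.card])⟩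

theorem symD4_equiv : Nonempty (Equiv.Perm (Fin 3) ≃* symD4) := by
  let ι : Fin 3 ↪ Fin chevD4.rank := Fin.succAboveEmb (1 : Fin 4)
  have hmem : ∀ π, Equiv.Perm.viaEmbeddingHom ι π ∈ symD4 := fun π => by
    refine MulAction.mem_stabilizer_iff.2 ?_
    change Equiv.Perm.viaEmbedding π ι _ = _
    refine Equiv.Perm.viaEmbedding_apply_of_notMem _ _ _ ?_
    rintro ⟨k, hk⟩
    revert hk
    fin_cases k <;> decide
  refine ⟨MulEquiv.ofBijective ((Equiv.Perm.viaEmbeddingHom ι).codRestrict symD4 hmem) ?_⟩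
  refine (Nat.bijective_iff_injective_and_card _).2 ⟨fun a b h => Equiv.Perm.viaEmbeddingHom_injective ι
    (congrArg Subtype.val h), ?_⟩
  rw [symD4, card_stab_D4, Nat.card_perm, Nat.card_fin]
  rfl

theorem out_D4 {p f : ℕ} [Fact p.Prime] (hFc : Fintype.card F = p ^ f) (hf : 1 ≤ f) :
    (ringChar F = 2 → Nonempty (Cfsg.Out (TQ (qPlus 4 F)) ≃* Equiv.Perm (Fin 3) × Multiplicative (ZMod f))) ∧
    (ringChar F ≠ 2 → Nonempty (Cfsg.Out (TQ (qPlus 4 F)) ≃* Equiv.Perm (Fin 4) × Multiplicative (ZMod f))) := by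
  classical
  obtain ⟨⟨co, hF⟩, hC⟩ := good_D4.{v}
  obtain ⟨gr, hgr⟩ := exists_graphHom (F := F) hF
  obtain ⟨e, -⟩ := exists_equiv_D4 (F := F) (pre_qPlus le_rfl)
  obtain ⟨eg⟩ := gal_equiv hFc hf
  obtain ⟨es⟩ := symD4_equiv
  set A := MulAut ↥(chevD4.group F)
  set mk : A →* Cfsg.Out ↥(chevD4.group F) := QuotientGroup.mk' (Cfsg.Inn ↥(chevD4.group F))
  have hinn : (Cfsg.Inn ↥(chevD4.group F)).map (MulAut.congr e).toMonoidHom = Cfsg.Inn (TQ (qPlus 4 F)) := by
    refine le_antisymm ?_ ?_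
    · rintro _ ⟨_, ⟨x, rfl⟩, rfl⟩
      exact ⟨e x, MulEquiv.ext fun y => by simp [MulAut.congr, MulAut.conj_apply]⟩
    · rintro _ ⟨x, rfl⟩
      exact ⟨_, ⟨e.symm x, rfl⟩, MulEquiv.ext fun y => by simp [MulAut.congr, MulAut.conj_apply]⟩
  let eo : Cfsg.Out (TQ (qPlus 4 F)) ≃* Cfsg.Out ↥(chevD4.group F) :=
    (QuotientGroup.congr _ _ (MulAut.congr e) hinn).symm
  set dm := mk.comp (dHom hF (F := F))
  set gm := mk.comp gr
  set fm := mk.comp (fHom hF (F := F))
  have hone : ∀ w, dm w = 1 ↔ IsSquare ((w (nd 0) : F) * w (nd 2)) ∧ IsSquare ((w (nd 2) : F) * w (nd 3)) :=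
    fun w => by
      rw [MonoidHom.comp_apply, QuotientGroup.mk'_apply, QuotientGroup.eq_one_iff, dHom_mem_inn_iff hF w]
  have hdg : ∀ π w, gm π * dm w = dm (fun i => w ((π : Equiv.Perm (Fin chevD4.rank))⁻¹ i)) * gm π := fun π w => by
    simp only [dm, gm, MonoidHom.comp_apply]
    rw [← map_mul, gr_dHom hF hgr, map_mul]
  have hgf : ∀ π σ, gm π * fm σ = fm σ * gm π := fun π σ => by
    simp only [fm, gm, MonoidHom.comp_apply]
    rw [← map_mul, gr_fHom hF hgr, map_mul]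
  have hfd : ∀ σ w, fm σ * dm w = dm (fun i => Units.map (σ : F →* F) (w i)) * fm σ := fun σ w => by
    simp only [fm, dm, MonoidHom.comp_apply]
    rw [← map_mul, ← map_mul]
    congr 1
    refine ext_gen hF fun i t => ?_
    have hi := hF.simple_lt' i.isLt
    have hm := mem_x (F := F) hF hi
    have hm' := mem_x (F := F) hF (hF.neg_lt hi)
    rw [app_comp _ _ (hm t), app_comp _ _ (hm' t), app_comp _ _ (hm t), app_comp _ _ (hm' t),
      (dHom_gen hF w i t).1, (dHom_gen hF w i t).2, fHom_x hF σ hi, fHom_x hF σ hi, fHom_x hF σ (hF.neg_lt hi),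
      fHom_x hF σ (hF.neg_lt hi), (dHom_gen hF _ i _).1, (dHom_gen hF _ i _).2]
    simp
  have hsq : ∀ (a : F) (σ : F ≃+* F), a ≠ 0 → IsSquare (a * σ a) := fun a σ ha => by
    by_cases h2 : ringChar F = 2
    · exact FiniteField.isSquare_of_char_two h2 _
    by_cases hs : IsSquare a
    · exact hs.mul (hs.map σ)
    refine (quadraticChar_one_iff_isSquare (mul_ne_zero ha ((map_ne_zero σ).2 ha))).1 ?_
    rw [map_mul, quadraticChar_neg_one_iff_not_isSquare.2 hs,
      quadraticChar_neg_one_iff_not_isSquare.2 fun h => hs (by simpa using h.map σ.symm)]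
    norm_num
  have hdcomm : ∀ σ w, fm σ * dm w = dm w * fm σ := fun σ w => by
    rw [hfd]
    congr 1
    refine mul_inv_eq_one.1 ?_
    rw [← map_inv, ← map_mul, hone]
    have key : ∀ i j : Fin chevD4.rank, IsSquare ((((fun i => Units.map (σ : F →* F) (w i)) * w⁻¹) i : F) *
        (((fun i => Units.map (σ : F →* F) (w i)) * w⁻¹) j : Fˣ)) := fun i j => by
      obtain ⟨s, hs⟩ := hsq (w i * w j) σ (mul_ne_zero (w i).ne_zero (w j).ne_zero)
      refine ⟨s * ((w i : F) * w j)⁻¹, ?_⟩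
      simp only [Pi.mul_apply, Pi.inv_apply, Units.val_mul, Units.val_inv_eq_inv_val, Units.coe_map, MonoidHom.coe_coe, RingHom.coe_coe]
      rw [map_mul] at hs
      have := (w i).ne_zero
      have := (w j).ne_zero
      field_simp
      linear_combination hs
    exact ⟨key _ _, key _ _⟩
  -- the complement of the field automorphisms
  set C := dm.range ⊔ gm.range
  have hDn : ∀ π w, gm π * dm w * (gm π)⁻¹ ∈ dm.range := fun π w => by
    rw [hdg, mul_inv_cancel_right]; exact ⟨_, rfl⟩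
  have hCdec : ∀ z ∈ C, ∃ w π, z = dm w * gm π := by
    intro z hz
    have hnorm : ∀ z ∈ gm.range, ∀ y ∈ dm.range, z * y * z⁻¹ ∈ dm.range := by
      rintro _ ⟨π, rfl⟩ _ ⟨w, rfl⟩; exact hDn π w
    let S : Subgroup (Cfsg.Out ↥(chevD4.group F)) :=
      { carrier := {z | ∃ w π, z = dm w * gm π}
        one_mem' := ⟨1, 1, by rw [map_one, map_one, one_mul]⟩
        mul_mem' := by
          rintro _ _ ⟨w, π, rfl⟩ ⟨w', π', rfl⟩
          refine ⟨w * (fun i => w' ((π : Equiv.Perm (Fin chevD4.rank))⁻¹ i)), π * π', ?_⟩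
          rw [mul_assoc, ← mul_assoc (gm π), hdg, map_mul, map_mul]
          simp only [mul_assoc]
        inv_mem' := by
          rintro _ ⟨w, π, rfl⟩
          refine ⟨fun i => w⁻¹ ((π⁻¹ : symD4).1⁻¹ i), π⁻¹, ?_⟩
          rw [mul_inv_rev, ← map_inv, ← map_inv, hdg] }
    exact (sup_le (by rintro _ ⟨w, rfl⟩; exact ⟨w, 1, by rw [map_one, mul_one]⟩)
      (by rintro _ ⟨π, rfl⟩; exact ⟨1, π, by rw [map_one, one_mul]⟩) : C ≤ S) hz
  have hpi : ∀ w π σ, mk (dHom hF w * gr π * fHom hF σ) = 1 → π = 1 ∧ σ = 1 ∧ dm w = 1 := by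
    intro w π σ h
    rw [QuotientGroup.mk'_apply, QuotientGroup.eq_one_iff] at h
    obtain ⟨x, hx⟩ := h
    have h1 := congrArg (piHom hF hC) hx
    rw [map_mul, map_mul, piHom_conj hF hC, piHom_of_norm hF hC (norm_dHom hF hC w),
      piHom_of_norm hF hC (norm_fHom hF hC σ), piHom_gr hF hC hgr, one_mul, mul_one] at h1
    have hπ : π = 1 := Subtype.ext h1.symm
    subst hπ
    rw [map_one, mul_one] at hx
    have hσ : σ = 1 := by
      refine field_inter hF hC (x := (dHom hF w)⁻¹ x) (w := w⁻¹) ?_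
      rw [← inv_mul_eq_iff_eq_mul.2 hx, map_inv]
      refine MulEquiv.ext fun y => ?_
      simp [MulAut.conj_apply]
    subst hσ
    rw [map_one, mul_one] at hx
    refine ⟨rfl, rfl, ?_⟩
    rw [MonoidHom.comp_apply, QuotientGroup.mk'_apply, QuotientGroup.eq_one_iff]
    exact ⟨x, hx⟩
  have hinj3 : ∀ w π, dm w * gm π = 1 → π = 1 ∧ dm w = 1 := fun w π h => by
    obtain ⟨a, -, c⟩ := hpi w π 1 (by rw [map_one, mul_one, map_mul]; exact h)
    exact ⟨a, c⟩
  have hcomm : ∀ (z : C) (σ : F ≃+* F), Commute (z : Cfsg.Out ↥(chevD4.group F)) (fm σ) := fun z σ => by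
    obtain ⟨w, π, hz⟩ := hCdec z z.2
    rw [hz]
    exact Commute.mul_left (hdcomm σ w).symm (hgf π σ)
  let Φ : C × (F ≃+* F) →* Cfsg.Out ↥(chevD4.group F) := C.subtype.noncommCoprod fm hcomm
  have hΦ : Function.Bijective Φ := by
    constructor
    · rw [← MonoidHom.ker_eq_bot_iff, eq_bot_iff]
      rintro ⟨z, σ⟩ h
      rw [MonoidHom.mem_ker] at h
      change (z : Cfsg.Out ↥(chevD4.group F)) * fm σ = 1 at h
      obtain ⟨w, π, hz⟩ := hCdec z z.2
      rw [hz] at h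
      obtain ⟨rfl, rfl, hw⟩ := hpi w π σ (by rw [map_mul, map_mul]; exact h)
      refine Prod.ext (Subtype.ext ?_) rfl
      rw [hz, hw, map_one, one_mul]
      rfl
    · intro z
      obtain ⟨θ, rfl⟩ := QuotientGroup.mk'_surjective _ z
      obtain ⟨x, w, π, σ, rfl⟩ := exists_product hF hC hgr θ
      refine ⟨(⟨dm w * gm π, mul_mem (Subgroup.mem_sup_left ⟨w, rfl⟩) (Subgroup.mem_sup_right ⟨π, rfl⟩)⟩, σ), ?_⟩
      change dm w * gm π * fm σ = mk _
      rw [map_mul, map_mul, map_mul, show mk (MulAut.conj x) = 1 from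
        (QuotientGroup.eq_one_iff _).2 ⟨x, rfl⟩, one_mul]
      rfl
  let eC := eo.trans (MulEquiv.ofBijective Φ hΦ).symm
  refine ⟨fun h2 => ?_, fun h2 => ?_⟩
  · have hd1 : ∀ w, dm w = 1 := fun w =>
      (hone w).2 ⟨FiniteField.isSquare_of_char_two h2 _, FiniteField.isSquare_of_char_two h2 _⟩
    let ψ : symD4 →* C := gm.codRestrict C fun π => Subgroup.mem_sup_right ⟨π, rfl⟩
    have hψ : Function.Bijective ψ := by
      constructor
      · rw [← MonoidHom.ker_eq_bot_iff, eq_bot_iff]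
        intro π h
        have h' : gm π = 1 := congrArg Subtype.val (MonoidHom.mem_ker.1 h)
        exact (hinj3 1 π (by rw [map_one, one_mul, h'])).1
      · rintro ⟨z, hz⟩
        obtain ⟨w, π, rfl⟩ := hCdec z hz
        exact ⟨π, Subtype.ext (show gm π = dm w * gm π by rw [hd1, one_mul])⟩
    exact ⟨eC.trans ((es.trans (MulEquiv.ofBijective ψ hψ)).symm.prodCongr eg.symm)⟩
  · obtain ⟨u, hu⟩ := FiniteField.exists_nonsquare h2
    have hu0 : u ≠ 0 := fun e => hu (e ▸ IsSquare.zero)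
    -- the diagonal part has order four
    let χ₀ : Fˣ →* ℤˣ := (quadraticChar F).toUnitHom
    have hχ₀ : ∀ u : Fˣ, χ₀ u = 1 ↔ IsSquare (u : F) := fun u => by
      rw [← Units.val_inj, MulChar.coe_toUnitHom, Units.val_one, quadraticChar_one_iff_isSquare u.ne_zero]
    let χ : (Fin chevD4.rank → Fˣ) →* ℤˣ × ℤˣ :=
      MonoidHom.mk' (fun w => (χ₀ (w (nd 0) * w (nd 2)), χ₀ (w (nd 2) * w (nd 3)))) fun a b => by
        simp only [Pi.mul_apply, Prod.mk_mul_mk, ← map_mul]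
        rw [mul_mul_mul_comm, mul_mul_mul_comm (a (nd 2))]
    have hχd : χ.ker = dm.ker := by
      ext w
      rw [MonoidHom.mem_ker, MonoidHom.mem_ker, hone]
      simp only [χ, Prod.ext_iff, hχ₀, MonoidHom.mk'_apply, Prod.fst_one, Prod.snd_one, Units.val_mul]
    have hu1 : χ₀ (Units.mk0 u hu0) = -1 :=
      (Int.units_eq_one_or _).resolve_left fun h => hu ((hχ₀ _).1 h)
    have hsingle : ∀ i, χ (Pi.mulSingle i (Units.mk0 u hu0)) =
        if i = nd 0 then (-1, 1) else if i = nd 2 then (-1, -1) else if i = nd 3 then (1, -1) else (1, 1) := by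
      intro i
      have h02 : nd 0 ≠ nd 2 := by decide
      have h03 : nd 0 ≠ nd 3 := by decide
      have h23 : nd 2 ≠ nd 3 := by decide
      split_ifs with a b c
      · subst a; simp [χ, h02.symm, h03.symm, hu1]
      · subst b; simp [χ, h02, h23.symm, hu1]
      · subst c; simp [χ, h03, h23, hu1]
      · simp [χ, Ne.symm a, Ne.symm b, Ne.symm c]
    have hχs : χ.range = ⊤ := by
      rw [eq_top_iff]
      rintro ⟨a, b⟩ -
      have ha := hsingle (nd 0)
      have hb := hsingle (nd 3)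
      rw [if_pos rfl] at ha
      rw [if_neg (by decide), if_neg (by decide), if_pos rfl] at hb
      rcases Int.units_eq_one_or a with rfl | rfl <;> rcases Int.units_eq_one_or b with rfl | rfl
      · exact one_mem _
      · exact ⟨_, hb⟩
      · exact ⟨_, ha⟩
      · exact ⟨Pi.mulSingle (nd 0) (Units.mk0 u hu0) * Pi.mulSingle (nd 3) (Units.mk0 u hu0), by rw [map_mul, ha, hb]; rfl⟩
    have hcardD : Nat.card ↥dm.range = 4 := by
      rw [← Subgroup.index_ker, ← hχd, Subgroup.index_ker, hχs, Subgroup.card_top, Nat.card_prod,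
        Nat.card_eq_fintype_card]
      rfl
    set H : Subgroup C := gm.range.subgroupOf C
    let pd : dm.range × symD4 → C := fun p =>
      ⟨p.1.1 * gm p.2, mul_mem (Subgroup.mem_sup_left p.1.2) (Subgroup.mem_sup_right ⟨p.2, rfl⟩)⟩
    have hpd : Function.Bijective pd := by
      constructor
      · rintro ⟨⟨_, w, rfl⟩, π⟩ ⟨⟨_, w', rfl⟩, π'⟩ h
        have h' : dm w * gm π = dm w' * gm π' := congrArg Subtype.val h
        have h3 : dm (w'⁻¹ * w) * gm (π * π'⁻¹) = 1 := by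
          rw [map_mul, map_mul, map_inv, map_inv, mul_assoc, ← mul_assoc (dm w), h']
          group
        obtain ⟨hπ, hw⟩ := hinj3 _ _ h3
        rw [mul_inv_eq_one] at hπ
        rw [map_mul, map_inv, inv_mul_eq_one] at hw
        exact Prod.ext (Subtype.ext hw.symm) hπ
      · rintro ⟨z, hz⟩
        obtain ⟨w, π, rfl⟩ := hCdec z hz
        exact ⟨(⟨dm w, w, rfl⟩, π), rfl⟩
    have hcardC : Nat.card C = 24 := by
      rw [← Nat.card_congr (Equiv.ofBijective pd hpd), Nat.card_prod, hcardD, symD4, card_stab_D4]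
    have hcardH : Nat.card H = 6 := by
      rw [Nat.card_congr (Subgroup.subgroupOfEquivOfLe (le_sup_right : gm.range ≤ C)).toEquiv,
        ← Subgroup.index_ker, show gm.ker = ⊥ from eq_bot_iff.2 fun π h =>
          (hinj3 1 π (by rw [map_one, one_mul, MonoidHom.mem_ker.1 h])).1, Subgroup.index_bot, symD4, card_stab_D4]
    have hidx : H.index = 4 := by
      have := Subgroup.card_mul_index H
      rw [hcardC, hcardH] at this
      omega
    let ρ : C →* Equiv.Perm (C ⧸ H) := MulAction.toPermHom C (C ⧸ H)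
    have hρ : Function.Injective ρ := by
      rw [← MonoidHom.ker_eq_bot_iff, ← Subgroup.normalCore_eq_ker, eq_bot_iff]
      intro z hz
      obtain ⟨π, hπ⟩ : (z : Cfsg.Out ↥(chevD4.group F)) ∈ gm.range := H.normalCore_le hz
      refine Subtype.ext ?_
      rw [Subgroup.coe_one, ← hπ]
      suffices hh : π = 1 by rw [hh, map_one]
      have hcd : ∀ w, χ (fun i => w ((π : Equiv.Perm (Fin chevD4.rank))⁻¹ i)) = χ w := fun w => by
        obtain ⟨π', hπ'⟩ : ((⟨dm w, Subgroup.mem_sup_left ⟨w, rfl⟩⟩ : C) * z *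
            (⟨dm w, Subgroup.mem_sup_left ⟨w, rfl⟩⟩ : C)⁻¹ : Cfsg.Out ↥(chevD4.group F)) ∈ gm.range :=
          H.normalCore_le (Subgroup.Normal.conj_mem inferInstance z hz _)
        rw [Subgroup.coe_inv, ← hπ] at hπ'
        have h3 : dm (w * (fun i => w⁻¹ ((π : Equiv.Perm (Fin chevD4.rank))⁻¹ i))) * gm (π * π'⁻¹) = 1 := by
          rw [map_mul, map_mul, map_inv, ← mul_assoc, mul_assoc (dm w), ← hdg, map_inv, hπ']
          group
        have hw := (hinj3 _ _ h3).2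
        rw [← MonoidHom.mem_ker, ← hχd, MonoidHom.mem_ker, map_mul] at hw
        have hinv : χ (fun i => w⁻¹ ((π : Equiv.Perm (Fin chevD4.rank))⁻¹ i)) =
            (χ (fun i => w ((π : Equiv.Perm (Fin chevD4.rank))⁻¹ i)))⁻¹ := by
          rw [← map_inv]; rfl
        rw [hinv, mul_inv_eq_one] at hw
        exact hw.symm
      have hfix : ∀ i, (π : Equiv.Perm (Fin chevD4.rank)) i = i := by
        intro i
        have h := hcd (Pi.mulSingle i (Units.mk0 u hu0))
        rw [show (fun j => (Pi.mulSingle i (Units.mk0 u hu0) : Fin chevD4.rank → Fˣ)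
            ((π : Equiv.Perm (Fin chevD4.rank))⁻¹ j)) =
            Pi.mulSingle ((π : Equiv.Perm (Fin chevD4.rank)) i) (Units.mk0 u hu0) from funext fun j => by
              rcases eq_or_ne j ((π : Equiv.Perm (Fin chevD4.rank)) i) with rfl | hne
              · simp
              · rw [Pi.mulSingle_eq_of_ne hne, Pi.mulSingle_eq_of_ne]
                exact fun hh => hne ((Equiv.apply_symm_apply _ j).symm.trans (congrArg _ hh)),
          hsingle, hsingle] at h
        have key : ∀ j k : Fin chevD4.rank,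
            ((if j = nd 0 then (-1, 1) else if j = nd 2 then (-1, -1) else if j = nd 3 then (1, -1) else (1, 1)) :
              ℤˣ × ℤˣ) =
            (if k = nd 0 then (-1, 1) else if k = nd 2 then (-1, -1) else if k = nd 3 then (1, -1) else (1, 1)) →
            j = k := by decide +kernel
        exact key _ _ h
      exact Subtype.ext (Equiv.ext hfix)
    have hρb : Function.Bijective ρ := (Nat.bijective_iff_injective_and_card _).2 ⟨hρ, by
      rw [hcardC, Nat.card_perm, ← Subgroup.index_eq_card, hidx]; rfl⟩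
    haveI : Finite C := Nat.finite_of_card_ne_zero (by rw [hcardC]; norm_num)
    exact ⟨eC.trans (((MulEquiv.ofBijective ρ hρb).trans
      (Finite.equivFinOfCardEq (show Nat.card (C ⧸ H) = 4 from hidx)).permCongrHom).prodCongr eg.symm)⟩

end CfsgLib.POAut
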