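/-
The outer automorphism group in plus type, dimension at least ten.
-/
import Cfsg.Agent.Lib.KnownSimple.POAut.D4Out
import Cfsg.Agent.Lib.KnownSimple.POAut.PGOStruct

set_option autoImplicit false
set_option maxHeartbeats 4000000

namespace CfsgLib.POAut

open CfsgLib.Classical CfsgLib.Classical22

variable {F : Type*} [Field F] [Fintype F] {m : ℕ}

theorem semOf_refl_comm {σ : F ≃+* F} {i : Fin m} (h : qPlus m F (pairVec i 1) ≠ 0) :
    semOf (one_pair (rat_qPlus (m := m) σ)) * qIncl _ (qRefl _ h) =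
      qIncl _ (qRefl _ h) * semOf (one_pair (rat_qPlus σ)) := gammaO_ext fun v => by
  have href : ∀ w : Fin m ⊕ Fin m → F, (qRefl (qPlus m F) h).1 w =
      w + (w (Sum.inr i) - w (Sum.inl i)) • pairVec i (1 : F) := fun w => by
    rw [qRefl_apply, polar_pairVec, pairVec_quad, inv_neg, inv_one, one_mul, neg_one_mul, neg_smul, sub_neg_eq_add]
  rw [gammaO_mul_apply, gammaO_mul_apply, semOf_apply, semOf_apply, qIncl_apply, qIncl_apply, href, href]
  simp only [Units.val_one, Matrix.one_mulVec]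
  funext j
  rcases j with j | j <;> rcases eq_or_ne j i with rfl | hj <;> simp [pairVec, *]

theorem semOf_halfT (σ : F ≃+* F) (u : Fˣ) :
    semOf (one_pair (rat_qPlus (m := m) σ)) * halfT m u =
      halfT m (Units.map (σ : F →* F) u) * semOf (one_pair (rat_qPlus σ)) := gammaO_ext fun v => by
  rw [gammaO_mul_apply, gammaO_mul_apply, semOf_apply, semOf_apply]
  simp only [Units.val_one, Matrix.one_mulVec]
  funext j
  rcases j with j | j
  · rw [Function.comp_apply, halfT_inl, halfT_inl, map_mul]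
    rfl
  · rw [Function.comp_apply, halfT_inr, halfT_inr]
    rfl

theorem halfT_mul (u w : Fˣ) : halfT (F := F) m (u * w) = halfT m u * halfT m w := gammaO_ext fun v => by
  rw [gammaO_mul_apply]
  funext j
  rcases j with j | j
  · rw [halfT_inl, halfT_inl, halfT_inl, Units.val_mul, mul_assoc]
  · rw [halfT_inr, halfT_inr, halfT_inr]

/-- The projection to the field automorphisms and its standard section. -/
theorem exists_outSplit (hm : 5 ≤ m) :
    ∃ (π : Cfsg.Out (TQ (qPlus m F)) →* (F ≃+* F)) (s : (F ≃+* F) →* Cfsg.Out (TQ (qPlus m F))),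
      (∀ T, π (outMap _ T) = sigHom (good_qPlus hm).toPre T) ∧ (∀ σ, π (s σ) = σ) ∧
      (∀ σ, s σ = outMap _ (semOf (one_pair (rat_qPlus σ)))) := by
  have hQ := good_qPlus (F := F) hm
  obtain ⟨autSig, hautSig⟩ := exists_autSig hQ
  have hle : Cfsg.Inn (TQ (qPlus m F)) ≤ autSig.ker := by
    rw [inn_eq]
    rintro _ ⟨_, ⟨g, -, rfl⟩, rfl⟩
    rw [MonoidHom.mem_ker, hautSig, sigHom_qIncl]
  let π : Cfsg.Out (TQ (qPlus m F)) →* (F ≃+* F) := QuotientGroup.lift _ autSig hle
  let s : (F ≃+* F) →* Cfsg.Out (TQ (qPlus m F)) :=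
    MonoidHom.mk' (fun σ => outMap _ (semOf (one_pair (rat_qPlus σ)))) fun σ τ => by
      rw [← map_mul]
      congr 1
      refine gammaO_ext fun v => ?_
      rw [gammaO_mul_apply, semOf_apply, semOf_apply, semOf_apply]
      simp only [Units.val_one, Matrix.one_mulVec]
      rfl
  refine ⟨π, s, fun T => hautSig T, fun σ => ?_, fun σ => rfl⟩
  change π (outMap _ (semOf _)) = σ
  exact (hautSig _).trans (sigHom_semOf _ _)

theorem out_plus_two (hm : 5 ≤ m) (h2 : ringChar F = 2) :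
    Nonempty (Cfsg.Out (TQ (qPlus m F)) ≃* Multiplicative (ZMod 2) × (F ≃+* F)) := by
  have hQ := good_qPlus (F := F) hm
  obtain ⟨π, s, hπ, hs, -⟩ := exists_outSplit (F := F) hm
  set par := parityHom hQ.nondeg (finrank_qPlus_space m) (maxS_xLin m)
  let i₀ : Fin m := ⟨0, by omega⟩
  have hv : qPlus m F (pairVec i₀ 1) ≠ 0 := by rw [pairVec_quad]; exact neg_ne_zero.2 one_ne_zero
  refine split_ker_two π s hs (d := outMap _ (qIncl _ (qRefl _ hv))) (MonoidHom.mem_ker.2 ((hπ _).trans (sigHom_qIncl _ _))) (fun h => ?_) fun k hk => ?_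
  · obtain ⟨c, g, hg, e⟩ := (outMap_eq_one_iff hQ.toPre).1 h
    have h1 := congrArg par e
    rw [parityHom_refl, map_mul, parityHom_scal, parityHom_eich _ _ _ (by have := hQ.seven; omega) hg, one_mul] at h1
    exact absurd h1 (by decide)
  · obtain ⟨T, rfl⟩ := outMap_surjective hQ k
    rw [MonoidHom.mem_ker, hπ] at hk
    obtain ⟨d, h, rfl⟩ := exists_decomp hQ.toPre (MonoidHom.mem_ker.2 hk) (FiniteField.isSquare_of_char_two h2 _)
    rw [map_mul, outMap_scal hQ.toPre, one_mul]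
    rcases zmod2_cases (par (qIncl _ h)) with hp | hp
    · exact Or.inl (outMap_eich hQ.toPre (eich_of_parity_two h2 hQ.toPre hp))
    · refine Or.inr ?_
      rw [← mul_inv_cancel_left (qRefl _ hv) h, map_mul, map_mul,
        outMap_eich hQ.toPre (g := (qRefl _ hv)⁻¹ * h) (eich_of_parity_two h2 hQ.toPre ?_), mul_one]
      rw [map_mul, map_mul, map_inv, map_inv, parityHom_refl, hp]
      rfl

theorem out_plus_odd {p f : ℕ} [Fact p.Prime] (hF : Fintype.card F = p ^ f) (hf : 1 ≤ f) (hp : p ≠ 2) (hm : 5 ≤ m) :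
    if p ^ f % 4 = 3 ∧ Odd m then
      Nonempty (Cfsg.Out (TQ (qPlus m F)) ≃* Multiplicative (ZMod 2 × ZMod 2) × Multiplicative (ZMod f))
    else Nonempty (Cfsg.Out (TQ (qPlus m F)) ≃* DihedralGroup 4 × Multiplicative (ZMod f)) := by
  classical
  haveI : CharP F p := by
    obtain ⟨q, hq⟩ := CharP.exists F
    obtain ⟨n, hqp, hn⟩ := FiniteField.card F q
    rw [hF] at hn
    obtain rfl : p = q := (Nat.prime_dvd_prime_iff_eq (Fact.out : p.Prime) hqp).1
      ((Fact.out : p.Prime).dvd_of_dvd_pow (hn ▸ dvd_pow_self p (by omega)))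
    exact hq
  haveI : NeZero f := ⟨by omega⟩
  have hpodd : p % 2 = 1 := Nat.odd_iff.1 ((Fact.out : p.Prime).odd_of_ne_two hp)
  have hodd : Odd (Fintype.card F) := by rw [hF]; exact (Nat.odd_iff.2 hpodd).pow
  have hQ := good_qPlus (F := F) hm
  obtain ⟨π, s, hπ, hs, hse⟩ := exists_outSplit (F := F) hm
  obtain ⟨D, hD, hneg1, hneg2⟩ := exists_plus_data hodd (by omega : 4 ≤ m) hQ.toPre
  set O := outMap (qPlus m F)
  let i₀ : Fin m := ⟨0, by omega⟩
  haveI : Nonempty (Fin m ⊕ Fin m) := ⟨Sum.inl i₀⟩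
  have hv : qPlus m F (pairVec i₀ 1) ≠ 0 := by rw [pairVec_quad]; exact neg_ne_zero.2 one_ne_zero
  obtain ⟨u₀, hu₀⟩ := FiniteField.exists_nonsquare (F := F) (by rw [ringChar.eq F p]; exact hp)
  obtain ⟨u, rfl⟩ : ∃ u : Fˣ, (u : F) = u₀ := ⟨Units.mk0 u₀ fun e => hu₀ (e ▸ IsSquare.zero), rfl⟩
  let ρ : simSub hQ.toPre := ⟨qIncl _ (qRefl _ hv), qIncl_mem_simSub hQ.toPre _⟩
  let T : simSub hQ.toPre := ⟨halfT m u, halfT_mem hQ.toPre u⟩
  let φ : F ≃+* F := frobeniusEquiv F p
  have hφapp : ∀ x, φ x = x ^ p := fun x => by rw [frobeniusEquiv_apply, frobenius_def]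
  have hgen : ∀ σ : F ≃+* F, σ ∈ Subgroup.zpowers φ := fun σ => by
    obtain ⟨k, hk⟩ := exists_pow_of_aut p σ
    refine ⟨(k : ℤ), RingEquiv.ext fun x => ?_⟩
    show (φ ^ (k : ℤ)) x = σ x
    rw [zpow_natCast, hk]
    clear hk
    induction k with
    | zero => simp
    | succ k ih => rw [pow_succ' φ, RingAut.mul_apply, ih, hφapp, ← pow_mul, ← pow_succ]
  have hφf : orderOf φ = f := by
    rw [orderOf_eq_card_of_forall_mem_zpowers hgen, CfsgLib.Chev.AutThm.card_aut_field hF]
  have hOρ : O ρ.1 * O ρ.1 = 1 := by rw [← map_mul, ← map_mul, qRefl_mul_self, map_one, map_one]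
  have hOρ' : (O ρ.1)⁻¹ = O ρ.1 := inv_eq_of_mul_eq_one_right hOρ
  have hdiag : ∀ t : Fin m → Fˣ, IsSquare (∏ i, (t i : F)) → O (qIncl _ (diagTorus m t)) = 1 := fun t ht =>
    outMap_eich hQ.toPre ((D.heich _).2 ((psi_diagTorus D.h1 D.hiff t).2 ht))
  have hW1 : Odd m ∧ Fintype.card F % 4 = 3 → D.cl D.W = 1 := fun h => D.cl_W_eq_one_iff.2 (hneg1 h)
  have hdiag' : ¬ (Odd m ∧ Fintype.card F % 4 = 3) → ∀ t : Fin m → Fˣ, ¬ IsSquare (∏ i, (t i : F)) →
      O (qIncl _ (diagTorus m t)) = D.cl D.W := by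
    intro hc t ht
    rcases D.cl_cases (T := ⟨qIncl _ (diagTorus m t), qIncl_mem_simSub hQ.toPre _⟩) ((D.chi_eq_one _).2
      ⟨by rw [mulFac_qIncl hQ.toPre]; exact IsSquare.one, (D.par_incl _).trans
        ((parity_incl hQ.toPre D.h1 _).symm.trans (parity_diagTorus hQ.toPre t))⟩) with h | h
    · exfalso
      refine ht ((psi_diagTorus D.h1 D.hiff t).1 ?_)
      rcases outMap_qIncl_eq_one hQ.toPre h with h' | h'
      · exact (D.heich _).1 h'
      · have h2 := (D.heich _).1 h'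
        rwa [map_mul, (hneg2 hc).1, one_mul] at h2
    · exact h
  -- the generators of the kernel
  have hTμ : ¬ IsSquare (mulFac T.1) := by rw [mulFac_halfT hQ.toPre]; exact hu₀
  have hTpar : D.par T = 1 := by
    have hmem : T.1 ∈ plusG hQ.toPre := ⟨T.2, MonoidHom.mem_ker.2 (parity_halfT hQ.toPre u)⟩
    rw [← hD] at hmem
    obtain ⟨T', hT', e⟩ := hmem
    rw [show T = T' from Subtype.ext e.symm]
    exact hT'
  have hχρ : D.chi ρ = Multiplicative.ofAdd (0, 1) := by
    rw [D.chi_apply, D.par_incl, D.h1, (mulClass_eq_one hQ.toPre D.h2 _).2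
      (by rw [mulFac_qIncl hQ.toPre]; exact IsSquare.one)]
    rfl
  have hχT : D.chi T = Multiplicative.ofAdd (1, 0) := by
    rw [D.chi_apply, hTpar, mulClass_apply, if_neg hTμ]
    rfl
  have hkerimg : ∀ k ∈ π.ker, ∃ S : simSub hQ.toPre, D.cl S = k := fun k hk => by
    obtain ⟨S, rfl⟩ := outMap_surjective hQ k
    rw [MonoidHom.mem_ker, hπ] at hk
    exact ⟨⟨S, MonoidHom.mem_ker.2 hk⟩, rfl⟩
  have hclker : ∀ S : simSub hQ.toPre, D.cl S ∈ π.ker := fun S =>
    MonoidHom.mem_ker.2 ((hπ S.1).trans (MonoidHom.mem_ker.1 S.2))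
  have hgen3 : ∀ g : Cfsg.Out (TQ (qPlus m F)), Commute g (D.cl T) → Commute g (D.cl ρ) → Commute g (D.cl D.W) →
      ∀ k ∈ π.ker, Commute g k := by
    intro g h1 h2 h3 k hk
    obtain ⟨S, rfl⟩ := hkerimg k hk
    have key : ∀ X : simSub hQ.toPre, Commute g (D.cl X) → D.chi S = D.chi X → Commute g (D.cl S) := by
      intro X hX e
      rw [← mul_inv_cancel_left X S, map_mul]
      refine hX.mul_right ?_
      rcases D.cl_cases (T := X⁻¹ * S) (by rw [map_mul, map_inv, e, inv_mul_cancel]) with h | h <;> rw [h]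
      · exact Commute.one_right g
      · exact h3
    rcases (by decide : ∀ x : Multiplicative (ZMod 2 × ZMod 2), x = 1 ∨ x = Multiplicative.ofAdd (1, 0) ∨
        x = Multiplicative.ofAdd (0, 1) ∨ x = Multiplicative.ofAdd (1, 0) * Multiplicative.ofAdd (0, 1)) (D.chi S)
      with e | e | e | e
    · exact key 1 (by rw [map_one]; exact Commute.one_right g) (by rw [e, map_one])
    · exact key T h1 (by rw [e, hχT])
    · exact key ρ h2 (by rw [e, hχρ])
    · exact key (T * ρ) (by rw [map_mul]; exact h1.mul_right h2) (by rw [e, map_mul, hχT, hχρ])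
  have hρW : Commute (D.cl ρ) (D.cl D.W) := by
    have h1 : D.chi (ρ * D.W * ρ⁻¹) = 1 := by
      rw [map_mul, map_mul, map_inv, D.chi_W, mul_one, mul_inv_cancel]
    rcases D.cl_cases h1 with e | e
    · rw [map_mul, map_mul, map_inv, conj_eq_one_iff] at e
      rw [e]; exact Commute.one_right _
    · rw [map_mul, map_mul, map_inv, mul_inv_eq_iff_eq_mul] at e
      exact e
  -- the Frobenius
  set sφ := s φ with hsφ
  have hφρ : Commute sφ (D.cl ρ) := by
    change sφ * O ρ.1 = O ρ.1 * sφ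
    rw [hsφ, hse, ← map_mul, ← map_mul, semOf_refl_comm hv]
  have hφW : Commute sφ (D.cl D.W) := by
    by_cases hc : Odd m ∧ Fintype.card F % 4 = 3
    · rw [hW1 hc]; exact Commute.one_right _
    have hns : ∀ w : Fˣ, ¬ IsSquare (w : F) →
        O (qIncl _ (diagTorus m (Pi.mulSingle i₀ w))) = D.cl D.W := fun w hw => by
      refine hdiag' hc _ ?_
      rwa [← Units.coe_prod, Finset.prod_pi_mulSingle', if_pos (Finset.mem_univ _)]
    have e : semOf (one_pair (rat_qPlus (m := m) φ)) * qIncl _ (diagTorus m (Pi.mulSingle i₀ u)) =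
        qIncl _ (diagTorus m (Pi.mulSingle i₀ (Units.map (φ : F →* F) u))) * semOf (one_pair (rat_qPlus φ)) := by
      refine gammaO_ext fun v => ?_
      rw [gammaO_mul_apply, gammaO_mul_apply, semOf_apply, semOf_apply, qIncl_apply, qIncl_apply]
      simp only [Units.val_one, Matrix.one_mulVec]
      funext j
      rcases j with j | j <;> rcases eq_or_ne j i₀ with rfl | hj <;>
        simp [diagTorus_inl, diagTorus_inr, mul_pow, inv_pow, *]
    change sφ * _ = _ * sφ
    conv_lhs => rw [← hns u hu₀, hsφ, hse, ← map_mul, e, map_mul, hns _ (fun h => hu₀ (by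
      simpa using h.map φ.symm)), ← hse, ← hsφ]
  have hρT : D.cl ρ * D.cl T * D.cl ρ * D.cl T =
      O (qIncl _ (diagTorus m (Function.update (fun _ => u) i₀ 1))) := by
    change O ρ.1 * O T.1 * O ρ.1 * O T.1 = _
    rw [← map_mul, ← map_mul, ← map_mul, swap_half u i₀ hv, map_mul, outMap_scal hQ.toPre, one_mul]
  have hTT : D.cl T * D.cl T = O (qIncl _ (diagTorus m fun _ => u)) := by
    change O T.1 * O T.1 = _
    rw [← map_mul, halfT_sq u, map_mul, outMap_scal hQ.toPre, one_mul]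
  set sp : Fˣ := u ^ ((p - 1) / 2) with hsp
  have hφT : sφ * D.cl T = O (qIncl _ (diagTorus m fun _ => sp)) * D.cl T * sφ := by
    change sφ * O T.1 = O _ * O T.1 * sφ
    rw [hsφ, hse, ← map_mul, semOf_halfT, show Units.map (φ : F →* F) u = sp * sp * u from Units.ext (by
      rw [Units.coe_map, hsp, ← pow_add, ← pow_succ, Units.val_pow_eq_pow_val]
      change φ (u : F) = _
      rw [hφapp]
      congr 1
      omega), halfT_mul, halfT_of_sq (m := m) (u := sp * sp) rfl, map_mul, map_mul, map_mul,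
      outMap_scal hQ.toPre, one_mul]
  have hprodsp : IsSquare (∏ _i : Fin m, (sp : F)) ↔ (Even m ∨ p % 4 = 1) := by
    rw [Finset.prod_const, Finset.card_univ, Fintype.card_fin, hsp, Units.val_pow_eq_pow_val, ← pow_mul,
      isSquare_pow_iff hu₀, Nat.even_mul, or_comm]
    refine or_congr_right ?_
    rw [Nat.even_iff]
    omega
  obtain ⟨g, hgπ, hgf, hgK⟩ : ∃ g, π g = φ ∧ g ^ f = 1 ∧ ∀ k ∈ π.ker, Commute g k := by
    have hsf : sφ ^ f = 1 := by rw [hsφ, ← map_pow, ← hφf, pow_orderOf_eq_one, map_one]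
    by_cases hc : Odd m ∧ p % 4 = 3 ∧ Fintype.card F % 4 = 1
    · obtain ⟨hmo, hp3, hq1⟩ := hc
      have hnc : ¬ (Odd m ∧ Fintype.card F % 4 = 3) := fun h => by omega
      have hfe : Even f := by
        by_contra hfo
        obtain ⟨k, hk⟩ := Nat.not_even_iff_odd.1 hfo
        rw [hF, hk, pow_succ, pow_mul, Nat.mul_mod, Nat.pow_mod, Nat.pow_mod p, hp3] at hq1
        norm_num at hq1
      refine ⟨sφ * D.cl ρ, ?_, ?_, hgen3 _ ?_ (hφρ.mul_left (Commute.refl _)) (hφW.mul_left hρW)⟩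
      · rw [map_mul, hsφ, hs, MonoidHom.mem_ker.1 (hclker ρ), mul_one]
      · obtain ⟨k, hk⟩ := hfe
        rw [hφρ.mul_pow, hsf, one_mul, hk, ← two_mul, pow_mul, sq, ← map_mul,
          show ρ * ρ = 1 from Subtype.ext (by
            change qIncl _ (qRefl _ hv) * qIncl _ (qRefl _ hv) = 1
            rw [← map_mul, qRefl_mul_self, map_one]), map_one, one_pow]
      · have hT2 : D.cl T * D.cl T = D.cl D.W := by
          rw [hTT]
          refine hdiag' hnc _ ?_
          rw [Finset.prod_const, Finset.card_univ, Fintype.card_fin, isSquare_pow_iff hu₀]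
          exact Nat.not_even_iff_odd.2 hmo
        have h2 : D.cl ρ * D.cl T * D.cl ρ * D.cl T = 1 := by
          rw [hρT]
          refine hdiag _ ?_
          have hprod : ∏ i, ((Function.update (fun _ => u) i₀ 1 i : Fˣ) : F) = (u : F) ^ (m - 1) := by
            rw [← Units.coe_prod, ← Units.val_pow_eq_pow_val, Finset.prod_update_of_mem (Finset.mem_univ _),
              one_mul, Finset.prod_const, Finset.card_sdiff, Finset.inter_univ, Finset.card_singleton,
              Finset.card_univ, Fintype.card_fin]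
          rw [hprod, isSquare_pow_iff hu₀]
          exact Nat.Odd.sub_odd hmo odd_one
        have h3 : sφ * D.cl T = D.cl D.W * D.cl T * sφ := by
          rw [hφT, hdiag' hnc _ (fun h => (hprodsp.1 h).elim (Nat.not_even_iff_odd.2 hmo) (by omega))]
        change sφ * D.cl ρ * D.cl T = D.cl T * (sφ * D.cl ρ)
        have h4 : D.cl ρ * D.cl T = (D.cl T)⁻¹ * D.cl ρ := by
          rw [eq_inv_mul_iff_mul_eq]
          have := hOρ'
          calc D.cl T * (D.cl ρ * D.cl T) = (D.cl ρ)⁻¹ * (D.cl ρ * D.cl T * D.cl ρ * D.cl T) := by group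
            _ = (D.cl ρ)⁻¹ := by rw [h2, mul_one]
            _ = D.cl ρ := this
        have h5 : sφ * (D.cl T)⁻¹ = D.cl T * sφ := by
          have h6 : (D.cl T)⁻¹ = D.cl D.W * D.cl T := by
            rw [inv_eq_iff_mul_eq_one, ← mul_assoc, ← hT2]
            rw [show D.cl T * (D.cl T * D.cl T) * D.cl T = (D.cl T * D.cl T) * (D.cl T * D.cl T) by group, hT2]
            exact D.cl_W_sq
          rw [h6, ← mul_assoc, hφW.eq, mul_assoc (D.cl D.W), h3, ← mul_assoc, ← mul_assoc, D.cl_W_sq, one_mul]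
        rw [mul_assoc, h4, ← mul_assoc, h5, mul_assoc]
    · refine ⟨sφ, by rw [hsφ, hs], hsf, hgen3 _ ?_ hφρ hφW⟩
      change sφ * D.cl T = D.cl T * sφ
      rw [hφT]
      suffices h : O (qIncl _ (diagTorus m fun _ => sp)) = 1 by rw [h, one_mul]
      by_cases hsq : IsSquare (∏ _i : Fin m, (sp : F))
      · exact hdiag _ hsq
      rw [hprodsp, not_or, Nat.not_even_iff_odd] at hsq
      have hp3 : p % 4 = 3 := by omega
      have hq3 : Fintype.card F % 4 = 3 := by
        have := Nat.odd_iff.1 hodd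
        by_contra h
        exact hc ⟨hsq.1, hp3, by omega⟩
      rcases D.cl_cases (T := ⟨qIncl _ (diagTorus m fun _ => sp), qIncl_mem_simSub hQ.toPre _⟩) ((D.chi_eq_one _).2
        ⟨by rw [mulFac_qIncl hQ.toPre]; exact IsSquare.one, (D.par_incl _).trans
          ((parity_incl hQ.toPre D.h1 _).symm.trans (parity_diagTorus hQ.toPre _))⟩) with h | h
      · exact h
      · exact h.trans (hW1 ⟨hsq.1, hq3⟩)
  -- assemble
  let z : Multiplicative (ZMod f) →* Cfsg.Out (TQ (qPlus m F)) :=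
    MonoidHom.mk' (fun i => g ^ (Multiplicative.toAdd i).val) fun i j => by
      rw [← pow_add, toAdd_mul, ZMod.val_add]
      exact (pow_eq_pow_mod _ hgf).symm
  let Φ : π.ker × Multiplicative (ZMod f) →* Cfsg.Out (TQ (qPlus m F)) :=
    π.ker.subtype.noncommCoprod z fun k i => ((hgK k k.2).pow_left _).symm
  have hΦ : Function.Bijective Φ := by
    constructor
    · rw [← MonoidHom.ker_eq_bot_iff, eq_bot_iff]
      rintro ⟨k, i⟩ h
      rw [MonoidHom.mem_ker] at h
      change (k : Cfsg.Out (TQ (qPlus m F))) * g ^ (Multiplicative.toAdd i).val = 1 at h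
      have h1 := congrArg π h
      rw [map_mul, MonoidHom.mem_ker.1 k.2, one_mul, map_pow, hgπ, map_one] at h1
      have hdvd := orderOf_dvd_of_pow_eq_one h1
      rw [hφf] at hdvd
      have hi : (Multiplicative.toAdd i).val = 0 := Nat.eq_zero_of_dvd_of_lt hdvd (ZMod.val_lt _)
      rw [hi, pow_zero, mul_one] at h
      exact Prod.ext (Subtype.ext h) (Multiplicative.toAdd.injective ((ZMod.val_eq_zero _).1 hi))
    · intro x
      obtain ⟨j, hj⟩ := hgen (π x)
      have hmem : x * (g ^ (j % (f : ℤ)).toNat)⁻¹ ∈ π.ker := by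
        have hj' : φ ^ (j % (f : ℤ)).toNat = π x := by
          rw [← zpow_natCast, Int.toNat_of_nonneg (Int.emod_nonneg _ (by exact_mod_cast NeZero.ne f)), ← hφf,
            zpow_mod_orderOf]
          exact hj
        rw [MonoidHom.mem_ker, map_mul, map_inv, map_pow, hgπ, hj', mul_inv_cancel]
      refine ⟨(⟨_, hmem⟩, Multiplicative.ofAdd ((j % (f : ℤ)).toNat : ZMod f)), ?_⟩
      change x * (g ^ (j % (f : ℤ)).toNat)⁻¹ * g ^ (((j % (f : ℤ)).toNat : ZMod f)).val = x
      rw [ZMod.val_natCast, ← pow_eq_pow_mod _ hgf, inv_mul_cancel_right]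
  have hK : ∀ {A : Type} [Group A] (θ : simSub hQ.toPre →* A), Function.Surjective θ → θ.ker = D.cl.ker →
      Nonempty (π.ker ≃* A) := by
    intro A _ θ hθ hk
    let c : simSub hQ.toPre →* π.ker := D.cl.codRestrict _ hclker
    have hc : Function.Surjective c := fun k => by
      obtain ⟨S, hS⟩ := hkerimg k.1 k.2
      exact ⟨S, Subtype.ext hS⟩
    have hck : c.ker = θ.ker := by
      rw [hk]; exact MonoidHom.ker_codRestrict _ _ _
    exact ⟨(QuotientGroup.quotientKerEquivOfSurjective c hc).symm.trans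
      ((QuotientGroup.quotientMulEquivOfEq hck).trans (QuotientGroup.quotientKerEquivOfSurjective θ hθ))⟩
  have hcase : (p ^ f % 4 = 3 ∧ Odd m) ↔ (Odd m ∧ Fintype.card F % 4 = 3) := by rw [hF, and_comm]
  split_ifs with hc
  · have hψ := hneg1 (hcase.1 hc)
    obtain ⟨e⟩ := hK D.chi D.chi_surjective (le_antisymm
      (fun S hS => (D.cl_cases hS).elim id fun e => e.trans ((D.cl_W_eq_one_iff).2 hψ))
      fun S hS => D.cl_eq_one hS)
    exact ⟨(MulEquiv.ofBijective Φ hΦ).symm.trans (e.prodCongr (MulEquiv.refl _))⟩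
  · obtain ⟨-, -, -, -, R, S, hR2, hS, hSR, hS1, hSR1⟩ := hneg2 fun h => hc (hcase.2 h)
    have hv2 : ∀ v : Multiplicative (ZMod 2 × ZMod 2), v * v = 1 := by decide
    have hv4 : ∀ r s g : Multiplicative (ZMod 2 × ZMod 2), r ≠ 1 → s ≠ 1 → s ≠ r →
        g = 1 ∨ g = r ∨ g = s ∨ g = r * s := by decide
    have hR1 : D.chi R ≠ 1 := fun e => hR2 (by
      rcases D.cl_cases e with h | h
      · rw [h, one_mul]
      · rw [h]; exact D.cl_W_sq)
    obtain ⟨θ, h1, h2⟩ := dihedral_hom_of D.cl D.chi (fun g hg => D.cl_cases hg) (fun g hg => D.cl_eq_one hg)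
      D.cl_W_sq hR2 (hv2 _) hS hSR hS1 hSR1 fun g => hv4 _ _ _ hR1 hS1 hSR1
    obtain ⟨e⟩ := hK θ h1 h2
    exact ⟨(MulEquiv.ofBijective Φ hΦ).symm.trans (e.prodCongr (MulEquiv.refl _))⟩

end CfsgLib.POAut

namespace CfsgLib.POAut

open CfsgLib.Classical CfsgLib.Classical22

/-- The outer automorphism group of the carrier, for the plus form. -/
theorem out_plus_equiv {F : Type*} [Field F] [Fintype F] {m : ℕ} (hm : 4 ≤ m) :
    Nonempty (Cfsg.Out (Cfsg.POmega F (Cfsg.quadFormPlus m F)) ≃* Cfsg.Out (TQ (qPlus m F))) :=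
  ⟨QuotientGroup.congr _ _ (autE (coe_qPlus m) (pre_qPlus hm)) (by
    rw [inn_comapE (coe_qPlus m) (pre_qPlus hm)]
    exact Subgroup.map_comap_eq_self_of_surjective (autE (coe_qPlus m) (pre_qPlus hm)).surjective _)⟩

end CfsgLib.POAut
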