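/-
Local balance for field-type automorphisms of the simple orthogonal quotients.
-/
import Cfsg.Agent.Lib.KnownSimple.POAut.Bridge
import Cfsg.Agent.Lib.KnownSimple.POAut.Spinor
import Cfsg.Agent.Lib.KnownSimple.Balance

set_option autoImplicit false

namespace CfsgLib.POAut

open CfsgLib.Classical CfsgLib.Classical22
open scoped commutatorElement

section Rational

variable {F : Type*} [Field F] {K : Type*} [Field K] {f : K →+* F}
variable {J : Type} [Fintype J] [DecidableEq J] {P₀ : QuadraticForm K (J → K)} {P : QuadraticForm F (J → F)}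

/-- An isometry defined over the subfield, as a linear map. -/
theorem eich_rational (hcP : Compat f P₀ P) {u w : J → K} (hu : P₀ u = 0) (h : QuadraticMap.polar P₀ u w = 0)
    (v : J → K) : (eich P (f ∘ u) (f ∘ w)).1 (f ∘ v) = f ∘ (eich P₀ u w).1 v := by
  rw [eich_apply P (by rw [hcP, hu, map_zero]) (by rw [hcP.polar, h, map_zero]), eich_apply P₀ hu h, hcP.polar,
    hcP.polar, hcP]
  funext i
  simp [map_add, map_sub, map_mul]

/-- The common fixed vectors of the rational Eichler group of a point. -/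
theorem fixed_rational_eich (hcP : Compat f P₀ P) (hP₀ : PolarNondeg P₀) (hP : PolarNondeg P)
    (hn : 3 ≤ Module.finrank K (J → K)) {u z : J → K} (hp : HypPair P₀ u z) {v : J → F}
    (hfix : ∀ w, QuadraticMap.polar P₀ u w = 0 → (eich P (f ∘ u) (f ∘ w)).1 v = v) :
    ∃ c : F, v = c • (f ∘ u) := by
  have hu' : P (f ∘ u) = 0 := by rw [hcP, hp.qa, map_zero]
  have hne : ∀ {x : J → K}, x ≠ 0 → f ∘ x ≠ 0 := fun {x} hx e =>
    hx (funext fun i => (map_eq_zero f).1 (congrFun e i))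
  have key : ∀ w, QuadraticMap.polar P₀ u w = 0 → QuadraticMap.polar P v (f ∘ u) • (f ∘ w) =
      (QuadraticMap.polar P v (f ∘ w) + P (f ∘ w) * QuadraticMap.polar P v (f ∘ u)) • (f ∘ u) := fun w hw => by
    have h1 := hfix w hw
    rw [eich_apply P hu' (by rw [hcP.polar, hw, map_zero])] at h1
    linear_combination (norm := module) h1
  have hd : QuadraticMap.polar P v (f ∘ u) = 0 := by
    have h1 := hp.finrank_pM
    obtain ⟨m, hm⟩ : ∃ m : pM P₀ u z, m ≠ 0 := by
      haveI : Nontrivial (pM P₀ u z) := (Module.finrank_pos_iff (R := K)).1 (by omega)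
      exact exists_ne 0
    have h2 := key m (HypPair.am m)
    by_contra hd
    set d := QuadraticMap.polar P v (f ∘ u)
    set e := QuadraticMap.polar P v (f ∘ (m : J → K)) + P (f ∘ (m : J → K)) * d
    have h3 : f ∘ (m : J → K) = (e / d) • (f ∘ u) := by
      rw [div_eq_inv_mul, ← smul_smul, ← h2, inv_smul_smul₀ hd]
    obtain ⟨i, hi⟩ : ∃ i, u i ≠ 0 := Function.ne_iff.1 hp.a_ne
    have h4 : e / d = f (m.1 i / u i) := by
      rw [map_div₀, eq_div_iff ((map_ne_zero f).2 hi)]
      exact (congrFun h3 i).symm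
    have h5 : (m : J → K) = (m.1 i / u i) • u + (0 : K) • z := by
      rw [zero_smul, add_zero]
      funext k
      refine f.injective ?_
      rw [Pi.smul_apply, smul_eq_mul, map_mul, ← h4]
      exact congrFun h3 k
    exact hm (hp.coord_inj (s := 0) (t := 0) (m := m) (s' := m.1 i / u i) (t' := 0) (m' := 0) (by
      rw [zero_smul, zero_smul, zero_add, zero_add, Submodule.coe_zero, add_zero]
      simpa using h5)).2.2
  have hperp : ∀ w, QuadraticMap.polar P₀ u w = 0 → QuadraticMap.polar P v (f ∘ w) = 0 := fun w hw => by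
    have h1 := key w hw
    rw [hd, zero_smul, mul_zero, add_zero] at h1
    exact (smul_eq_zero.1 h1.symm).resolve_right (hne hp.a_ne)
  refine ⟨QuadraticMap.polar P v (f ∘ z), ?_⟩
  rw [← sub_eq_zero]
  refine hP _ fun x => ?_
  set v' := v - QuadraticMap.polar P v (f ∘ z) • (f ∘ u) with hv'
  have hzero : (QuadraticMap.polarBilin P) v' = 0 := linear_ext_rational f fun w => by
    obtain ⟨s, t, m, rfl⟩ := hp.exists_coord w
    change QuadraticMap.polar P v' _ = 0
    simp only [hv', comp_add', comp_smul_hom, QuadraticMap.polar_add_right, QuadraticMap.polar_smul_right,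
      QuadraticMap.polar_sub_left, QuadraticMap.polar_smul_left, hcP.polar, hp.aa, hp.az, HypPair.am, hd,
      hperp _ (HypPair.am m), map_zero, map_one, smul_eq_mul]
    ring
  exact LinearMap.congr_fun hzero x

end Rational

variable {F : Type*} [Field F] [Fintype F] {ι : Type} [Fintype ι] [DecidableEq ι] {Q : QuadraticForm F (ι → F)}
variable {K : Type*} [Field K] [Fintype K] {f : K →+* F} {σ : F ≃+* F}
variable {J : Type} [Fintype J] [DecidableEq J] {P₀ : QuadraticForm K (J → K)} {P : QuadraticForm F (J → F)}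
variable [Nonempty J]

/-- A semisimilarity commuting with the rational Eichler group is a scalar times a field automorphism. -/
theorem exists_of_commute_rational (hcP : Compat f P₀ P) (hP₀ : Pre P₀) (hP : Pre P) (hf : ∀ x, σ (f x) = f x)
    (hfix : ∀ x : F, σ x = x ↔ x ∈ Set.range f) {N : gammaO P}
    (hN : ∀ e : eichGroup P₀, Commute N (bcHom f hcP hP₀ ⟨qIncl _ e.1, qIncl_mem_simSub hP₀ e.1⟩)) :
    ∃ (c : Fˣ) (j : ℤ), N = scal P c * phi f σ hcP hf ^ j := by
  classical
  have hn : 7 ≤ Module.finrank K (J → K) := hP₀.seven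
  set τ := sigFun N with hτ
  have hsem := semisim_spec N
  -- singular rational lines are fixed
  have hline : ∀ u, u ≠ 0 → P₀ u = 0 → ∃ c : F, addT N (f ∘ u) = c • (f ∘ u) := by
    intro u hu hu0
    obtain ⟨z, hp⟩ := exists_hypPair_left P₀ hP₀.nondeg hu hu0
    refine fixed_rational_eich hcP hP₀.nondeg hP.nondeg (by omega) hp fun w hw => ?_
    set e : eichGroup P₀ := ⟨_, eich_mem P₀ hu0 hw⟩
    set B := bcHom f hcP hP₀ ⟨qIncl _ e.1, qIncl_mem_simSub hP₀ e.1⟩
    have hB : ∀ x, addT B x = (eich P (f ∘ u) (f ∘ w)).1 x := fun x => DFunLike.congr_fun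
      (semilinear_ext_rational (σ := RingEquiv.refl F) (A := (addT B).toAddMonoidHom)
        (B := (eich P (f ∘ u) (f ∘ w)).1.toLinearMap.toAddMonoidHom)
        (fun s y => by
          change addT B (s • y) = _
          rw [(semisim_spec _).smul, sigFun_bcHom]
          rfl)
        (fun s y => (eich P (f ∘ u) (f ∘ w)).1.map_smul s y) f fun y => by
          change addT B (f ∘ y) = (eich P (f ∘ u) (f ∘ w)).1 (f ∘ y)
          rw [bcHom_rational, eich_rational hcP hu0 hw]
          rfl) x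
    have h1 := congrArg (fun T : gammaO P => addT T (f ∘ u)) (hN e).eq
    simp only [gammaO_mul_apply] at h1
    rw [bcHom_rational, qIncl_apply, eich_fix P₀ hu0 hw, hB] at h1
    exact h1.symm
  choose lam hlam using hline
  have hne : ∀ {x : J → K}, x ≠ 0 → f ∘ x ≠ 0 := fun {x} hx e =>
    hx (funext fun i => (map_eq_zero f).1 (congrFun e i))
  have hlam0 : ∀ u hu hu0, lam u hu hu0 ≠ 0 := fun u hu hu0 e =>
    hne hu ((addT N).map_eq_zero_iff.1 (by rw [hlam u hu hu0, e, zero_smul]))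
  have cmp : ∀ u w (hu : u ≠ 0) (hw : w ≠ 0) (hu0 : P₀ u = 0) (hw0 : P₀ w = 0),
      QuadraticMap.polar P₀ u w = 1 → lam u hu hu0 * lam w hw hw0 = mulFac N := by
    intro u w hu hw hu0 hw0 h1
    have h2 := hsem.polar (f ∘ u) (f ∘ w)
    rw [hlam u hu hu0, hlam w hw hw0, QuadraticMap.polar_smul_left, QuadraticMap.polar_smul_right, hcP.polar, h1,
      map_one, map_one, smul_eq_mul, smul_eq_mul, mul_one, mul_one] at h2
    exact h2
  have hindep : ∀ u w (hu : u ≠ 0) (hw : w ≠ 0) (hu0 : P₀ u = 0) (hw0 : P₀ w = 0),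
      (∀ s : K, s • u ≠ w) → lam u hu hu0 = lam w hw hw0 := by
    intro u w hu hw hu0 hw0 hdep
    have hdep' : ∀ s : K, s • w ≠ u := fun s hs => hdep s⁻¹ (by
      rw [← hs, smul_smul, inv_mul_cancel₀ (fun h => hu (by rw [← hs, h, zero_smul])), one_smul])
    obtain ⟨x, hx, hux, heq⟩ := exists_common P₀ hP₀.nondeg (by omega) hu0 hw0 hdep hdep'
    set x' := (QuadraticMap.polar P₀ u x)⁻¹ • x
    have hx' : P₀ x' = 0 := by rw [quad_smul, hx, mul_zero]
    have hx'0 : x' ≠ 0 := smul_ne_zero (inv_ne_zero hux) fun h => hux (by rw [h, QuadraticMap.polar_zero_right])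
    have h1 := cmp u x' hu hx'0 hu0 hx' (by rw [QuadraticMap.polar_smul_right, smul_eq_mul, inv_mul_cancel₀ hux])
    have h2 := cmp w x' hw hx'0 hw0 hx' (by rw [QuadraticMap.polar_smul_right, smul_eq_mul, ← heq, inv_mul_cancel₀ hux])
    exact mul_right_cancel₀ (hlam0 _ hx'0 hx') (h1.trans h2.symm)
  obtain ⟨a, ha, ha0⟩ := exists_singular P₀ hP₀.nondeg (by omega)
  obtain ⟨z, hp⟩ := exists_hypPair_left P₀ hP₀.nondeg ha ha0
  set c := lam a ha ha0
  have hc : ∀ u hu hu0, lam u hu hu0 = c := by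
    intro u hu hu0
    by_cases hdep : ∃ s : K, s • u = a
    · obtain ⟨s, hs⟩ := hdep
      have hz : ∀ t : K, ∀ v, v ≠ 0 → P₀ v = 0 → (∃ r : K, r • v = a) → t • v ≠ z := by
        rintro t v - hv0 ⟨r, hr⟩ ht
        have h0 := hp.az
        rw [← hr, ← ht, QuadraticMap.polar_smul_left, QuadraticMap.polar_smul_right, quad_polar_self, hv0] at h0
        simp at h0
      rw [hindep u z hu hp.z_ne hu0 hp.qz (fun t => hz t u hu hu0 ⟨s, hs⟩),
        ← hindep a z ha hp.z_ne ha0 hp.qz (fun t => hz t a ha ha0 ⟨1, one_smul _ _⟩)]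
    · push Not at hdep
      exact hindep u a hu ha hu0 ha0 hdep
  have hτf : ∀ s : K, τ (f s) = f s := fun s => by
    rcases eq_or_ne s 0 with rfl | hs
    · simp
    have h1 := hlam (s • a) (smul_ne_zero hs ha) (by rw [quad_smul, ha0, mul_zero])
    rw [hc, comp_smul_hom, hsem.smul, hlam a ha ha0, hc, smul_smul, smul_smul] at h1
    exact mul_right_cancel₀ (b := c) (hlam0 a ha ha0)
      ((smul_left_injective F (hne ha) h1).trans (mul_comm _ _))
  obtain ⟨j, hj⟩ := CfsgLib.PSLAut.mem_zpowers_of_fixes (σ := σ) (τ := τ) fun x hx => by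
    obtain ⟨s, rfl⟩ := (hfix x).1 hx
    exact hτf s
  refine ⟨Units.mk0 c (hlam0 a ha ha0), j, ?_⟩
  have hphi : ∀ w : J → K, addT (phi f σ hcP hf ^ j) (f ∘ w) = f ∘ w := fun w => by
    obtain ⟨n, rfl | rfl⟩ := j.eq_nat_or_neg
    · rw [zpow_natCast, phi_pow_apply]
      funext i
      have hk : ∀ k : ℕ, (σ ^ k) (f (w i)) = f (w i) := fun k => by
        induction k with
        | zero => rfl
        | succ k ih => rw [pow_succ', RingAut.mul_apply, ih, hf]
      exact hk n
    · apply (addT (phi f σ hcP hf ^ n)).injective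
      rw [← gammaO_mul_apply, zpow_neg, zpow_natCast, mul_inv_cancel, phi_pow_apply]
      funext i
      have hk : ∀ k : ℕ, (σ ^ k) (f (w i)) = f (w i) := fun k => by
        induction k with
        | zero => rfl
        | succ k ih => rw [pow_succ', RingAut.mul_apply, ih, hf]
      exact (hk n).symm
  refine gamma_ext_rational f ?_ fun w => ?_
  · haveI := nontrivial_of_good hP
    rw [← sigHom_apply hP (scal P _ * phi f σ hcP hf ^ j), map_mul, map_zpow, sigHom_scal, one_mul, sigHom_apply,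
      sigFun_phi, ← hτ]
    exact hj.symm
  · rw [gammaO_mul_apply, hphi, scal_apply, Units.val_mk0]
    have hspan := span_singular P₀ hP₀.nondeg (by omega)
    induction (hspan ▸ Submodule.mem_top : w ∈ Submodule.span K {v : J → K | P₀ v = 0}) using
      Submodule.span_induction with
    | mem x hx =>
      rcases eq_or_ne x 0 with rfl | hx0
      · rw [show f ∘ (0 : J → K) = 0 from funext fun i => map_zero f, map_zero, smul_zero]
      · rw [hlam x hx0 hx, hc]
    | zero => rw [show f ∘ (0 : J → K) = 0 from funext fun i => map_zero f, map_zero, smul_zero]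
    | add x y _ _ h1 h2 => rw [comp_add', map_add, h1, h2, smul_add]
    | smul r x _ h1 => rw [comp_smul_hom, hsem.smul, h1, ← hτ, hτf, smul_comm]

variable (hcP : Compat f P₀ P) (hf : ∀ x, σ (f x) = f x) (hQ : Good Q) (hP₀ : Pre P₀)

/-- The rational Eichler group acting on the simple quotient. -/
noncomputable def ratAct (S : Sim P Q) : eichGroup P₀ →* MulAut (TQ Q) :=
  (act Q).comp ((liftS hcP hP₀ S).comp
    (((qIncl P₀).codRestrict (simSub hP₀) (qIncl_mem_simSub hP₀)).comp (eichGroup P₀).subtype))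

theorem ratAct_apply (S : Sim P Q) (e : eichGroup P₀) :
    ratAct hcP hP₀ S e = act Q (liftS hcP hP₀ S ⟨qIncl _ e.1, qIncl_mem_simSub hP₀ e.1⟩) := rfl

include hQ in
theorem ratAct_mem_inn (S : Sim P Q) (e : eichGroup P₀) : ratAct hcP hP₀ S e ∈ Cfsg.Inn (TQ Q) := by
  let Φ : qAut P₀ →* gammaO Q :=
    (liftS hcP hP₀ S).comp ((qIncl P₀).codRestrict (simSub hP₀) (qIncl_mem_simSub hP₀))
  have hΦ : Φ.range ≤ (qIncl Q).range := by
    rintro _ ⟨k, rfl⟩
    obtain ⟨h, -, e'⟩ := liftS_qIncl_induction hcP hP₀ S ⊤ (fun _ _ => trivial) k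
    exact ⟨h, e'.symm⟩
  have h1 : Φ e.1 ∈ (eichGroup Q).map (qIncl Q) := by
    have he : e.1 ∈ commutator (qAut P₀) := by
      rw [← eichGroup_eq_commutator P₀ hP₀.nondeg (by have := hP₀.seven; omega)]
      exact e.2
    have h2 := Subgroup.mem_map_of_mem Φ he
    rw [commutator_def, Subgroup.map_commutator, ← MonoidHom.range_eq_map] at h2
    have h3 := Subgroup.commutator_mono hΦ hΦ h2
    rwa [MonoidHom.range_eq_map, ← Subgroup.map_commutator, ← commutator_def,
      ← eichGroup_eq_commutator Q hQ.nondeg (by have := hQ.seven; omega)] at h3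
  rw [inn_eq]
  exact ⟨_, h1, rfl⟩

include hf in
theorem ratAct_commute (S : Sim P Q) (e : eichGroup P₀) :
    Commute (ratAct hcP hP₀ S e) (act Q (fieldX hcP hf S)) :=
  (commute_liftS hcP hf hP₀ S _).map (act Q)

include hQ in
/-- The rational Eichler group is not killed. -/
theorem exists_ratAct_ne_one (S : Sim P Q) : ∃ e, ratAct hcP hP₀ S e ≠ 1 := by
  have hn := hP₀.seven
  obtain ⟨a, ha, ha0⟩ := exists_singular P₀ hP₀.nondeg (by omega)
  obtain ⟨z, hp⟩ := exists_hypPair_left P₀ hP₀.nondeg ha ha0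
  have h1 := hp.finrank_pM
  obtain ⟨m, hm⟩ : ∃ m : pM P₀ a z, m ≠ 0 := by
    haveI : Nontrivial (pM P₀ a z) := (Module.finrank_pos_iff (R := K)).1 (by omega)
    exact exists_ne 0
  refine ⟨⟨_, eich_mem P₀ ha0 (HypPair.am m)⟩, fun h => ?_⟩
  obtain ⟨c, hc⟩ := exists_scal_of_act hQ h
  have h2 : bcHom f hcP hP₀ ⟨qIncl _ (eich P₀ a (m : J → K)), qIncl_mem_simSub hP₀ _⟩ = scal P c :=
    S.gam.injective (hc.trans (S.gam_scal c).symm)
  have h3 : ∀ w, f ∘ (eich P₀ a (m : J → K)).1 w = (c : F) • (f ∘ w) := fun w => by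
    have := congrArg (fun T : gammaO P => addT T (f ∘ w)) h2
    simpa [bcHom_rational, scal_apply, qIncl_apply] using this
  obtain ⟨i, hi⟩ : ∃ i, a i ≠ 0 := Function.ne_iff.1 ha
  have h4 := congrFun (h3 a) i
  rw [Function.comp_apply, eich_fix P₀ ha0 (HypPair.am m)] at h4
  have hc1 : (c : F) = 1 := mul_right_cancel₀ ((map_ne_zero f).2 hi) (by rw [one_mul]; exact h4.symm)
  have h5 : (eich P₀ a (m : J → K)).1 z = z := funext fun k => f.injective (by
    have := congrFun (h3 z) k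
    simpa [hc1] using this)
  rw [hp.eich_az] at h5
  refine hm (hp.coord_inj (s := -P₀ (m : J → K)) (t := 1) (m := m) (s' := 0) (t' := 1) (m' := 0) ?_).2.2
  rw [Submodule.coe_zero]
  linear_combination (norm := module) h5

/-- An involution in the rational group in odd characteristic. -/
theorem two_dvd_card_ratAct (S : Sim P Q) (hQ : Good Q) (h2 : (2 : F) ≠ 0) :
    2 ∣ Nat.card (ratAct hcP hP₀ S).range := by
  classical
  have hn := hP₀.seven
  have h2K : (2 : K) ≠ 0 := fun e => h2 (by have := congrArg f e; rwa [map_ofNat, map_zero] at this)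
  obtain ⟨a, ha, ha0⟩ := exists_singular P₀ hP₀.nondeg (by omega)
  obtain ⟨z, hp⟩ := exists_hypPair_left P₀ hP₀.nondeg ha ha0
  have h1 := hp.finrank_pM
  obtain ⟨v, hv⟩ := exists_value (qM P₀ a z) (hp.polarNondeg_qM hP₀.nondeg) (by omega) (one_ne_zero (α := K))
  rw [qM_apply] at hv
  set u := a + z with hu
  set w := a - z with hw
  have hQu : P₀ u = 1 := by rw [hu, quad_add, hp.qa, hp.qz, hp.az]; ring
  have huv : QuadraticMap.polar P₀ u v = 0 := by
    rw [hu, QuadraticMap.polar_add_left, HypPair.am, HypPair.zm, add_zero]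
  have hwu : QuadraticMap.polar P₀ w u = 0 := by
    rw [hu, hw, QuadraticMap.polar_sub_left, QuadraticMap.polar_add_right, QuadraticMap.polar_add_right, hp.aa, hp.az,
      hp.za, hp.zz]
    ring
  have hwv : QuadraticMap.polar P₀ w v = 0 := by
    rw [hw, QuadraticMap.polar_sub_left, HypPair.am, HypPair.zm, sub_zero]
  have hu' : P₀ u ≠ 0 := hQu ▸ one_ne_zero
  have hv' : P₀ (v : J → K) ≠ 0 := hv ▸ one_ne_zero
  set g := qRefl P₀ hu' * qRefl P₀ hv' with hg
  have hgm : g ∈ eichGroup P₀ := by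
    rw [eichGroup_eq_commutator P₀ hP₀.nondeg (by omega)]
    exact refl_mul_refl_mem_commutator P₀ hP₀.nondeg hu' hv' (hQu.trans hv.symm)
  have hcomm : qRefl P₀ hu' * qRefl P₀ hv' = qRefl P₀ hv' * qRefl P₀ hu' := qAut_ext fun x => by
    rw [qAut_mul_apply, qAut_mul_apply, qRefl_apply, qRefl_apply, qRefl_apply, qRefl_apply]
    simp only [QuadraticMap.polar_sub_left, QuadraticMap.polar_smul_left, huv,
      (QuadraticMap.polar_comm P₀ (v : J → K) u).trans huv, smul_zero, sub_zero]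
    abel
  have hgg : g * g = 1 := by
    rw [hg, mul_assoc, ← mul_assoc (qRefl P₀ hv'), ← hcomm, mul_assoc, qRefl_mul_self, mul_one, qRefl_mul_self]
  have hne : ratAct hcP hP₀ S ⟨g, hgm⟩ ≠ 1 := by
    intro h
    obtain ⟨c, hc⟩ := exists_scal_of_act hQ h
    have h2' : bcHom f hcP hP₀ ⟨qIncl _ g, qIncl_mem_simSub hP₀ _⟩ = scal P c :=
      S.gam.injective (hc.trans (S.gam_scal c).symm)
    have h3 : ∀ x, f ∘ g.1 x = (c : F) • (f ∘ x) := fun x => by
      have := congrArg (fun T : gammaO P => addT T (f ∘ x)) h2'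
      simpa [bcHom_rational, scal_apply, qIncl_apply] using this
    have e1 : g.1 u = -u := by
      rw [hg, qAut_mul_apply, qRefl_fix P₀ hv' huv, qRefl_self]
    have e2 : g.1 w = w := by
      rw [hg, qAut_mul_apply, qRefl_fix P₀ hv' hwv, qRefl_fix P₀ hu' hwu]
    obtain ⟨i, hi⟩ : ∃ i, u i ≠ 0 := Function.ne_iff.1 fun e => hu' (by rw [e]; exact map_zero _)
    obtain ⟨k, hk⟩ : ∃ k, w k ≠ 0 := Function.ne_iff.1 (show w ≠ 0 from fun e => by
      have := congrArg (fun y => QuadraticMap.polar P₀ y z) e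
      simp [hw, QuadraticMap.polar_sub_left, hp.az, hp.zz] at this)
    have c1 : (c : F) = -1 := mul_right_cancel₀ ((map_ne_zero f).2 hi) (by
      have := congrFun (h3 u) i
      rw [e1] at this
      simpa using this.symm)
    have c2 : (c : F) = 1 := mul_right_cancel₀ ((map_ne_zero f).2 hk) (by
      have := congrFun (h3 w) k
      rw [e2] at this
      simpa using this.symm)
    exact h2 (by linear_combination c1 - c2)
  have hsq : ratAct hcP hP₀ S ⟨g, hgm⟩ ^ 2 = 1 := by
    rw [sq, ← map_mul, show (⟨g, hgm⟩ : eichGroup P₀) * ⟨g, hgm⟩ = 1 from Subtype.ext hgg, map_one]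
  haveI : Fact (Nat.Prime 2) := ⟨Nat.prime_two⟩
  rw [← orderOf_eq_prime hsq hne]
  exact Subgroup.orderOf_dvd_natCard _ ⟨_, rfl⟩

omit [Fintype F] [Fintype K] in
/-- Squares of isometries are commutators. -/
theorem sq_mem_commutator {V : Type*} [AddCommGroup V] [Module F V] [FiniteDimensional F V] [Fintype F]
    {R : QuadraticForm F V} (hR : PolarNondeg R) (hn : 5 ≤ Module.finrank F V) (h : qAut R) :
    h * h ∈ commutator (qAut R) := by
  have hgen := reflGroup_eq_top R hR (Or.inr (by omega))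
  have hmem : h ∈ reflGroup R := hgen ▸ Subgroup.mem_top h
  rw [← Abelianization.ker_of (qAut R), MonoidHom.mem_ker, map_mul]
  induction hmem using Subgroup.closure_induction with
  | mem x hx =>
    obtain ⟨v, hv, rfl⟩ := hx
    rw [← map_mul, qRefl_mul_self, map_one]
  | one => rw [map_one, one_mul]
  | mul x y _ _ hx hy => rw [map_mul, mul_mul_mul_comm, hx, hy, one_mul]
  | inv x _ hx => rw [map_inv, ← mul_inv, hx, inv_one]

include hQ in
/-- Coprime normal subgroups of the rational group are trivial. -/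
theorem ratAct_normal_eq_bot (S : Sim P Q) {p : ℕ} [Fact p.Prime] (hdiv : p ∣ Nat.card (ratAct hcP hP₀ S).range)
    (M : Subgroup (MulAut (TQ Q))) (hM : M ≤ (ratAct hcP hP₀ S).range)
    (hn : ∀ r ∈ (ratAct hcP hP₀ S).range, ∀ u ∈ M, r * u * r⁻¹ ∈ M) (hcop : (Nat.card M).Coprime p) : M = ⊥ := by
  classical
  have h7 := hP₀.seven
  set θ := ratAct hcP hP₀ S
  set N := M.comap θ
  haveI : N.Normal := ⟨fun u hu g => by
    rw [Subgroup.mem_comap] at hu ⊢
    rw [map_mul, map_mul, map_inv]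
    exact hn _ ⟨g, rfl⟩ _ hu⟩
  have hmap : N.map θ = M := Subgroup.map_comap_eq_self hM
  haveI := isSimpleGroup_eichGroup P₀ hP₀.nondeg (by omega)
  set Z := Subgroup.center (eichGroup P₀)
  set π := QuotientGroup.mk' Z
  haveI : (N.map π).Normal := Subgroup.Normal.map inferInstance π (QuotientGroup.mk'_surjective _)
  rcases (inferInstance : (N.map π).Normal).eq_bot_or_eq_top with h | h
  · rw [← hmap, eq_bot_iff]
    rintro _ ⟨e, he, rfl⟩
    have he' : e ∈ Z := (QuotientGroup.eq_one_iff e).1 (Subgroup.mem_bot.1 (h ▸ ⟨e, he, rfl⟩))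
    have hc := centralizer_commutator P₀ hP₀.nondeg (by omega) (z := e.1) fun x hx => by
      rw [← eichGroup_eq_commutator P₀ hP₀.nondeg (by omega)] at hx
      exact congrArg Subtype.val (Subgroup.mem_center_iff.1 he' ⟨x, hx⟩).symm
    obtain ⟨c, hc⟩ : ∃ c : Kˣ, qIncl P₀ e.1 = scal P₀ c := by
      rcases hc with hc | hc
      · exact ⟨1, gammaO_ext fun x => by rw [qIncl_apply, scal_apply, hc, Units.val_one, one_smul]⟩
      · exact ⟨-1, gammaO_ext fun x => by rw [qIncl_apply, scal_apply, hc, Units.val_neg, Units.val_one, neg_one_smul]⟩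
    rw [Subgroup.mem_bot, ratAct_apply, show (⟨qIncl P₀ e.1, qIncl_mem_simSub hP₀ e.1⟩ : simSub hP₀) =
      ⟨scal P₀ c, scal_mem_simSub hP₀ c⟩ from Subtype.ext hc, liftS_scal, act_scal]
  · exfalso
    have hall : ∀ e : eichGroup P₀, ∃ n ∈ N, ∃ z ∈ Z, e = n * z := fun e => by
      have hm : π e ∈ N.map π := by rw [h]; exact Subgroup.mem_top _
      obtain ⟨n, hn', he⟩ := hm
      exact ⟨n, hn', n⁻¹ * e, (QuotientGroup.eq).1 he, (mul_inv_cancel_left n e).symm⟩
    have htop : N = ⊤ := by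
      rw [eq_top_iff]
      have hperf : ⁅(⊤ : Subgroup (eichGroup P₀)), (⊤ : Subgroup (eichGroup P₀))⁆ = ⊤ := by
        apply Subgroup.map_injective (eichGroup P₀).subtype_injective
        rw [Subgroup.map_commutator, ← MonoidHom.range_eq_map, Subgroup.range_subtype,
          eichGroup_perfect P₀ hP₀.nondeg (by omega)]
      rw [← hperf, Subgroup.commutator_le]
      intro x _ y _
      obtain ⟨n, hn₁, z, hz, rfl⟩ := hall x
      obtain ⟨n', hn₂, z', hz', rfl⟩ := hall y
      have hz1 := Subgroup.mem_center_iff.1 hz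
      have hz2 := Subgroup.mem_center_iff.1 hz'
      have e1 : ⁅n * z, n' * z'⁆ = ⁅n, n'⁆ := by
        rw [commutatorElement_def, commutatorElement_def, mul_inv_rev, mul_inv_rev]
        calc n * z * (n' * z') * (z⁻¹ * n⁻¹) * (z'⁻¹ * n'⁻¹)
            = n * (z * (n' * z')) * (z⁻¹ * n⁻¹) * (z'⁻¹ * n'⁻¹) := by group
          _ = n * ((n' * z') * z) * (z⁻¹ * n⁻¹) * (z'⁻¹ * n'⁻¹) := by rw [hz1 (n' * z')]
          _ = n * n' * (z' * n⁻¹) * z'⁻¹ * n'⁻¹ := by group
          _ = n * n' * (n⁻¹ * z') * z'⁻¹ * n'⁻¹ := by rw [hz2 n⁻¹]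
          _ = n * n' * n⁻¹ * n'⁻¹ := by group
      rw [e1, commutatorElement_def]
      exact mul_mem (mul_mem (mul_mem hn₁ hn₂) (inv_mem hn₁)) (inv_mem hn₂)
    have hMR : M = θ.range := by rw [← hmap, htop, ← MonoidHom.range_eq_map]
    exact (Fact.out : p.Prime).one_lt.ne' (Nat.eq_one_of_dvd_coprimes hcop (hMR ▸ hdiv) dvd_rfl)

/-- Fourth powers of rational similitudes lie in the rational group up to scalars. -/
theorem pow_four_mem (S : Sim P Q) (g : simSub hP₀) :
    act Q (liftS hcP hP₀ S g) ^ 4 ∈ (ratAct hcP hP₀ S).range := by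
  classical
  have hsq : IsSquare (mulFac (g.1 * g.1)) :=
    ⟨mulFac g.1, by rw [mulFac_mul hP₀, linear_of_simSub hP₀ g.2]⟩
  obtain ⟨d, h, hdh⟩ := exists_decomp hP₀ (mul_mem g.2 g.2) hsq
  have hh : h * h ∈ eichGroup P₀ := by
    rw [eichGroup_eq_commutator P₀ hP₀.nondeg (by have := hP₀.seven; omega)]
    exact sq_mem_commutator hP₀.nondeg (by have := hP₀.seven; omega) h
  refine ⟨⟨h * h, hh⟩, ?_⟩
  set L := liftS hcP hP₀ S
  have hgg : g * g = ⟨scal P₀ d, scal_mem_simSub hP₀ d⟩ * ⟨qIncl P₀ h, qIncl_mem_simSub hP₀ h⟩ :=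
    Subtype.ext hdh
  have e0 : act Q (L g) ^ 2 = act Q (L ⟨qIncl P₀ h, qIncl_mem_simSub hP₀ h⟩) := by
    rw [sq, ← map_mul (act Q), ← map_mul L, hgg, map_mul L, liftS_scal, map_mul (act Q), act_scal, one_mul]
  have e1 : (⟨qIncl P₀ (h * h), qIncl_mem_simSub hP₀ _⟩ : simSub hP₀) =
      ⟨qIncl P₀ h, qIncl_mem_simSub hP₀ h⟩ * ⟨qIncl P₀ h, qIncl_mem_simSub hP₀ h⟩ :=
    Subtype.ext (map_mul _ _ _)
  calc ratAct hcP hP₀ S ⟨h * h, hh⟩ = act Q (L ⟨qIncl P₀ (h * h), qIncl_mem_simSub hP₀ _⟩) := rfl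
    _ = act Q (L ⟨qIncl P₀ h, qIncl_mem_simSub hP₀ h⟩) ^ 2 := by
      rw [e1, map_mul L, map_mul (act Q), sq]
    _ = act Q (L g) ^ 4 := by rw [← e0, ← pow_mul]

/-- Rational similitudes normalise the rational group. -/
theorem ratAct_conjElt (S : Sim P Q) (g : simSub hP₀) (e : eichGroup P₀) :
    ratAct hcP hP₀ S (conjElt g.1 e) =
      act Q (liftS hcP hP₀ S g) * ratAct hcP hP₀ S e * (act Q (liftS hcP hP₀ S g))⁻¹ := by
  have h : (⟨qIncl P₀ (conjElt g.1 e).1, qIncl_mem_simSub hP₀ _⟩ : simSub hP₀) =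
      g * ⟨qIncl P₀ e.1, qIncl_mem_simSub hP₀ _⟩ * g⁻¹ := by
    refine Subtype.ext ?_
    rw [Subgroup.coe_mul, Subgroup.coe_mul, Subgroup.coe_inv, eq_mul_inv_iff_mul_eq]
    exact gammaO_ext fun v => (conjElt_spec g.1 e v).symm
  rw [ratAct_apply, ratAct_apply, h]
  simp only [map_mul, map_inv]

include hQ hf in
/-- The centraliser of the rational group consists of powers of the field automorphism. -/
theorem zpowers_of_commute (hfix : ∀ x : F, σ x = x ↔ x ∈ Set.range f) (hP : Pre P) (S : Sim P Q)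
    (n : MulAut (TQ Q)) (hn : ∀ r ∈ (ratAct hcP hP₀ S).range, Commute n r) :
    n ∈ Subgroup.zpowers (act Q (fieldX hcP hf S)) := by
  classical
  haveI : Nonempty ι := by
    by_contra hne
    haveI := not_nonempty_iff.1 hne
    have := hQ.seven
    simp [Module.finrank_pi] at this
  obtain ⟨N, rfl⟩ := act_surjective hQ n
  have hex : ∀ e : eichGroup P₀, ∃ c : Fˣ,
      N * liftS hcP hP₀ S ⟨qIncl _ e.1, qIncl_mem_simSub hP₀ e.1⟩ =
        scal Q c * (liftS hcP hP₀ S ⟨qIncl _ e.1, qIncl_mem_simSub hP₀ e.1⟩ * N) := fun e =>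
    (act_eq_iff hQ).1 (by rw [map_mul, map_mul]; exact (hn _ ⟨e, rfl⟩).eq)
  choose c hc using hex
  let χ : eichGroup P₀ →* Fˣ := MonoidHom.mk' c fun e e' => scal_injective (Q := Q) (by
    have h1 := hc (e * e')
    set L := liftS hcP hP₀ S ⟨qIncl _ e.1, qIncl_mem_simSub hP₀ e.1⟩ with hLdef
    set L' := liftS hcP hP₀ S ⟨qIncl _ e'.1, qIncl_mem_simSub hP₀ e'.1⟩ with hL'def
    have hLL : liftS hcP hP₀ S ⟨qIncl _ (e * e').1, qIncl_mem_simSub hP₀ _⟩ = L * L' := by
      rw [hLdef, hL'def, ← map_mul]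
      congr 1
    rw [hLL] at h1
    have hL : L ∈ simSub hQ := liftS_mem_simSub hcP hQ hP₀ S _
    have h2 : N * (L * L') = scal Q (c e) * scal Q (c e') * (L * L' * N) := by
      rw [← mul_assoc N, hc e, mul_assoc (scal Q (c e)), mul_assoc L, hc e', ← mul_assoc L (scal Q (c e')),
        commute_scal_of_sim hQ hL]
      simp only [mul_assoc, hL'def]
    rw [map_mul]
    exact mul_right_cancel (h1.symm.trans h2))
  have hperf : commutator (eichGroup P₀) = ⊤ := by
    apply Subgroup.map_injective (eichGroup P₀).subtype_injective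
    rw [commutator_def, Subgroup.map_commutator, ← MonoidHom.range_eq_map, Subgroup.range_subtype,
      eichGroup_perfect P₀ hP₀.nondeg (by have := hP₀.seven; omega)]
  have hχ : ∀ e, c e = 1 := fun e =>
    MonoidHom.mem_ker.1 (Abelianization.commutator_subset_ker χ (hperf ▸ Subgroup.mem_top e))
  obtain ⟨d, j, hj⟩ := exists_of_commute_rational hcP hP₀ hP hf hfix (N := S.gam.symm N) fun e => by
    have h1 := hc e
    rw [hχ, map_one, one_mul] at h1
    have h2 := congrArg S.gam.symm h1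
    rw [map_mul, map_mul] at h2
    have h3 : S.gam.symm (liftS hcP hP₀ S ⟨qIncl _ e.1, qIncl_mem_simSub hP₀ e.1⟩) =
        bcHom f hcP hP₀ ⟨qIncl _ e.1, qIncl_mem_simSub hP₀ e.1⟩ := S.gam.symm_apply_apply _
    rw [h3] at h2
    exact h2
  refine ⟨j, ?_⟩
  change act Q (fieldX hcP hf S) ^ j = act Q N
  have hNeq : N = scal Q d * fieldX hcP hf S ^ j := by
    rw [← S.gam.apply_symm_apply N, hj, map_mul, S.gam_scal, map_zpow]
    rfl
  rw [hNeq, map_mul, act_scal, one_mul, map_zpow]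

set_option maxHeartbeats 800000 in
include hQ hf hP₀ in
/-- The balance criterion for field-type automorphisms. -/
theorem core_fieldX_iff (hfix : ∀ x : F, σ x = x ↔ x ∈ Set.range f) (hP : Pre P) (S : Sim P Q) {p : ℕ}
    [Fact p.Prime] (hσ : orderOf σ = p) (hp2 : p = 2 → (2 : F) ≠ 0) (A : Subgroup (MulAut (TQ Q)))
    (hA : Cfsg.Inn (TQ Q) ≤ A) :
    Cfsg.pPrimeCore p ↥(A ⊓ Subgroup.centralizer {act Q (fieldX hcP hf S)}) ≠ ⊥ ↔
      (Nat.card ↥(Cfsg.Inn (TQ Q) ⊓ Subgroup.centralizer {act Q (fieldX hcP hf S)})).Coprime p := by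
  classical
  set X := fieldX hcP hf S
  haveI : Finite (MulAut (TQ Q)) := Finite.of_surjective _ (act_surjective hQ)
  set R := (ratAct hcP hP₀ S).range
  have hRI : R ≤ Cfsg.Inn (TQ Q) := by
    rintro _ ⟨e, rfl⟩
    exact ratAct_mem_inn hcP hQ hP₀ S e
  have hRx : R ≤ Subgroup.centralizer {act Q X} := by
    rintro _ ⟨e, rfl⟩
    exact Subgroup.mem_centralizer_singleton_iff.2 (ratAct_commute hcP hf hP₀ S e).eq
  have hinn : ∀ z ∈ Cfsg.Inn (TQ Q) ⊓ Subgroup.centralizer {act Q X}, ∃ g : simSub hP₀,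
      z = act Q (liftS hcP hP₀ S g) := by
    rintro z ⟨hz, hzc⟩
    rw [inn_eq] at hz
    obtain ⟨_, ⟨h, -, rfl⟩, rfl⟩ := hz
    have hh := qIncl_mem_simSub hQ h
    obtain ⟨y, hy⟩ := (commute_act_iff hcP hf hQ S hσ hh).1 (Subgroup.mem_centralizer_singleton_iff.1 hzc)
    obtain ⟨g, hg⟩ := exists_liftS_eq hcP hf hQ hP₀ hfix hP S (mul_mem (scal_mem_simSub hQ y) hh) hy
    exact ⟨g, by rw [hg, map_mul, act_scal, one_mul]⟩
  constructor
  · intro hne
    by_contra hcop
    refine hne (CfsgLib.Balance.core_eq_bot_of_normalized A (Cfsg.Inn (TQ Q)) hA (act Q X) p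
      (by rw [← map_pow, fieldX_pow_eq_one hcP hf S hσ, map_one]) R hRI hRx ?_ ?_ ?_)
    · intro M hM hn hMcop
      refine ratAct_normal_eq_bot hcP hQ hP₀ S ?_ M hM hn hMcop
      rcases eq_or_ne p 2 with rfl | hne2
      · exact two_dvd_card_ratAct hcP hP₀ S hQ (hp2 rfl)
      have hpd : p ∣ Nat.card ↥(Cfsg.Inn (TQ Q) ⊓ Subgroup.centralizer {act Q X}) := by
        rwa [Nat.coprime_comm, (Fact.out : p.Prime).coprime_iff_not_dvd, not_not] at hcop
      obtain ⟨z, hz⟩ := exists_prime_orderOf_dvd_card' p hpd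
      obtain ⟨g, hg⟩ := hinn _ z.2
      have h4 : (z : MulAut (TQ Q)) ^ 4 ∈ R := hg ▸ pow_four_mem hcP hP₀ S g
      have hord : orderOf ((z : MulAut (TQ Q)) ^ 4) = p := by
        rw [Nat.Coprime.orderOf_pow ?_, Subgroup.orderOf_coe, hz]
        rw [Subgroup.orderOf_coe, hz, (Fact.out : p.Prime).coprime_iff_not_dvd]
        exact fun h => hne2 ((Nat.prime_dvd_prime_iff_eq (Fact.out : p.Prime) Nat.prime_two).1
          ((Fact.out : p.Prime).dvd_of_dvd_pow (show p ∣ 2 ^ 2 from h)))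
      rw [← hord]
      exact Subgroup.orderOf_dvd_natCard _ h4
    · rintro z hz _ ⟨e, rfl⟩
      obtain ⟨g, rfl⟩ := hinn z hz
      exact ⟨conjElt g.1 e, ratAct_conjElt hcP hP₀ S g e⟩
    · intro n _ hn
      exact zpowers_of_commute hcP hf hQ hP₀ hfix hP S n hn
  · intro hcop
    obtain ⟨e, he⟩ := exists_ratAct_ne_one hcP hQ hP₀ S
    exact CfsgLib.Balance.core_ne_bot A (Cfsg.Inn (TQ Q)) hA _ p hcop
      ⟨_, ⟨hRI ⟨e, rfl⟩, hRx ⟨e, rfl⟩⟩, he⟩

end CfsgLib.POAut
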