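/-
The balance criterion transported to the carriers.
-/
import Cfsg.Agent.Lib.KnownSimple.POAut.BalanceField
import Cfsg.Agent.Lib.KnownSimple.POAut.Classes

set_option autoImplicit false

namespace CfsgLib.POAut

open CfsgLib.Classical CfsgLib.Classical22

variable {F : Type*} [Field F] [Fintype F] {ι : Type} [Fintype ι] [DecidableEq ι] {Q : QuadraticForm F (ι → F)}
variable {fq : (ι → F) → F}

/-- A conjugate of a standard field automorphism is a field automorphism. -/
theorem fieldAutClass_of_conjE (h : ⇑Q = fq) (hQ : Good Q) {σ : F ≃+* F} (hrat : ∀ v, Q (σ ∘ v) = σ (Q v))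
    (hσ : σ ≠ 1) (A : gammaO Q) {x : MulAut (Cfsg.POmega F fq)}
    (hx : autE h hQ x = act Q (A * semOf (one_pair hrat) * A⁻¹)) : Cfsg.IsFieldAutClassPOmega fq x := by
  subst h
  rw [autE_rfl] at hx
  refine ⟨((autT Q hQ).symm (act Q A))⁻¹, (autT Q hQ).symm (act Q (semOf (one_pair hrat))), σ, hσ,
    (fieldAut_iff hQ hrat _).2 ((autT Q hQ).apply_symm_apply _), (autT Q hQ).injective ?_⟩
  simp [hx, mul_assoc]

/-- The criterion on the carrier. -/
theorem balanceE {K : Type*} [Field K] [Fintype K] {f : K →+* F} {σ : F ≃+* F} {J : Type} [Fintype J] [DecidableEq J]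
    [Nonempty J] {P₀ : QuadraticForm K (J → K)} {P : QuadraticForm F (J → F)} (hcP : Compat f P₀ P)
    (hf : ∀ x, σ (f x) = f x) (hfix : ∀ x : F, σ x = x ↔ x ∈ Set.range f) (hQ : Good Q) (hP₀ : Good P₀) (hP : Good P)
    (h : ⇑Q = fq) (hK : IsSimpleGroup (Cfsg.POmega F fq)) {p : ℕ} [Fact p.Prime] (hσ : orderOf σ = p)
    (hp2 : p = 2 → (2 : F) ≠ 0) (A : Subgroup (MulAut (Cfsg.POmega F fq)))
    (hA : ∀ k : Cfsg.POmega F fq, MulAut.conj k ∈ A) (x : MulAut (Cfsg.POmega F fq)) (S : Sim P Q)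
    (hx : autE h hQ x = act Q (fieldX hcP hf S)) :
    Cfsg.pPrimeCore p ↥(A ⊓ Subgroup.centralizer {x}) ≠ ⊥ ↔
      Nat.Coprime p (Nat.card ↥(MonoidHom.eqLocus x.toMonoidHom (MonoidHom.id (Cfsg.POmega F fq)))) := by
  classical
  set e := autE h hQ
  set A' := A.comap e.symm.toMonoidHom
  have hAA : A'.comap e.toMonoidHom = A := by
    ext y
    simp [A']
  have hinn : Cfsg.Inn (TQ Q) ≤ A' := by
    intro y hy
    obtain ⟨z, rfl⟩ := e.surjective y
    have hz : z ∈ Cfsg.Inn (Cfsg.POmega F fq) := by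
      rw [inn_comapE h hQ]
      exact hy
    obtain ⟨k, rfl⟩ := hz
    simpa [A'] using hA k
  haveI : Finite (Cfsg.POmega F fq) := inferInstance
  have hcent : ∀ k : Cfsg.POmega F fq, (MulAut.conj k : MulAut _) = 1 → k = 1 := by
    intro k hk
    rcases (inferInstance : (Subgroup.center (Cfsg.POmega F fq)).Normal).eq_bot_or_eq_top with hb | hb
    · have : k ∈ Subgroup.center (Cfsg.POmega F fq) := Subgroup.mem_center_iff.2 fun y => by
        have := DFunLike.congr_fun hk y
        simp only [MulAut.conj_apply, MulAut.one_apply] at this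
        exact (mul_inv_eq_iff_eq_mul.1 this).symm
      rwa [hb, Subgroup.mem_bot] at this
    · exfalso
      obtain ⟨u, hu⟩ := exists_ratAct_ne_one hcP hQ hP₀ S
      have h1 : e.symm (ratAct hcP hP₀ S u) ∈ Cfsg.Inn (Cfsg.POmega F fq) := by
        rw [inn_comapE h hQ, Subgroup.mem_comap]
        simpa [e] using ratAct_mem_inn hcP hQ hP₀ S u
      obtain ⟨y, hy⟩ := h1
      have hy1 : (MulAut.conj y : MulAut _) = 1 := MulEquiv.ext fun z => by
        rw [MulAut.conj_apply, MulAut.one_apply,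
          Subgroup.mem_center_iff.1 (hb ▸ Subgroup.mem_top z : z ∈ Subgroup.center _) y, mul_inv_cancel_right]
      rw [hy1] at hy
      exact hu (e.symm.injective (hy.symm.trans (map_one _).symm))
  obtain ⟨ec⟩ := centralizer_comap_equiv e A' x
  rw [hAA, hx] at ec
  obtain ⟨ei⟩ := centralizer_comap_equiv e (Cfsg.Inn (TQ Q)) x
  rw [← inn_comapE h hQ, hx] at ei
  have key := core_fieldX_iff hcP hf hQ hP₀ hfix hP S hσ hp2 A' hinn
  rw [← Nat.card_congr ei.toEquiv, ← CfsgLib.Cores.map_pPrimeCore_equiv ec] at key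
  rw [← CfsgLib.Balance.card_inn_centralizer hcent x, Nat.coprime_comm]
  refine Iff.trans ?_ key
  exact (not_congr (Subgroup.map_eq_bot_iff_of_injective _ ec.injective)).symm

end CfsgLib.POAut
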