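/-
Linear algebra of similitudes with scalar square.
-/
import Cfsg.Agent.Lib.KnownSimple.POAut.Parity
import Cfsg.Agent.Lib.KnownSimple.POAut.Inndiag

set_option autoImplicit false

namespace CfsgLib.POAut

open CfsgLib.Classical CfsgLib.Classical22

variable {F V : Type*} [Field F] [AddCommGroup V] [Module F V] [FiniteDimensional F V] {Q : QuadraticForm F V}

/-- Adjoint maps have equal determinants. -/
theorem det_eq_of_adjoint (hQ : PolarNondeg Q) {A A' : V →ₗ[F] V}
    (h : ∀ x y, QuadraticMap.polar Q (A x) y = QuadraticMap.polar Q x (A' y)) :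
    LinearMap.det A = LinearMap.det A' := by
  classical
  let b := Module.finBasis F V
  have hB : (LinearMap.toMatrix₂ b b (QuadraticMap.polarBilin Q)).det ≠ 0 :=
    (LinearMap.separatingLeft_iff_det_ne_zero b).1 fun x hx => hQ x hx
  have e : (QuadraticMap.polarBilin Q).compl₁₂ A LinearMap.id =
      (QuadraticMap.polarBilin Q).compl₁₂ LinearMap.id A' := LinearMap.ext₂ fun x y => h x y
  have h1 := congrArg (fun B => (LinearMap.toMatrix₂ b b B).det) e
  simp only [LinearMap.toMatrix₂_compl₁₂ b b b b, LinearMap.toMatrix_id, Matrix.transpose_one, one_mul, mul_one,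
    Matrix.det_mul, Matrix.det_transpose, LinearMap.det_toMatrix] at h1
  exact mul_right_cancel₀ hB (h1.trans (mul_comm _ _))

/-- The determinant of a similitude. -/
theorem det_sq_of_similitude (hQ : PolarNondeg Q) {g : V →ₗ[F] V} {μ : F}
    (h : ∀ x y, QuadraticMap.polar Q (g x) (g y) = μ * QuadraticMap.polar Q x y) :
    LinearMap.det g ^ 2 = μ ^ Module.finrank F V := by
  classical
  let b := Module.finBasis F V
  have hB : (LinearMap.toMatrix₂ b b (QuadraticMap.polarBilin Q)).det ≠ 0 :=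
    (LinearMap.separatingLeft_iff_det_ne_zero b).1 fun x hx => hQ x hx
  have e : (QuadraticMap.polarBilin Q).compl₁₂ g g = μ • QuadraticMap.polarBilin Q :=
    LinearMap.ext₂ fun x y => (h x y).trans (by simp)
  have h1 := congrArg (fun B => (LinearMap.toMatrix₂ b b B).det) e
  simp only [LinearMap.toMatrix₂_compl₁₂ b b b b, map_smul, Matrix.det_smul, Fintype.card_fin,
    Matrix.det_mul, Matrix.det_transpose, LinearMap.det_toMatrix] at h1
  refine mul_right_cancel₀ hB ?_
  rw [sq, ← h1]
  ring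

/-- An isometry with square `-1` has determinant one. -/
theorem det_of_sq_neg (hQ : PolarNondeg Q) (h2 : (2 : F) ≠ 0) (h : qAut Q) (hh : ∀ v, h.1 (h.1 v) = -v) :
    LinearMap.det (h.1 : V →ₗ[F] V) = 1 := by
  let A : V →ₗ[F] V := LinearMap.id + (h.1 : V →ₗ[F] V)
  let A' : V →ₗ[F] V := LinearMap.id - (h.1 : V →ₗ[F] V)
  have hskew : ∀ x y, QuadraticMap.polar Q (h.1 x) y = -QuadraticMap.polar Q x (h.1 y) := fun x y => by
    rw [← qAut_polar h x (h.1 y), hh, QuadraticMap.polar_neg_right, neg_neg]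
  have hadj : ∀ x y, QuadraticMap.polar Q (A x) y = QuadraticMap.polar Q x (A' y) := fun x y => by
    simp only [A, A', LinearMap.add_apply, LinearMap.sub_apply, LinearMap.id_apply, LinearEquiv.coe_coe]
    rw [QuadraticMap.polar_add_left, hskew, sub_eq_add_neg (y : V), QuadraticMap.polar_add_right,
      QuadraticMap.polar_neg_right]
  have hmul : (h.1 : V →ₗ[F] V) ∘ₗ A' = A := LinearMap.ext fun v => by
    simp only [A, A', LinearMap.comp_apply, LinearMap.add_apply, LinearMap.sub_apply, LinearMap.id_apply,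
      LinearEquiv.coe_coe, map_sub, hh, sub_neg_eq_add]
    exact add_comm _ _
  have hAA : A ∘ₗ A' = (2 : F) • LinearMap.id := LinearMap.ext fun v => by
    simp only [A, A', LinearMap.comp_apply, LinearMap.add_apply, LinearMap.sub_apply, LinearMap.id_apply,
      LinearEquiv.coe_coe, map_sub, hh, LinearMap.smul_apply]
    module
  have hA : LinearMap.det A ≠ 0 := fun e => by
    have h1 := congrArg LinearMap.det hAA
    rw [LinearMap.det_comp, e, zero_mul, LinearMap.det_smul, LinearMap.det_id, mul_one] at h1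
    exact pow_ne_zero _ h2 h1.symm
  have h1 := congrArg LinearMap.det hmul
  rw [LinearMap.det_comp, ← det_eq_of_adjoint hQ hadj] at h1
  exact (mul_eq_right₀ hA).1 h1

/-- The eigenspaces of an involutory isometry. -/
def eigS (h : qAut Q) (ε : F) : Submodule F V := LinearMap.ker ((h.1 : V →ₗ[F] V) - ε • LinearMap.id)

omit [FiniteDimensional F V] in
theorem mem_eigS {h : qAut Q} {ε : F} {v : V} : v ∈ eigS h ε ↔ h.1 v = ε • v := by
  simp [eigS, sub_eq_zero]

omit [FiniteDimensional F V] in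
theorem eigS_orth (h2 : (2 : F) ≠ 0) {h : qAut Q} {u v : V} (hu : u ∈ eigS h 1) (hv : v ∈ eigS h (-1)) :
    QuadraticMap.polar Q u v = 0 := by
  have := qAut_polar h u v
  rw [mem_eigS.1 hu, mem_eigS.1 hv, one_smul, neg_one_smul, QuadraticMap.polar_neg_right] at this
  exact (mul_eq_zero.1 (by linear_combination -this : (2 : F) * QuadraticMap.polar Q u v = 0)).resolve_left h2

omit [FiniteDimensional F V] in
theorem isCompl_eigS (h2 : (2 : F) ≠ 0) {h : qAut Q} (hh : ∀ v, h.1 (h.1 v) = v) :
    IsCompl (eigS h 1) (eigS h (-1)) := by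
  constructor
  · rw [Submodule.disjoint_def]
    intro v hv hv'
    rw [mem_eigS, one_smul] at hv
    rw [mem_eigS, hv, neg_one_smul] at hv'
    exact (smul_eq_zero.1 (by rw [two_smul]; exact add_eq_zero_iff_eq_neg.2 hv' : (2 : F) • v = 0)).resolve_left h2
  · rw [codisjoint_iff, eq_top_iff]
    intro v _
    refine Submodule.mem_sup.2 ⟨(2 : F)⁻¹ • (v + h.1 v), ?_, (2 : F)⁻¹ • (v - h.1 v), ?_, ?_⟩
    · rw [mem_eigS, map_smul, map_add, hh, one_smul, add_comm]
    · rw [mem_eigS, map_smul, map_sub, hh, neg_one_smul, ← smul_neg, neg_sub]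
    · rw [← smul_add, show v + h.1 v + (v - h.1 v) = (2 : F) • v by module, smul_smul, inv_mul_cancel₀ h2,
        one_smul]

omit [FiniteDimensional F V] in
theorem polarNondeg_eigS (hQ : PolarNondeg Q) (h2 : (2 : F) ≠ 0) {h : qAut Q} (hh : ∀ v, h.1 (h.1 v) = v) {ε : F}
    (hε : ε = 1 ∨ ε = -1) : PolarNondeg (Q.comp (eigS h ε).subtype) := fun v hv => by
  refine Subtype.ext (hQ _ fun y => ?_)
  have htop : y ∈ eigS h 1 ⊔ eigS h (-1) := (isCompl_eigS h2 hh).sup_eq_top ▸ Submodule.mem_top
  obtain ⟨a, ha, b, hb, rfl⟩ := Submodule.mem_sup.1 htop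
  have hv' : ∀ w : eigS h ε, QuadraticMap.polar Q (v : V) w = 0 := fun w => hv w
  rw [QuadraticMap.polar_add_right]
  rcases hε with rfl | rfl
  · rw [hv' ⟨a, ha⟩, eigS_orth h2 v.2 hb, add_zero]
  · rw [hv' ⟨b, hb⟩, QuadraticMap.polar_comm, eigS_orth h2 ha v.2, add_zero]

theorem finrank_eigS (h2 : (2 : F) ≠ 0) {h : qAut Q} (hh : ∀ v, h.1 (h.1 v) = v) :
    Module.finrank F (eigS h 1) + Module.finrank F (eigS h (-1)) = Module.finrank F V :=
  Submodule.finrank_add_eq_of_isCompl (isCompl_eigS h2 hh)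

/-- The determinant of an involution. -/
theorem det_involution (h2 : (2 : F) ≠ 0) {h : qAut Q} (hh : ∀ v, h.1 (h.1 v) = v) :
    LinearMap.det (h.1 : V →ₗ[F] V) = (-1) ^ Module.finrank F (eigS h (-1)) := by
  let e := Submodule.prodEquivOfIsCompl _ _ (isCompl_eigS h2 hh)
  have hc : (h.1 : V →ₗ[F] V) = (e : (eigS h 1 × eigS h (-1)) →ₗ[F] V) ∘ₗ
      LinearMap.prodMap (LinearMap.id : eigS h 1 →ₗ[F] eigS h 1)
        ((-1 : F) • (LinearMap.id : eigS h (-1) →ₗ[F] eigS h (-1))) ∘ₗ
      (e.symm : V →ₗ[F] eigS h 1 × eigS h (-1)) := LinearMap.ext fun v => by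
    obtain ⟨⟨a, b⟩, rfl⟩ := e.surjective v
    simp only [LinearMap.comp_apply, LinearEquiv.coe_coe, LinearEquiv.symm_apply_apply, LinearMap.prodMap_apply,
      LinearMap.id_apply, LinearMap.smul_apply]
    change h.1 ((a : V) + (b : V)) = (a : V) + (((-1 : F) • b : eigS h (-1)) : V)
    rw [map_add, mem_eigS.1 a.2, mem_eigS.1 b.2, one_smul, Submodule.coe_smul]
  rw [hc, LinearMap.det_conj, LinearMap.det_prodMap, LinearMap.det_id, one_mul, LinearMap.det_smul, LinearMap.det_id,
    mul_one]

omit [FiniteDimensional F V] in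
/-- A map commuting with an involution up to sign respects or exchanges its eigenspaces. -/
theorem map_eigS {h : qAut Q} {g : V →ₗ[F] V} {κ : F} (hg : ∀ v, g (h.1 v) = κ • h.1 (g v)) {ε : F} (hκ : κ * κ = 1)
    {v : V} (hv : v ∈ eigS h ε) : g v ∈ eigS h (κ * ε) := by
  rw [mem_eigS]
  have h1 := hg v
  rw [mem_eigS.1 hv, map_smul] at h1
  rw [mul_smul, h1, smul_smul, hκ, one_smul]

/-- A similitude normalising an involution with eigenspaces of odd dimension has square multiplier. -/
theorem isSquare_of_odd_eigS (hQ : PolarNondeg Q) (h2 : (2 : F) ≠ 0) {h : qAut Q} (hh : ∀ v, h.1 (h.1 v) = v)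
    {g : V →ₗ[F] V} {μ κ : F} (hμ : μ ≠ 0)
    (hsim : ∀ x y, QuadraticMap.polar Q (g x) (g y) = μ * QuadraticMap.polar Q x y)
    (hg : ∀ v, g (h.1 v) = κ • h.1 (g v)) (hκ : κ * κ = 1) (hodd : Odd (Module.finrank F (eigS h (-1))))
    (hne : Module.finrank F (eigS h 1) ≠ Module.finrank F (eigS h (-1))) : IsSquare μ := by
  have hinj : Function.Injective g := fun x y e => by
    have hz : ∀ w, QuadraticMap.polar Q (x - y) w = 0 := fun w => by
      have h0 : μ * QuadraticMap.polar Q (x - y) w = 0 := by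
        rw [← hsim, map_sub, e, sub_self, QuadraticMap.polar_zero_left]
      exact (mul_eq_zero.1 h0).resolve_left hμ
    exact sub_eq_zero.1 (hQ _ hz)
  rcases mul_self_eq_one_iff.1 hκ with rfl | rfl
  · let g' : eigS h (-1) →ₗ[F] eigS h (-1) :=
      g.restrict fun v hv => by
        have := map_eigS hg hκ hv
        rwa [one_mul] at this
    have h1 := det_sq_of_similitude (polarNondeg_eigS hQ h2 hh (Or.inr rfl)) (g := g') (μ := μ)
      fun x y => hsim x y
    obtain ⟨k, hk⟩ := hodd
    rw [hk, sq, pow_succ μ] at h1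
    have hμk : μ ^ k ≠ 0 := pow_ne_zero _ hμ
    refine ⟨LinearMap.det g' * (μ ^ k)⁻¹, ?_⟩
    field_simp
    rw [two_mul, pow_add] at h1
    linear_combination -h1
  · exfalso
    refine hne (le_antisymm ?_ ?_)
    · refine LinearMap.finrank_le_finrank_of_injective (f := g.restrict (fun v hv => ?_ : ∀ v ∈ eigS h 1, g v ∈ eigS h (-1))) ?_
      · have := map_eigS hg hκ hv
        rwa [mul_one] at this
      · exact fun x y e => Subtype.ext (hinj (congrArg Subtype.val e))
    · refine LinearMap.finrank_le_finrank_of_injective (f := g.restrict (fun v hv => ?_ : ∀ v ∈ eigS h (-1), g v ∈ eigS h 1)) ?_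
      · have := map_eigS hg hκ hv
        rwa [neg_one_mul, neg_neg] at this
      · exact fun x y e => Subtype.ext (hinj (congrArg Subtype.val e))

end CfsgLib.POAut
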