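/-
The core of the centraliser of an involutory similitude acting as a graph automorphism is trivial.
-/
import Cfsg.Agent.Lib.KnownSimple.POAut.GraphCore
import Cfsg.Agent.Lib.KnownSimple.POAut.BalanceField
import Cfsg.Agent.Lib.KnownSimple.OddNormal
import Mathlib.Algebra.QuadraticAlgebra.Basic

set_option autoImplicit false
set_option maxHeartbeats 800000

namespace CfsgLib.Balance

open Subgroup

variable {X : Type*} [Group X] [Finite X]

/-- A criterion with a set of elements of `I` centralised by `x`: coprime subgroups of the centraliser in `I` normalised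
by them are trivial, and so are coprime elements centralising them. -/
theorem core_eq_bot_of_set (A I : Subgroup X) [I.Normal] (hIA : I ≤ A) (x : X) (p : ℕ) (R : Set X)
    (hRI : ∀ r ∈ R, r ∈ I) (hRx : ∀ r ∈ R, Commute r x)
    (h1 : ∀ M : Subgroup X, M ≤ I ⊓ centralizer {x} → (∀ r ∈ R, ∀ u ∈ M, r * u * r⁻¹ ∈ M) →
      (Nat.card M).Coprime p → M = ⊥)
    (h2 : ∀ n : X, Commute n x → (∀ r ∈ R, Commute n r) → (orderOf n).Coprime p → n = 1) :
    Cfsg.pPrimeCore p ↥(A ⊓ centralizer {x}) = ⊥ := by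
  set C := A ⊓ centralizer {x}
  rw [CfsgLib.Cores.pPrimeCore_eq_bot_iff]
  intro N hN hcop
  let M : Subgroup X := N.map C.subtype
  have hMC : M ≤ C := Subgroup.map_subtype_le _
  have hcard : Nat.card M = Nat.card N :=
    Nat.card_congr (N.equivMapOfInjective C.subtype C.subtype_injective).toEquiv.symm
  have hcopM : (Nat.card M).Coprime p := hcard ▸ hcop
  have hMn : ∀ c ∈ C, ∀ u ∈ M, c * u * c⁻¹ ∈ M := by
    rintro c hc _ ⟨u, hu, rfl⟩
    exact ⟨⟨c, hc⟩ * u * ⟨c, hc⟩⁻¹, hN.conj_mem u hu _, rfl⟩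
  have hRC : ∀ r ∈ R, r ∈ C := fun r hr =>
    ⟨hIA (hRI r hr), Subgroup.mem_centralizer_singleton_iff.2 (hRx r hr).eq⟩
  have hMI : M ⊓ I = ⊥ := h1 _ (fun u hu => ⟨hu.2, (hMC hu.1).2⟩)
    (fun r hr u hu => ⟨hMn r (hRC r hr) u hu.1, ‹I.Normal›.conj_mem u hu.2 r⟩)
    (hcopM.coprime_dvd_left (Subgroup.card_dvd_of_le inf_le_left))
  rw [eq_bot_iff]
  intro u hu
  have hu' : (u : X) ∈ M := ⟨u, hu, rfl⟩
  refine Subgroup.mem_bot.2 (Subtype.ext (h2 _ (Subgroup.mem_centralizer_singleton_iff.1 (hMC hu').2) (fun r hr => ?_)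
    (hcopM.coprime_dvd_left (Subgroup.orderOf_dvd_natCard M hu'))))
  have h3 : (u : X) * r * (u : X)⁻¹ * r⁻¹ ∈ M ⊓ I := by
    refine ⟨?_, I.mul_mem (‹I.Normal›.conj_mem r (hRI r hr) _) (I.inv_mem (hRI r hr))⟩
    rw [mul_assoc (u : X), mul_assoc (u : X)]
    exact M.mul_mem hu' (hMn r (hRC r hr) _ (M.inv_mem hu'))
  rw [hMI, Subgroup.mem_bot] at h3
  exact mul_inv_eq_iff_eq_mul.1 (mul_inv_eq_one.1 h3)

end CfsgLib.Balance

namespace CfsgLib.POAut

open CfsgLib.Classical CfsgLib.Classical22

section Semilinear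

variable {E V : Type*} [Field E] [Fintype E] [AddCommGroup V] [Module E V] [FiniteDimensional E V]
  {Q : QuadraticForm E V}

/-- A semilinear map commuting with all Eichler transformations is a scalar. -/
theorem scalar_of_commute_eich (h2 : (2 : E) ≠ 0) (hQ : PolarNondeg Q) (hn : 3 ≤ Module.finrank E V)
    (L : V →+ V) (hinj : Function.Injective L) (τ : E →+* E) (hL : ∀ (s : E) x, L (s • x) = τ s • L x)
    (hcomm : ∀ u w, Q u = 0 → QuadraticMap.polar Q u w = 0 → ∀ x,
      L ((eich Q u w).1 x) = (eich Q u w).1 (L x))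
    (hτ : (∀ s, τ s = s) ∨ 4 ≤ Module.finrank E V) :
    ∃ c : E, ∀ x, L x = c • x := by
  have line : ∀ {a z : V}, HypPair Q a z → ∃ c : E, L a = c • a ∧ c ≠ 0 := by
    intro a z hp
    have hrel : ∀ w : pM Q a z, QuadraticMap.polar Q (L a) a • (w : V) -
        (QuadraticMap.polar Q (L a) w + Q (w : V) * QuadraticMap.polar Q (L a) a) • a = 0 := by
      intro w
      have h1 := hcomm a w hp.qa (HypPair.am w) a
      rw [eich_fix Q hp.qa (HypPair.am w), eich_apply Q hp.qa (HypPair.am w)] at h1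
      linear_combination (norm := module) (-1 : E) • h1
    have hfin := hp.finrank_pM
    obtain ⟨w₀, hw₀⟩ : ∃ w : pM Q a z, w ≠ 0 := by
      haveI : Nontrivial (pM Q a z) := (Module.finrank_pos_iff (R := E)).1 (by omega)
      exact exists_ne 0
    have hzero : QuadraticMap.polar Q (L a) a = 0 := by
      have h0 := hrel w₀
      have h3 : -(QuadraticMap.polar Q (L a) w₀ + Q (w₀ : V) * QuadraticMap.polar Q (L a) a) • a + (0 : E) • z +
          ((QuadraticMap.polar Q (L a) a • w₀ : pM Q a z) : V) = (0 : E) • a + (0 : E) • z + ((0 : pM Q a z) : V) := by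
        rw [Submodule.coe_smul, Submodule.coe_zero]
        linear_combination (norm := module) h0
      exact (smul_eq_zero.1 (hp.coord_inj h3).2.2).resolve_right hw₀
    have hperp : ∀ w : pM Q a z, QuadraticMap.polar Q (L a) (w : V) = 0 := fun w => by
      have h0 := hrel w
      rw [hzero, zero_smul, mul_zero, add_zero, zero_sub, neg_eq_zero] at h0
      exact (smul_eq_zero.1 h0).resolve_right hp.a_ne
    refine ⟨QuadraticMap.polar Q (L a) z, sub_eq_zero.1 (hQ _ fun y => ?_), fun e => ?_⟩
    · obtain ⟨s, t, m, rfl⟩ := hp.exists_coord y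
      simp [sub_eq_add_neg, ← neg_smul, QuadraticMap.polar_add_right, QuadraticMap.polar_add_left,
        QuadraticMap.polar_smul_left, QuadraticMap.polar_smul_right, hzero, hperp, hp.aa, hp.az, HypPair.am]
    · refine hp.a_ne (hinj ((map_zero L).symm ▸ (hQ _ fun y => ?_ : L a = 0)))
      obtain ⟨s, t, m, rfl⟩ := hp.exists_coord y
      simp [QuadraticMap.polar_add_right, QuadraticMap.polar_smul_right, hzero, hperp, e]
  obtain ⟨a, ha0, ha⟩ := exists_singular Q hQ hn
  obtain ⟨z, hp⟩ := exists_hypPair_left Q hQ ha0 ha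
  have hpz : HypPair Q z a := ⟨hp.qz, hp.qa, hp.za⟩
  obtain ⟨ca, hca, hca0⟩ := line hp
  obtain ⟨cz, hcz, hcz0⟩ := line hpz
  -- the two partners on the orthogonal
  have half : ∀ {a z : V} {ca cz : E}, HypPair Q a z → L a = ca • a → L z = cz • z → ∀ w : pM Q a z,
      L (w : V) = cz • (w : V) ∧ τ (Q (w : V)) * ca = Q (w : V) * cz := by
    intro a z ca cz hp hca hcz w
    have key : ∀ w : pM Q a z, L (w : V) - τ (Q (w : V)) • ca • a = cz • (w : V) - (cz * Q (w : V)) • a := by
      intro w
      have h1 := hcomm a w hp.qa (HypPair.am w) z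
      rw [hcz, map_smul, hp.eich_az, map_sub, map_add, hL, hca, hcz] at h1
      linear_combination (norm := module) h1
    have h1 := key w
    have h3 := key (-w)
    rw [Submodule.coe_neg, map_neg, QuadraticMap.map_neg] at h3
    have hw : L (w : V) = cz • (w : V) := smul_right_injective V h2 (by
      change (2 : E) • L (w : V) = (2 : E) • cz • (w : V)
      linear_combination (norm := module) h1 - h3)
    refine ⟨hw, smul_left_injective E hp.a_ne ?_⟩
    change (τ (Q (w : V)) * ca) • a = (Q (w : V) * cz) • a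
    rw [hw] at h1
    linear_combination (norm := module) (-1 : E) • h1
  have hM : ∀ w : pM Q a z, (w : V) ∈ pM Q z a := fun w => (mem_pM Q).2 (((mem_pM Q).1 w.2).symm)
  have hfin := hp.finrank_pM
  have heq : ca = cz := by
    obtain ⟨w₀, hw₀⟩ : ∃ w : pM Q a z, w ≠ 0 := by
      haveI : Nontrivial (pM Q a z) := (Module.finrank_pos_iff (R := E)).1 (by omega)
      exact exists_ne 0
    exact smul_left_injective E (fun e => hw₀ (Subtype.ext e) : (w₀ : V) ≠ 0)
      ((half hpz hcz hca ⟨(w₀ : V), hM w₀⟩).1.symm.trans (half hp hca hcz w₀).1)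
  subst heq
  have hτ' : ∀ s, τ s = s := by
    rcases hτ with h | h
    · exact h
    intro s
    rcases eq_or_ne s 0 with rfl | hs
    · exact map_zero τ
    obtain ⟨w, hw⟩ := exists_value (qM Q a z) (hp.polarNondeg_qM hQ) (by omega) hs
    rw [qM_apply] at hw
    have h1 := (half hp hca hcz w).2
    rw [hw] at h1
    exact mul_right_cancel₀ hca0 h1
  refine ⟨ca, fun x => ?_⟩
  obtain ⟨s, t, m, rfl⟩ := hp.exists_coord x
  rw [map_add, map_add, hL, hL, hτ', hτ', hca, hcz, (half hp hca hcz m).1]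
  module

end Semilinear

section Common

variable {F : Type*} [Field F] [Fintype F] {ι : Type} [Fintype ι] [DecidableEq ι] {Q : QuadraticForm F (ι → F)}

/-- An element of odd order modulo scalars anticommuting with a linear map commutes with it. -/
theorem commute_of_odd (hQ : Pre Q) {S T : gammaO Q} (hT : T ∈ simSub hQ) {N : ℕ} (hN : Odd N)
    (hSN : ∃ e, S ^ N = scal Q e) {κ : Fˣ} (hκ : κ * κ = 1) (hST : S * T = scal Q κ * (T * S)) : Commute S T := by
  haveI : Nonempty ι := by
    by_contra hne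
    haveI := not_nonempty_iff.1 hne
    have := hQ.seven
    simp [Module.finrank_pi] at this
  have hfix : ∀ σ : F →* F, Units.map σ κ = κ ∨ σ (-1) ≠ -1 := fun σ => by
    rcases eq_or_ne (σ (-1)) (-1) with h | h
    · left
      rcases mul_self_eq_one_iff.1 (show (κ : F) * κ = 1 by rw [← Units.val_mul, hκ, Units.val_one]) with e | e <;>
        ext <;> rw [Units.coe_map, e]
      · exact map_one σ
      · exact h
    · exact Or.inr h
  have hS : S * scal Q κ = scal Q κ * S := by
    rw [mul_scal]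
    congr 2
    exact (hfix _).resolve_right (fun h => h (by simp))
  have hpow : ∀ j : ℕ, S ^ j * T = scal Q (κ ^ j) * (T * S ^ j) := fun j => by
    induction j with
    | zero => simp
    | succ j ih =>
      have hSk : ∀ j : ℕ, S * scal Q (κ ^ j) = scal Q (κ ^ j) * S := fun j => by
        rw [map_pow]
        exact (Commute.pow_right hS j).eq
      rw [pow_succ', mul_assoc S, ih, ← mul_assoc S, hSk, mul_assoc, ← mul_assoc S T, hST, pow_succ κ, map_mul]
      simp only [mul_assoc]
  obtain ⟨e, he⟩ := hSN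
  have h1 := hpow N
  rw [he, commute_scal_of_sim hQ hT e] at h1
  have h2 : scal Q (κ ^ N) = 1 := mul_right_cancel ((one_mul _).trans h1).symm
  obtain ⟨k, rfl⟩ := hN
  have h3 : κ ^ (2 * k + 1) = 1 := scal_injective (Q := Q) (h2.trans (map_one _).symm)
  rw [pow_succ, pow_mul, sq, hκ, one_pow, one_mul] at h3
  rw [h3, map_one, one_mul] at hST
  exact hST

/-- The core criterion for an involutory similitude. -/
theorem core_eq_bot_of_similitude (hQ : Good Q) (T : gammaO Q) (hT : T ∈ simSub hQ.toPre) {c : Fˣ}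
    (hT2 : T * T = scal Q c) (A : Subgroup (MulAut (TQ Q))) (hA : Cfsg.Inn (TQ Q) ≤ A)
    (G : Set (qAut Q)) (hG : ∀ g ∈ G, g ∈ eichGroup Q) (hGT : ∀ g ∈ G, Commute (qIncl Q g) T)
    (h1 : ∀ (Mt : Subgroup (qAut Q)) (N : ℕ), Odd N → (∀ g ∈ Mt, Commute (qIncl Q g) T) →
      (∀ e ∈ G, ∀ g ∈ Mt, e * g * e⁻¹ ∈ Mt) → (∀ g ∈ Mt, ∃ s : F, ∀ x, (g ^ N).1 x = s • x) →
      ∀ g ∈ Mt, act Q (qIncl Q g) = 1 ∨ act Q (qIncl Q g) = act Q T)
    (h2 : ∀ (S : gammaO Q) (N : ℕ), Odd N → (∃ e, S ^ N = scal Q e) →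
      (∃ κ : Fˣ, S * T = scal Q κ * (T * S)) →
      (∀ g ∈ G, ∃ d : Fˣ, S * qIncl Q g = scal Q d * (qIncl Q g * S)) → act Q S = 1 ∨ act Q S = act Q T) :
    Cfsg.pPrimeCore 2 ↥(A ⊓ Subgroup.centralizer {act Q T}) = ⊥ := by
  haveI : Finite (MulAut (TQ Q)) := Finite.of_surjective _ (act_surjective hQ)
  have hx2 : ∀ n : MulAut (TQ Q), n = 1 ∨ n = act Q T → Odd (orderOf n) → n = 1 := by
    rintro n (h | h) ho
    · exact h
    refine orderOf_eq_one_iff.1 (Nat.eq_one_of_dvd_coprimes (Nat.coprime_two_right.2 ho) dvd_rfl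
      (orderOf_dvd_of_pow_eq_one ?_))
    rw [h, sq, ← map_mul, hT2, act_scal]
  refine CfsgLib.Balance.core_eq_bot_of_set A (Cfsg.Inn (TQ Q)) hA (act Q T) 2
    ((fun g => act Q (qIncl Q g)) '' G) ?_ ?_ ?_ ?_
  · rintro _ ⟨g, hg, rfl⟩
    rw [inn_eq]
    exact ⟨_, ⟨g, hG g hg, rfl⟩, rfl⟩
  · rintro _ ⟨g, hg, rfl⟩
    exact (hGT g hg).map (act Q)
  · intro M hM hnorm hcop
    rw [eq_bot_iff]
    intro u hu
    set Mt : Subgroup (qAut Q) := (M.comap ((act Q).comp (qIncl Q))) ⊓
      (Subgroup.centralizer {T}).comap (qIncl Q) with hMt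
    have hlift : ∀ u ∈ M, ∃ g ∈ Mt, act Q (qIncl Q g) = u := by
      intro u hu
      obtain ⟨hI, hC⟩ := hM hu
      rw [inn_eq] at hI
      obtain ⟨_, ⟨g, -, rfl⟩, rfl⟩ := hI
      obtain ⟨κ, hκ⟩ := (act_eq_iff hQ).1 (show act Q (qIncl Q g * T) = act Q (T * qIncl Q g) by
        rw [map_mul, map_mul]
        exact Subgroup.mem_centralizer_singleton_iff.1 hC)
      refine ⟨g, ⟨hu, Subgroup.mem_centralizer_singleton_iff.2 ?_⟩, rfl⟩
      have hκ2 : κ * κ = 1 := by
        obtain ⟨v₀, hv₀⟩ := exists_value Q hQ.nondeg (by have := hQ.seven; omega) one_ne_zero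
        have h3 := congrArg (fun S : gammaO Q => Q (addT S v₀)) hκ
        simp only [gammaO_mul_apply, scal_apply, qIncl_apply, quad_smul, qAut_map, (semisim_spec T).quad,
          linear_of_simSub hQ.toPre hT, hv₀, mul_one] at h3
        exact Units.ext (mul_right_cancel₀ (semisim_spec T).ne (h3.symm.trans (one_mul _).symm))
      refine (commute_of_odd hQ.toPre hT (Nat.coprime_two_right.1 hcop) ?_ hκ2 hκ).eq
      exact exists_scal_of_act hQ (by
        rw [map_pow]
        exact orderOf_dvd_iff_pow_eq_one.1 (Subgroup.orderOf_dvd_natCard M hu))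
    obtain ⟨g, hg, rfl⟩ := hlift u hu
    refine Subgroup.mem_bot.2 (hx2 _ (h1 Mt (Nat.card M) (Nat.coprime_two_right.1 hcop)
      (fun g hg => Subgroup.mem_centralizer_singleton_iff.1 hg.2) ?_ ?_ g hg) ?_)
    · rintro e he g ⟨hgM, hgT⟩
      refine ⟨?_, ?_⟩
      · change act Q (qIncl Q (e * g * e⁻¹)) ∈ M
        rw [map_mul, map_mul, map_inv, map_mul, map_mul, map_inv]
        exact hnorm _ ⟨e, he, rfl⟩ _ hgM
      · change qIncl Q (e * g * e⁻¹) ∈ Subgroup.centralizer {T}
        rw [map_mul, map_mul, map_inv]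
        exact mul_mem (mul_mem (Subgroup.mem_centralizer_singleton_iff.2 (hGT e he).eq) hgT)
          (inv_mem (Subgroup.mem_centralizer_singleton_iff.2 (hGT e he).eq))
    · rintro g ⟨hgM, -⟩
      obtain ⟨s, hs⟩ := exists_scal_of_act hQ (T := qIncl Q (g ^ Nat.card M)) (by
        rw [map_pow, map_pow]
        exact orderOf_dvd_iff_pow_eq_one.1 (Subgroup.orderOf_dvd_natCard M hgM))
      exact ⟨s, fun x => by rw [← qIncl_apply, hs, scal_apply]⟩
    · exact (Nat.coprime_two_right.1 hcop).of_dvd_nat (Subgroup.orderOf_dvd_natCard M hu)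
  · intro n hn hnR hcop
    obtain ⟨S, rfl⟩ := act_surjective hQ n
    have ho : Odd (orderOf (act Q S)) := Nat.coprime_two_right.1 hcop
    refine hx2 _ (h2 S _ ho (exists_scal_of_act hQ (by rw [map_pow, pow_orderOf_eq_one])) ?_ fun g hg => ?_) ho
    · exact (act_eq_iff hQ).1 (by rw [map_mul, map_mul]; exact hn.eq)
    · exact (act_eq_iff hQ).1 (by rw [map_mul, map_mul]; exact (hnR _ ⟨g, hg, rfl⟩).eq)

end Common

section Split

variable {F : Type*} [Field F] [Fintype F] {ι : Type} [Fintype ι] [DecidableEq ι] {Q : QuadraticForm F (ι → F)}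

/-- Restriction of the centraliser of an involution to an eigenspace. -/
noncomputable def restrEig (h : qAut Q) (ε : F) :
    Subgroup.centralizer ({h} : Set (qAut Q)) →* qAut (Q.comp (eigS h ε).subtype) where
  toFun g :=
    ⟨LinearEquiv.ofInjectiveEndo ((g.1.1 : (ι → F) →ₗ[F] (ι → F)).restrict (fun v hv => by
        have hc := congrArg (fun k : qAut Q => k.1 v) (Subgroup.mem_centralizer_singleton_iff.1 g.2)
        simp only [qAut_mul_apply, mem_eigS.1 hv, map_smul] at hc
        exact mem_eigS.2 hc.symm : ∀ v ∈ eigS h ε, (g.1.1 : (ι → F) →ₗ[F] (ι → F)) v ∈ eigS h ε))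
      (fun v w e => Subtype.ext (g.1.1.injective (congrArg Subtype.val e))),
     fun v => qAut_map g.1 _⟩
  map_one' := qAut_ext fun v => Subtype.ext rfl
  map_mul' g k := qAut_ext fun v => Subtype.ext rfl

omit [Fintype F] [Fintype ι] [DecidableEq ι] in
theorem polar_comp_subtype {U : Submodule F (ι → F)} (u w : U) :
    QuadraticMap.polar (Q.comp U.subtype) u w = QuadraticMap.polar Q (u : ι → F) w := rfl

/-- An Eichler transformation of an eigenspace commutes with the involution. -/
theorem eich_commute_eig {h : qAut Q} {ε : F} (hε : ε * ε = 1) {u w : ι → F} (hu : u ∈ eigS h ε)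
    (hw : w ∈ eigS h ε) (hQu : Q u = 0) (huw : QuadraticMap.polar Q u w = 0) :
    eich Q u w ∈ Subgroup.centralizer ({h} : Set (qAut Q)) := by
  refine Subgroup.mem_centralizer_singleton_iff.2 (qAut_ext fun x => ?_)
  have hp : ∀ v, v ∈ eigS h ε → QuadraticMap.polar Q (h.1 x) v = ε * QuadraticMap.polar Q x v := fun v hv => by
    conv_lhs => rw [show v = ε • h.1 v by rw [mem_eigS.1 hv, smul_smul, hε, one_smul]]
    rw [QuadraticMap.polar_smul_right, qAut_polar, smul_eq_mul]
  rw [qAut_mul_apply, qAut_mul_apply, eich_apply Q hQu huw, eich_apply Q hQu huw, map_sub, map_add, map_smul, map_smul,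
    hp u hu, hp w hw, mem_eigS.1 hu, mem_eigS.1 hw]
  module

/-- An involution with eigenspaces of odd dimension has trivial core in its centraliser. -/
theorem core_involution_eq_bot (hQ : Good Q) (h2 : (2 : F) ≠ 0) (h : qAut Q) (hh : ∀ v, h.1 (h.1 v) = v)
    (ho₁ : Odd (Module.finrank F (eigS h 1))) (ho₂ : Odd (Module.finrank F (eigS h (-1))))
    (A : Subgroup (MulAut (TQ Q))) (hA : Cfsg.Inn (TQ Q) ≤ A) :
    Cfsg.pPrimeCore 2 ↥(A ⊓ Subgroup.centralizer {act Q (qIncl Q h)}) = ⊥ := by
  classical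
  have hn := hQ.seven
  have hsum := finrank_eigS h2 hh
  have hc : qIncl Q h * qIncl Q h = scal Q 1 := by
    rw [← map_mul, show h * h = 1 from qAut_ext hh, map_one, map_one]
  let G : Set (qAut Q) := {g | ∃ (ε : F) (u w : ι → F), (ε = 1 ∨ ε = -1) ∧ u ∈ eigS h ε ∧ w ∈ eigS h ε ∧
    Q u = 0 ∧ QuadraticMap.polar Q u w = 0 ∧ g = eich Q u w}
  have hsq : ∀ {ε : F}, (ε = 1 ∨ ε = -1) → ε * ε = 1 := by rintro ε (rfl | rfl) <;> ring
  have hnd : ∀ {ε : F}, (ε = 1 ∨ ε = -1) → PolarNondeg (Q.comp (eigS h ε).subtype) :=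
    fun hε => polarNondeg_eigS hQ.nondeg h2 hh hε
  have hpos : ∀ {ε : F}, (ε = 1 ∨ ε = -1) → Odd (Module.finrank F (eigS h ε)) := by
    rintro ε (rfl | rfl) <;> assumption
  have haniso : ∀ {ε : F}, (ε = 1 ∨ ε = -1) → ∃ v ∈ eigS h ε, Q v ≠ 0 := by
    intro ε hε
    refine exists_aniso_in Q (fun x hx H => congrArg Subtype.val (hnd hε ⟨x, hx⟩ fun y => H y y.2)) ?_
    intro e
    have := hpos hε
    rw [e, finrank_bot] at this
    exact Nat.not_odd_zero this
  have hother : ∀ {ε : F}, (ε = 1 ∨ ε = -1) → ∀ {u w : ι → F}, u ∈ eigS h ε → w ∈ eigS h ε → Q u = 0 →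
      QuadraticMap.polar Q u w = 0 → ∀ y ∈ eigS h (-ε), (eich Q u w).1 y = y := by
    intro ε hε u w hu hw hQu huw y hy
    have hp : ∀ v ∈ eigS h ε, QuadraticMap.polar Q y v = 0 := by
      rcases hε with rfl | rfl
      · intro v hv; rw [QuadraticMap.polar_comm]; exact eigS_orth h2 hv hy
      · intro v hv; rw [neg_neg] at hy; exact eigS_orth h2 hy hv
    rw [eich_apply Q hQu huw, hp u hu, hp w hw]
    simp
  refine core_eq_bot_of_similitude hQ (qIncl Q h) (qIncl_mem_simSub hQ.toPre h) hc A hA G ?_ ?_ ?_ ?_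
  · rintro _ ⟨ε, u, w, -, -, -, hQu, huw, rfl⟩
    exact eich_mem Q hQu huw
  · rintro _ ⟨ε, u, w, hε, hu, hw, hQu, huw, rfl⟩
    exact (Commute.map (Subgroup.mem_centralizer_singleton_iff.1 (eich_commute_eig (hsq hε) hu hw hQu huw))
      (qIncl Q))
  · intro Mt N hN hMtc hMtn hMtN g hg
    have hgc : ∀ g ∈ Mt, g ∈ Subgroup.centralizer ({h} : Set (qAut Q)) := fun g hg =>
      Subgroup.mem_centralizer_singleton_iff.2 (qAut_ext fun x => by
        have := congrArg (fun S : gammaO Q => addT S x) (hMtc g hg).eq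
        simpa [gammaO_mul_apply, qIncl_apply] using this)
    have key : ∀ {ε : F}, (ε = 1 ∨ ε = -1) → ∃ c : F, c * c = 1 ∧ ∀ v ∈ eigS h ε, g.1 v = c • v := by
      intro ε hε
      obtain ⟨c, hc⟩ : ∃ c : F, ∀ v ∈ eigS h ε, g.1 v = c • v := by
        by_cases h1 : Module.finrank F (eigS h ε) = 1
        · obtain ⟨v, -, hv⟩ := finrank_eq_one_iff'.1 h1
          obtain ⟨c, hc⟩ := hv (restrEig h ε ⟨g, hgc g hg⟩ |>.1 v)
          refine ⟨c, fun x hx => ?_⟩
          obtain ⟨t, ht⟩ := hv ⟨x, hx⟩
          have e1 : g.1 (v : ι → F) = c • (v : ι → F) := (congrArg Subtype.val hc).symm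
          have e2 : t • (v : ι → F) = x := congrArg Subtype.val ht
          rw [← e2, map_smul, e1, smul_comm]
        · have h3 : 3 ≤ Module.finrank F (eigS h ε) := by
            obtain ⟨k, hk⟩ := hpos hε
            omega
          obtain ⟨c, hc⟩ := CfsgLib.OddNormal.exists_scalar
            ((Mt.subgroupOf _).map (restrEig h ε)) (fun u w hu huw m hm => by
              obtain ⟨⟨g', hg'c⟩, hg', rfl⟩ := hm
              have he := eich_commute_eig (hsq hε) u.2 w.2 hu huw
              have e' : eich (Q.comp (eigS h ε).subtype) u w = restrEig h ε ⟨_, he⟩ := qAut_ext fun x => Subtype.ext (by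
                rw [eich_apply (Q.comp (eigS h ε).subtype) hu huw]
                change _ = (eich Q (u : ι → F) w).1 x
                rw [eich_apply Q (u := (u : ι → F)) (w := (w : ι → F)) hu huw]
                rfl)
              refine ⟨⟨_, he⟩ * ⟨g', hg'c⟩ * ⟨_, he⟩⁻¹, ?_, by rw [map_mul, map_mul, map_inv, e']⟩
              exact hMtn _ ⟨ε, u, w, hε, u.2, w.2, hu, huw, rfl⟩ g' hg')
            h2 (hnd hε) h3 hN (fun m hm => by
              obtain ⟨g', hg', rfl⟩ := hm
              obtain ⟨s, hs⟩ := hMtN g'.1 hg'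
              refine ⟨s, fun x => ?_⟩
              rw [← map_pow]
              refine Subtype.ext ?_
              change ((g'.1 ^ N).1 (x : ι → F)) = _
              rw [hs]
              rfl)
            (m := restrEig h ε ⟨g, hgc g hg⟩) ⟨⟨g, hgc g hg⟩, hg, rfl⟩
          exact ⟨c, fun v hv => congrArg Subtype.val (hc ⟨v, hv⟩)⟩
      obtain ⟨v, hv, hv0⟩ := haniso hε
      refine ⟨c, ?_, hc⟩
      have h3 := qAut_map g v
      rw [hc v hv, quad_smul] at h3
      exact mul_right_cancel₀ hv0 (h3.trans (one_mul _).symm)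
    obtain ⟨a, ha, hga⟩ := key (Or.inl (rfl : (1 : F) = 1))
    obtain ⟨b, hb, hgb⟩ := key (Or.inr (rfl : (-1 : F) = -1))
    have ha0 : a ≠ 0 := fun e => by simp [e] at ha
    have hdec : ∀ x, ∃ u ∈ eigS h 1, ∃ w ∈ eigS h (-1), u + w = x := fun x =>
      Submodule.mem_sup.1 ((isCompl_eigS h2 hh).sup_eq_top ▸ Submodule.mem_top)
    rcases mul_self_eq_mul_self_iff.1 (ha.trans hb.symm) with hab | hab
    · left
      rw [show qIncl Q g = scal Q (Units.mk0 a ha0) from gammaO_ext fun x => ?_, act_scal]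
      obtain ⟨u, hu, w, hw, rfl⟩ := hdec x
      rw [qIncl_apply, scal_apply, map_add, hga u hu, hgb w hw, Units.val_mk0, ← hab, smul_add]
    · right
      rw [show qIncl Q g = scal Q (Units.mk0 a ha0) * qIncl Q h from gammaO_ext fun x => ?_, map_mul, act_scal,
        one_mul]
      obtain ⟨u, hu, w, hw, rfl⟩ := hdec x
      rw [gammaO_mul_apply, qIncl_apply, qIncl_apply, scal_apply, map_add, map_add, hga u hu, hgb w hw,
        mem_eigS.1 hu, mem_eigS.1 hw, Units.val_mk0, one_smul, hab]
      module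
  · intro S N hN hSN hST hSG
    obtain ⟨κ, hκ⟩ := hST
    have hκ2 : κ * κ = 1 := by
      have hT : qIncl Q h ∈ simSub hQ.toPre := qIncl_mem_simSub hQ.toPre h
      have hc1 : qIncl Q h * qIncl Q h = 1 := hc.trans (map_one _)
      have h3 : S * (qIncl Q h * qIncl Q h) = scal Q (κ * κ) * (qIncl Q h * qIncl Q h * S) := by
        rw [← mul_assoc, hκ, mul_assoc (scal Q κ), mul_assoc (qIncl Q h) S, hκ, ← mul_assoc (qIncl Q h) (scal Q κ),
          commute_scal_of_sim hQ.toPre hT, map_mul]
        simp only [mul_assoc]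
      rw [hc1, mul_one, one_mul] at h3
      haveI : Nonempty ι := by
        by_contra hne
        haveI := not_nonempty_iff.1 hne
        simp [Module.finrank_pi] at hn
      exact scal_injective (Q := Q) ((mul_right_cancel ((one_mul S).trans h3)).symm.trans (map_one _).symm)
    have hcomm := commute_of_odd hQ.toPre (qIncl_mem_simSub hQ.toPre h) hN hSN hκ2 hκ
    have hfix : ∀ {ε : F}, (ε = 1 ∨ ε = -1) → sigFun S ε = ε := by
      rintro ε (rfl | rfl) <;> simp
    have hpres : ∀ {ε : F}, (ε = 1 ∨ ε = -1) → ∀ v ∈ eigS h ε, addT S v ∈ eigS h ε := fun hε v hv => by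
      have h3 := congrArg (fun R : gammaO Q => addT R v) hcomm.eq
      simp only [gammaO_mul_apply, qIncl_apply, mem_eigS.1 hv, (semisim_spec S).smul, hfix hε] at h3
      exact mem_eigS.2 h3.symm
    have hexact : ∀ {ε : F}, (ε = 1 ∨ ε = -1) → ∀ {u w : ι → F}, u ∈ eigS h ε → w ∈ eigS h ε → Q u = 0 →
        QuadraticMap.polar Q u w = 0 → ∀ x, addT S ((eich Q u w).1 x) = (eich Q u w).1 (addT S x) := by
      intro ε hε u w hu hw hQu huw x
      obtain ⟨d, hd⟩ := hSG _ ⟨ε, u, w, hε, hu, hw, hQu, huw, rfl⟩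
      have hd' : ∀ x, addT S ((eich Q u w).1 x) = (d : F) • (eich Q u w).1 (addT S x) := fun x => by
        have := congrArg (fun R : gammaO Q => addT R x) hd
        simpa [gammaO_mul_apply, qIncl_apply, scal_apply] using this
      have hε' : -ε = 1 ∨ -ε = -1 := by rcases hε with rfl | rfl <;> simp
      obtain ⟨y, hy, hy0⟩ := haniso hε'
      have h3 := hd' y
      rw [hother hε hu hw hQu huw y hy, hother hε hu hw hQu huw _ (hpres hε' y hy)] at h3
      have hne : addT S y ≠ 0 := fun e => hy0 (by rw [(addT S).map_eq_zero_iff.1 e, map_zero])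
      have hd1 : (d : F) = 1 := smul_left_injective F hne
        (show (d : F) • addT S y = (1 : F) • addT S y by rw [one_smul, ← h3])
      rw [hd', hd1, one_smul]
    have key : ∀ {ε : F}, (ε = 1 ∨ ε = -1) →
        (4 ≤ Module.finrank F (eigS h ε) ∨ ∀ s, sigFun S s = s) →
        ∃ c : F, c ≠ 0 ∧ (∀ v ∈ eigS h ε, addT S v = c • v) ∧ ∀ s, sigFun S s = s := by
      intro ε hε hcase
      obtain ⟨c, hc⟩ : ∃ c : F, ∀ v ∈ eigS h ε, addT S v = c • v := by
        by_cases h1 : Module.finrank F (eigS h ε) = 1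
        · obtain ⟨v, -, hv⟩ := finrank_eq_one_iff'.1 h1
          obtain ⟨c, hc⟩ := hv ⟨_, hpres hε v v.2⟩
          refine ⟨c, fun x hx => ?_⟩
          obtain ⟨t, ht⟩ := hv ⟨x, hx⟩
          have e1 : addT S (v : ι → F) = c • (v : ι → F) := (congrArg Subtype.val hc).symm
          have e2 : t • (v : ι → F) = x := congrArg Subtype.val ht
          rw [← e2, (semisim_spec S).smul, hcase.resolve_left (by omega) t, e1, smul_comm]
        · have h3 : 3 ≤ Module.finrank F (eigS h ε) := by
            obtain ⟨k, hk⟩ := hpos hε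
            omega
          let L : eigS h ε →+ eigS h ε := AddMonoidHom.mk' (fun v => ⟨addT S v, hpres hε v v.2⟩)
            fun v w => Subtype.ext (map_add (addT S) (v : ι → F) w)
          obtain ⟨c, hc⟩ := scalar_of_commute_eich h2 (hnd hε) h3 L
            (fun v w e => Subtype.ext ((addT S).injective (congrArg Subtype.val e))) (sigFun S).toRingHom
            (fun s v => Subtype.ext ((semisim_spec S).smul s (v : ι → F)))
            (fun u w hu huw x => Subtype.ext (by
              rw [eich_apply (Q.comp (eigS h ε).subtype) hu huw, eich_apply (Q.comp (eigS h ε).subtype) hu huw]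
              have := hexact hε u.2 w.2 hu huw x
              rw [eich_apply Q (u := (u : ι → F)) (w := (w : ι → F)) hu huw,
                eich_apply Q (u := (u : ι → F)) (w := (w : ι → F)) hu huw] at this
              exact this))
            hcase.symm
          exact ⟨c, fun v hv => congrArg Subtype.val (hc ⟨v, hv⟩)⟩
      obtain ⟨y, hy, hy0⟩ := haniso hε
      have hc0 : c ≠ 0 := fun e => hy0 (by
        have := hc y hy
        rw [e, zero_smul] at this
        rw [(addT S).map_eq_zero_iff.1 this, map_zero])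
      refine ⟨c, hc0, hc, fun s => ?_⟩
      have h3 := hc (s • y) ((eigS h ε).smul_mem s hy)
      rw [(semisim_spec S).smul, hc y hy, smul_smul, smul_smul] at h3
      have hy' : y ≠ 0 := fun e => hy0 (by rw [e, map_zero])
      exact mul_right_cancel₀ hc0 ((smul_left_injective F hy' h3).trans (mul_comm _ _))
    have hσ : ∀ s, sigFun S s = s := by
      by_cases hbig : 4 ≤ Module.finrank F (eigS h 1)
      · obtain ⟨-, -, -, hσ⟩ := key (Or.inl (rfl : (1 : F) = 1)) (Or.inl hbig)
        exact hσ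
      · obtain ⟨-, -, -, hσ⟩ := key (Or.inr (rfl : (-1 : F) = -1)) (Or.inl (by omega))
        exact hσ
    obtain ⟨a, ha0, ha, -⟩ := key (Or.inl (rfl : (1 : F) = 1)) (Or.inr hσ)
    obtain ⟨b, -, hb, -⟩ := key (Or.inr (rfl : (-1 : F) = -1)) (Or.inr hσ)
    have hab : b * b = a * a := by
      have hval : ∀ {ε c : F}, (ε = 1 ∨ ε = -1) → (∀ v ∈ eigS h ε, addT S v = c • v) → c * c = mulFac S := by
        intro ε c hε hc
        obtain ⟨v, hv, hv0⟩ := haniso hε
        have h3 := (semisim_spec S).quad v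
        rw [hc v hv, quad_smul, hσ] at h3
        exact mul_right_cancel₀ hv0 h3
      rw [hval (Or.inr rfl) hb, hval (Or.inl rfl) ha]
    have hdec : ∀ x, ∃ u ∈ eigS h 1, ∃ w ∈ eigS h (-1), u + w = x := fun x =>
      Submodule.mem_sup.1 ((isCompl_eigS h2 hh).sup_eq_top ▸ Submodule.mem_top)
    rcases mul_self_eq_mul_self_iff.1 hab with rfl | rfl
    · left
      rw [show S = scal Q (Units.mk0 b ha0) from gammaO_ext fun x => ?_, act_scal]
      obtain ⟨u, hu, w, hw, rfl⟩ := hdec x
      rw [scal_apply, map_add, ha u hu, hb w hw, Units.val_mk0, smul_add]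
    · right
      rw [show S = scal Q (Units.mk0 a ha0) * qIncl Q h from gammaO_ext fun x => ?_, map_mul, act_scal, one_mul]
      obtain ⟨u, hu, w, hw, rfl⟩ := hdec x
      rw [gammaO_mul_apply, qIncl_apply, scal_apply, map_add, map_add, ha u hu, hb w hw, mem_eigS.1 hu,
        mem_eigS.1 hw, Units.val_mk0, one_smul]
      module

end Split

section NonSplit

variable {F : Type*} [Field F] [Fintype F] {ι : Type} [Fintype ι] [DecidableEq ι] {Q : QuadraticForm F (ι → F)}

/-- A self-adjoint similitude with non-square square has trivial core in its centraliser. -/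
theorem core_selfAdjoint_eq_bot (hQ : Good Q) (h2 : (2 : F) ≠ 0) (T : gammaO Q) (hT : T ∈ simSub hQ.toPre) {c : Fˣ}
    (hT2 : T * T = scal Q c) (hc : (c : F) = mulFac T) (hns : ¬ IsSquare (c : F))
    (hdim : 10 ≤ Module.finrank F (ι → F))
    (A : Subgroup (MulAut (TQ Q))) (hA : Cfsg.Inn (TQ Q) ≤ A) :
    Cfsg.pPrimeCore 2 ↥(A ⊓ Subgroup.centralizer {act Q T}) = ⊥ := by
  classical
  set μ : F := (c : F) with hμ
  have hμ0 : μ ≠ 0 := c.ne_zero
  haveI : Fact (∀ r : F, r ^ 2 ≠ -(-μ) + 0 * r) := ⟨fun r e => hns ⟨r, by linear_combination -e⟩⟩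
  let L : (ι → F) →ₗ[F] (ι → F) :=
    { toFun := fun v => addT T v
      map_add' := map_add _
      map_smul' := fun s v => by rw [(semisim_spec T).smul, linear_of_simSub hQ.toPre hT]; rfl }
  have hLL : ∀ v, L (L v) = μ • v := fun v => by
    change addT T (addT T v) = _
    rw [← gammaO_mul_apply, hT2, scal_apply]
  have hQL : ∀ v, Q (L v) = μ * Q v := fun v => by
    change Q (addT T v) = _
    rw [(semisim_spec T).quad, linear_of_simSub hQ.toPre hT, ← hc]
  have hadj : ∀ x y, QuadraticMap.polar Q (L x) y = QuadraticMap.polar Q x (L y) := fun x y => by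
    have h3 : QuadraticMap.polar Q (L x) (L (L y)) = μ * QuadraticMap.polar Q x (L y) := by
      simp only [QuadraticMap.polar, ← map_add, hQL]
      ring
    rw [hLL, QuadraticMap.polar_smul_right, smul_eq_mul] at h3
    exact mul_left_cancel₀ hμ0 h3
  let φ : QE (0 : F) (-μ) →ₐ[F] Module.End F (ι → F) := QuadraticAlgebra.lift ⟨L, LinearMap.ext fun v => by
    simp only [Module.End.mul_apply, hLL, LinearMap.add_apply, LinearMap.smul_apply, Module.End.one_apply, neg_neg,
      zero_smul, add_zero]⟩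
  letI : Module (QE (0 : F) (-μ)) (ι → F) := Module.compHom (ι → F) φ.toRingHom
  have hsmul : ∀ (e : QE (0 : F) (-μ)) v, e • v = e.re • v + e.im • L v := fun e v => by
    change (e.re • (1 : Module.End F (ι → F)) + e.im • L) v = _
    rfl
  have halg : ∀ (s : F) (v : ι → F), algebraMap F (QE (0 : F) (-μ)) s • v = s • v := fun s v => by
    simp [hsmul, QuadraticAlgebra.algebraMap_eq]
  haveI : IsScalarTower F (QE (0 : F) (-μ)) (ι → F) := ⟨fun s e v => by
    simp only [hsmul, QuadraticAlgebra.re_smul, QuadraticAlgebra.im_smul, smul_add, smul_smul, smul_eq_mul]⟩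
  haveI : Module.Finite (QE (0 : F) (-μ)) (ι → F) := Module.Finite.of_restrictScalars_finite F _ _
  have hfinE : 5 ≤ Module.finrank (QE (0 : F) (-μ)) (ι → F) := by
    have h3 := Module.finrank_mul_finrank F (QE (0 : F) (-μ)) (ι → F)
    rw [qe_finrank] at h3
    omega
  let pol : (ι → F) → (ι → F) → QE (0 : F) (-μ) := fun x y =>
    ⟨QuadraticMap.polar Q x y / 2, QuadraticMap.polar Q x (L y) / (2 * μ)⟩
  have hsl : ∀ (e : QE (0 : F) (-μ)) x y, pol (e • x) y = e • pol x y := fun e x y => by
    ext <;>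
      simp [pol, hsmul, QuadraticMap.polar_add_left, QuadraticMap.polar_smul_left, hadj, hLL,
        QuadraticMap.polar_smul_right] <;>
      field_simp
  have hcommp : ∀ x y, pol x y = pol y x := fun x y => by
    ext <;> simp [pol, QuadraticMap.polar_comm Q x y, QuadraticMap.polar_comm Q x (L y), hadj]
  have hadd : ∀ x x' y, pol (x + x') y = pol x y + pol x' y := fun x x' y => by
    ext <;> simp [pol, QuadraticMap.polar_add_left, add_div]
  let Φ : LinearMap.BilinMap (QE (0 : F) (-μ)) (ι → F) (QE (0 : F) (-μ)) :=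
    LinearMap.mk₂ (QE (0 : F) (-μ)) pol hadd hsl
      (fun x y y' => by rw [hcommp, hadd, hcommp y, hcommp y'])
      (fun e x y => by rw [hcommp, hsl, hcommp y])
  let QX : QuadraticForm (QE (0 : F) (-μ)) (ι → F) := LinearMap.BilinMap.toQuadraticMap Φ
  have hre : ∀ x, (QX x).re = Q x := fun x => by
    change QuadraticMap.polar Q x x / 2 = Q x
    rw [quad_polar_self]
    field_simp
  have hpolE : ∀ x y, QuadraticMap.polar QX x y = pol x y + pol x y := fun x y => by
    rw [LinearMap.BilinMap.polar_toQuadraticMap]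
    exact congrArg₂ (· + ·) rfl (hcommp y x)
  have hndE : PolarNondeg QX := fun x hx => hQ.nondeg x fun y => by
    have h3 := congrArg QuadraticAlgebra.re (hx y)
    rw [hpolE, QuadraticAlgebra.re_add, QuadraticAlgebra.re_zero] at h3
    change QuadraticMap.polar Q x y / 2 + QuadraticMap.polar Q x y / 2 = 0 at h3
    rwa [← add_div, ← two_mul, mul_div_cancel_left₀ _ h2] at h3
  have h2E : (2 : QE (0 : F) (-μ)) ≠ 0 := fun e => h2 (by
    apply (algebraMap F (QE (0 : F) (-μ))).injective
    rw [map_ofNat, e, map_zero])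
  have hLE : ∀ (g : qAut QX) v, g.1 (L v) = L (g.1 v) := fun g v => by
    have e : ∀ w, (QuadraticAlgebra.omega : QE (0 : F) (-μ)) • w = L w := fun w => by simp [hsmul]
    rw [← e, map_smul, e]
  let res : qAut QX →* qAut Q := MonoidHom.mk'
    (fun g => ⟨(g.1.restrictScalars F : (ι → F) ≃ₗ[F] (ι → F)), fun v => by
      rw [← hre, ← hre]
      exact congrArg QuadraticAlgebra.re (qAut_map g v)⟩)
    fun _ _ => qAut_ext fun _ => rfl
  have hresT : ∀ g : qAut QX, Commute (qIncl Q (res g)) T := fun g => gammaO_ext fun v => by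
    rw [gammaO_mul_apply, gammaO_mul_apply, qIncl_apply, qIncl_apply]
    exact hLE g v
  refine core_eq_bot_of_similitude hQ T hT hT2 A hA (res '' (eichGroup QX : Set (qAut QX))) ?_ ?_ ?_ ?_
  · rintro _ ⟨g, hg, rfl⟩
    rw [SetLike.mem_coe, ← eichGroup_perfect QX hndE hfinE] at hg
    have h3 := Subgroup.mem_map_of_mem res hg
    rw [Subgroup.map_commutator] at h3
    rw [eichGroup_eq_commutator Q hQ.nondeg (by omega), commutator_def]
    exact Subgroup.commutator_mono le_top le_top h3
  · rintro _ ⟨g, -, rfl⟩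
    exact hresT g
  · intro Mt N hN hMtc hMtn hMtN g hg
    have hgL : ∀ v, g.1 (L v) = L (g.1 v) := fun v => by
      have := congrArg (fun S : gammaO Q => addT S v) (hMtc g hg).eq
      simp only [gammaO_mul_apply, qIncl_apply] at this
      exact this
    let gl : (ι → F) ≃ₗ[QE (0 : F) (-μ)] (ι → F) :=
      { g.1.toAddEquiv with
        map_smul' := fun e v => by
          change g.1 (e • v) = e • g.1 v
          rw [hsmul, hsmul, map_add, map_smul, map_smul, hgL] }
    let gE : qAut QX := ⟨gl, fun v => by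
      change pol (g.1 v) (g.1 v) = pol v v
      ext
      · change QuadraticMap.polar Q (g.1 v) (g.1 v) / 2 = _
        rw [qAut_polar]
      · change QuadraticMap.polar Q (g.1 v) (L (g.1 v)) / (2 * μ) = _
        rw [← hgL, qAut_polar]⟩
    have hgE : res gE = g := qAut_ext fun _ => rfl
    obtain ⟨e, he⟩ := CfsgLib.OddNormal.exists_scalar (Mt.comap res)
      (fun u w hu huw m hm => by
        change res (_ * m * _) ∈ Mt
        rw [map_mul, map_mul, map_inv]
        exact hMtn _ ⟨_, eich_mem QX hu huw, rfl⟩ _ hm)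
      h2E hndE (by omega) hN
      (fun m hm => by
        obtain ⟨s, hs⟩ := hMtN (res m) hm
        refine ⟨algebraMap F _ s, fun x => ?_⟩
        rw [halg, ← hs x, ← map_pow]
        rfl)
      (m := gE) (by rwa [Subgroup.mem_comap, hgE])
    obtain ⟨v, hv⟩ := exists_value QX hndE (by omega) one_ne_zero
    have hee : e * e = 1 := by
      have h3 := qAut_map gE v
      rw [he, quad_smul, hv, mul_one] at h3
      exact h3
    left
    rcases mul_self_eq_one_iff.1 hee with rfl | rfl
    · rw [show g = 1 from qAut_ext fun x => (he x).trans (one_smul _ x), map_one, map_one]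
    · rw [show qIncl Q g = scal Q (-1) from gammaO_ext fun x => ?_, act_scal]
      rw [qIncl_apply, scal_apply, Units.val_neg, Units.val_one, neg_one_smul]
      exact (he x).trans (neg_one_smul _ x)
  · intro S N hN hSN hST hSG
    obtain ⟨κ, hκ⟩ := hST
    set σ := sigFun S with hσ
    have hκ' : ∀ v, addT S (L v) = (κ : F) • L (addT S v) := fun v => by
      have := congrArg (fun R : gammaO Q => addT R v) hκ
      simpa [gammaO_mul_apply, scal_apply, L] using this
    obtain ⟨v₀, hv₀⟩ := exists_value Q hQ.nondeg (by omega) one_ne_zero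
    have hv₀' : v₀ ≠ 0 := fun e => by rw [e, map_zero] at hv₀; exact zero_ne_one hv₀
    have hSv₀ : addT S v₀ ≠ 0 := fun e => hv₀' ((addT S).map_eq_zero_iff.1 e)
    have hσμ : σ μ = (κ : F) * κ * μ := by
      have h3 := hκ' (L v₀)
      rw [hLL, (semisim_spec S).smul, hκ' v₀, map_smul, hLL, smul_smul, smul_smul] at h3
      exact smul_left_injective F hSv₀ h3
    let τ : QE (0 : F) (-μ) →+* QE (0 : F) (-μ) :=
      { toFun := fun e => ⟨σ e.re, σ e.im * κ⟩
        map_one' := by ext <;> simp [QuadraticAlgebra.re_one, QuadraticAlgebra.im_one]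
        map_mul' := fun x y => by
          ext <;> simp [hσμ] <;> ring
        map_zero' := by ext <;> simp
        map_add' := fun x y => by ext <;> simp [add_mul] }
    let LS : (ι → F) →+ (ι → F) := (addT S).toAddMonoidHom
    have hLS : ∀ (e : QE (0 : F) (-μ)) x, LS (e • x) = τ e • LS x := fun e x => by
      change addT S (e • x) = τ e • addT S x
      rw [hsmul, hsmul, map_add, (semisim_spec S).smul, (semisim_spec S).smul, hκ', smul_smul]
      rfl
    have hex : ∀ g : eichGroup QX, ∃ d : Fˣ, ∀ x, addT S ((g : qAut QX).1 x) = (d : F) • (g : qAut QX).1 (addT S x) :=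
      fun g => by
        obtain ⟨d, hd⟩ := hSG _ ⟨_, g.2, rfl⟩
        refine ⟨d, fun x => ?_⟩
        have := congrArg (fun R : gammaO Q => addT R x) hd
        simpa [gammaO_mul_apply, qIncl_apply, scal_apply, res] using this
    choose d hd using hex
    let χ : eichGroup QX →* Fˣ := MonoidHom.mk' d fun g g' => Units.ext (smul_left_injective F
      (show (g * g' : eichGroup QX).1.1 (addT S v₀) ≠ 0 from fun e => hSv₀ ((LinearEquiv.map_eq_zero_iff _).1 e))
      (by
        change (d (g * g') : F) • _ = ((d g : F) * d g') • _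
        rw [← hd (g * g') v₀, mul_smul]
        change addT S ((g : qAut QX).1 ((g' : qAut QX).1 v₀)) =
          _ • (d g' : F) • (g : qAut QX).1 ((g' : qAut QX).1 (addT S v₀))
        rw [hd g, hd g']
        congr 1
        rw [← halg (d g' : F), LinearEquiv.map_smul, halg]))
    have hperf : commutator (eichGroup QX) = ⊤ := by
      apply Subgroup.map_injective (eichGroup QX).subtype_injective
      rw [commutator_def, Subgroup.map_commutator, ← MonoidHom.range_eq_map, Subgroup.range_subtype,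
        eichGroup_perfect QX hndE hfinE]
    have hd1 : ∀ g, d g = 1 := fun g =>
      MonoidHom.mem_ker.1 (Abelianization.commutator_subset_ker χ (hperf ▸ Subgroup.mem_top g))
    obtain ⟨e, he⟩ := scalar_of_commute_eich h2E hndE (by omega) LS (addT S).injective τ hLS
      (fun u w hu huw x => (hd ⟨_, eich_mem QX hu huw⟩ x).trans (by rw [hd1, Units.val_one, one_smul]; rfl))
      (Or.inr (by omega))
    have he0 : e ≠ 0 := fun h0 => hSv₀ (by
      have h3 := he v₀
      rw [h0, zero_smul] at h3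
      exact h3)
    have hτ : ∀ t, τ t = t := fun t => by
      have h3 := hLS t v₀
      rw [he, he, smul_smul, smul_smul] at h3
      refine mul_right_cancel₀ he0 ((smul_left_injective _ hv₀' h3).symm.trans (mul_comm _ _))
    have hσ1 : ∀ s, σ s = s := fun s => by
      have h3 := congrArg QuadraticAlgebra.re (hτ (algebraMap F _ s))
      simpa [τ, QuadraticAlgebra.algebraMap_eq] using h3
    obtain ⟨w, hw⟩ := exists_value QX hndE (by omega) (c := (QuadraticAlgebra.omega : QE (0 : F) (-μ)))
      (fun e => by simpa using congrArg QuadraticAlgebra.im e)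
    have hst : e.re * e.im = 0 := by
      have h3 := (semisim_spec S).quad w
      rw [show addT S w = e • w from he w, ← hre, quad_smul, hw, ← hre w, hw, ← hσ, hσ1] at h3
      simp at h3
      have h4 : (2 * μ) * (e.re * e.im) = 0 := by
        rcases h3 with h3 | h3
        · exact absurd h3 hμ0
        · linear_combination μ * h3
      exact (mul_eq_zero.1 h4).resolve_left (mul_ne_zero h2 hμ0)
    rcases mul_eq_zero.1 hst with h0 | h0
    · right
      have hi : e.im ≠ 0 := fun h1 => he0 (QuadraticAlgebra.ext h0 h1)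
      rw [show S = scal Q (Units.mk0 _ hi) * T from gammaO_ext fun x => ?_, map_mul, act_scal, one_mul]
      rw [gammaO_mul_apply, scal_apply, show addT S x = e • x from he x, hsmul, h0, zero_smul, zero_add]
      rfl
    · left
      have hi : e.re ≠ 0 := fun h1 => he0 (QuadraticAlgebra.ext h1 h0)
      rw [show S = scal Q (Units.mk0 _ hi) from gammaO_ext fun x => ?_, act_scal]
      rw [scal_apply, show addT S x = e • x from he x, hsmul, h0, zero_smul, add_zero]
      rfl

end NonSplit

end CfsgLib.POAut
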