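/-
Splitting of the classes of involutory graph automorphisms.
-/
import Cfsg.Agent.Lib.KnownSimple.POAut.GraphCore
import Cfsg.Agent.Lib.KnownSimple.POAut.PGOPlus
import Cfsg.Agent.Lib.KnownSimple.PSLAut.FieldType

set_option autoImplicit false
set_option maxHeartbeats 800000

namespace CfsgLib.POAut

open CfsgLib.Classical CfsgLib.Classical22

section Form

variable {F V : Type*} [Field F] [AddCommGroup V] [Module F V] [FiniteDimensional F V] [Fintype F]
  {Q : QuadraticForm F V}

/-- A self-adjoint map with non-square square has non-singular vectors orthogonal to their images. -/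
theorem exists_perp_image (hQ : PolarNondeg Q) (hn : 5 ≤ Module.finrank F V) (h2 : (2 : F) ≠ 0) {L : V →ₗ[F] V}
    {μ : F} (hμ : ¬ IsSquare μ) (hadj : ∀ x y, QuadraticMap.polar Q (L x) y = QuadraticMap.polar Q x (L y))
    (hLL : ∀ v, L (L v) = μ • v) : ∃ v, Q v ≠ 0 ∧ QuadraticMap.polar Q v (L v) = 0 := by
  by_contra hcon
  push Not at hcon
  have hμ0 : μ ≠ 0 := fun e => hμ (e ▸ IsSquare.zero)
  let R : QuadraticForm F V := LinearMap.BilinMap.toQuadraticMap ((QuadraticMap.polarBilin Q).compl₂ L)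
  have hR : ∀ v, R v = QuadraticMap.polar Q v (L v) := fun v => rfl
  have hRp : ∀ x y, QuadraticMap.polar R x y = 2 * QuadraticMap.polar Q x (L y) := fun x y => by
    have e : QuadraticMap.polar Q y (L x) = QuadraticMap.polar Q x (L y) := by
      rw [QuadraticMap.polar_comm, hadj]
    rw [QuadraticMap.polar, hR, hR, hR, map_add, QuadraticMap.polar_add_left, QuadraticMap.polar_add_right,
      QuadraticMap.polar_add_right, e]
    ring
  have hRnd : PolarNondeg R := fun x hx => hQ x fun y => by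
    have h1 := hx (μ⁻¹ • L y)
    rw [hRp, map_smul, hLL, smul_smul, inv_mul_cancel₀ hμ0, one_smul] at h1
    exact (mul_eq_zero.1 h1).resolve_left h2
  obtain ⟨x, hx0, hx⟩ := exists_singular R hRnd (by omega)
  obtain ⟨z, hp⟩ := exists_hypPair_left R hRnd hx0 hx
  have hQ0 : ∀ v, R v = 0 → Q v = 0 := fun v hv => by
    by_contra hne
    exact hcon v hne hv
  have hM : ∀ y : pM R x z, QuadraticMap.polar Q x (y : V) = 0 := by
    intro y
    have hy : y ∈ (⊤ : Submodule F (pM R x z)) := Submodule.mem_top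
    rw [← span_singular (qM R x z) (hp.polarNondeg_qM hRnd) (by have := hp.finrank_pM; omega)] at hy
    induction hy using Submodule.span_induction with
    | mem y hy =>
      have hy' : R (y : V) = 0 := hy
      have h1 : R (x + (y : V)) = 0 := by rw [quad_add, hx, hy', HypPair.am]; simp
      have h2 := hQ0 _ h1
      rwa [quad_add, hQ0 _ hx, hQ0 _ hy', zero_add, zero_add] at h2
    | zero => exact QuadraticMap.polar_zero_right Q _
    | add u v _ _ hu hv => rw [Submodule.coe_add, QuadraticMap.polar_add_right, hu, hv, add_zero]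
    | smul t u _ hu => rw [Submodule.coe_smul, QuadraticMap.polar_smul_right, hu, smul_zero]
  set c := QuadraticMap.polar Q x z
  have hxL : x = (2 * c) • L x := by
    refine sub_eq_zero.1 (hQ _ fun y => ?_)
    obtain ⟨s, t, m, rfl⟩ := hp.exists_coord y
    have h1 : QuadraticMap.polar R x (s • x + t • z + (m : V)) = t := by
      simp [QuadraticMap.polar_add_right, QuadraticMap.polar_smul_right, hp.aa, hp.az, HypPair.am]
    rw [hRp, ← hadj] at h1
    have h2 : QuadraticMap.polar Q x (s • x + t • z + (m : V)) = t * c := by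
      simp [QuadraticMap.polar_add_right, QuadraticMap.polar_smul_right, hM, quad_polar_self, hQ0 x hx, c]
    rw [sub_eq_add_neg, ← neg_smul, QuadraticMap.polar_add_left, QuadraticMap.polar_smul_left, h2, smul_eq_mul]
    linear_combination (-c) * h1
  have h4 : x = ((2 * c) * (2 * c) * μ) • x := by
    conv_lhs => rw [hxL, hxL, map_smul, hLL, smul_smul, smul_smul]
  have h5 : (2 * c) * (2 * c) * μ = 1 := by
    have := smul_left_injective F hx0 (show ((2 * c) * (2 * c) * μ) • x = (1 : F) • x by rw [one_smul, ← h4])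
    exact this
  refine hμ ⟨(2 * c)⁻¹, ?_⟩
  have hc : (2 * c) ≠ 0 := fun e => by simp [e] at h5
  rw [← mul_inv]
  exact eq_inv_of_mul_eq_one_right h5

end Form

namespace SimData

variable {F : Type*} [Field F] [Fintype F] {ι : Type} [Fintype ι] [DecidableEq ι] {Q : QuadraticForm F (ι → F)}
  {hQ : Pre Q} (D : SimData hQ)
include D

theorem ringChar_ne : ringChar F ≠ 2 := fun hc => D.h2 (by
  haveI : CharP F 2 := hc ▸ ringChar.charP F
  exact CharTwo.two_eq_zero)

theorem par_eq_one_iff_det (h : qAut Q) :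
    D.par ⟨qIncl Q h, qIncl_mem_simSub hQ h⟩ = 1 ↔ LinearMap.det (h.1 : (ι → F) →ₗ[F] (ι → F)) = 1 := by
  rw [D.par_incl, ← mem_detOne_iff hQ D.h2 D.h1]
  rfl

/-- Involutory similitudes outside the inner-diagonal group of square multiplier. -/
theorem involution_normal_form {T : simSub hQ} (hpar : D.par T ≠ 1) {c : Fˣ} (hT2 : T.1 * T.1 = scal Q c)
    (hsq : IsSquare (mulFac T.1)) :
    ∃ (d : Fˣ) (h : qAut Q), T.1 = scal Q d * qIncl Q h ∧ (∀ v, h.1 (h.1 v) = v) ∧
      Odd (Module.finrank F (eigS h (-1))) := by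
  obtain ⟨d, h, e⟩ := exists_decomp hQ T.2 hsq
  have hn := hQ.seven
  have hd := d.ne_zero
  have hT : ∀ v, (addT T.1) v = (d : F) • h.1 v := fun v => by rw [e, gammaO_mul_apply, scal_apply, qIncl_apply]
  have hh2 : ∀ v, h.1 (h.1 v) = ((c : F) / (d * d)) • v := fun v => by
    have h1 : (addT T.1) ((addT T.1) v) = (c : F) • v := by rw [← gammaO_mul_apply, hT2, scal_apply]
    rw [hT, hT, map_smul, smul_smul] at h1
    rw [← inv_smul_smul₀ (mul_ne_zero hd hd) (h.1 (h.1 v)), h1, smul_smul]
    congr 1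
    ring
  obtain ⟨v₀, hv₀⟩ := exists_value Q hQ.nondeg (by omega) one_ne_zero
  have he : (c : F) / (d * d) * ((c : F) / (d * d)) = 1 := by
    have := qAut_map h (h.1 v₀)
    rw [qAut_map h v₀, hh2, quad_smul, hv₀, mul_one] at this
    exact this
  have hdet : LinearMap.det (h.1 : (ι → F) →ₗ[F] (ι → F)) ≠ 1 := fun hd1 => hpar (by
    rw [show T = ⟨scal Q d, scal_mem_simSub hQ d⟩ * ⟨qIncl Q h, qIncl_mem_simSub hQ h⟩ from Subtype.ext e, map_mul,
      D.par_scal, one_mul, D.par_eq_one_iff_det]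
    exact hd1)
  rcases mul_self_eq_one_iff.1 he with h1 | h1
  · have hh : ∀ v, h.1 (h.1 v) = v := fun v => by rw [hh2, h1, one_smul]
    refine ⟨d, h, e, hh, ?_⟩
    rw [det_involution D.h2 hh] at hdet
    by_contra ho
    exact hdet (Nat.not_odd_iff_even.1 ho).neg_one_pow
  · exact absurd (det_of_sq_neg hQ.nondeg D.h2 h fun v => by rw [hh2, h1, neg_one_smul]) hdet

/-- A product of two reflections of non-trivial spinor norm commuting with an involutory similitude. -/
theorem exists_pair_commute {T : simSub hQ} (hpar : D.par T ≠ 1) {c : Fˣ} (hT2 : T.1 * T.1 = scal Q c) :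
    ∃ (v u : ι → F) (hv : Q v ≠ 0) (hu : Q u ≠ 0), ¬ IsSquare (Q v * Q u) ∧
      Commute T.1 (qIncl Q (qRefl Q hv * qRefl Q hu)) := by
  have hn := hQ.seven
  obtain ⟨ν, hν⟩ := FiniteField.exists_nonsquare D.ringChar_ne
  have hν0 : ν ≠ 0 := fun e => hν (e ▸ IsSquare.zero)
  by_cases hsq : IsSquare (mulFac T.1)
  · obtain ⟨d, h, e, hh, -⟩ := D.involution_normal_form hpar hT2 hsq
    have hsum := finrank_eigS D.h2 hh
    obtain ⟨ε, hε, hdim⟩ : ∃ ε : F, (ε = 1 ∨ ε = -1) ∧ 2 ≤ Module.finrank F (eigS h ε) := by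
      by_cases h1 : 2 ≤ Module.finrank F (eigS h 1)
      · exact ⟨1, Or.inl rfl, h1⟩
      · exact ⟨-1, Or.inr rfl, by omega⟩
    have hnd := polarNondeg_eigS hQ.nondeg D.h2 hh hε
    obtain ⟨⟨v, hvm⟩, hv1⟩ := exists_value (Q.comp (eigS h ε).subtype) hnd hdim one_ne_zero
    obtain ⟨⟨u, hum⟩, hu1⟩ := exists_value (Q.comp (eigS h ε).subtype) hnd hdim hν0
    simp only [QuadraticMap.comp_apply, Submodule.coe_subtype] at hv1 hu1
    refine ⟨v, u, hv1 ▸ one_ne_zero, hu1 ▸ hν0, by rw [hv1, hu1, one_mul]; exact hν, gammaO_ext fun x => ?_⟩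
    have hε2 : ε * ε = 1 := by rcases hε with rfl | rfl <;> ring
    have key : ∀ (w : ι → F) (hw : Q w ≠ 0), w ∈ eigS h ε → ∀ x,
        h.1 ((qRefl Q hw).1 x) = (qRefl Q hw).1 (h.1 x) := fun w hw hwm x => by
      have hp : QuadraticMap.polar Q (h.1 x) w = ε * QuadraticMap.polar Q x w := by
        conv_lhs => rw [show w = ε • h.1 w by rw [mem_eigS.1 hwm, smul_smul, hε2, one_smul]]
        rw [QuadraticMap.polar_smul_right, qAut_polar, smul_eq_mul]
      rw [qRefl_apply, qRefl_apply, map_sub, map_smul, mem_eigS.1 hwm, hp, smul_smul]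
      congr 2
      ring
    rw [gammaO_mul_apply, gammaO_mul_apply, e, gammaO_mul_apply, gammaO_mul_apply, scal_apply, scal_apply,
      qIncl_apply, qIncl_apply, qIncl_apply, qIncl_apply, qAut_mul_apply, qAut_mul_apply, key v _ hvm, key u _ hum,
      map_smul, map_smul]
  · set μ := mulFac T.1 with hμ
    have hμ0 : μ ≠ 0 := (semisim_spec T.1).ne
    let L : (ι → F) →ₗ[F] (ι → F) :=
      { toFun := fun v => (addT T.1) v
        map_add' := map_add _
        map_smul' := fun s v => by rw [(semisim_spec T.1).smul, linear_of_simSub hQ T.2]; rfl }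
    have hLL : ∀ v, L (L v) = (c : F) • v := fun v => by
      change (addT T.1) ((addT T.1) v) = _
      rw [← gammaO_mul_apply, hT2, scal_apply]
    have hQL : ∀ v, Q (L v) = μ * Q v := fun v => by
      change Q ((addT T.1) v) = _
      rw [(semisim_spec T.1).quad, linear_of_simSub hQ T.2]
    have hpol : ∀ x y, QuadraticMap.polar Q (L x) (L y) = μ * QuadraticMap.polar Q x y := fun x y => by
      simp only [QuadraticMap.polar, ← map_add, hQL]
      ring
    obtain ⟨v₀, hv₀⟩ := exists_value Q hQ.nondeg (by omega) one_ne_zero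
    have hcc : (c : F) * c = μ * μ := by
      have h1 := hQL (L v₀)
      rw [hLL, quad_smul, hQL, hv₀, mul_one, mul_one] at h1
      exact h1
    have hadj : ∀ x y, (c : F) * QuadraticMap.polar Q (L x) y = μ * QuadraticMap.polar Q x (L y) := fun x y => by
      rw [← hpol, hLL, QuadraticMap.polar_smul_right, smul_eq_mul]
    obtain ⟨v, hv, hperp⟩ : ∃ v, Q v ≠ 0 ∧ QuadraticMap.polar Q v (L v) = 0 := by
      rcases mul_self_eq_mul_self_iff.1 hcc with hc | hc
      · exact exists_perp_image hQ.nondeg (by omega) D.h2 hsq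
          (fun x y => mul_left_cancel₀ c.ne_zero (by rw [hadj, hc]))
          (fun w => by rw [hLL, hc])
      · refine ⟨v₀, by rw [hv₀]; exact one_ne_zero, ?_⟩
        have h1 := hadj v₀ v₀
        rw [hc, QuadraticMap.polar_comm] at h1
        exact (mul_eq_zero.1 (by linear_combination -h1 :
          2 * (μ * QuadraticMap.polar Q v₀ (L v₀)) = 0)).resolve_left D.h2 |> mul_eq_zero.1 |>.resolve_left hμ0
    have hu : Q (L v) ≠ 0 := by rw [hQL]; exact mul_ne_zero hμ0 hv
    refine ⟨v, L v, hv, hu, fun hs => hsq ?_, gammaO_ext fun x => ?_⟩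
    · rw [hQL] at hs
      obtain ⟨r, hr⟩ := hs
      refine ⟨r * (Q v)⁻¹, ?_⟩
      field_simp
      linear_combination hr
    · rw [gammaO_mul_apply, gammaO_mul_apply, qIncl_apply, qIncl_apply, qAut_mul_apply, qAut_mul_apply]
      change L _ = (qRefl Q hv).1 ((qRefl Q hu).1 (L x))
      simp only [qRefl_apply, map_sub, map_smul, hLL, hQL, hpol, QuadraticMap.polar_sub_left,
        QuadraticMap.polar_smul_left, smul_eq_mul, smul_smul, hperp,
        show QuadraticMap.polar Q (L v) v = 0 by rw [QuadraticMap.polar_comm]; exact hperp,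
        show QuadraticMap.polar Q (L x) v = (c : F) * QuadraticMap.polar Q x (L v) * μ⁻¹ by
          have h1 := hadj v x
          rw [QuadraticMap.polar_comm _ (L v), QuadraticMap.polar_comm _ v] at h1
          field_simp
          linear_combination -h1]
      match_scalars
      · ring
      all_goals field_simp
      all_goals ring

/-- The centraliser of an automorphism in the inner-diagonal group. -/
noncomputable def centD (T : simSub hQ) : Subgroup D.diagS :=
  (Subgroup.centralizer {act Q T.1}).comap ((act Q).comp ((simSub hQ).subtype.comp D.diagS.subtype))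

/-- The inner part. -/
noncomputable def innD : Subgroup D.diagS := (D.cl.comp D.diagS.subtype).ker

theorem mem_centD {T : simSub hQ} {g : D.diagS} :
    g ∈ D.centD T ↔ Commute (act Q g.1.1) (act Q T.1) := by
  rw [centD, Subgroup.mem_comap, Subgroup.mem_centralizer_singleton_iff]
  exact ⟨fun h => h, fun h => h⟩

theorem count_eq (T : simSub hQ) :
    Cfsg.splitClassCount ((D.diagS.map (simSub hQ).subtype).map (act Q)) (Cfsg.Inn (TQ Q)) (act Q T.1) =
      (D.centD T ⊔ D.innD).index := by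
  haveI : D.innD.Normal := MonoidHom.normal_ker _
  have h1 : ((act Q).comp ((simSub hQ).subtype.comp D.diagS.subtype)).range =
      (D.diagS.map (simSub hQ).subtype).map (act Q) := by
    rw [MonoidHom.range_comp, MonoidHom.range_comp, Subgroup.range_subtype]
  have h2 : D.innD.map ((act Q).comp ((simSub hQ).subtype.comp D.diagS.subtype)) = Cfsg.Inn (TQ Q) := by
    rw [inn_eq]
    refine le_antisymm ?_ ?_
    · rintro _ ⟨g, hg, rfl⟩
      obtain ⟨u, k, hk, e⟩ := (outMap_eq_one_iff hQ).1 hg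
      refine ⟨qIncl Q k, ⟨k, hk, rfl⟩, ?_⟩
      change _ = act Q g.1.1
      rw [show g.1.1 = scal Q u * qIncl Q k from e, map_mul, act_scal, one_mul]
    · rintro _ ⟨_, ⟨k, hk, rfl⟩, rfl⟩
      exact ⟨⟨⟨qIncl Q k, qIncl_mem_simSub hQ k⟩, D.diag_eich hk⟩, outMap_eich hQ hk, rfl⟩
  rw [← h1, ← h2, CfsgLib.PSLAut.splitClassCount_eq_index]
  rfl

theorem count_cases {T : simSub hQ} (hpar : D.par T ≠ 1) {c : Fˣ} (hT2 : T.1 * T.1 = scal Q c) :
    ((mulClass hQ D.h2).comp D.diagS.subtype).ker ≤ D.centD T ⊔ D.innD := by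
  have hW : (⟨D.W, (D.par_incl _).trans (by rw [D.hw])⟩ : D.diagS) ∈ D.centD T ⊔ D.innD := by
    rcases D.neg_cases with h | h
    · obtain ⟨v, u, hv, hu, hns, hcomm⟩ := D.exists_pair_commute hpar hT2
      let g : simSub hQ := ⟨qIncl Q (qRefl Q hv * qRefl Q hu), qIncl_mem_simSub hQ _⟩
      have hg : g ∈ D.diagS := (D.par_incl _).trans (by rw [map_mul, Prod.fst_mul, D.h1, D.h1]; rfl)
      have hψ : D.ψ (qRefl Q hv * qRefl Q hu) ≠ 1 := fun e => hns ((D.hiff v u hv hu).1 (by
        rw [map_mul] at e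
        rw [← inv_eq_of_mul_eq_one_right e, ← map_inv, qRefl_inv]))
      have hcl : D.cl g = D.cl D.W := (D.cl_cases ((D.chi_eq_one g).2 ⟨by
          rw [mulFac_qIncl hQ]; exact IsSquare.one, hg⟩)).resolve_left fun e => hψ ((D.cl_incl_eq_one_iff h _).1 e)
      have h1 : (⟨g, hg⟩ : D.diagS)⁻¹ * ⟨D.W, (D.par_incl _).trans (by rw [D.hw])⟩ ∈ D.innD := by
        rw [innD, MonoidHom.mem_ker, map_mul, map_inv]
        change (D.cl g)⁻¹ * D.cl D.W = 1
        rw [hcl, inv_mul_cancel]
      have h2 : (⟨g, hg⟩ : D.diagS) ∈ D.centD T := D.mem_centD.2 ((hcomm.map (act Q)).symm)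
      have := mul_mem (Subgroup.mem_sup_left (T := D.innD) h2) (Subgroup.mem_sup_right (S := D.centD T) h1)
      rwa [mul_inv_cancel_left] at this
    · exact Subgroup.mem_sup_right ((D.cl_W_eq_one_iff).2 h)
  intro g hg
  have hg' : IsSquare (mulFac g.1.1) := (mulClass_eq_one hQ D.h2 _).1 hg
  rcases D.cl_cases ((D.chi_eq_one g.1).2 ⟨hg', g.2⟩) with e | e
  · exact Subgroup.mem_sup_right e
  · have h1 : (⟨D.W, (D.par_incl _).trans (by rw [D.hw])⟩ : D.diagS)⁻¹ * g ∈ D.innD := by
      rw [innD, MonoidHom.mem_ker, map_mul, map_inv]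
      change (D.cl D.W)⁻¹ * D.cl g.1 = 1
      rw [e, inv_mul_cancel]
    have := mul_mem hW (Subgroup.mem_sup_right (S := D.centD T) h1)
    rwa [mul_inv_cancel_left] at this

theorem index_mulClass : ((mulClass hQ D.h2).comp D.diagS.subtype).ker.index = 2 := by
  have hs : Function.Surjective ((mulClass hQ D.h2).comp D.diagS.subtype) := fun i => by
    rcases zmod2_cases i with rfl | rfl
    · exact ⟨1, map_one _⟩
    · refine ⟨⟨D.T, D.hT⟩, (zmod2_cases _).resolve_left fun e => D.hTμ ((mulClass_eq_one hQ D.h2 _).1 e)⟩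
  rw [Subgroup.index_ker, MonoidHom.range_eq_top.2 hs, Subgroup.card_top]
  simp

/-- The class of an involutory graph automorphism splits into one or two classes. -/
theorem count_one_or_two {T : simSub hQ} (hpar : D.par T ≠ 1) {c : Fˣ} (hT2 : T.1 * T.1 = scal Q c) :
    Cfsg.splitClassCount ((D.diagS.map (simSub hQ).subtype).map (act Q)) (Cfsg.Inn (TQ Q)) (act Q T.1) = 1 ∨
    Cfsg.splitClassCount ((D.diagS.map (simSub hQ).subtype).map (act Q)) (Cfsg.Inn (TQ Q)) (act Q T.1) = 2 := by
  rw [D.count_eq]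
  have hdvd := Subgroup.index_dvd_of_le (D.count_cases hpar hT2)
  rw [D.index_mulClass] at hdvd
  exact (Nat.dvd_prime Nat.prime_two).1 hdvd

/-- Two classes when the centraliser has square multipliers only. -/
theorem count_two {T : simSub hQ} (hpar : D.par T ≠ 1) {c : Fˣ} (hT2 : T.1 * T.1 = scal Q c)
    (hno : ∀ g : D.diagS, Commute (act Q g.1.1) (act Q T.1) → IsSquare (mulFac g.1.1)) :
    Cfsg.splitClassCount ((D.diagS.map (simSub hQ).subtype).map (act Q)) (Cfsg.Inn (TQ Q)) (act Q T.1) = 2 := by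
  have hle : D.centD T ⊔ D.innD ≤ ((mulClass hQ D.h2).comp D.diagS.subtype).ker :=
    sup_le (fun g hg => (mulClass_eq_one hQ D.h2 _).2 (hno g (D.mem_centD.1 hg))) fun g hg =>
      (mulClass_eq_one hQ D.h2 _).2 ((D.chi_eq_one _).1 (D.cl_eq_one hg)).1
  rw [D.count_eq, le_antisymm hle (D.count_cases hpar hT2), D.index_mulClass]

/-- In the dihedral case nothing of non-square multiplier commutes with a graph automorphism. -/
theorem isSquare_of_commute
    (hnc : ¬ Commute (D.cl ⟨qIncl Q D.refl, qIncl_mem_simSub hQ _⟩) (D.cl D.T))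
    {T : simSub hQ} (hpar : D.par T ≠ 1) (g : D.diagS) (hg : Commute (act Q g.1.1) (act Q T.1)) :
    IsSquare (mulFac g.1.1) := by
  by_contra hns
  refine hnc ?_
  set ρ : simSub hQ := ⟨qIncl Q D.refl, qIncl_mem_simSub hQ _⟩
  have hcg : Commute (D.cl g.1) (D.cl T) := hg.map (QuotientGroup.mk' (Cfsg.Inn (TQ Q)))
  have hWc : ∀ k : simSub hQ, Commute (D.cl k) (D.cl D.W) := fun k => by
    rcases D.cl_cases (T := k * D.W * k⁻¹) (by rw [map_mul, map_mul, map_inv, D.chi_W, mul_one, mul_inv_cancel])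
      with e | e
    · rw [map_mul, map_mul, map_inv, conj_eq_one_iff] at e
      rw [e]
      exact Commute.one_right _
    · rw [map_mul, map_mul, map_inv, mul_inv_eq_iff_eq_mul] at e
      exact e
  have hdec : ∀ k : simSub hQ, D.par k = 1 → ¬ IsSquare (mulFac k.1) →
      D.cl k = D.cl D.T ∨ D.cl k = D.cl D.T * D.cl D.W := fun k hk hkn => by
    have hc : D.chi (D.T⁻¹ * k) = 1 := by
      rw [map_mul, map_inv, inv_mul_eq_one, D.chi_T, chi_apply, hk, (zmod2_cases (mulClass hQ D.h2 k)).resolve_left fun e => hkn ((mulClass_eq_one hQ D.h2 k).1 e)]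
      rfl
    rcases D.cl_cases hc with e | e
    · rw [map_mul, map_inv, inv_mul_eq_one] at e
      exact Or.inl e.symm
    · rw [map_mul, map_inv, inv_mul_eq_iff_eq_mul] at e
      exact Or.inr e
  have hk' : D.par (ρ⁻¹ * T) = 1 := by
    rw [map_mul, map_inv, D.par_incl, D.hrefl, (zmod2_cases _).resolve_left hpar, inv_mul_cancel]
  have hgk : Commute (D.cl g.1) (D.cl (ρ⁻¹ * T)) := by
    have hgW := hWc g.1
    by_cases hk : IsSquare (mulFac (ρ⁻¹ * T).1)
    · rcases D.cl_cases ((D.chi_eq_one _).2 ⟨hk, hk'⟩) with e | e <;> rw [e]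
      · exact Commute.one_right _
      · exact hgW
    · have hTT : Commute (D.cl g.1) (D.cl D.T) := by
        rcases hdec g.1 g.2 hns with e | e <;> rw [e]
        exact (Commute.refl _).mul_left (hWc D.T).symm
      rcases hdec _ hk' hk with e | e <;> rw [e]
      · exact hTT
      · exact hTT.mul_right hgW
  have h1 : Commute (D.cl g.1) (D.cl ρ) := by
    have := hcg.mul_right hgk.inv_right
    rwa [map_mul, map_inv, mul_inv_rev, inv_inv, mul_inv_cancel_left] at this
  rcases hdec g.1 g.2 hns with e | e <;> rw [e] at h1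
  · exact h1.symm
  · have h2 : Commute (D.cl D.W) (D.cl ρ) := (hWc ρ).symm
    have h3 := h1.mul_left h2.inv_left
    rw [mul_inv_cancel_right] at h3
    exact h3.symm

end SimData

end CfsgLib.POAut
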