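/-
Semisimilarities of minus type and the Galois group of the quadratic extension.
-/
import Cfsg.Agent.Lib.KnownSimple.POAut.OutBase
import Cfsg.Agent.Lib.KnownSimple.POAut.Diag
import Cfsg.Agent.Lib.KnownSimple.POAut.Similitudes

set_option autoImplicit false

namespace CfsgLib.POAut

open CfsgLib.Classical CfsgLib.Classical22 QuadraticAlgebra

variable {F : Type*} [Field F] [Fintype F] {a b : F}

theorem qe_eq (x : QE a b) : x = algebraMap F (QE a b) x.re + algebraMap F (QE a b) x.im * omega := by
  ext <;> simp [QuadraticAlgebra.algebraMap_eq]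

variable [Fact (∀ r : F, r ^ 2 ≠ -b + a * r)]

theorem binAniso_of_fact : BinAniso a b := fun z₁ z₂ h => by
  by_cases h2 : z₂ = 0
  · subst h2
    exact ⟨sq_eq_zero_iff.1 (by linear_combination h), rfl⟩
  · refine absurd ?_ ((Fact.out : ∀ r : F, r ^ 2 ≠ -b + a * r) (-z₁ / z₂))
    field_simp
    linear_combination h

theorem qe_range_of_star {x : QE a b} (h : star x = x) : x = algebraMap F (QE a b) x.re := by
  have hd := binAniso_disc (binAniso_of_fact (a := a) (b := b))
  have h1 := congrArg QuadraticAlgebra.re h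
  have h2 := congrArg QuadraticAlgebra.im h
  simp only [QuadraticAlgebra.re_star, QuadraticAlgebra.im_star] at h1 h2
  have h0 : (4 * b - a * a) * x.im = 0 := by linear_combination (-2 * b) * h2 - a * h1
  have him : x.im = 0 := (mul_eq_zero.1 h0).resolve_left hd
  ext <;> simp [QuadraticAlgebra.algebraMap_eq, him]

theorem qe_alg_pow_card (s : F) : algebraMap F (QE a b) s ^ Fintype.card F = algebraMap F (QE a b) s := by
  rw [← map_pow, FiniteField.pow_card]

theorem qe_map_alg (σ' : QE a b ≃+* QE a b) (s : F) :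
    σ' (algebraMap F (QE a b) s) = algebraMap F (QE a b) (σ' (algebraMap F (QE a b) s)).re :=
  qe_range_of_star (by rw [← qe_pow_card_eq_star, ← map_pow, qe_alg_pow_card])

/-- Restriction to the ground field. -/
noncomputable def resHom : (QE a b ≃+* QE a b) →* (F ≃+* F) :=
  MonoidHom.mk'
    (fun σ' =>
      { toFun := fun s => (σ' (algebraMap F (QE a b) s)).re
        invFun := fun s => (σ'.symm (algebraMap F (QE a b) s)).re
        left_inv := fun s => by
          change (σ'.symm (algebraMap F (QE a b) ((σ' (algebraMap F (QE a b) s)).re))).re = s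
          rw [← qe_map_alg σ', RingEquiv.symm_apply_apply]; simp [QuadraticAlgebra.algebraMap_eq]
        right_inv := fun s => by
          change (σ' (algebraMap F (QE a b) ((σ'.symm (algebraMap F (QE a b) s)).re))).re = s
          rw [← qe_map_alg σ'.symm, RingEquiv.apply_symm_apply]; simp [QuadraticAlgebra.algebraMap_eq]
        map_mul' := fun s t => (algebraMap F (QE a b)).injective (by
          rw [← qe_map_alg σ' (s * t), map_mul (algebraMap F (QE a b)) (σ' _).re, map_mul, map_mul, ← qe_map_alg,
            ← qe_map_alg])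
        map_add' := fun s t => (algebraMap F (QE a b)).injective (by
          rw [← qe_map_alg σ' (s + t), map_add (algebraMap F (QE a b)) (σ' _).re, map_add, map_add, ← qe_map_alg,
            ← qe_map_alg]) })
    fun σ' τ' => RingEquiv.ext fun s => by
      change ((σ' * τ') (algebraMap F (QE a b) s)).re = (σ' (algebraMap F (QE a b) ((τ' (algebraMap F (QE a b) s)).re))).re
      rw [← qe_map_alg τ', RingAut.mul_apply]

theorem resHom_spec (σ' : QE a b ≃+* QE a b) (s : F) :
    σ' (algebraMap F (QE a b) s) = algebraMap F (QE a b) (resHom σ' s) := qe_map_alg σ' s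

theorem qe_norm_map (σ' : QE a b ≃+* QE a b) (x : QE a b) :
    QuadraticAlgebra.norm (σ' x) = resHom σ' (QuadraticAlgebra.norm x) :=
  (algebraMap F (QE a b)).injective (by rw [qe_norm_eq_pow, ← resHom_spec, qe_norm_eq_pow, map_pow])

/-- The non-trivial automorphism over the ground field. -/
noncomputable def starE (a b : F) [Fact (∀ r : F, r ^ 2 ≠ -b + a * r)] : QE a b ≃+* QE a b := starRingAut

theorem starE_apply (x : QE a b) : starE a b x = star x := rfl

theorem starE_sq : starE a b * starE a b = 1 := RingEquiv.ext fun x => by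
  rw [RingAut.mul_apply, starE_apply, starE_apply, star_star, RingAut.one_apply]

theorem resHom_starE : resHom (starE a b) = 1 := RingEquiv.ext fun s => by
  change (star (algebraMap F (QE a b) s)).re = s
  simp [QuadraticAlgebra.algebraMap_eq]

theorem starE_ne_one : starE a b ≠ 1 := by
  intro h
  have h1 := congrArg QuadraticAlgebra.im (DFunLike.congr_fun h (omega : QE a b))
  have h2 := congrArg QuadraticAlgebra.re (DFunLike.congr_fun h (omega : QE a b))
  simp [starE_apply] at h1 h2
  refine binAniso_disc (binAniso_of_fact (a := a) (b := b)) ?_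
  linear_combination (-2 * b) * h1 - a * h2

/-- The automorphisms over the ground field. -/
theorem eq_one_or_starE (σ' : QE a b ≃+* QE a b) (h : resHom σ' = 1) : σ' = 1 ∨ σ' = starE a b := by
  have hfix : ∀ s, σ' (algebraMap F (QE a b) s) = algebraMap F (QE a b) s := fun s => by
    rw [resHom_spec, h]; rfl
  set w : QE a b := omega with hw
  have hs : ∀ s, starE a b (algebraMap F (QE a b) s) = algebraMap F (QE a b) s := fun s => by
    rw [starE_apply]; ext <;> simp [QuadraticAlgebra.algebraMap_eq]
  have h2 : w * w = algebraMap F (QE a b) (-b) + algebraMap F (QE a b) a * w := by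
    ext <;> simp [hw, QuadraticAlgebra.algebraMap_eq]
  have h0 : (σ' w - w) * (σ' w - star w) = 0 := by
    have h1 := congrArg σ' h2
    rw [map_mul, map_add, map_mul, hfix, hfix] at h1
    rw [show star w = algebraMap F (QE a b) a - w from eq_sub_of_add_eq' (qe_omega_star a b)]
    linear_combination h1 - h2
  rcases mul_eq_zero.1 h0 with h3 | h3
  · refine Or.inl (RingEquiv.ext fun x => ?_)
    rw [qe_eq x, map_add, map_mul, hfix, hfix, sub_eq_zero.1 h3]
    rfl
  · refine Or.inr (RingEquiv.ext fun x => ?_)
    rw [qe_eq x, map_add, map_mul, hfix, hfix, map_add, map_mul, hs, hs, sub_eq_zero.1 h3]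
    rfl

variable {m : ℕ}

/-- The vector reflected by the conjugation. -/
def starVec (m : ℕ) (a : F) : (Fin m ⊕ Fin m) ⊕ Fin 2 → F := Sum.elim 0 ![a, -2]

theorem starVec_quad (m : ℕ) (a b : F) : qExt m (qBin a b) (starVec m a) = 4 * b - a * a := by
  simp [coe_qExt_qBin, Cfsg.quadFormMinus, starVec]
  ring

theorem polar_starVec (v : (Fin m ⊕ Fin m) ⊕ Fin 2 → F) :
    QuadraticMap.polar (qExt m (qBin a b)) v (starVec m a) = -((4 * b - a * a) * v (.inr 1)) := by
  simp only [QuadraticMap.polar, coe_qExt_qBin, Cfsg.quadFormMinus, starVec, Pi.add_apply, Sum.elim_inl, Sum.elim_inr,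
    Pi.zero_apply, add_zero, zero_mul, Finset.sum_const_zero, Matrix.cons_val_zero, Matrix.cons_val_one]
  ring

/-- The coordinatewise action of the Galois group. -/
noncomputable def semFun (σ' : QE a b ≃+* QE a b) (v : (Fin m ⊕ Fin m) ⊕ Fin 2 → F) :
    (Fin m ⊕ Fin m) ⊕ Fin 2 → F :=
  Sum.elim (fun i => resHom σ' (v (.inl i))) (qeCoord a b (σ' ((qeCoord a b).symm fun i => v (.inr i))))

theorem semFun_semFun (σ' τ' : QE a b ≃+* QE a b) (v : (Fin m ⊕ Fin m) ⊕ Fin 2 → F) :
    semFun σ' (semFun τ' v) = semFun (σ' * τ') v := by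
  funext i
  rcases i with i | i
  · simp only [semFun, Sum.elim_inl, map_mul, RingAut.mul_apply]
  · simp only [semFun, Sum.elim_inr, LinearEquiv.symm_apply_apply, RingAut.mul_apply]

theorem semFun_one (v : (Fin m ⊕ Fin m) ⊕ Fin 2 → F) : semFun (1 : QE a b ≃+* QE a b) v = v := by
  funext i
  rcases i with i | i
  · simp [semFun]
  · simp [semFun]

theorem semFun_add (σ' : QE a b ≃+* QE a b) (v w : (Fin m ⊕ Fin m) ⊕ Fin 2 → F) :
    semFun σ' (v + w) = semFun σ' v + semFun σ' w := by
  funext i
  rcases i with i | i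
  · simp [semFun]
  · simp only [semFun, Sum.elim_inr, Pi.add_apply]
    rw [show (fun i => v (.inr i) + w (.inr i)) = (fun i => v (.inr i)) + fun i => w (.inr i) from rfl, map_add,
      map_add, map_add]
    rfl

theorem semFun_smul (σ' : QE a b ≃+* QE a b) (s : F) (v : (Fin m ⊕ Fin m) ⊕ Fin 2 → F) :
    semFun σ' (s • v) = resHom σ' s • semFun σ' v := by
  funext i
  rcases i with i | i
  · simp [semFun]
  · simp only [semFun, Sum.elim_inr, Pi.smul_apply]
    rw [show (fun i => s • v (.inr i)) = s • fun i => v (.inr i) from rfl, map_smul, Algebra.smul_def s, map_mul,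
      resHom_spec, ← Algebra.smul_def, map_smul]
    rfl

theorem semFun_quad (σ' : QE a b ≃+* QE a b) (v : (Fin m ⊕ Fin m) ⊕ Fin 2 → F) :
    qExt m (qBin a b) (semFun σ' v) = resHom σ' (qExt m (qBin a b) v) := by
  rw [qExt_apply, qExt_apply, map_add, map_sum]
  congr 1
  · simp [semFun]
  · change qBin a b (qeCoord a b _) = _
    rw [qBin_qeCoord, qe_norm_map, ← qBin_qeCoord, LinearEquiv.apply_symm_apply]

/-- The Galois group acting by semisimilarities. -/
noncomputable def semS (m : ℕ) (a b : F) [Fact (∀ r : F, r ^ 2 ≠ -b + a * r)] :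
    (QE a b ≃+* QE a b) →* gammaO (qExt m (qBin a b)) :=
  MonoidHom.mk' (fun σ' => mkGamma (σ := resHom σ') (c := 1)
    { toFun := semFun σ'
      invFun := semFun σ'⁻¹
      left_inv := fun v => by rw [semFun_semFun, inv_mul_cancel, semFun_one]
      right_inv := fun v => by rw [semFun_semFun, mul_inv_cancel, semFun_one]
      map_add' := semFun_add σ' }
    ⟨semFun_smul σ', fun v => by rw [one_mul]; exact semFun_quad σ' v, one_ne_zero⟩)
    fun σ' τ' => gammaO_ext fun v => by
      rw [gammaO_mul_apply]
      exact (semFun_semFun σ' τ' v).symm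

theorem semS_apply (σ' : QE a b ≃+* QE a b) (v : (Fin m ⊕ Fin m) ⊕ Fin 2 → F) :
    addT (semS m a b σ') v = semFun σ' v := rfl

theorem sigFun_semS [Nonempty ((Fin m ⊕ Fin m) ⊕ Fin 2)] (σ' : QE a b ≃+* QE a b) :
    sigFun (semS m a b σ') = resHom σ' :=
  sigFun_unique _ (semFun_smul σ')

theorem starVec_ne (m : ℕ) : qExt m (qBin a b) (starVec m a) ≠ 0 := by
  rw [starVec_quad]
  exact binAniso_disc binAniso_of_fact

theorem semS_starE : semS m a b (starE a b) = qIncl _ (qRefl _ (starVec_ne (a := a) (b := b) m)) :=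
  gammaO_ext fun v => by
    rw [semS_apply, qIncl_apply, qRefl_apply, starVec_quad, polar_starVec, mul_neg,
      inv_mul_cancel_left₀ (binAniso_disc binAniso_of_fact)]
    funext i
    rcases i with i | i
    · simp [semFun, resHom_starE, starVec]
    · fin_cases i
      · simp [semFun, starE_apply, starVec, qeCoord]
        ring
      · simp [semFun, starE_apply, starVec, qeCoord]
        ring

section Psi

variable (hQ : Good (qExt m (qBin a b))) [Nonempty ((Fin m ⊕ Fin m) ⊕ Fin 2)]

/-- The parity of an extension of a semisimilarity. -/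
noncomputable def extPar (σ' : QE a b ≃+* QE a b) (T : gammaO (qExt m (qBin a b))) (h : resHom σ' = sigFun T) :
    Multiplicative (ZMod 2) :=
  parityHom (polarNondeg_qe m binAniso_of_fact) (finrank_qMinus_space m) (maxS_qe m binAniso_of_fact)
    (liftT (compat_qMinus (algebraMap F (QE a b)) m a b) σ' T fun s => by rw [resHom_spec, h])

theorem extPar_semS (σ' : QE a b ≃+* QE a b) : extPar σ' (semS m a b σ') (sigFun_semS σ').symm = 1 := by
  set g := algebraMap F (QE a b)
  have hσ : ∀ s, σ' (g s) = g (sigFun (semS m a b σ') s) := fun s => by rw [resHom_spec, sigFun_semS]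
  set L := liftT (compat_qMinus g m a b) σ' (semS m a b σ') hσ
  set p := g (σ' omega).re
  set r := g (σ' omega).im
  have hw : σ' omega = p + r * omega := qe_eq _
  let B : ((Fin m ⊕ Fin m) ⊕ Fin 2 → QE a b) →+ ((Fin m ⊕ Fin m) ⊕ Fin 2 → QE a b) :=
    AddMonoidHom.mk' (fun v => Sum.elim (fun i => σ' (v (.inl i)))
      ![σ' (v (.inr 0)) + p * σ' (v (.inr 1)), r * σ' (v (.inr 1))]) fun u v => by
      funext i
      rcases i with i | i
      · simp
      · fin_cases i
        · simp; ring
        · simp; ring
  have hL : ∀ v, addT L v = B v := fun v => DFunLike.congr_fun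
    (semilinear_ext_rational (σ := σ') (A := (addT L).toAddMonoidHom) (B := B)
      (fun s w => by
        change addT L (s • w) = _
        rw [(semisim_spec L).smul, sigFun_liftT]
        rfl)
      (fun s w => by
        funext i
        rcases i with i | i
        · simp [B]
        · fin_cases i
          · simp [B]; ring
          · simp [B]; ring) g fun w => by
        change addT L (g ∘ w) = B (g ∘ w)
        rw [liftT_rational, semS_apply]
        funext i
        rcases i with i | i
        · simp [B, semFun, g, resHom_spec]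
        · have e : σ' ((qeCoord a b).symm fun i => w (.inr i)) =
              g (resHom σ' (w (.inr 0))) + g (resHom σ' (w (.inr 1))) * (p + r * omega) := by
            rw [qe_eq ((qeCoord a b).symm _), map_add, map_mul, resHom_spec, resHom_spec, hw]
            rfl
          have e' : qeCoord a b (σ' ((qeCoord a b).symm fun i => w (.inr i))) =
              ![resHom σ' (w (.inr 0)) + (σ' omega).re * resHom σ' (w (.inr 1)),
                (σ' omega).im * resHom σ' (w (.inr 1))] := by
            rw [e]
            funext j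
            fin_cases j
            · simp [qeCoord, p, r, g, QuadraticAlgebra.algebraMap_eq]
              ring
            · simp [qeCoord, p, r, g, QuadraticAlgebra.algebraMap_eq]
              ring
          simp only [Function.comp_apply, semFun, Sum.elim_inr, e', B, AddMonoidHom.mk'_apply]
          fin_cases i
          · simp [g, p, resHom_spec, map_add, map_mul]
          · simp [g, r, resHom_spec, map_mul]) v
  change parityHom _ _ _ L = 1
  rw [parityHom_apply]
  have himg : imgT L (LinearMap.range (xzLin m (-omega : QE a b))) = LinearMap.range (xzLin m (-omega : QE a b)) := by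
    refine Submodule.eq_of_le_of_finrank_eq ?_ (finrank_imgT _ _)
    rintro _ ⟨_, ⟨q, rfl⟩, rfl⟩
    refine ⟨(fun i => σ' (q.1 i), r * σ' q.2), ?_⟩
    rw [hL]
    funext i
    rcases i with (i | i) | i
    · simp [B, xzLin]
    · simp [B, xzLin]
    · fin_cases i
      · simp [B, xzLin, hw]
        ring
      · simp [B, xzLin]
  rw [himg, par2_self (F := QE a b) (maxS_qe m binAniso_of_fact).1, ofAdd_zero]

theorem extPar_mul {σ' τ' : QE a b ≃+* QE a b} {S T : gammaO (qExt m (qBin a b))} (h : resHom σ' = sigFun S)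
    (h' : resHom τ' = sigFun T) (h'' : resHom (σ' * τ') = sigFun (S * T)) :
    extPar (σ' * τ') (S * T) h'' = extPar σ' S h * extPar τ' T h' := by
  unfold extPar
  rw [← map_mul]
  congr 1
  refine gamma_ext_rational (algebraMap F (QE a b)) ?_ fun w => ?_
  · rw [sigFun_liftT]
    refine (sigFun_unique _ fun s v => ?_).symm
    rw [gammaO_mul_apply, gammaO_mul_apply, (semisim_spec _).smul, (semisim_spec _).smul, sigFun_liftT, sigFun_liftT]
    rfl
  · rw [gammaO_mul_apply, liftT_rational, liftT_rational, liftT_rational, gammaO_mul_apply]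

theorem extPar_congr {σ' τ' : QE a b ≃+* QE a b} {S T : gammaO (qExt m (qBin a b))} (e : σ' = τ') (e' : S = T)
    (h : resHom σ' = sigFun S) (h' : resHom τ' = sigFun T) : extPar σ' S h = extPar τ' T h' := by
  subst e e'
  rfl

include hQ

theorem resHom_one_eq : resHom (1 : QE a b ≃+* QE a b) = sigFun (1 : gammaO (qExt m (qBin a b))) := by
  rw [map_one, ← sigHom_apply hQ, map_one]

theorem resHom_star_eq : resHom (starE a b) = sigFun (1 : gammaO (qExt m (qBin a b))) := by
  rw [resHom_starE, ← sigHom_apply hQ, map_one]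

theorem extPar_simSub {T : gammaO (qExt m (qBin a b))} (hT : T ∈ simSub hQ) (h : resHom (1 : QE a b ≃+* QE a b) = sigFun T) :
    extPar 1 T h = minusPar binAniso_of_fact hQ ⟨T, hT⟩ := rfl

theorem extPar_one : extPar 1 (1 : gammaO (qExt m (qBin a b))) (resHom_one_eq hQ) = 1 := by
  rw [extPar_simSub hQ (one_mem _)]
  exact map_one _

theorem extPar_starE : extPar (starE a b) (1 : gammaO (qExt m (qBin a b))) (resHom_star_eq hQ) =
    Multiplicative.ofAdd 1 := by
  set X := semS m a b (starE a b) with hX
  have hsig : resHom (starE a b) = sigFun X := (sigFun_semS _).symm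
  have hX1 : resHom (1 : QE a b ≃+* QE a b) = sigFun X := by rw [← hsig, resHom_starE, map_one]
  have hXX : X * X = 1 := by rw [hX, ← map_mul, starE_sq, map_one]
  have h3 : resHom (1 * starE a b) = sigFun (X * X) := by rw [one_mul, hXX]; exact resHom_star_eq hQ
  rw [extPar_congr (one_mul _).symm hXX.symm _ h3, extPar_mul hX1 hsig, extPar_semS, mul_one]
  rw [extPar_congr rfl (semS_starE (m := m) (a := a) (b := b)) hX1 (by rw [← semS_starE]; exact hX1),
    extPar_simSub hQ (qIncl_mem_simSub hQ _)]
  exact minusPar_refl _ hQ _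

theorem existsUnique_psi (T : gammaO (qExt m (qBin a b))) :
    ∃! σ' : QE a b ≃+* QE a b, ∃ h : resHom σ' = sigFun T, extPar σ' T h = 1 := by
  have hflip : ∀ σ' (h : resHom σ' = sigFun T) (h' : resHom (σ' * starE a b) = sigFun T),
      extPar (σ' * starE a b) T h' = extPar σ' T h * Multiplicative.ofAdd 1 := fun σ' h h' => by
    rw [← extPar_starE hQ, extPar_congr rfl (mul_one T).symm h' (by rw [mul_one]; exact h'), extPar_mul h]
  obtain ⟨τ, hτ⟩ := exists_ext (algebraMap F (QE a b)) (sigFun T)
  have hτ0 : resHom τ = sigFun T := RingEquiv.ext fun s =>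
    (algebraMap F (QE a b)).injective ((resHom_spec τ s).symm.trans (hτ s))
  have hτ1 : resHom (τ * starE a b) = sigFun T := by rw [map_mul, resHom_starE, mul_one, hτ0]
  have hdec : ∀ x : Multiplicative (ZMod 2), x = 1 ∨ x = Multiplicative.ofAdd 1 := by decide
  have hex : ∃ σ', ∃ h : resHom σ' = sigFun T, extPar σ' T h = 1 := by
    rcases hdec (extPar τ T hτ0) with h | h
    · exact ⟨τ, hτ0, h⟩
    · exact ⟨_, hτ1, by rw [hflip τ hτ0 hτ1, h]; rfl⟩
  obtain ⟨σ', h, h1⟩ := hex
  refine ⟨σ', ⟨h, h1⟩, ?_⟩
  rintro ρ ⟨h', h2⟩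
  rcases eq_one_or_starE (σ'⁻¹ * ρ) (by rw [map_mul, map_inv, h, h', inv_mul_cancel]) with e | e
  · exact (inv_mul_eq_one.1 e).symm
  · obtain rfl : ρ = σ' * starE a b := inv_mul_eq_iff_eq_mul.1 e
    rw [hflip σ' h h', h1, one_mul] at h2
    exact absurd h2 (by decide)

/-- The Galois invariant of a semisimilarity of minus type. -/
noncomputable def psiHom : gammaO (qExt m (qBin a b)) →* (QE a b ≃+* QE a b) :=
  MonoidHom.mk' (fun T => (existsUnique_psi hQ T).choose) fun S T => by
    obtain ⟨hS, hS1⟩ := (existsUnique_psi hQ S).choose_spec.1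
    obtain ⟨hT, hT1⟩ := (existsUnique_psi hQ T).choose_spec.1
    symm
    refine (existsUnique_psi hQ (S * T)).choose_spec.2 _ ⟨?_, ?_⟩
    · rw [map_mul, hS, hT, ← sigHom_apply hQ, ← sigHom_apply hQ, ← sigHom_apply hQ, map_mul]
    · rw [extPar_mul hS hT, hS1, hT1, one_mul]

theorem psiHom_eq {T : gammaO (qExt m (qBin a b))} {σ' : QE a b ≃+* QE a b} (h : resHom σ' = sigFun T)
    (h1 : extPar σ' T h = 1) : psiHom hQ T = σ' :=
  ((existsUnique_psi hQ T).choose_spec.2 _ ⟨h, h1⟩).symm

theorem psiHom_semS (σ' : QE a b ≃+* QE a b) : psiHom hQ (semS m a b σ') = σ' :=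
  psiHom_eq hQ (sigFun_semS σ').symm (extPar_semS σ')

theorem psiHom_eq_one_iff {T : gammaO (qExt m (qBin a b))} :
    psiHom hQ T = 1 ↔ T ∈ minusG binAniso_of_fact hQ := by
  constructor
  · intro h
    obtain ⟨hT, hT1⟩ := (existsUnique_psi hQ T).choose_spec.1
    have hc : (existsUnique_psi hQ T).choose = 1 := h
    have hT' : resHom (1 : QE a b ≃+* QE a b) = sigFun T := by rw [← hT, hc]
    have hs : T ∈ simSub hQ := MonoidHom.mem_ker.2 (by rw [sigHom_apply, ← hT', map_one])
    refine (mem_minusG _ hQ).2 ⟨hs, ?_⟩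
    rw [← extPar_simSub hQ hs hT', ← extPar_congr hc rfl hT hT']
    exact hT1
  · intro h
    obtain ⟨hs, h1⟩ := (mem_minusG _ hQ).1 h
    have hT' : resHom (1 : QE a b ≃+* QE a b) = sigFun T := by
      rw [map_one, ← sigHom_apply hQ, MonoidHom.mem_ker.1 hs]
    exact psiHom_eq hQ hT' ((extPar_simSub hQ hs hT').trans h1)

/-- The projection of the outer automorphism group to the Galois group, with a section. -/
theorem exists_outGal : ∃ π : Cfsg.Out (TQ (qExt m (qBin a b))) →* (QE a b ≃+* QE a b),
    ∀ T, π (outMap _ T) = psiHom hQ T := by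
  have hle : ∀ S T, outMap (qExt m (qBin a b)) S = outMap _ T → psiHom hQ S = psiHom hQ T := fun S T e => by
    rw [← inv_mul_eq_one, ← map_inv, ← map_mul, psiHom_eq_one_iff]
    obtain ⟨c, g, hg, h⟩ := (outMap_eq_one_iff hQ).1 (show outMap _ (S⁻¹ * T) = 1 by
      rw [map_mul, map_inv, e, inv_mul_cancel])
    rw [h]
    exact mul_mem ((minusDiag binAniso_of_fact hQ).scal_mem c) ((minusDiag binAniso_of_fact hQ).eich_mem g hg)
  refine ⟨MonoidHom.mk' (fun x => psiHom hQ (Function.surjInv (outMap_surjective hQ) x)) fun x y => ?_, fun T => ?_⟩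
  · rw [← map_mul]
    refine hle _ _ ?_
    rw [map_mul, Function.surjInv_eq (outMap_surjective hQ), Function.surjInv_eq (outMap_surjective hQ),
      Function.surjInv_eq (outMap_surjective hQ)]
  · exact hle _ _ (Function.surjInv_eq (outMap_surjective hQ) _)

end Psi

end CfsgLib.POAut
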