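/-
The outer automorphism group in minus type.
-/
import Cfsg.Agent.Lib.KnownSimple.POAut.MinusGal
import Cfsg.Agent.Lib.KnownSimple.POAut.OutOdd

set_option autoImplicit false
set_option maxHeartbeats 800000

namespace CfsgLib.POAut

open CfsgLib.Classical CfsgLib.Classical22 QuadraticAlgebra

variable {F : Type*} [Field F] [Fintype F] {a b : F} [Fact (∀ r : F, r ^ 2 ≠ -b + a * r)] {m : ℕ}

/-- A reflection basis of the standard minus space. -/
def eVec (m : ℕ) (a : F) : (Fin m ⊕ Fin m) ⊕ Fin 2 → ((Fin m ⊕ Fin m) ⊕ Fin 2 → F)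
  | .inl (.inl i) => Pi.single (.inl (.inl i)) 1 + Pi.single (.inl (.inr i)) 1
  | .inl (.inr i) => Pi.single (.inl (.inl i)) 1 - Pi.single (.inl (.inr i)) 1
  | .inr j => if j = 0 then Pi.single (.inr 0) 1 else starVec m a

theorem eVec_quad (i : (Fin m ⊕ Fin m) ⊕ Fin 2) : qExt m (qBin a b) (eVec m a i) =
    Sum.elim (Sum.elim (fun _ => (1 : F)) fun _ => -1) ![1, 4 * b - a * a] i := by
  classical
  rcases i with (i | i) | j
  · simp only [eVec, coe_qExt_qBin, Cfsg.quadFormMinus]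
    rw [Finset.sum_eq_single i (fun k _ hk => by simp [hk]) (by simp)]
    simp
  · simp only [eVec, coe_qExt_qBin, Cfsg.quadFormMinus]
    rw [Finset.sum_eq_single i (fun k _ hk => by simp [hk]) (by simp)]
    simp
  · fin_cases j
    · simp [eVec, coe_qExt_qBin, Cfsg.quadFormMinus]
    · simp [eVec, starVec_quad]

theorem polar_minus (u v : (Fin m ⊕ Fin m) ⊕ Fin 2 → F) :
    QuadraticMap.polar (qExt m (qBin a b)) u v =
      (∑ i, (u (.inl (.inl i)) * v (.inl (.inr i)) + u (.inl (.inr i)) * v (.inl (.inl i)))) +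
        (2 * u (.inr 0) * v (.inr 0) + a * (u (.inr 0) * v (.inr 1) + u (.inr 1) * v (.inr 0)) +
          2 * b * u (.inr 1) * v (.inr 1)) := by
  have h : ∀ i : Fin m, u (.inl (.inl i)) * v (.inl (.inr i)) + u (.inl (.inr i)) * v (.inl (.inl i)) =
      (u + v) (.inl (.inl i)) * (u + v) (.inl (.inr i)) - u (.inl (.inl i)) * u (.inl (.inr i)) -
        v (.inl (.inl i)) * v (.inl (.inr i)) := fun i => by simp only [Pi.add_apply]; ring
  simp only [QuadraticMap.polar, coe_qExt_qBin, Cfsg.quadFormMinus, h, Finset.sum_sub_distrib]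
  simp only [Pi.add_apply]
  ring

theorem eVec_orth {i j : (Fin m ⊕ Fin m) ⊕ Fin 2} (h : i ≠ j) :
    QuadraticMap.polar (qExt m (qBin a b)) (eVec m a i) (eVec m a j) = 0 := by
  classical
  rw [polar_minus]
  rcases i with (i | i) | i <;> rcases j with (j | j) | j
  · have h' : i ≠ j := fun e => h (by rw [e])
    rw [Finset.sum_eq_zero fun k _ => ?_]
    · simp [eVec]
    · rcases eq_or_ne k i with rfl | hk
      · simp [eVec, h']
      · simp [eVec, hk]
  · rcases eq_or_ne i j with rfl | h'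
    · rw [Finset.sum_eq_zero fun k _ => ?_]
      · simp [eVec]
      · rcases eq_or_ne k i with rfl | hk
        · simp [eVec]
        · simp [eVec, hk]
    · rw [Finset.sum_eq_zero fun k _ => ?_]
      · simp [eVec]
      · rcases eq_or_ne k i with rfl | hk
        · simp [eVec, h']
        · simp [eVec, hk]
  · fin_cases j <;> simp [eVec, starVec]
  · rcases eq_or_ne i j with rfl | h'
    · rw [Finset.sum_eq_zero fun k _ => ?_]
      · simp [eVec]
      · rcases eq_or_ne k i with rfl | hk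
        · simp [eVec]
        · simp [eVec, hk]
    · rw [Finset.sum_eq_zero fun k _ => ?_]
      · simp [eVec]
      · rcases eq_or_ne k i with rfl | hk
        · simp [eVec, h']
        · simp [eVec, hk]
  · have h' : i ≠ j := fun e => h (by rw [e])
    rw [Finset.sum_eq_zero fun k _ => ?_]
    · simp [eVec]
    · rcases eq_or_ne k i with rfl | hk
      · simp [eVec, h']
      · simp [eVec, hk]
  · fin_cases j <;> simp [eVec, starVec]
  · fin_cases i <;> simp [eVec, starVec]
  · fin_cases i <;> simp [eVec, starVec]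
  · fin_cases i <;> fin_cases j <;> simp [eVec, starVec] at h ⊢ <;> ring

theorem neg_disc_nonsquare (h2 : (2 : F) ≠ 0) : ¬ IsSquare (-(4 * b - a * a)) := by
  rintro ⟨r, hr⟩
  refine (Fact.out : ∀ x : F, x ^ 2 ≠ -b + a * x) ((a + r) / 2) ?_
  field_simp
  linear_combination -hr

/-- The abelian invariant of the negative of the identity. -/
theorem psi_negAut (h2 : ringChar F ≠ 2) {ψ : qAut (qExt m (qBin a b)) →* Multiplicative (ZMod 2) × ℤˣ}
    (h1 : ∀ (v : (Fin m ⊕ Fin m) ⊕ Fin 2 → F) (hv : qExt m (qBin a b) v ≠ 0),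
      (ψ (qRefl _ hv)).1 = Multiplicative.ofAdd 1)
    (hiff : ∀ (v w : (Fin m ⊕ Fin m) ⊕ Fin 2 → F) (hv : qExt m (qBin a b) v ≠ 0) (hw : qExt m (qBin a b) w ≠ 0),
      ψ (qRefl _ hv) = ψ (qRefl _ hw) ↔ IsSquare (qExt m (qBin a b) v * qExt m (qBin a b) w)) :
    ψ (negAut (qExt m (qBin a b))) = if Fintype.card F % 4 = 3 ∧ Even m then 1 else (1, -1) := by
  classical
  have h2' : (2 : F) ≠ 0 := Ring.two_ne_zero h2
  have hd : (4 * b - a * a : F) ≠ 0 := binAniso_disc binAniso_of_fact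
  have he : ∀ i, (qExt m (qBin a b)) (eVec m a i) ≠ 0 := fun i => by
    rw [eVec_quad]
    rcases i with (i | i) | j
    · exact one_ne_zero
    · exact neg_ne_zero.2 one_ne_zero
    · fin_cases j
      · exact one_ne_zero
      · exact hd
  obtain ⟨h, hh, hψ⟩ := exists_refl_prod (qExt m (qBin a b)) ψ (eVec m a) he (fun i j hij => eVec_orth hij) Finset.univ
  have hgh : negAut (qExt m (qBin a b)) = h := by
    let L : ((Fin m ⊕ Fin m) ⊕ Fin 2 → F) →ₗ[F] ((Fin m ⊕ Fin m) ⊕ Fin 2 → F) := h.1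
    have hL : ∀ i, L (eVec m a i) = -eVec m a i := fun i => by
      change h.1 (eVec m a i) = _
      rw [hh i, if_pos (Finset.mem_univ i)]
    have hl : -LinearMap.id = L := (Pi.basisFun F _).ext fun i => by
      rw [Pi.basisFun_apply, LinearMap.neg_apply, LinearMap.id_apply]
      rcases i with (i | i) | j
      · rw [show Pi.single (Sum.inl (Sum.inl i)) (1 : F) =
          (2 : F)⁻¹ • (eVec m a (.inl (.inl i)) + eVec m a (.inl (.inr i))) by
          simp only [eVec]
          rw [show ∀ x y : (Fin m ⊕ Fin m) ⊕ Fin 2 → F, x + y + (x - y) = (2 : F) • x from fun x y => by module,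
            inv_smul_smul₀ h2'], map_smul, map_add, hL, hL]
        module
      · rw [show Pi.single (Sum.inl (Sum.inr i)) (1 : F) =
          (2 : F)⁻¹ • (eVec m a (.inl (.inl i)) - eVec m a (.inl (.inr i))) by
          simp only [eVec]
          rw [show ∀ x y : (Fin m ⊕ Fin m) ⊕ Fin 2 → F, x + y - (x - y) = (2 : F) • y from fun x y => by module,
            inv_smul_smul₀ h2'], map_smul, map_sub, hL, hL]
        module
      · have e0 : Pi.single (Sum.inr 0) (1 : F) = eVec m a (.inr 0) := rfl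
        fin_cases j
        · change -Pi.single (Sum.inr 0) (1 : F) = L (Pi.single (Sum.inr 0) (1 : F))
          rw [e0, hL]
        · change -Pi.single (Sum.inr 1) (1 : F) = L (Pi.single (Sum.inr 1) (1 : F))
          rw [show Pi.single (Sum.inr 1) (1 : F) = (2 : F)⁻¹ • (a • eVec m a (.inr 0) - eVec m a (.inr 1)) by
            funext k
            rcases k with k | k
            · simp [eVec, starVec]
            · fin_cases k <;> simp [eVec, starVec, h2'], map_smul, map_sub, map_smul, hL, hL]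
          module
    exact qAut_ext fun x => LinearMap.congr_fun hl x
  rw [hgh, hψ, Fintype.prod_sum_type, Fintype.prod_sum_type, Fin.prod_univ_two]
  obtain ⟨v₁, hv₁, hQ1, A, hA⟩ : ∃ (v : (Fin m ⊕ Fin m) ⊕ Fin 2 → F) (hv : (qExt m (qBin a b)) v ≠ 0), (qExt m (qBin a b)) v = 1 ∧
      ∃ A, A = ψ (qRefl (qExt m (qBin a b)) hv) :=
    ⟨_, he (.inr 0), by rw [eVec_quad]; rfl, _, rfl⟩
  set B := A * (1, -1) with hB
  have h22 : ∀ x y : Multiplicative (ZMod 2) × ℤˣ, x.1 = Multiplicative.ofAdd 1 → y.1 = Multiplicative.ofAdd 1 →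
      x = y ∨ x = y * (1, -1) := by decide
  have hval : ∀ (i : (Fin m ⊕ Fin m) ⊕ Fin 2) (c : F), (qExt m (qBin a b)) (eVec m a i) = c →
      ψ (qRefl (qExt m (qBin a b)) (he i)) = if IsSquare c then A else B := fun i c hc => by
    have hiff' := hiff _ _ (he i) hv₁
    rw [← hA, hc, hQ1, mul_one] at hiff'
    split_ifs with hs
    · exact hiff'.2 hs
    · exact (h22 _ _ (h1 _ _) (hA ▸ h1 _ _)).resolve_left fun e => hs (hiff'.1 e)
  rw [Finset.prod_congr rfl fun i _ => hval (.inl (.inl i)) 1 (by rw [eVec_quad]; rfl),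
    Finset.prod_congr (s₁ := (Finset.univ : Finset (Fin m))) rfl fun i _ => hval (.inl (.inr i)) (-1) (by rw [eVec_quad]; rfl),
    hval (.inr 0) 1 (by rw [eVec_quad]; rfl), hval (.inr 1) (4 * b - a * a) (by rw [eVec_quad]; rfl),
    if_pos IsSquare.one, Finset.prod_const, Finset.prod_const, Finset.card_univ, Fintype.card_fin]
  have hdisc : IsSquare (4 * b - a * a : F) ↔ Fintype.card F % 4 = 3 := by
    have hns := neg_disc_nonsquare (a := a) (b := b) h2'
    constructor
    · intro hs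
      by_contra h3
      refine hns ?_
      rw [neg_eq_neg_one_mul]
      exact (FiniteField.isSquare_neg_one_iff.2 h3).mul hs
    · intro h3
      have hn1 : ¬ IsSquare (-1 : F) := fun hs => FiniteField.isSquare_neg_one_iff.1 hs h3
      exact (quadraticChar_one_iff_isSquare hd).1 (by
        rw [show (4 * b - a * a : F) = -1 * -(4 * b - a * a) by ring, map_mul,
          quadraticChar_neg_one_iff_not_isSquare.2 hn1, quadraticChar_neg_one_iff_not_isSquare.2 hns]
        norm_num)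
  have hAA : A * A = 1 := by rw [hA, ← map_mul, qRefl_mul_self, map_one]
  have hAB : A * B = (1, -1) := by rw [hB, ← mul_assoc, hAA, one_mul]
  rw [← mul_pow]
  by_cases h3 : Fintype.card F % 4 = 3
  · rw [if_neg (fun hs => FiniteField.isSquare_neg_one_iff.1 hs h3), if_pos (hdisc.2 h3), hAB, hAA, mul_one]
    rcases Nat.even_or_odd' m with ⟨k, rfl | rfl⟩
    · rw [if_pos ⟨h3, even_two_mul k⟩, pow_mul, show ((1, -1) : Multiplicative (ZMod 2) × ℤˣ) ^ 2 = 1 by decide,
        one_pow]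
    · rw [if_neg fun hh => Nat.not_even_two_mul_add_one k hh.2, pow_succ, pow_mul,
        show ((1, -1) : Multiplicative (ZMod 2) × ℤˣ) ^ 2 = 1 by decide, one_pow, one_mul]
  · rw [if_pos (FiniteField.isSquare_neg_one_iff.2 h3), if_neg (fun hs => h3 (hdisc.1 hs)), hAA, one_pow, one_mul,
      hAB, if_neg (fun hh => h3 hh.1)]

/-- The isometric invariant is the parity. -/
theorem fst_eq_minusPar (hQ : Good (qExt m (qBin a b)))
    {ψ : qAut (qExt m (qBin a b)) →* Multiplicative (ZMod 2) × ℤˣ}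
    (h1 : ∀ (v : (Fin m ⊕ Fin m) ⊕ Fin 2 → F) (hv : qExt m (qBin a b) v ≠ 0),
      (ψ (qRefl _ hv)).1 = Multiplicative.ofAdd 1)
    (h : qAut (qExt m (qBin a b))) :
    (ψ h).1 = minusPar binAniso_of_fact hQ ⟨qIncl _ h, qIncl_mem_simSub hQ h⟩ := by
  let φ := (minusPar binAniso_of_fact hQ).comp
    ((qIncl (qExt m (qBin a b))).codRestrict (simSub hQ) (qIncl_mem_simSub hQ))
  change (ψ h).1 = φ h
  have hgen := reflGroup_eq_top (qExt m (qBin a b)) hQ.nondeg (Or.inr (by have := hQ.seven; omega))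
  have hmem : h ∈ reflGroup (qExt m (qBin a b)) := hgen ▸ Subgroup.mem_top h
  induction hmem using Subgroup.closure_induction with
  | mem x hx =>
    obtain ⟨v, hv, rfl⟩ := hx
    rw [h1]
    exact (minusPar_refl binAniso_of_fact hQ hv).symm
  | one => simp
  | mul x y _ _ hx hy => rw [map_mul, map_mul, Prod.fst_mul, hx, hy]
  | inv x _ hx => rw [map_inv, map_inv, Prod.fst_inv, hx]

/-- Square multipliers in the inner-diagonal group. -/
theorem exists_decomp_minusG (hQ : Good (qExt m (qBin a b))) {T : gammaO (qExt m (qBin a b))}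
    (hT : T ∈ minusG binAniso_of_fact hQ) (hsq : IsSquare (mulFac T)) :
    ∃ h, qIncl _ h ∈ minusG binAniso_of_fact hQ ∧ outMap _ T = outMap _ (qIncl (qExt m (qBin a b)) h) := by
  obtain ⟨hs, -⟩ := (mem_minusG _ hQ).1 hT
  obtain ⟨d, h, rfl⟩ := exists_decomp hQ hs hsq
  refine ⟨h, ?_, by rw [map_mul, outMap_scal hQ, one_mul]⟩
  have := mul_mem (inv_mem ((minusDiag binAniso_of_fact hQ).scal_mem d)) hT
  rwa [inv_mul_cancel_left] at this

/-- The characteristic two case: the outer automorphism group is the Galois group. -/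
theorem out_minus_two (hQ : Good (qExt m (qBin a b))) (h2 : ringChar F = 2) :
    Nonempty (Cfsg.Out (TQ (qExt m (qBin a b))) ≃* (QE a b ≃+* QE a b)) := by
  classical
  haveI : Nonempty ((Fin m ⊕ Fin m) ⊕ Fin 2) := ⟨.inr 0⟩
  haveI : CharP F 2 := h2 ▸ ringChar.charP F
  obtain ⟨π, hπ⟩ := exists_outGal hQ
  refine ⟨MulEquiv.ofBijective π ⟨?_, fun σ' => ⟨outMap _ (semS m a b σ'), by rw [hπ, psiHom_semS]⟩⟩⟩
  rw [← MonoidHom.ker_eq_bot_iff, eq_bot_iff]
  intro x hx
  obtain ⟨T, rfl⟩ := outMap_surjective hQ x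
  rw [MonoidHom.mem_ker, hπ, psiHom_eq_one_iff] at hx
  obtain ⟨h, hh, e⟩ := exists_decomp_minusG hQ hx (FiniteField.isSquare_of_char_two h2 _)
  rw [Subgroup.mem_bot, e]
  refine outMap_eich hQ ?_
  have hn : 7 ≤ Module.finrank F ((Fin m ⊕ Fin m) ⊕ Fin 2 → F) := hQ.seven
  rw [eichGroup_eq_commutator _ hQ.nondeg (by omega)]
  have hidx := index_commutator_two (qExt m (qBin a b)) hQ.nondeg (by omega) (Or.inr (by omega))
  obtain ⟨v, hv⟩ := exists_value (qExt m (qBin a b)) hQ.nondeg (by omega) one_ne_zero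
  have hv' : (qExt m (qBin a b)) v ≠ 0 := hv ▸ one_ne_zero
  let φ := (minusPar binAniso_of_fact hQ).comp ((qIncl (qExt m (qBin a b))).codRestrict (simSub hQ) (qIncl_mem_simSub hQ))
  have hzero : ∀ y ∈ commutator (qAut (qExt m (qBin a b))), φ y = 1 := fun y hy =>
    MonoidHom.mem_ker.1 (Abelianization.commutator_subset_ker φ hy)
  have hrefl : φ (qRefl (qExt m (qBin a b)) hv') = Multiplicative.ofAdd 1 := minusPar_refl binAniso_of_fact hQ hv'
  have hr : qRefl (qExt m (qBin a b)) hv' ∉ commutator (qAut (qExt m (qBin a b))) := fun hm =>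
    absurd ((hzero _ hm).symm.trans hrefl) (by decide)
  by_contra hcon
  have h1 := hzero _ ((Subgroup.mul_mem_iff_of_index_two hidx).2 (iff_of_false hcon hr))
  have h0 : φ h = 1 := ((mem_minusG _ hQ).1 hh).2
  rw [map_mul, h0, one_mul, hrefl] at h1
  exact absurd h1 (by decide)

/-- The data of the odd characteristic case. -/
theorem minus_kernel (hQ : Good (qExt m (qBin a b))) (h2 : ringChar F ≠ 2)
    [Nonempty ((Fin m ⊕ Fin m) ⊕ Fin 2)] :
    ∃ (ψ : qAut (qExt m (qBin a b)) →* Multiplicative (ZMod 2) × ℤˣ) (w : qAut (qExt m (qBin a b))),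
      (∀ h, h ∈ eichGroup (qExt m (qBin a b)) ↔ ψ h = 1) ∧
      (∀ (v : (Fin m ⊕ Fin m) ⊕ Fin 2 → F) (hv : qExt m (qBin a b) v ≠ 0),
        (ψ (qRefl _ hv)).1 = Multiplicative.ofAdd 1) ∧
      (∀ (v u : (Fin m ⊕ Fin m) ⊕ Fin 2 → F) (hv : qExt m (qBin a b) v ≠ 0) (hu : qExt m (qBin a b) u ≠ 0),
        ψ (qRefl _ hv) = ψ (qRefl _ hu) ↔ IsSquare (qExt m (qBin a b) v * qExt m (qBin a b) u)) ∧
      qIncl _ w ∈ minusG binAniso_of_fact hQ ∧ ψ w = (1, -1) ∧
      ∀ T ∈ minusG binAniso_of_fact hQ, IsSquare (mulFac T) →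
        outMap _ T = 1 ∨ outMap _ T = outMap _ (qIncl (qExt m (qBin a b)) w) := by
  classical
  have h2' : (2 : F) ≠ 0 := Ring.two_ne_zero h2
  have hn : 7 ≤ Module.finrank F ((Fin m ⊕ Fin m) ⊕ Fin 2 → F) := hQ.seven
  obtain ⟨ψ, -, hker, h1, hiff⟩ := exists_abel_odd (qExt m (qBin a b)) h2' hQ.nondeg (by omega)
  have heich : ∀ h, h ∈ eichGroup (qExt m (qBin a b)) ↔ ψ h = 1 := fun h => by
    rw [eichGroup_eq_commutator _ hQ.nondeg (by omega), ← hker, MonoidHom.mem_ker]
  obtain ⟨u, hu⟩ := FiniteField.exists_nonsquare h2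
  have hu0 : u ≠ 0 := fun e => hu (e ▸ IsSquare.zero)
  obtain ⟨v₁, hv₁⟩ := exists_value (qExt m (qBin a b)) hQ.nondeg (by omega) one_ne_zero
  obtain ⟨v₂, hv₂⟩ := exists_value (qExt m (qBin a b)) hQ.nondeg (by omega) hu0
  have hv₁' : (qExt m (qBin a b)) v₁ ≠ 0 := hv₁ ▸ one_ne_zero
  have hv₂' : (qExt m (qBin a b)) v₂ ≠ 0 := hv₂ ▸ hu0
  set w := qRefl (qExt m (qBin a b)) hv₁' * qRefl (qExt m (qBin a b)) hv₂' with hw
  have hpair : ∀ x : Multiplicative (ZMod 2) × ℤˣ, x.1 = 1 → x = 1 ∨ x = (1, -1) := by decide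
  have hfst0 : ∀ h, qIncl (qExt m (qBin a b)) h ∈ minusG binAniso_of_fact hQ → (ψ h).1 = 1 := fun h hh =>
    (fst_eq_minusPar hQ h1 h).trans ((mem_minusG _ hQ).1 hh).2
  have hwG : qIncl (qExt m (qBin a b)) w ∈ minusG binAniso_of_fact hQ := by
    rw [hw, map_mul]; exact (minusDiag binAniso_of_fact hQ).refl_pair hv₁' hv₂'
  have hwψ : ψ w = (1, -1) := by
    refine (hpair _ (hfst0 w hwG)).resolve_left fun hw1 => hu ?_
    rw [hw, map_mul] at hw1
    have h3 : ψ (qRefl (qExt m (qBin a b)) hv₁') = ψ (qRefl (qExt m (qBin a b)) hv₂') := by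
      rw [← inv_eq_of_mul_eq_one_right hw1, ← map_inv, qRefl_inv]
    have := (hiff _ _ hv₁' hv₂').1 h3
    rwa [hv₁, hv₂, one_mul] at this
  refine ⟨ψ, w, heich, h1, hiff, hwG, hwψ, fun T hT hsq => ?_⟩
  obtain ⟨h, hh, e⟩ := exists_decomp_minusG hQ hT hsq
  rcases hpair _ (hfst0 h hh) with hψ | hψ
  · exact Or.inl (e.trans (outMap_eich hQ ((heich h).2 hψ)))
  · refine Or.inr (e.trans ?_)
    have hx : outMap (qExt m (qBin a b)) (qIncl _ h) =
        outMap _ (qIncl _ w) * outMap _ (qIncl (qExt m (qBin a b)) (w⁻¹ * h)) := by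
      rw [← map_mul, ← map_mul, mul_inv_cancel_left]
    rw [hx, outMap_eich hQ (g := w⁻¹ * h) ((heich _).2 (by rw [map_mul, map_inv, hwψ, hψ, inv_mul_cancel])), mul_one]

theorem mulFac_eq_one_of_outMap (hQ : Good (qExt m (qBin a b))) {T : gammaO (qExt m (qBin a b))}
    (h : outMap _ T = 1) : IsSquare (mulFac T) := by
  obtain ⟨c, g, -, rfl⟩ := (outMap_eq_one_iff hQ).1 h
  rw [mulFac_mul hQ, linear_of_simSub hQ (scal_mem_simSub hQ c), mulFac_qIncl hQ, mul_one, mulFac_scal hQ]
  exact ⟨_, rfl⟩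

theorem isSquare_mulFac_mul (hQ : Good (qExt m (qBin a b))) {S T : gammaO (qExt m (qBin a b))}
    (hS : S ∈ simSub hQ) (hS' : ¬ IsSquare (mulFac S)) (hT' : ¬ IsSquare (mulFac T)) :
    IsSquare (mulFac (S * T)) := by
  classical
  rw [mulFac_mul hQ, linear_of_simSub hQ hS]
  exact (quadraticChar_one_iff_isSquare (mul_ne_zero (semisim_spec _).ne (semisim_spec _).ne)).1 (by
    rw [map_mul, quadraticChar_neg_one_iff_not_isSquare.2 hS', quadraticChar_neg_one_iff_not_isSquare.2 hT']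
    norm_num)

/-- Generic odd characteristic. -/
theorem out_minus_odd (hQ : Good (qExt m (qBin a b))) (h2 : ringChar F ≠ 2)
    (hcase : ¬ (Fintype.card F % 4 = 3 ∧ Even m)) :
    Nonempty (Cfsg.Out (TQ (qExt m (qBin a b))) ≃* Multiplicative (ZMod 2) × (QE a b ≃+* QE a b)) := by
  classical
  haveI : Nonempty ((Fin m ⊕ Fin m) ⊕ Fin 2) := ⟨.inr 0⟩
  obtain ⟨π, hπ⟩ := exists_outGal hQ
  obtain ⟨ψ, w, heich, h1, hiff, hwG, hwψ, hsq⟩ := minus_kernel hQ h2
  have hw1 : outMap _ (qIncl (qExt m (qBin a b)) w) = 1 := by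
    have hneg := psi_negAut h2 h1 hiff
    rw [if_neg hcase] at hneg
    rw [← mul_inv_cancel_left (negAut (qExt m (qBin a b))) w, map_mul, map_mul, negAut_eq_scal, outMap_scal hQ,
      one_mul]
    exact outMap_eich hQ ((heich _).2 (by rw [map_mul, map_inv, hneg, hwψ, inv_mul_cancel]))
  have hsq' : ∀ T ∈ minusG binAniso_of_fact hQ, IsSquare (mulFac T) → outMap (qExt m (qBin a b)) T = 1 :=
    fun T hT hs => (hsq T hT hs).elim id fun e => e.trans hw1
  obtain ⟨u, hu⟩ := FiniteField.exists_nonsquare h2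
  have hu0 : u ≠ 0 := fun e => hu (e ▸ IsSquare.zero)
  obtain ⟨T₀, hT₀, hmu⟩ := exists_minusG_mult binAniso_of_fact hQ.toPre hu0
  refine split_ker_two π ((outMap _).comp (semS m a b)) (fun σ' => ?_) (d := outMap _ T₀) ?_ ?_ ?_
  · rw [MonoidHom.comp_apply, hπ, psiHom_semS]
  · rw [MonoidHom.mem_ker, hπ, psiHom_eq_one_iff]
    exact hT₀
  · intro h
    exact hu (hmu ▸ mulFac_eq_one_of_outMap hQ h)
  · intro k hk
    obtain ⟨T, rfl⟩ := outMap_surjective hQ k
    rw [MonoidHom.mem_ker, hπ, psiHom_eq_one_iff] at hk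
    by_cases hs : IsSquare (mulFac T)
    · exact Or.inl (hsq' T hk hs)
    · refine Or.inr ?_
      have hT₀2 : outMap (qExt m (qBin a b)) (T₀ * T₀) = 1 :=
        hsq' _ (mul_mem hT₀ hT₀) (isSquare_mulFac_mul hQ ((mem_minusG _ hQ).1 hT₀).1 (hmu ▸ hu) (hmu ▸ hu))
      have hTT : outMap (qExt m (qBin a b)) (T₀ * T) = 1 :=
        hsq' _ (mul_mem hT₀ hk) (isSquare_mulFac_mul hQ ((mem_minusG _ hQ).1 hT₀).1 (hmu ▸ hu) hs)
      rw [map_mul] at hT₀2 hTT
      exact mul_left_cancel (hTT.trans hT₀2.symm)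

/-- The square of a torus element of multiplier `-1`. -/
theorem torus_sq {l : Fin 2 → F} (hl : l 0 ^ 2 + a * l 0 * l 1 + b * l 1 ^ 2 = -1)
    (ht : qExt m (qBin a b) (Sum.elim 0 ![a * l 0 + 2 * b * l 1, -2 * l 0 - a * l 1]) ≠ 0)
    (he : qExt m (qBin a b) (eVec m a (.inr 0)) ≠ 0) :
    torusT (n := m) hl (neg_ne_zero.2 one_ne_zero) * torusT hl (neg_ne_zero.2 one_ne_zero) =
      qIncl _ (qRefl _ ht * qRefl _ he) := gammaO_ext fun v => by
  have hd : (-(4 * b - a * a) : F) ≠ 0 := neg_ne_zero.2 (binAniso_disc binAniso_of_fact)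
  have hqt : qExt m (qBin a b) (Sum.elim 0 ![a * l 0 + 2 * b * l 1, -2 * l 0 - a * l 1]) = -(4 * b - a * a) := by
    simp [coe_qExt_qBin, Cfsg.quadFormMinus]
    linear_combination (4 * b - a * a) * hl
  have hqe : qExt m (qBin a b) (eVec m a (.inr 0)) = 1 := by rw [eVec_quad]; rfl
  have hpe : ∀ u, QuadraticMap.polar (qExt m (qBin a b)) u (eVec m a (.inr 0)) = 2 * u (.inr 0) + a * u (.inr 1) :=
    fun u => by
      rw [polar_minus, Finset.sum_eq_zero fun i _ => by simp [eVec]]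
      simp [eVec]
  have hpt : ∀ u, QuadraticMap.polar (qExt m (qBin a b)) u (Sum.elim 0 ![a * l 0 + 2 * b * l 1, -2 * l 0 - a * l 1]) =
      (4 * b - a * a) * (l 1 * u (.inr 0) - l 0 * u (.inr 1)) := fun u => by
    rw [polar_minus, Finset.sum_eq_zero fun i _ => by simp]
    simp
    ring
  rw [gammaO_mul_apply, torusT_apply, torusT_apply, qIncl_apply, qAut_mul_apply, qRefl_apply, qRefl_apply,
    hqt, hqe, hpe, hpt, inv_neg, neg_mul, inv_mul_cancel_left₀ (binAniso_disc binAniso_of_fact)]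
  funext i
  rcases i with (i | i) | i
  · simp [torusLin, eVec]
  · simp [torusLin, eVec]
  · fin_cases i
    · simp [torusLin, eVec]
      linear_combination (v (.inr 0) + a * v (.inr 1)) * hl
    · simp [torusLin, eVec]
      linear_combination (-v (.inr 1)) * hl

/-- The torus element is inverted by the conjugation. -/
theorem star_torus {l : Fin 2 → F} (hl : l 0 ^ 2 + a * l 0 * l 1 + b * l 1 ^ 2 = -1)
    (he : qExt m (qBin a b) (eVec m a (.inr 0)) ≠ 0) (hs : qExt m (qBin a b) (starVec m a) ≠ 0) :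
    semS m a b (starE a b) * torusT hl (neg_ne_zero.2 one_ne_zero) * semS m a b (starE a b) *
      torusT hl (neg_ne_zero.2 one_ne_zero) = qIncl _ (qRefl _ he * qRefl _ hs) := gammaO_ext fun v => by
  have hd : (4 * b - a * a : F) ≠ 0 := binAniso_disc binAniso_of_fact
  have hqe : qExt m (qBin a b) (eVec m a (.inr 0)) = 1 := by rw [eVec_quad]; rfl
  have hpe : ∀ u, QuadraticMap.polar (qExt m (qBin a b)) u (eVec m a (.inr 0)) = 2 * u (.inr 0) + a * u (.inr 1) :=
    fun u => by
      rw [polar_minus, Finset.sum_eq_zero fun i _ => by simp [eVec]]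
      simp [eVec]
  have href : ∀ u, (qRefl (qExt m (qBin a b)) hs).1 u = u + u (.inr 1) • starVec m a := fun u => by
    rw [qRefl_apply, starVec_quad, polar_starVec, mul_neg, inv_mul_cancel_left₀ hd, neg_smul, sub_neg_eq_add]
  rw [semS_starE, gammaO_mul_apply, gammaO_mul_apply, gammaO_mul_apply, torusT_apply, torusT_apply, qIncl_apply,
    qIncl_apply, qIncl_apply, qAut_mul_apply, href, href, href, qRefl_apply, hqe, hpe]
  funext i
  rcases i with (i | i) | i
  · simp [torusLin, starVec, eVec]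
  · simp [torusLin, starVec, eVec]
  · fin_cases i
    · simp [torusLin, starVec, eVec]
      linear_combination (v (.inr 0)) * hl
    · simp [torusLin, starVec, eVec]
      linear_combination (v (.inr 1)) * hl

/-- The exceptional case: a dihedral group of order eight. -/
theorem out_minus_dihedral {p f : ℕ} [Fact p.Prime] (hF : Fintype.card F = p ^ f) (hQ : Good (qExt m (qBin a b)))
    (hq : Fintype.card F % 4 = 3) (hm : Even m) :
    Nonempty (Cfsg.Out (TQ (qExt m (qBin a b))) ≃* DihedralGroup 4 × Multiplicative (ZMod f)) := by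
  classical
  haveI : Nonempty ((Fin m ⊕ Fin m) ⊕ Fin 2) := ⟨.inr 0⟩
  have hodd : Odd (Fintype.card F) := Nat.odd_iff.2 (by omega)
  have h2 : ringChar F ≠ 2 := fun hc => by
    rw [FiniteField.even_card_iff_char_two] at hc
    omega
  have h2' : (2 : F) ≠ 0 := Ring.two_ne_zero h2
  have hfodd : Odd f := by
    by_contra hc
    obtain ⟨k, hk⟩ := Nat.not_odd_iff_even.1 hc
    have h4 : p ^ f % 4 = (p ^ k % 4) * (p ^ k % 4) % 4 := by rw [hk, pow_add, Nat.mul_mod]
    rw [← hF, hq] at h4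
    have : p ^ k % 4 < 4 := Nat.mod_lt _ (by omega)
    interval_cases p ^ k % 4 <;> omega
  obtain ⟨π, hπ⟩ := exists_outGal hQ
  obtain ⟨ψ, w, heich, h1, hiff, hwG, hwψ, hsq⟩ := minus_kernel hQ h2
  set O := outMap (qExt m (qBin a b))
  have hneg := psi_negAut h2 h1 hiff
  rw [if_pos ⟨hq, hm⟩] at hneg
  have hw1 : O (qIncl (qExt m (qBin a b)) w) ≠ 1 := fun h => by
    rcases outMap_qIncl_eq_one hQ h with h' | h'
    · rw [heich, hwψ] at h'; exact absurd h' (by decide)
    · rw [heich, map_mul, hneg, one_mul, hwψ] at h'; exact absurd h' (by decide)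
  have hn1 : ¬ IsSquare (-1 : F) := fun hs => FiniteField.isSquare_neg_one_iff.1 hs hq
  have hns := neg_disc_nonsquare (a := a) (b := b) h2'
  obtain ⟨l, hl⟩ := exists_value (qBin a b) (polarNondeg_qBin binAniso_of_fact) (by simp [Module.finrank_pi])
    (neg_ne_zero.2 (one_ne_zero (α := F)))
  rw [qBin_apply] at hl
  set T₀ := torusT (n := m) hl (neg_ne_zero.2 one_ne_zero)
  have hT₀ : T₀ ∈ minusG binAniso_of_fact hQ := torusT_mem_minusG _ hQ hl _
  have hmu : mulFac T₀ = -1 := mulFac_torusT hQ hl _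
  -- the square of the torus element
  let tv : (Fin m ⊕ Fin m) ⊕ Fin 2 → F := Sum.elim 0 ![a * l 0 + 2 * b * l 1, -2 * l 0 - a * l 1]
  have htv : (qExt m (qBin a b)) tv = -(4 * b - a * a) := by
    simp [tv, coe_qExt_qBin, Cfsg.quadFormMinus]
    linear_combination (4 * b - a * a) * hl
  have htv' : (qExt m (qBin a b)) tv ≠ 0 := fun h => hns (by rw [← htv, h]; exact IsSquare.zero)
  have he0' : (qExt m (qBin a b)) (eVec m a (.inr 0)) = 1 := by rw [eVec_quad]; rfl
  have he0 : (qExt m (qBin a b)) (eVec m a (.inr 0)) ≠ 0 := by rw [he0']; exact one_ne_zero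
  have hsquare : T₀ * T₀ = qIncl _ (qRefl _ htv' * qRefl _ he0) := torus_sq hl htv' he0
  have hψ2 : ψ (qRefl (qExt m (qBin a b)) htv' * qRefl (qExt m (qBin a b)) he0) = (1, -1) := by
    have hpair : ∀ x : Multiplicative (ZMod 2) × ℤˣ, x.1 = 1 → x = 1 ∨ x = (1, -1) := by decide
    refine (hpair _ (by rw [map_mul, Prod.fst_mul, h1, h1]; rfl)).resolve_left fun hw1 => hns ?_
    rw [map_mul] at hw1
    have h3 : ψ (qRefl (qExt m (qBin a b)) htv') = ψ (qRefl (qExt m (qBin a b)) he0) := by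
      rw [← inv_eq_of_mul_eq_one_right hw1, ← map_inv, qRefl_inv]
    have := (hiff _ _ htv' he0).1 h3
    rwa [htv, he0', mul_one] at this
  have hg2 : O T₀ * O T₀ = O (qIncl (qExt m (qBin a b)) w) := by
    rw [← map_mul, hsquare, ← mul_inv_cancel_left w (qRefl (qExt m (qBin a b)) htv' * qRefl (qExt m (qBin a b)) he0), map_mul (qIncl (qExt m (qBin a b))), map_mul O,
      show O (qIncl (qExt m (qBin a b)) (w⁻¹ * _)) = 1 from outMap_eich hQ ((heich _).2 (by
        rw [map_mul, map_inv, hψ2, hwψ, inv_mul_cancel])), mul_one]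
  have hw2 : O (qIncl (qExt m (qBin a b)) w) * O (qIncl (qExt m (qBin a b)) w) = 1 := by
    rw [← map_mul, ← map_mul]
    exact outMap_eich hQ ((heich _).2 (by rw [map_mul, hwψ]; decide))
  haveI : Finite (Cfsg.Out (TQ (qExt m (qBin a b)))) := Finite.of_surjective _ (outMap_surjective hQ)
  have hord : orderOf (O T₀) = 4 := by
    have h4 : O T₀ ^ (2 ^ (1 + 1)) = 1 := by
      rw [show 2 ^ (1 + 1) = 2 * 2 from rfl, pow_mul, sq, sq, hg2, hw2]
    have hne : ¬ O T₀ ^ (2 ^ 1) = 1 := by rw [pow_one, sq, hg2]; exact hw1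
    exact orderOf_eq_prime_pow hne h4
  -- the Galois group
  obtain ⟨e⟩ := CfsgLib.PSLAut.exists_ringAut_equiv (F := QE a b) (p := p) (f := 2 * f) (by
    rw [← Nat.card_eq_fintype_card, qe_natCard, Nat.card_eq_fintype_card, hF, ← pow_mul, mul_comm])
  haveI : IsCyclic (QE a b ≃+* QE a b) := isCyclic_of_surjective e.symm e.symm.surjective
  have hA : Nat.card (QE a b ≃+* QE a b) = 2 * f := by
    haveI : NeZero (2 * f) := ⟨by have := hfodd.pos; omega⟩
    rw [Nat.card_congr e.toEquiv, Nat.card_eq_fintype_card, Fintype.card_multiplicative]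
    exact ZMod.card _
  refine split_ker_four hfodd hA π (O.comp (semS m a b)) (fun σ' => ?_) (c := starE a b) ?_ (g := O T₀) ?_ hord ?_ ?_
  · rw [MonoidHom.comp_apply, hπ, psiHom_semS]
  · exact orderOf_eq_prime (by rw [sq, starE_sq]) starE_ne_one
  · rw [MonoidHom.mem_ker, hπ, psiHom_eq_one_iff]
    exact hT₀
  · intro k hk
    obtain ⟨T, rfl⟩ := outMap_surjective hQ k
    rw [MonoidHom.mem_ker, hπ, psiHom_eq_one_iff] at hk
    have hpow : ∀ S ∈ minusG binAniso_of_fact hQ, IsSquare (mulFac S) → O S ∈ Subgroup.zpowers (O T₀) :=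
      fun S hS hs => (hsq S hS hs).elim (fun e => e ▸ one_mem _) fun e => by
        change O S = _ at e
        rw [e, ← hg2]
        exact mul_mem (Subgroup.mem_zpowers _) (Subgroup.mem_zpowers _)
    by_cases hs : IsSquare (mulFac T)
    · exact hpow T hk hs
    · have := hpow _ (mul_mem hT₀ hk) (isSquare_mulFac_mul hQ ((mem_minusG _ hQ).1 hT₀).1 (hmu ▸ hn1) hs)
      rw [map_mul] at this
      have h3 := mul_mem (inv_mem (Subgroup.mem_zpowers (O T₀))) this
      rwa [inv_mul_cancel_left] at h3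
  · change O (semS m a b (starE a b)) * O T₀ * O (semS m a b (starE a b)) = (O T₀)⁻¹
    have hsv := starVec_ne (a := a) (b := b) m
    have hψ3 : ψ (qRefl (qExt m (qBin a b)) he0 * qRefl (qExt m (qBin a b)) hsv) = 1 := by
      rw [map_mul, (hiff _ _ he0 hsv).2 ?_, ← map_mul, qRefl_mul_self, map_one]
      rw [he0', one_mul, starVec_quad]
      exact (quadraticChar_one_iff_isSquare (binAniso_disc binAniso_of_fact)).1 (by
        rw [show (4 * b - a * a : F) = -1 * -(4 * b - a * a) by ring, map_mul,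
          quadraticChar_neg_one_iff_not_isSquare.2 hn1, quadraticChar_neg_one_iff_not_isSquare.2 hns]
        norm_num)
    have hprod : semS m a b (starE a b) * T₀ * semS m a b (starE a b) * T₀ =
        qIncl _ (qRefl _ he0 * qRefl _ hsv) := star_torus hl he0 hsv
    rw [eq_inv_iff_mul_eq_one, ← map_mul, ← map_mul, ← map_mul, hprod]
    exact outMap_eich hQ ((heich _).2 hψ3)

end CfsgLib.POAut
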