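/-
The similitudes of a space of minus type modulo inner automorphisms.
-/
import Cfsg.Agent.Lib.KnownSimple.POAut.PGOPlus
import Cfsg.Agent.Lib.KnownSimple.POAut.OutMinus

set_option autoImplicit false
set_option maxHeartbeats 800000

namespace CfsgLib.POAut

open CfsgLib.Classical CfsgLib.Classical22 QuadraticAlgebra

variable {F : Type*} [Field F] [Fintype F] {a b : F} [Fact (∀ r : F, r ^ 2 ≠ -b + a * r)] {m : ℕ}

set_option maxHeartbeats 2000000 in
/-- All the data in minus type. -/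
theorem exists_minus_data (hQ : Good (qExt m (qBin a b))) (h2 : ringChar F ≠ 2) :
    ∃ D : SimData hQ.toPre, (D.diagS.map (simSub hQ.toPre).subtype = minusG binAniso_of_fact hQ) ∧
      (¬ (Even m ∧ Fintype.card F % 4 = 3) → D.ψ (negAut _) = (1, -1)) ∧
      ((Even m ∧ Fintype.card F % 4 = 3) → D.ψ (negAut _) = 1 ∧ D.cl D.T * D.cl D.T ≠ 1 ∧
        ¬ Commute (D.cl ⟨qIncl _ D.refl, qIncl_mem_simSub hQ.toPre _⟩) (D.cl D.T) ∧
        ∃ R S : simSub hQ.toPre, D.cl R * D.cl R ≠ 1 ∧ D.cl S * D.cl S = 1 ∧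
          D.cl S * D.cl R * D.cl S * D.cl R = 1 ∧ D.chi S ≠ 1 ∧ D.chi S ≠ D.chi R) := by
  classical
  haveI : Nonempty ((Fin m ⊕ Fin m) ⊕ Fin 2) := ⟨.inr 0⟩
  have h2' : (2 : F) ≠ 0 := Ring.two_ne_zero h2
  have hd : (4 * b - a * a : F) ≠ 0 := binAniso_disc binAniso_of_fact
  obtain ⟨ψ, w, heich, h1, hiff, -, hw, -⟩ := minus_kernel hQ h2
  have hneg := psi_negAut h2 h1 hiff
  have hns := neg_disc_nonsquare (a := a) (b := b) h2'
  -- the multiplier
  obtain ⟨c, hc0, hcns, hcase⟩ : ∃ c : F, c ≠ 0 ∧ ¬ IsSquare c ∧ (Fintype.card F % 4 = 3 → c = -1) := by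
    by_cases h3 : Fintype.card F % 4 = 3
    · exact ⟨-1, neg_ne_zero.2 one_ne_zero, fun hs => FiniteField.isSquare_neg_one_iff.1 hs h3, fun _ => rfl⟩
    · exact ⟨_, neg_ne_zero.2 hd, hns, fun h => absurd h h3⟩
  obtain ⟨l, hl⟩ := exists_value (qBin a b) (polarNondeg_qBin binAniso_of_fact) (by simp [Module.finrank_pi]) hc0
  rw [qBin_apply] at hl
  have hT₀ := torusT_mem_minusG (n := m) binAniso_of_fact hQ.toPre hl hc0
  obtain ⟨hTs, hTp⟩ := (mem_minusG _ _).1 hT₀
  have hsv := starVec_ne (a := a) (b := b) m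
  let D : SimData hQ.toPre :=
    { h2 := h2'
      ψ := ψ
      heich := heich
      h1 := h1
      hiff := hiff
      par := minusPar binAniso_of_fact hQ.toPre
      par_scal := fun u => minusPar_scal binAniso_of_fact hQ.toPre u
      par_incl := fun h => (fst_eq_minusPar hQ h1 h).symm
      w := w
      hw := hw
      T := ⟨torusT hl hc0, hTs⟩
      hT := hTp
      hTμ := by rw [mulFac_torusT hQ.toPre hl hc0]; exact hcns
      refl := qRefl _ hsv
      hrefl := h1 _ hsv }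
  refine ⟨D, rfl, fun hh => ?_, fun hh => ?_⟩
  · change ψ (negAut _) = _
    rw [hneg, if_neg fun h => hh ⟨h.2, h.1⟩]
  have hn1 : D.ψ (negAut (qExt m (qBin a b))) = 1 := by
    change ψ (negAut _) = _
    rw [hneg, if_pos ⟨hh.2, hh.1⟩]
  obtain rfl := hcase hh.2
  have hn' : ¬ IsSquare (-1 : F) := fun hs => FiniteField.isSquare_neg_one_iff.1 hs hh.2
  let tv : (Fin m ⊕ Fin m) ⊕ Fin 2 → F := Sum.elim 0 ![a * l 0 + 2 * b * l 1, -2 * l 0 - a * l 1]
  have hl' : l 0 ^ 2 + a * l 0 * l 1 + b * l 1 ^ 2 = -1 := by linear_combination hl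
  have htv : (qExt m (qBin a b)) tv = -(4 * b - a * a) := by
    simp [tv, coe_qExt_qBin, Cfsg.quadFormMinus]
    linear_combination (4 * b - a * a) * hl'
  have htv' : (qExt m (qBin a b)) tv ≠ 0 := fun h => hns (by rw [← htv, h]; exact IsSquare.zero)
  have he0' : (qExt m (qBin a b)) (eVec m a (.inr 0)) = 1 := by rw [eVec_quad]; rfl
  have he0 : (qExt m (qBin a b)) (eVec m a (.inr 0)) ≠ 0 := by rw [he0']; exact one_ne_zero
  have hT2 : D.cl D.T * D.cl D.T ≠ 1 := by
    rw [← map_mul, show D.T * D.T = ⟨qIncl _ (qRefl _ htv' * qRefl _ he0), qIncl_mem_simSub hQ.toPre _⟩ from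
      Subtype.ext (torus_sq hl' htv' he0)]
    intro hw1
    replace hw1 : ψ _ = 1 := (D.cl_incl_eq_one_iff hn1 _).1 hw1
    rw [map_mul] at hw1
    have h3 : ψ (qRefl (qExt m (qBin a b)) htv') = ψ (qRefl (qExt m (qBin a b)) he0) := by
      rw [← inv_eq_of_mul_eq_one_right hw1, ← map_inv, qRefl_inv]
    have := (hiff _ _ htv' he0).1 h3
    rw [htv, he0', mul_one] at this
    exact hns this
  let ρ : simSub hQ.toPre := ⟨qIncl _ (qRefl _ hsv), qIncl_mem_simSub hQ.toPre _⟩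
  have hρ2 : D.cl ρ * D.cl ρ = 1 := by
    rw [← map_mul, show ρ * ρ = 1 from Subtype.ext (by
      change qIncl _ (qRefl _ hsv) * qIncl _ (qRefl _ hsv) = 1
      rw [← map_mul, qRefl_mul_self, map_one]), map_one]
  suffices hrel : D.cl ρ * D.cl D.T * D.cl ρ * D.cl D.T = 1 by
    refine ⟨hn1, hT2, fun hc => hT2 ?_, D.T, ρ, hT2, hρ2, hrel, ?_, ?_⟩
    · change Commute (D.cl ρ) (D.cl D.T) at hc
      rwa [hc.eq, mul_assoc (D.cl D.T) (D.cl ρ), hρ2, mul_one] at hrel
    · rw [show D.chi ρ = _ from D.chi_refl]; decide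
    · rw [show D.chi ρ = _ from D.chi_refl, D.chi_T]; decide
  · rw [← map_mul, ← map_mul, ← map_mul,
      show ρ * D.T * ρ * D.T = ⟨qIncl _ (qRefl _ he0 * qRefl _ hsv), qIncl_mem_simSub hQ.toPre _⟩ from Subtype.ext (by
        have h := star_torus (m := m) hl' he0 hsv
        rw [semS_starE] at h
        exact h)]
    refine (D.cl_incl_eq_one_iff hn1 _).2 ?_
    change ψ _ = 1
    rw [map_mul, (hiff _ _ he0 hsv).2 ?_, ← map_mul, qRefl_mul_self, map_one]
    rw [he0', one_mul, starVec_quad]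
    exact (quadraticChar_one_iff_isSquare hd).1 (by
      rw [show (4 * b - a * a : F) = -1 * -(4 * b - a * a) by ring, map_mul,
        quadraticChar_neg_one_iff_not_isSquare.2 hn', quadraticChar_neg_one_iff_not_isSquare.2 hns]
      norm_num)

end CfsgLib.POAut
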