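/-
Involutory similitudes of spaces of minus type.
-/
import Cfsg.Agent.Lib.KnownSimple.POAut.GraphSplit
import Cfsg.Agent.Lib.KnownSimple.POAut.PGOMinus

set_option autoImplicit false
set_option maxHeartbeats 1600000

namespace CfsgLib.POAut

open CfsgLib.Classical CfsgLib.Classical22

variable {F : Type*} [Field F] [Fintype F]

/-- The parity of an isometry is trivial when the determinant is one. -/
theorem parityHom_eq_one_of_det {V : Type*} [AddCommGroup V] [Module F V] [FiniteDimensional F V]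
    {Q : QuadraticForm F V} (hQ : PolarNondeg Q) (h2 : (2 : F) ≠ 0) {M : ℕ} (hV : Module.finrank F V = 2 * M)
    (hn : 5 ≤ Module.finrank F V) {U : Submodule F V} (hU : MaxS Q M U)
    (hdet : ∀ (v : V) (hv : Q v ≠ 0), LinearMap.det ((qRefl Q hv).1 : V →ₗ[F] V) = -1)
    (h : qAut Q) (hd : LinearMap.det (h.1 : V →ₗ[F] V) = 1) : parityHom hQ hV hU (qIncl Q h) = 1 := by
  have hmem : h ∈ reflGroup Q := (reflGroup_eq_top Q hQ (Or.inr (by omega))) ▸ Subgroup.mem_top h
  have hne : (-1 : F) ≠ 1 := fun e => h2 (by linear_combination -e)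
  have key : LinearMap.det (h.1 : V →ₗ[F] V) = if parityHom hQ hV hU (qIncl Q h) = 1 then 1 else -1 := by
    clear hd
    induction hmem using Subgroup.closure_induction with
    | mem x hx =>
      obtain ⟨v, hv, rfl⟩ := hx
      rw [parityHom_refl, if_neg (by decide), hdet v hv]
    | one => rw [map_one, map_one, if_pos rfl]; exact LinearMap.det_id
    | mul x y _ _ hx hy =>
      rw [show (((x * y : qAut Q)).1 : V →ₗ[F] V) = (x.1 : V →ₗ[F] V) ∘ₗ (y.1 : V →ₗ[F] V) from rfl,
        LinearMap.det_comp, hx, hy, map_mul, map_mul]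
      rcases zmod2_cases (parityHom hQ hV hU (qIncl Q x)) with e | e <;>
        rcases zmod2_cases (parityHom hQ hV hU (qIncl Q y)) with e' | e' <;> rw [e, e'] <;> simp
      exact fun hf => absurd (by decide) hf
    | inv x _ hx =>
      have h1 : LinearMap.det (((x⁻¹ : qAut Q)).1 : V →ₗ[F] V) * LinearMap.det (x.1 : V →ₗ[F] V) = 1 := by
        rw [← LinearMap.det_comp, show (((x⁻¹ : qAut Q)).1 : V →ₗ[F] V) ∘ₗ (x.1 : V →ₗ[F] V) = LinearMap.id from
          LinearMap.ext fun v => qInv_apply_self Q x v, LinearMap.det_id]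
      rw [hx] at h1
      rw [map_inv, map_inv]
      rcases zmod2_cases (parityHom hQ hV hU (qIncl Q x)) with e | e <;> rw [e] at h1 ⊢
      · rw [if_pos rfl, mul_one] at h1
        rw [inv_one, if_pos rfl, h1]
      · rw [if_neg (by decide), mul_neg, mul_one] at h1
        rw [if_neg (by decide)]
        linear_combination -h1
  by_contra hc
  rw [if_neg hc, hd] at key
  exact hne key.symm

theorem qe_isSquare {a b : F} [Fact (∀ r : F, r ^ 2 ≠ -b + a * r)] (h2 : ringChar F ≠ 2) (μ : F) :
    IsSquare (algebraMap F (QE a b) μ) := by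
  classical
  rcases eq_or_ne μ 0 with rfl | hμ
  · rw [map_zero]; exact IsSquare.zero
  have hK : ringChar (QE a b) ≠ 2 := by rwa [← Algebra.ringChar_eq F (QE a b)]
  rw [FiniteField.isSquare_iff hK ((map_ne_zero _).2 hμ), ← map_pow]
  have hc : Fintype.card (QE a b) = Fintype.card F * Fintype.card F := by
    rw [← Nat.card_eq_fintype_card, qe_natCard, Nat.card_eq_fintype_card, sq]
  obtain ⟨k, hk⟩ : ∃ k, Fintype.card F = 2 * k + 1 :=
    ⟨Fintype.card F / 2, by have := FiniteField.odd_card_of_char_ne_two h2; omega⟩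
  have : Fintype.card (QE a b) / 2 = (Fintype.card F - 1) * (k + 1) := by
    rw [hc, hk, show (2 * k + 1) * (2 * k + 1) = 2 * ((2 * k + 1 - 1) * (k + 1)) + 1 by
      rw [show 2 * k + 1 - 1 = 2 * k by omega]; ring]
    omega
  rw [this, pow_mul, FiniteField.pow_card_sub_one_eq_one μ hμ, one_pow, map_one]

/-- An involutory similitude of non-square multiplier fixes the two classes when the half dimension is even or when it is
skew. -/
theorem minusPar_eq_one_of_nonsquare' {a b : F} [Fact (∀ r : F, r ^ 2 ≠ -b + a * r)] {m : ℕ}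
    (hm3 : 3 ≤ m) (hQ : Pre (qExt m (qBin a b))) (h2 : ringChar F ≠ 2) {T : simSub hQ} {c : Fˣ}
    (hT2 : T.1 * T.1 = scal _ c) (hns : ¬ IsSquare (mulFac T.1)) (hcase : Odd m ∨ (c : F) = -mulFac T.1) :
    minusPar binAniso_of_fact hQ T = 1 := by
  classical
  haveI : Nonempty ((Fin m ⊕ Fin m) ⊕ Fin 2) := ⟨Sum.inr 0⟩
  set f := algebraMap F (QE a b) with hf
  have hc := compat_qMinus f m a b
  set Q' := qExt m (qBin (f a) (f b))
  have hnd : PolarNondeg Q' := polarNondeg_qe m binAniso_of_fact
  have hV := finrank_qMinus_space (F := QE a b) m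
  have h2K : (2 : QE a b) ≠ 0 := by
    rw [← map_ofNat f 2]
    exact (map_ne_zero f).2 (Ring.two_ne_zero h2)
  change parityHom hnd (finrank_qMinus_space m) (maxS_qe m binAniso_of_fact) (bcHom f hc hQ T) = 1
  set T' := bcHom f hc hQ T with hT'
  have hrat : ∀ w, addT T' (f ∘ w) = f ∘ addT T.1 w := fun w => bcHom_rational f hc hQ T w
  have hsig : ∀ s, sigFun T' s = s := fun s => by rw [hT', sigFun_bcHom]; rfl
  let L : ((Fin m ⊕ Fin m) ⊕ Fin 2 → QE a b) →ₗ[QE a b] ((Fin m ⊕ Fin m) ⊕ Fin 2 → QE a b) :=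
    { toFun := fun v => (addT T') v
      map_add' := map_add _
      map_smul' := fun s v => by rw [(semisim_spec T').smul, hsig]; rfl }
  have hLL : ∀ v, L (L v) = f (c : F) • v := fun v => LinearMap.congr_fun (linear_ext_rational f
    (A := L.comp L) (B := f (c : F) • LinearMap.id) fun w => by
      change addT T' (addT T' (f ∘ w)) = f (c : F) • (f ∘ w)
      rw [hrat, hrat, ← gammaO_mul_apply, hT2, scal_apply]
      exact funext fun i => map_mul f _ _) v
  obtain ⟨v₀, hv₀⟩ := exists_value (qExt m (qBin a b)) hQ.nondeg (by have := hQ.seven; omega) one_ne_zero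
  have hmu : mulFac T' = f (mulFac T.1) := by
    have h1 := (semisim_spec T').quad (f ∘ v₀)
    rw [hrat, hc, hc, hsig, (semisim_spec T.1).quad, linear_of_simSub hQ T.2, hv₀, mul_one, map_one, mul_one] at h1
    exact h1.symm
  obtain ⟨s, hs⟩ := qe_isSquare (a := a) (b := b) h2 (mulFac T.1)
  have hs0 : s ≠ 0 := fun e => (semisim_spec T.1).ne (f.injective (by rw [hs, e, mul_zero, map_zero]))
  have hQL : ∀ v, Q' (L v) = s * s * Q' v := fun v => by
    change Q' (addT T' v) = _
    rw [(semisim_spec T').quad, hsig, hmu, hs]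
  let L' := s⁻¹ • L
  have hQ'L : ∀ v, Q' (L' v) = Q' v := fun v => by
    rw [LinearMap.smul_apply, quad_smul, hQL]
    field_simp
  have hinj : Function.Injective L' := fun x y e => by
    have e' : L x = L y := smul_right_injective _ (inv_ne_zero hs0) e
    exact (addT T').injective e'
  let k : qAut Q' := ⟨LinearEquiv.ofInjectiveEndo L' hinj, hQ'L⟩
  have hTk : T' = scal Q' (Units.mk0 s hs0) * qIncl Q' k := gammaO_ext fun v => by
    rw [gammaO_mul_apply, scal_apply, qIncl_apply]
    change addT T' v = s • s⁻¹ • addT T' v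
    rw [smul_smul, mul_inv_cancel₀ hs0, one_smul]
  rw [hTk, map_mul, parityHom_scal, one_mul]
  refine parityHom_eq_one_of_det hnd h2K hV (by rw [hV]; omega) _ (fun v hv => det_qRefl hv) k ?_
  have hkk : ∀ v, k.1 (k.1 v) = (f (c : F) * (s * s)⁻¹) • v := fun v => by
    change s⁻¹ • L (s⁻¹ • L v) = _
    rw [map_smul, hLL, smul_smul, smul_smul]
    congr 1
    ring
  have hq₀ : Q' (f ∘ v₀) = 1 := by rw [hc, hv₀, map_one]
  have he : (f (c : F) * (s * s)⁻¹) * (f (c : F) * (s * s)⁻¹) = 1 := by
    have := qAut_map k (k.1 (f ∘ v₀))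
    rw [qAut_map k (f ∘ v₀), hkk, quad_smul, hq₀, mul_one] at this
    exact this
  rcases mul_self_eq_one_iff.1 he with h1 | h1
  swap
  · exact det_of_sq_neg hnd h2K k fun v => by rw [hkk, h1, neg_one_smul]
  have hm : Odd m := hcase.resolve_right fun hcμ => by
    have hss : s * s ≠ 0 := mul_ne_zero hs0 hs0
    rw [hcμ, map_neg, hs, ← div_eq_mul_inv, neg_div, div_self hss] at h1
    exact h2K (by linear_combination -h1)
  have hk : ∀ v, k.1 (k.1 v) = v := fun v => by rw [hkk, h1, one_smul]
  rw [det_involution h2K hk]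
  -- the conjugation exchanges the eigenspaces
  set σ' := starE a b
  have hσf : ∀ x, σ' (f x) = f x := fun x => by
    rw [hf, resHom_spec, resHom_starE]
    rfl
  have hσs : σ' s = -s := by
    have h3 : σ' s * σ' s = s * s := by rw [← map_mul, ← hs, hσf]
    refine (mul_self_eq_mul_self_iff.1 h3).resolve_left fun h4 => hns ?_
    refine ⟨s.re, f.injective ?_⟩
    rw [map_mul, hs, ← qe_range_of_star (a := a) (b := b) (x := s) h4]
  have hcomm : ∀ v, k.1 (σ' ∘ v) = -(σ' ∘ k.1 v) := by
    intro v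
    have hkey : ∀ v, L (σ' ∘ v) = σ' ∘ L v := fun v => DFunLike.congr_fun
      (semilinear_ext_rational (σ := σ')
        (A := AddMonoidHom.mk' (fun u => L (σ' ∘ u)) fun x y => by
          rw [← map_add]; exact congrArg L (funext fun i => map_add σ' _ _))
        (B := AddMonoidHom.mk' (fun u => σ' ∘ L u) fun x y => by
          rw [map_add]; exact funext fun i => map_add σ' _ _)
        (fun r u => by
          change L (σ' ∘ (r • u)) = σ' r • L (σ' ∘ u)
          rw [← map_smul]
          exact congrArg L (funext fun i => map_mul σ' _ _))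
        (fun r u => by
          change σ' ∘ L (r • u) = σ' r • (σ' ∘ L u)
          rw [map_smul]
          exact funext fun i => map_mul σ' _ _)
        f fun w => by
          change L (σ' ∘ (f ∘ w)) = σ' ∘ L (f ∘ w)
          rw [show σ' ∘ (f ∘ w) = f ∘ w from funext fun i => hσf (w i)]
          change addT T' (f ∘ w) = σ' ∘ addT T' (f ∘ w)
          rw [hrat]
          exact funext fun i => (hσf _).symm) v
    change s⁻¹ • L (σ' ∘ v) = -(σ' ∘ (s⁻¹ • L v))
    rw [hkey]
    funext i
    change s⁻¹ * σ' (L v i) = -σ' (s⁻¹ * L v i)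
    rw [map_mul, map_inv₀, hσs, inv_neg, neg_mul, neg_neg]
  have hmap : ∀ (ε : QE a b), σ' ε = ε → ∀ v ∈ eigS k ε, σ' ∘ v ∈ eigS k (-ε) := fun ε hε v hv => by
    rw [mem_eigS, hcomm, mem_eigS.1 hv, neg_smul]
    refine congrArg Neg.neg (funext fun i => ?_)
    change σ' (ε * v i) = ε * σ' (v i)
    rw [map_mul, hε]
  have hle : ∀ ε : QE a b, σ' ε = ε →
      Module.finrank (QE a b) (eigS k ε) ≤ Module.finrank (QE a b) (eigS k (-ε)) := fun ε hε => by
    have h4 : Nat.card (eigS k ε) ≤ Nat.card (eigS k (-ε)) :=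
      Nat.card_le_card_of_injective (fun v => (⟨σ' ∘ v.1, hmap ε hε v.1 v.2⟩ : eigS k (-ε))) fun x y e =>
        Subtype.ext (funext fun i => σ'.injective (congrFun (congrArg Subtype.val e) i))
    rw [Module.natCard_eq_pow_finrank (K := QE a b), Module.natCard_eq_pow_finrank (K := QE a b) (V := eigS k (-ε))]
      at h4
    exact (Nat.pow_le_pow_iff_right Finite.one_lt_card).1 h4
  have e1 := hle 1 (map_one σ')
  have e2 := hle (-1) (by rw [map_neg, map_one])
  rw [neg_neg] at e2
  have e3 := finrank_eigS h2K hk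
  rw [hV] at e3
  have : Module.finrank (QE a b) (eigS k (-1)) = m + 1 := by omega
  rw [this, (Odd.add_odd hm odd_one).neg_one_pow]

/-- An involutory similitude of non-square multiplier fixes the two classes when the half dimension is even. -/
theorem minusPar_eq_one_of_nonsquare {a b : F} [Fact (∀ r : F, r ^ 2 ≠ -b + a * r)] {m : ℕ} (hm : Odd m)
    (hm3 : 3 ≤ m) (hQ : Pre (qExt m (qBin a b))) (h2 : ringChar F ≠ 2) {T : simSub hQ} {c : Fˣ}
    (hT2 : T.1 * T.1 = scal _ c) (hns : ¬ IsSquare (mulFac T.1)) :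
    minusPar binAniso_of_fact hQ T = 1 :=
  minusPar_eq_one_of_nonsquare' hm3 hQ h2 hT2 hns (Or.inl hm)

/-- The centraliser of a graph involution has square multipliers when the half dimension is even. -/
theorem isSquare_commute_minus {a b : F} [Fact (∀ r : F, r ^ 2 ≠ -b + a * r)] {m : ℕ} (ho : Odd m)
    (hm : 3 ≤ m) (hQ : Pre (qExt m (qBin a b))) (h2 : ringChar F ≠ 2) (D : SimData hQ) {T : simSub hQ}
    (hpar : D.par T ≠ 1) (hmin : minusPar binAniso_of_fact hQ T ≠ 1) {c : Fˣ} (hc : T.1 * T.1 = scal _ c)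
    (g : D.diagS) (hg : Commute (act _ g.1.1) (act _ T.1)) : IsSquare (mulFac g.1.1) := by
  by_cases hsq : IsSquare (mulFac T.1)
  · obtain ⟨d, i, e, hi, hiodd⟩ := D.involution_normal_form hpar hc hsq
    obtain ⟨u, hu⟩ := (act_eq_iff hQ).1 (show act _ (g.1.1 * T.1) = act _ (T.1 * g.1.1) by
      rw [map_mul, map_mul]; exact hg.eq)
    have hg0 := linear_of_simSub hQ g.1.2
    let gl : ((Fin m ⊕ Fin m) ⊕ Fin 2 → F) →ₗ[F] ((Fin m ⊕ Fin m) ⊕ Fin 2 → F) :=
      { toFun := fun v => (addT g.1.1) v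
        map_add' := map_add _
        map_smul' := fun s v => by rw [(semisim_spec g.1.1).smul, hg0]; rfl }
    have hTv : ∀ v, addT T.1 v = (d : F) • i.1 v := fun v => by rw [e, gammaO_mul_apply, scal_apply, qIncl_apply]
    have hgi : ∀ v, gl (i.1 v) = (u : F) • i.1 (gl v) := fun v => by
      have h1 : addT (g.1.1 * T.1) v = addT (scal _ u * (T.1 * g.1.1)) v := by rw [hu]
      rw [gammaO_mul_apply, gammaO_mul_apply, gammaO_mul_apply, scal_apply, hTv, hTv] at h1
      change gl ((d : F) • i.1 v) = (u : F) • (d : F) • i.1 (gl v) at h1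
      rw [map_smul, smul_comm] at h1
      exact smul_right_injective _ d.ne_zero h1
    have hsim : ∀ x y, QuadraticMap.polar (qExt m (qBin a b)) (gl x) (gl y) =
        mulFac g.1.1 * QuadraticMap.polar (qExt m (qBin a b)) x y := fun x y =>
      ((semisim_spec g.1.1).polar x y).trans (by rw [hg0])
    obtain ⟨v₀, hv₀⟩ := exists_value (qExt m (qBin a b)) hQ.nondeg (by have := hQ.seven; omega) one_ne_zero
    have hne0 : gl v₀ ≠ 0 := fun e0 => by
      have h0 : v₀ = 0 := (addT g.1.1).map_eq_zero_iff.1 e0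
      rw [h0, map_zero] at hv₀
      exact zero_ne_one hv₀
    have huu : (u : F) * u = 1 := by
      have h1 := hgi (i.1 v₀)
      rw [hi, hgi, map_smul, hi, smul_smul] at h1
      by_contra hne1
      exact hne0 ((smul_eq_zero.1 (show ((u : F) * u - 1) • gl v₀ = 0 by
        rw [sub_smul, one_smul, ← h1, sub_self])).resolve_left (sub_ne_zero.2 hne1))
    refine isSquare_of_odd_eigS hQ.nondeg (Ring.two_ne_zero h2) hi (semisim_spec g.1.1).ne hsim hgi huu hiodd ?_
    intro heq
    have hsum := finrank_eigS (Ring.two_ne_zero h2) hi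
    rw [heq, finrank_qMinus_space] at hsum
    obtain ⟨k, hk⟩ := ho
    obtain ⟨l, hl⟩ := hiodd
    omega
  · exact absurd (minusPar_eq_one_of_nonsquare ho hm hQ h2 hc hsq) hmin

end CfsgLib.POAut
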