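/-
Isometries of odd prime order prime to the characteristic: the centraliser contains a special isometry of non-trivial
spinor norm and a similitude with non-square multiplier.
-/
import Cfsg.Agent.Lib.Classical.QuadDisc
import Cfsg.Agent.Lib.Classical.QuadReflect
import Cfsg.Agent.Lib.KnownSimple.Forms.Classify
import Mathlib

set_option autoImplicit false
set_option maxHeartbeats 1000000
set_option synthInstance.maxHeartbeats 200000

namespace CfsgLib.POAut.SSCent

open CfsgLib.Classical Polynomial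
open scoped Matrix

section Det

variable {F : Type*} [Field F]

/-- The determinant of a similitude of a non-degenerate alternating form. -/
theorem det_alt_similitude {n : Type} [Fintype n] [DecidableEq n] {A K : Matrix n n F}
    (hA : CfsgLib.Forms.IsAltMat A) (hd : A.det ≠ 0) {M : ℕ} (hM : Fintype.card n = 2 * M) {μ : F} (hμ : μ ≠ 0)
    (h : Kᵀ * A * K = μ • A) : K.det = μ ^ M := by
  obtain ⟨x, y, hxy, hyx, hJ⟩ := CfsgLib.Forms.congr_J hA hd hM
  have hK : (y * K * x)ᵀ * Matrix.J (Fin M) F * (y * K * x) = μ • Matrix.J (Fin M) F := by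
    rw [← hJ, Matrix.transpose_mul, Matrix.transpose_mul]
    calc xᵀ * (Kᵀ * yᵀ) * (xᵀ * A * x) * (y * K * x) = xᵀ * (Kᵀ * ((x * y)ᵀ * A * (x * y)) * K) * x := by
          rw [Matrix.transpose_mul]; simp only [Matrix.mul_assoc]
      _ = μ • (xᵀ * A * x) := by
          rw [hxy, Matrix.transpose_one, Matrix.one_mul, Matrix.mul_one, h, Matrix.mul_smul, Matrix.smul_mul]
  let D : Matrix (Fin M ⊕ Fin M) (Fin M ⊕ Fin M) F := Matrix.fromBlocks (μ⁻¹ • 1) 0 0 1
  have hD : Dᵀ * Matrix.J (Fin M) F * D = μ⁻¹ • Matrix.J (Fin M) F := by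
    simp [D, Matrix.J, Matrix.fromBlocks_transpose, Matrix.fromBlocks_multiply, Matrix.fromBlocks_smul]
  have hmem : y * K * x * D ∈ Matrix.symplecticGroup (Fin M) F := by
    rw [SymplecticGroup.mem_iff']
    calc (y * K * x * D)ᵀ * Matrix.J (Fin M) F * (y * K * x * D)
        = Dᵀ * ((y * K * x)ᵀ * Matrix.J (Fin M) F * (y * K * x)) * D := by
          rw [Matrix.transpose_mul]; simp only [Matrix.mul_assoc]
      _ = Matrix.J (Fin M) F := by
          rw [hK, Matrix.mul_smul, Matrix.smul_mul, hD, smul_smul, mul_inv_cancel₀ hμ, one_smul]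
  have hdet := SymplecticGroup.det_eq_one hmem
  rw [Matrix.det_mul, Matrix.det_conj_of_mul_eq_one hyx hxy, Matrix.det_fromBlocks_zero₁₂,
    Matrix.det_smul, Matrix.det_one, mul_one, mul_one, Fintype.card_fin, inv_pow] at hdet
  exact (eq_of_mul_inv_eq_one hdet)

/-- A binary form over a finite field of odd characteristic takes every value. -/
theorem exists_sq_sub {K : Type*} [Field K] [Fintype K] (h2 : (2 : K) ≠ 0) {d : K} (hd : d ≠ 0) (a : K) :
    ∃ x y : K, x ^ 2 - d * y ^ 2 = a := by
  obtain ⟨x, y, h⟩ := CfsgLib.Classical.exists_mul_sq_add_mul_sq h2 one_ne_zero (neg_ne_zero.2 hd) a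
  exact ⟨x, y, by linear_combination h⟩

end Det

variable {F V : Type*} [Field F] [AddCommGroup V] [Module F V] {Q : QuadraticForm F V} (g : qAut Q)

/-- The isometry as an endomorphism. -/
def gl : Module.End F V := g.1.toLinearMap

/-- Its sum with its adjoint. -/
def cE : Module.End F V := gl g + gl g⁻¹

/-- Its difference with its adjoint. -/
def oE : Module.End F V := gl g - gl g⁻¹

theorem gl_mul (a b : qAut Q) : gl (a * b) = gl a * gl b := rfl

theorem gl_one : gl (1 : qAut Q) = 1 := rfl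

theorem gl_pow : ∀ k : ℕ, gl (g ^ k) = gl g ^ k
  | 0 => by rw [pow_zero, pow_zero, gl_one]
  | k + 1 => by rw [pow_succ, pow_succ, gl_mul, gl_pow k]

theorem gl_inv_mul : gl g⁻¹ * gl g = 1 := by rw [← gl_mul, inv_mul_cancel, gl_one]

theorem gl_mul_inv : gl g * gl g⁻¹ = 1 := by rw [← gl_mul, mul_inv_cancel, gl_one]

theorem polar_gl (u v : V) : QuadraticMap.polar Q (gl g u) v = QuadraticMap.polar Q u (gl g⁻¹ v) := by
  conv_rhs => rw [← qAut_polar g u]
  rw [show g.1 (gl g⁻¹ v) = (gl g * gl g⁻¹) v from rfl, gl_mul_inv]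
  rfl

theorem polar_cE (u v : V) : QuadraticMap.polar Q (cE g u) v = QuadraticMap.polar Q u (cE g v) := by
  simp only [cE, LinearMap.add_apply, QuadraticMap.polar_add_left, QuadraticMap.polar_add_right, polar_gl, inv_inv]
  ring

theorem polar_oE (u v : V) : QuadraticMap.polar Q (oE g u) v = - QuadraticMap.polar Q u (oE g v) := by
  simp only [oE, LinearMap.sub_apply, QuadraticMap.polar_sub_left, QuadraticMap.polar_sub_right, polar_gl, inv_inv]
  ring

theorem commute_cE_gl : Commute (cE g) (gl g) := by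
  rw [commute_iff_eq, cE, add_mul, mul_add, gl_inv_mul, gl_mul_inv]

theorem commute_oE_gl : Commute (oE g) (gl g) := by
  rw [commute_iff_eq, oE, sub_mul, mul_sub, gl_inv_mul, gl_mul_inv]

theorem commute_cE_oE : Commute (cE g) (oE g) := by
  rw [commute_iff_eq, cE, oE]
  simp only [mul_sub, sub_mul, mul_add, add_mul, gl_inv_mul, gl_mul_inv]
  abel

theorem oE_mul_self : oE g * oE g = cE g * cE g - 4 := by
  have e : (4 : Module.End F V) = 1 + 1 + 1 + 1 := by norm_num
  simp only [cE, oE, mul_sub, sub_mul, mul_add, add_mul, gl_inv_mul, gl_mul_inv, e]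
  abel

theorem two_smul_gl : (2 : F) • gl g = cE g + oE g := by
  rw [cE, oE, two_smul]; abel

theorem two_smul_gl_inv : (2 : F) • gl g⁻¹ = cE g - oE g := by
  rw [cE, oE, two_smul]; abel

/-- The algebra of self-adjoint elements generated by the isometry. -/
abbrev Rg : Type _ := F[X] ⧸ RingHom.ker (aeval (cE g) : F[X] →ₐ[F] Module.End F V)

/-- Its action. -/
noncomputable def rho : Rg g →ₐ[F] Module.End F V := Ideal.kerLiftAlg _

theorem rho_mk (f : F[X]) : rho g (Ideal.Quotient.mk _ f) = aeval (cE g) f := rfl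

theorem rho_injective : Function.Injective (rho g) := Ideal.kerLiftAlg_injective _

theorem commute_rho {T : Module.End F V} (h : Commute (cE g) T) (x : Rg g) : Commute (rho g x) T := by
  obtain ⟨f, rfl⟩ := Ideal.Quotient.mk_surjective x
  rw [rho_mk]
  induction f using Polynomial.induction_on' with
  | add p q hp hq => rw [map_add]; exact hp.add_left hq
  | monomial n a => rw [aeval_monomial]; exact (Algebra.commute_algebraMap_left a T).mul_left (h.pow_left n)

theorem polar_rho (x : Rg g) : ∀ u v : V, QuadraticMap.polar Q (rho g x u) v = QuadraticMap.polar Q u (rho g x v) := by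
  obtain ⟨f, rfl⟩ := Ideal.Quotient.mk_surjective x
  rw [rho_mk]
  induction f using Polynomial.induction_on' with
  | add p q hp hq =>
    intro u v
    simp only [map_add, LinearMap.add_apply, QuadraticMap.polar_add_left, QuadraticMap.polar_add_right, hp, hq]
  | monomial n a =>
    rw [aeval_monomial]
    have hpow : ∀ (n : ℕ) u v, QuadraticMap.polar Q ((cE g ^ n) u) v = QuadraticMap.polar Q u ((cE g ^ n) v) := by
      intro n
      induction n with
      | zero => intro u v; rfl
      | succ n ih =>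
        intro u v
        conv_rhs => rw [pow_succ']
        rw [pow_succ, Module.End.mul_apply, Module.End.mul_apply, ih, polar_cE]
    intro u v
    simp only [Module.End.mul_apply, Module.algebraMap_end_apply, QuadraticMap.polar_smul_left,
      QuadraticMap.polar_smul_right, hpow]

/-- The square of the skew part. -/
noncomputable def dd : Rg g := Ideal.Quotient.mk _ (X ^ 2 - C 4)

theorem rho_dd : rho g (dd g) = oE g * oE g := by
  rw [dd, rho_mk, oE_mul_self, map_sub, map_pow, aeval_X, aeval_C, sq, map_ofNat]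

section Finite

variable [Fintype F] [FiniteDimensional F V] {r : ℕ}

theorem finite_Rg : Finite (Rg g) :=
  haveI : Finite (Module.End F V) := Module.finite_of_finite F
  Finite.of_injective _ (rho_injective g)

theorem pow_card_mod (hr : r.Prime) (hrF : (r : F) ≠ 0) : Fintype.card F ^ (r - 1) % r = 1 := by
  haveI := Fact.mk hr
  obtain ⟨p, hp⟩ := CharP.exists F
  obtain ⟨n, hpp, hn⟩ := FiniteField.card F p
  have hq : (Fintype.card F : ZMod r) ≠ 0 := by
    rw [Ne, ZMod.natCast_eq_zero_iff, hn]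
    intro h
    have := (Nat.prime_dvd_prime_iff_eq hr hpp).1 (hr.dvd_of_dvd_pow h)
    exact hrF (by rw [this]; exact CharP.cast_eq_zero F p)
  have h := congrArg ZMod.val (ZMod.pow_card_sub_one_eq_one hq)
  rwa [← Nat.cast_pow, ZMod.val_natCast, ZMod.val_one] at h

variable (hr : r.Prime) (hrF : (r : F) ≠ 0) (hg : g ^ r = 1)
include hr hrF hg

theorem rg_pow (x : Rg g) : x ^ (Fintype.card F ^ (r - 1)) = x := by
  obtain ⟨f, rfl⟩ := Ideal.Quotient.mk_surjective x
  refine rho_injective g ?_
  rw [map_pow, rho_mk]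
  have hinv : g⁻¹ = g ^ (r - 1) := by
    refine inv_eq_of_mul_eq_one_right ?_
    rw [← pow_succ', Nat.sub_add_cancel hr.one_le, hg]
  have hc : cE g = aeval (gl g) (X + X ^ (r - 1) : F[X]) := by
    rw [map_add, map_pow, aeval_X, cE, hinv, gl_pow]
  rw [hc, ← aeval_comp]
  generalize f.comp (X + X ^ (r - 1)) = h
  have key : ∀ (k : ℕ) (T : Module.End F V), aeval T h ^ (Fintype.card F ^ k) = aeval (T ^ (Fintype.card F ^ k)) h := by
    intro k
    induction k with
    | zero => intro T; simp
    | succ k ih =>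
      intro T
      rw [pow_succ, pow_mul, ih, ← map_pow, ← FiniteField.expand_card, expand_aeval, ← pow_mul]
  rw [key, ← gl_pow, pow_eq_pow_mod _ hg, pow_card_mod hr hrF, pow_one]

theorem one_lt_card_pow : 1 < Fintype.card F ^ (r - 1) :=
  Nat.one_lt_pow (by have := hr.two_le; omega) Fintype.one_lt_card

theorem isReduced_Rg : IsReduced (Rg g) := ⟨fun x ⟨k, hk⟩ => by
  have hN := one_lt_card_pow g hr hrF hg
  have h : ∀ j : ℕ, x ^ ((Fintype.card F ^ (r - 1)) ^ j) = x := by
    intro j
    induction j with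
    | zero => simp
    | succ j ih => rw [pow_succ, pow_mul, ih, rg_pow g hr hrF hg]
  rw [← h k, pow_eq_zero_of_le (Nat.lt_pow_self hN).le hk]⟩

/-- The projection onto the complement of the fixed space. -/
theorem dd_idem : dd g ^ (Fintype.card F ^ (r - 1) - 1) * dd g = dd g := by
  rw [← pow_succ, Nat.sub_add_cancel (one_lt_card_pow g hr hrF hg).le, rg_pow g hr hrF hg]

theorem oE_idem (v : V) : rho g (dd g ^ (Fintype.card F ^ (r - 1) - 1)) (oE g v) = oE g v := by
  have hinv : g⁻¹ = g ^ (r - 1) := by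
    refine inv_eq_of_mul_eq_one_right ?_
    rw [← pow_succ', Nat.sub_add_cancel hr.one_le, hg]
  have hom : oE g ^ (Fintype.card F ^ (r - 1)) = oE g := by
    have ho : oE g = aeval (gl g) (X - X ^ (r - 1) : F[X]) := by
      rw [map_sub, map_pow, aeval_X, oE, hinv, gl_pow]
    rw [ho]
    generalize (X - X ^ (r - 1) : F[X]) = h
    have key : ∀ (k : ℕ) (T : Module.End F V),
        aeval T h ^ (Fintype.card F ^ k) = aeval (T ^ (Fintype.card F ^ k)) h := by
      intro k
      induction k with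
      | zero => intro T; simp
      | succ k ih =>
        intro T
        rw [pow_succ, pow_mul, ih, ← map_pow, ← FiniteField.expand_card, expand_aeval, ← pow_mul]
    rw [key, ← gl_pow, pow_eq_pow_mod _ hg, pow_card_mod hr hrF, pow_one]
  rw [map_pow, rho_dd, ← Module.End.mul_apply]
  congr 1
  have hN := one_lt_card_pow g hr hrF hg
  rw [← sq, ← pow_mul, ← pow_succ, show 2 * (Fintype.card F ^ (r - 1) - 1) + 1 =
    (Fintype.card F ^ (r - 1) - 1) + Fintype.card F ^ (r - 1) by omega, pow_add, hom, ← pow_succ,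
    Nat.sub_add_cancel hN.le, hom]

end Finite


/-- A product of reflections over an orthogonal family. -/
theorem exists_negate {G : Type*} [CommGroup G] (φ : qAut Q →* G) : ∀ {n : ℕ} (b : Fin n → V)
    (hb : ∀ i, Q (b i) ≠ 0), (∀ i j, i ≠ j → QuadraticMap.polar Q (b i) (b j) = 0) →
    ∃ S : qAut Q, (∀ i, S.1 (b i) = - b i) ∧ (∀ x, (∀ i, QuadraticMap.polar Q x (b i) = 0) → S.1 x = x) ∧
      φ S = ∏ i, φ (qRefl Q (hb i)) := by
  intro n
  induction n with
  | zero => exact fun b hb _ => ⟨1, fun i => i.elim0, fun x _ => rfl, by simp⟩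
  | succ n ih =>
    intro b hb ho
    obtain ⟨S, h1, h2, h3⟩ := ih (fun i => b i.succ) (fun i => hb i.succ) fun i j h => ho _ _ fun e => h (Fin.succ_inj.1 e)
    refine ⟨qRefl Q (hb 0) * S, fun i => ?_, fun x hx => ?_, ?_⟩
    · rw [qAut_mul_apply]
      refine Fin.cases ?_ (fun j => ?_) i
      · rw [h2 _ fun j => ho _ _ (Fin.succ_ne_zero j).symm, qRefl_self]
      · rw [h1, map_neg, qRefl_fix Q (hb 0) (ho _ _ (Fin.succ_ne_zero j))]
    · rw [qAut_mul_apply, h2 x fun j => hx _, qRefl_fix Q (hb 0) (hx 0)]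
    · rw [map_mul, h3, Fin.prod_univ_succ]

/-- An orthogonal basis for a form pulled back along a linear map. -/
theorem exists_orth [Fintype F] (h2 : (2 : F) ≠ 0) {K : Type*} [AddCommGroup K] [Module F K] {e : ℕ}
    (bK : Module.Basis (Fin e) F K) (L : K →ₗ[F] V) (G : Matrix (Fin e) (Fin e) F)
    (hG : ∀ i j, G i j = QuadraticMap.polar Q (L (bK i)) (L (bK j))) (hdet : G.det ≠ 0) :
    ∃ k : Fin e → K, (∀ i j, i ≠ j → QuadraticMap.polar Q (L (k i)) (L (k j)) = 0) ∧ (∀ i, Q (L (k i)) ≠ 0) ∧
      (∀ l : K, ∃ c : Fin e → F, l = ∑ i, c i • k i) ∧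
      ∃ t : F, t ≠ 0 ∧ ∏ i, (2 * Q (L (k i))) = t ^ 2 * G.det := by
  have hsym : Gᵀ = G := Matrix.ext fun i j => by rw [Matrix.transpose_apply, hG, hG, QuadraticMap.polar_comm]
  obtain ⟨d, hc⟩ := CfsgLib.Forms.exists_congr_diagonal h2 hsym
  obtain ⟨t, ht, htd⟩ := hc.det (Equiv.refl _)
  obtain ⟨x, y, hxy, hyx, hd⟩ := hc
  have hform : ∀ a b : Fin e → F, QuadraticMap.polar Q (L (bK.equivFun.symm a)) (L (bK.equivFun.symm b)) =
      a ⬝ᵥ (G *ᵥ b) := by
    intro a b
    rw [Module.Basis.equivFun_symm_apply, Module.Basis.equivFun_symm_apply, map_sum, map_sum]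
    simp only [← QuadraticMap.polarBilin_apply_apply, map_sum, LinearMap.sum_apply, map_smul, LinearMap.smul_apply,
      dotProduct, Matrix.mulVec, Finset.mul_sum, smul_eq_mul]
    rw [Finset.sum_comm]
    refine Finset.sum_congr rfl fun i _ => Finset.sum_congr rfl fun j _ => ?_
    rw [hG]
    simp only [QuadraticMap.polarBilin_apply_apply]
    ring
  let k : Fin e → K := fun i => bK.equivFun.symm fun m => x m i
  have hk : ∀ i j, QuadraticMap.polar Q (L (k i)) (L (k j)) = Matrix.diagonal d i j := fun i j => by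
    rw [hform, ← hd, Matrix.mul_assoc]
    simp [Matrix.mul_apply, dotProduct, Matrix.mulVec]
  have h2Q : ∀ i, 2 * Q (L (k i)) = d i := fun i => by
    rw [← quad_polar_self, hk, Matrix.diagonal_apply_eq]
  refine ⟨k, fun i j h => by rw [hk, Matrix.diagonal_apply_ne _ h], fun i => ?_, fun l => ⟨y *ᵥ bK.equivFun l, ?_⟩,
    t, ht, ?_⟩
  · have h0 : d i ≠ 0 := fun h0 => by
      rw [Matrix.det_diagonal, Finset.prod_eq_zero (Finset.mem_univ i) h0] at htd
      exact mul_ne_zero (pow_ne_zero 2 ht) hdet htd.symm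
    rw [← h2Q] at h0
    exact right_ne_zero_of_mul h0
  · simp only [k, ← map_smul, ← map_sum]
    rw [LinearEquiv.eq_symm_apply]
    conv_lhs => rw [← Matrix.one_mulVec (bK.equivFun l), ← hxy, ← Matrix.mulVec_mulVec]
    funext m
    simp [Matrix.mulVec, dotProduct, Finset.sum_apply, mul_comm]
  · rw [← htd, Matrix.det_diagonal]
    exact Finset.prod_congr rfl fun i _ => h2Q i

section Main

variable [Fintype F] [FiniteDimensional F V] {r : ℕ} (h2 : (2 : F) ≠ 0) (hQ : PolarNondeg Q) (hr : r.Prime)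
  (hodd : Odd r) (hrF : (r : F) ≠ 0) (hg : g ^ r = 1)

omit [FiniteDimensional F V] [Fintype F] in
include hodd hg in
theorem oE_eq_zero_iff (v : V) : oE g v = 0 ↔ g.1 v = v := by
  constructor
  · intro h
    have h1 : g.1 v = (g⁻¹ : qAut Q).1 v := sub_eq_zero.1 h
    have h2' : (g * g : qAut Q).1 v = v := by
      rw [qAut_mul_apply, h1, ← qAut_mul_apply, mul_inv_cancel]
      rfl
    have h3 : ∀ k : ℕ, ((g * g) ^ k : qAut Q).1 v = v := by
      intro k
      induction k with
      | zero => rfl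
      | succ k ih => rw [pow_succ, qAut_mul_apply, h2', ih]
    obtain ⟨k, hk⟩ := hodd
    have h4 : (g ^ r).1 v = g.1 v := by
      rw [show g ^ r = g * (g * g) ^ k by rw [hk, pow_succ', pow_mul, sq], qAut_mul_apply, h3]
    rw [hg] at h4
    exact h4.symm
  · intro h
    have h1 : (g⁻¹ : qAut Q).1 v = v := by
      conv_lhs => rw [← h, ← qAut_mul_apply, inv_mul_cancel]
      rfl
    exact sub_eq_zero.2 (h.trans h1.symm)

include hQ in
omit [Fintype F] [FiniteDimensional F V] in
theorem eq_zero_of_polar {v : V} (h : ∀ w, QuadraticMap.polar Q v w = 0) : v = 0 := hQ v h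

omit [Fintype F] [FiniteDimensional F V] in
theorem polar_rho_oE {v : V} (h2 : (2 : F) ≠ 0) (a b : Rg g) :
    QuadraticMap.polar Q (rho g a v) (rho g b (oE g v)) = 0 := by
  have h : QuadraticMap.polar Q v (rho g (a * b) (oE g v)) = - QuadraticMap.polar Q v (rho g (a * b) (oE g v)) := by
    conv_lhs => rw [← polar_rho, QuadraticMap.polar_comm, polar_oE]
    rw [← Module.End.mul_apply, ← (commute_rho g (commute_cE_oE g) _).eq, Module.End.mul_apply]
  rw [polar_rho, ← Module.End.mul_apply, ← map_mul]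
  exact (mul_eq_zero.1 (show (2 : F) * _ = 0 by linear_combination h)).resolve_left h2

omit [Fintype F] [FiniteDimensional F V] in
theorem polar_oE_oE (a : Rg g) (v : V) :
    QuadraticMap.polar Q (rho g a (oE g v)) (oE g v) = - QuadraticMap.polar Q (rho g (a * dd g) v) v := by
  rw [QuadraticMap.polar_comm, polar_oE, QuadraticMap.polar_comm]
  congr 1
  rw [map_mul, Module.End.mul_apply, rho_dd, Module.End.mul_apply, ← Module.End.mul_apply (oE g),
    ← (commute_rho g (commute_cE_oE g) _).eq, Module.End.mul_apply]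

include hr hodd hrF hg in
theorem dd_ne_zero (hg1 : g ≠ 1) : dd g ≠ 0 := by
  intro h
  refine hg1 (qAut_ext fun v => ((oE_eq_zero_iff g hodd hg v).1 ?_).trans rfl)
  have hN := one_lt_card_pow g hr hrF hg
  rw [← oE_idem g hr hrF hg, h, zero_pow (by omega), map_zero, LinearMap.zero_apply]

include h2 hQ hr hodd hrF hg in
theorem exists_block (hg1 : g ≠ 1) : ∃ (I : MaximalSpectrum (Rg g)) (v : V), dd g ∉ I.asIdeal ∧ Q v ≠ 0 ∧
    ∀ x ∈ I.asIdeal, rho g x v = 0 := by
  classical
  haveI := finite_Rg g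
  haveI := isReduced_Rg g hr hrF hg
  let E := IsArtinianRing.equivPi (Rg g)
  obtain ⟨I, hI⟩ : ∃ I : MaximalSpectrum (Rg g), dd g ∉ I.asIdeal := by
    by_contra hc
    push Not at hc
    refine dd_ne_zero g hr hodd hrF hg hg1 (E.injective (funext fun J => ?_))
    rw [map_zero, IsArtinianRing.equivPi_apply, Pi.zero_apply]
    exact Ideal.Quotient.eq_zero_iff_mem.2 (hc J)
  let f := E.symm (Pi.single I 1)
  have hEf : E f = Pi.single I 1 := E.apply_symm_apply _
  have hf0 : rho g f ≠ 0 := fun h => by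
    have h1 : f = 0 := rho_injective g (h.trans (map_zero _).symm)
    have h2 := congrFun hEf I
    rw [h1, map_zero, Pi.single_eq_same] at h2
    exact zero_ne_one h2
  have hff : f * f = f := E.injective (by
    rw [map_mul, hEf]
    funext J
    rcases eq_or_ne J I with rfl | hJ
    · simp
    · simp [Pi.single_eq_of_ne hJ])
  have hIf : ∀ x ∈ I.asIdeal, x * f = 0 := fun x hx => E.injective (by
    rw [map_mul, hEf, map_zero]
    funext J
    rcases eq_or_ne J I with rfl | hJ
    · rw [Pi.mul_apply, IsArtinianRing.equivPi_apply, Ideal.Quotient.eq_zero_iff_mem.2 hx, zero_mul, Pi.zero_apply]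
    · rw [Pi.mul_apply, Pi.single_eq_of_ne hJ, mul_zero, Pi.zero_apply])
  have hnd : NdOn Q (LinearMap.range (rho g f)) := by
    rintro _ ⟨a, rfl⟩ h
    refine hQ _ fun w => ?_
    have h1 := h _ ⟨w, rfl⟩
    rwa [← polar_rho, ← Module.End.mul_apply, ← map_mul, hff] at h1
  obtain ⟨v, ⟨a, rfl⟩, hv⟩ := exists_aniso_in Q hnd fun h => hf0 (LinearMap.range_eq_bot.1 h)
  refine ⟨I, _, hI, hv, fun x hx => ?_⟩
  rw [← Module.End.mul_apply, ← map_mul, hIf x hx, map_zero, LinearMap.zero_apply]

/-- Evaluation on a vector killed by an ideal. -/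
noncomputable def phi (I : Ideal (Rg g)) (w : V) (hw : ∀ x ∈ I, rho g x w = 0) : (Rg g ⧸ I) →ₗ[F] V where
  toFun k := rho g k.out w
  map_add' a b := by
    rw [← LinearMap.add_apply, ← map_add, ← sub_eq_zero, ← LinearMap.sub_apply, ← map_sub]
    exact hw _ (Ideal.Quotient.eq.1 (by rw [map_add, Ideal.Quotient.mk_out, Ideal.Quotient.mk_out, Ideal.Quotient.mk_out]))
  map_smul' s a := by
    rw [RingHom.id_apply, ← LinearMap.smul_apply, ← map_smul, ← sub_eq_zero, ← LinearMap.sub_apply, ← map_sub]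
    exact hw _ (Ideal.Quotient.eq.1 (by
      rw [← Ideal.Quotient.mkₐ_eq_mk F, map_smul, Ideal.Quotient.mkₐ_eq_mk, Ideal.Quotient.mk_out,
        Ideal.Quotient.mk_out]))

omit [Fintype F] [FiniteDimensional F V] in
theorem phi_mk {I : Ideal (Rg g)} {w : V} (hw : ∀ x ∈ I, rho g x w = 0) (x : Rg g) :
    phi g I w hw (Ideal.Quotient.mk I x) = rho g x w := by
  refine sub_eq_zero.1 ?_
  change rho g _ w - rho g x w = 0
  rw [← LinearMap.sub_apply, ← map_sub]
  exact hw _ (Ideal.Quotient.eq.1 (Ideal.Quotient.mk_out _))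

omit [Fintype F] [FiniteDimensional F V] in
theorem ann_of_commute {I : Ideal (Rg g)} {w : V} (hw : ∀ x ∈ I, rho g x w = 0) {T : Module.End F V}
    (h : Commute (cE g) T) : ∀ x ∈ I, rho g x (T w) = 0 := fun x hx => by
  rw [← Module.End.mul_apply, (commute_rho g h x).eq, Module.End.mul_apply, hw x hx, map_zero]

include h2 hQ hr hodd hrF hg in
/-- The centraliser contains a special isometry of non-trivial spinor norm. -/
theorem exists_spinor (hg1 : g ≠ 1) {ψ : qAut Q →* Multiplicative (ZMod 2) × ℤˣ}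
    (h1 : ∀ (v : V) (hv : Q v ≠ 0), (ψ (qRefl Q hv)).1 = Multiplicative.ofAdd 1)
    (hiff : ∀ (v w : V) (hv : Q v ≠ 0) (hw : Q w ≠ 0), ψ (qRefl Q hv) = ψ (qRefl Q hw) ↔ IsSquare (Q v * Q w)) :
    ∃ z : qAut Q, Commute z g ∧ ψ z = (1, -1) := by
  classical
  haveI := finite_Rg g
  obtain ⟨I, v, hdI, hv, hann⟩ := exists_block g h2 hQ hr hodd hrF hg hg1
  haveI := I.isMaximal
  letI : Field (Rg g ⧸ I.asIdeal) := Ideal.Quotient.field _
  haveI : Finite (Rg g ⧸ I.asIdeal) := Finite.of_surjective _ Ideal.Quotient.mk_surjective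
  haveI := Fintype.ofFinite (Rg g ⧸ I.asIdeal)
  let bK := Module.finBasis F (Rg g ⧸ I.asIdeal)
  have h2K : (2 : Rg g ⧸ I.asIdeal) ≠ 0 := by
    rw [← map_ofNat (algebraMap F (Rg g ⧸ I.asIdeal)) 2]
    exact (map_ne_zero_iff _ (FaithfulSMul.algebraMap_injective F _)).2 h2
  obtain ⟨s, hs⟩ := FiniteField.exists_nonsquare (F := F) fun hc => h2 (by
    have := ringChar.Nat.cast_ringChar (R := F)
    rwa [hc, Nat.cast_ofNat] at this)
  obtain ⟨au, hau⟩ := FiniteField.unitsMap_norm_surjective F (Rg g ⧸ I.asIdeal)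
    (Units.mk0 s fun h => hs (h ▸ IsSquare.zero))
  have hnorm : Algebra.norm F (au : Rg g ⧸ I.asIdeal) = s := congrArg Units.val hau
  obtain ⟨xb, yb, hxyb⟩ := exists_sq_sub h2K
    (d := Ideal.Quotient.mk I.asIdeal (dd g)) (fun h => hdI (Ideal.Quotient.eq_zero_iff_mem.1 h))
    (au : Rg g ⧸ I.asIdeal)
  obtain ⟨x, rfl⟩ := Ideal.Quotient.mk_surjective xb
  obtain ⟨y, rfl⟩ := Ideal.Quotient.mk_surjective yb
  set A : Rg g := x ^ 2 - dd g * y ^ 2 with hA
  have hAb : Ideal.Quotient.mk I.asIdeal A = au := by rw [← hxyb, hA, map_sub, map_mul, map_pow, map_pow]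
  obtain ⟨ai, hai⟩ := Ideal.Quotient.mk_surjective (au⁻¹ : (Rg g ⧸ I.asIdeal)ˣ).1
  set U : Module.End F V := rho g x + rho g y * oE g with hUdef
  set Ub : Module.End F V := rho g x - rho g y * oE g with hUbdef
  have co := commute_rho g (commute_cE_oE g)
  have hrr : ∀ a b : Rg g, Commute (rho g a) (rho g b) := fun a b => (Commute.all a b).map (rho g)
  have hUr : ∀ a, Commute (rho g a) U := fun a => (hrr a x).add_right ((hrr a y).mul_right (co a))
  have hUc : Commute (cE g) U := by
    have h := hUr (Ideal.Quotient.mk _ X)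
    rwa [rho_mk, aeval_X] at h
  have hUo : Commute (oE g) U := ((co x).symm).add_right ((co y).symm.mul_right (Commute.refl _))
  have hUg : Commute (gl g) U :=
    ((commute_rho g (commute_cE_gl g) x).symm).add_right
      ((commute_rho g (commute_cE_gl g) y).symm.mul_right (commute_oE_gl g).symm)
  have hUU : Ub * U = rho g A := by
    rw [hUdef, hUbdef, hA, mul_comm (dd g), map_sub, map_mul, map_pow, map_pow, rho_dd, sq, sq, sub_mul, mul_add, mul_add]
    rw [show rho g y * oE g * rho g x = rho g x * (rho g y * oE g) by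
      rw [← mul_assoc (rho g x), (hrr x y).eq, mul_assoc, ← (co x).eq, ← mul_assoc],
      show rho g y * oE g * (rho g y * oE g) = rho g y * rho g y * (oE g * oE g) by
      rw [mul_assoc, ← mul_assoc (oE g), ← (co y).eq, mul_assoc, ← mul_assoc]]
    abel
  have hUpolar : ∀ p q : V, QuadraticMap.polar Q (U p) q = QuadraticMap.polar Q p (Ub q) := by
    intro p q
    rw [hUdef, hUbdef, LinearMap.add_apply, LinearMap.sub_apply, QuadraticMap.polar_add_left,
      QuadraticMap.polar_sub_right, Module.End.mul_apply, Module.End.mul_apply, polar_rho, polar_rho, polar_oE,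
      ← Module.End.mul_apply (oE g), ← (co y).eq, Module.End.mul_apply]
    ring
  have hω := ann_of_commute g hann (commute_cE_oE g)
  have hu := ann_of_commute g hω hUc
  -- the Gram matrices
  have hrad : ∀ (w : V) (hw : ∀ a ∈ I.asIdeal, rho g a w = 0),
      (∀ k, k ≠ 0 → ∃ a : Rg g, ∃ b : Rg g, Ideal.Quotient.mk I.asIdeal a = k ∧
        QuadraticMap.polar Q (rho g b w) (rho g a w) ≠ 0) →
      (Matrix.of fun i j => QuadraticMap.polar Q (phi g _ w hw (bK i)) (phi g _ w hw (bK j))).det ≠ 0 := by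
    intro w hw hne hdet
    obtain ⟨c, hc0, hc⟩ := Matrix.exists_mulVec_eq_zero_iff.2 hdet
    obtain ⟨a, b, hab, habne⟩ := hne (bK.equivFun.symm c) fun h => hc0 (bK.equivFun.symm.map_eq_zero_iff.1 h)
    refine habne ?_
    rw [← phi_mk g hw a, ← phi_mk g hw b, hab, ← bK.sum_repr (Ideal.Quotient.mk _ b),
      Module.Basis.equivFun_symm_apply, map_sum, map_sum, ← QuadraticMap.polarBilin_apply_apply]
    simp only [map_sum, map_smul, LinearMap.sum_apply, LinearMap.smul_apply, smul_eq_mul, Finset.mul_sum,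
      QuadraticMap.polarBilin_apply_apply]
    rw [Finset.sum_comm]
    refine Finset.sum_eq_zero fun i _ => ?_
    have hi := congrFun hc i
    simp only [Matrix.mulVec, dotProduct, Matrix.of_apply, Pi.zero_apply] at hi
    rw [← mul_zero (bK.repr (Ideal.Quotient.mk _ b) i), ← hi, Finset.mul_sum]
    exact Finset.sum_congr rfl fun j _ => by ring
  have hwd : ∀ a : Rg g, Ideal.Quotient.mk I.asIdeal a = 1 → rho g a v = v := fun a ha => by
    rw [← sub_eq_zero]
    have h := hann (a - 1) (Ideal.Quotient.eq.1 (by rw [ha, map_one]))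
    rwa [map_sub, map_one, LinearMap.sub_apply, Module.End.one_apply] at h
  have hvv : QuadraticMap.polar Q v v ≠ 0 := by rw [quad_polar_self]; exact mul_ne_zero h2 hv
  have hd0 := hrad v hann fun k hk => by
    obtain ⟨a, rfl⟩ := Ideal.Quotient.mk_surjective k
    obtain ⟨b, hb⟩ := Ideal.Quotient.mk_surjective (Ideal.Quotient.mk I.asIdeal a)⁻¹
    refine ⟨a, b, rfl, ?_⟩
    rw [← polar_rho, ← Module.End.mul_apply, ← map_mul, hwd _ (by rw [map_mul, hb, mul_inv_cancel₀ hk])]
    exact hvv
  have hd1 := hrad _ hω fun k hk => by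
    obtain ⟨a, rfl⟩ := Ideal.Quotient.mk_surjective k
    have hdk : Ideal.Quotient.mk I.asIdeal (a * dd g) ≠ 0 := by
      rw [map_mul]
      exact mul_ne_zero hk fun h => hdI (Ideal.Quotient.eq_zero_iff_mem.1 h)
    obtain ⟨b, hb⟩ := Ideal.Quotient.mk_surjective (Ideal.Quotient.mk I.asIdeal (a * dd g))⁻¹
    refine ⟨a, b, rfl, ?_⟩
    rw [← polar_rho, ← Module.End.mul_apply, ← map_mul, polar_oE_oE,
      hwd _ (by rw [mul_right_comm, map_mul, hb, mul_inv_cancel₀ hdk]), neg_ne_zero]
    exact hvv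
  have hNA : (Algebra.leftMulMatrix bK (au : Rg g ⧸ I.asIdeal)).det = s := by
    rw [← Algebra.norm_eq_matrix_det, hnorm]
  have hGram : (Matrix.of fun i j => QuadraticMap.polar Q (phi g _ _ hu (bK i)) (phi g _ _ hu (bK j))) =
      (Matrix.of fun i j => QuadraticMap.polar Q (phi g _ _ hω (bK i)) (phi g _ _ hω (bK j))) *
        Algebra.leftMulMatrix bK (au : Rg g ⧸ I.asIdeal) := by
    refine Matrix.ext fun i j => ?_
    rw [Matrix.mul_apply, Matrix.of_apply]
    obtain ⟨a, ha⟩ := Ideal.Quotient.mk_surjective (bK i)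
    obtain ⟨b, hb⟩ := Ideal.Quotient.mk_surjective (bK j)
    have hR : ∑ m, (Matrix.of fun i j => QuadraticMap.polar Q (phi g _ _ hω (bK i)) (phi g _ _ hω (bK j))) i m *
        Algebra.leftMulMatrix bK (au : Rg g ⧸ I.asIdeal) m j =
        QuadraticMap.polar Q (phi g _ _ hω (bK i)) (phi g _ _ hω ((au : Rg g ⧸ I.asIdeal) * bK j)) := by
      conv_rhs => rw [← bK.sum_repr ((au : Rg g ⧸ I.asIdeal) * bK j), map_sum]
      rw [← QuadraticMap.polarBilin_apply_apply, map_sum]
      refine Finset.sum_congr rfl fun m _ => ?_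
      rw [map_smul, map_smul, smul_eq_mul, mul_comm, Algebra.leftMulMatrix_eq_repr_mul]
      rfl
    rw [hR, ← ha, ← hb, ← hAb, ← map_mul, phi_mk, phi_mk, phi_mk, phi_mk, ← Module.End.mul_apply (rho g a) U,
      (hUr a).eq, Module.End.mul_apply, hUpolar, ← Module.End.mul_apply (rho g b) U, (hUr b).eq,
      ← Module.End.mul_apply Ub, ← mul_assoc, hUU, ← map_mul]
  have hd2 : (Matrix.of fun i j => QuadraticMap.polar Q (phi g _ _ hu (bK i)) (phi g _ _ hu (bK j))).det ≠ 0 := by
    rw [hGram, Matrix.det_mul, hNA]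
    exact mul_ne_zero hd1 fun h => hs (h ▸ IsSquare.zero)
  obtain ⟨k₀, ho₀, hq₀, hsp₀, -⟩ := exists_orth h2 bK (phi g _ v hann) _ (fun _ _ => rfl) hd0
  obtain ⟨k₁, ho₁, hq₁, hsp₁, t₁, ht₁, hp₁⟩ := exists_orth h2 bK (phi g _ _ hω) (Matrix.of fun i j => QuadraticMap.polar Q (phi g _ _ hω (bK i)) (phi g _ _ hω (bK j)))
    (fun _ _ => rfl) hd1
  obtain ⟨k₂, ho₂, hq₂, hsp₂, t₂, ht₂, hp₂⟩ := exists_orth h2 bK (phi g _ _ hu) (Matrix.of fun i j => QuadraticMap.polar Q (phi g _ _ hu (bK i)) (phi g _ _ hu (bK j)))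
    (fun _ _ => rfl) hd2
  obtain ⟨S, hS1, hS2, hS3⟩ := exists_negate ψ _ hq₁ ho₁
  obtain ⟨S', hS1', hS2', hS3'⟩ := exists_negate ψ _ hq₂ ho₂
  refine ⟨S' * S, ?_, ?_⟩
  · -- commutation
    have neg_all : ∀ (T : qAut Q) (w : V) (hw : ∀ a ∈ I.asIdeal, rho g a w = 0)
        (k : Fin (Module.finrank F (Rg g ⧸ I.asIdeal)) → Rg g ⧸ I.asIdeal),
        (∀ l, ∃ c : Fin (Module.finrank F (Rg g ⧸ I.asIdeal)) → F, l = ∑ i, c i • k i) →
        (∀ i, T.1 (phi g _ w hw (k i)) = - phi g _ w hw (k i)) → ∀ a, T.1 (rho g a w) = - rho g a w := by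
      intro T w hw k hk hT a
      obtain ⟨c, hc⟩ := hk (Ideal.Quotient.mk _ a)
      rw [← phi_mk g hw, hc]
      simp only [map_sum, map_smul, hT, smul_neg, Finset.sum_neg_distrib]
    have perp_all : ∀ (p w : V) (hw : ∀ a ∈ I.asIdeal, rho g a w = 0)
        (k : Fin (Module.finrank F (Rg g ⧸ I.asIdeal)) → Rg g ⧸ I.asIdeal),
        (∀ l, ∃ c : Fin (Module.finrank F (Rg g ⧸ I.asIdeal)) → F, l = ∑ i, c i • k i) →
        (∀ i, QuadraticMap.polar Q p (phi g _ w hw (k i)) = 0) → ∀ a, QuadraticMap.polar Q p (rho g a w) = 0 := by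
      intro p w hw k hk hp a
      obtain ⟨c, hc⟩ := hk (Ideal.Quotient.mk _ a)
      rw [← phi_mk g hw, hc, ← QuadraticMap.polarBilin_apply_apply]
      simp only [map_sum, map_smul, QuadraticMap.polarBilin_apply_apply, hp, smul_zero, Finset.sum_const_zero]
    have hSneg := neg_all S _ hω k₁ hsp₁ hS1
    have hS'neg := neg_all S' _ hu k₂ hsp₂ hS1'
    have hSfix : ∀ a, S.1 (rho g a v) = rho g a v := fun a => hS2 _ fun i => by
      obtain ⟨b, hb⟩ := Ideal.Quotient.mk_surjective (k₁ i)
      rw [← hb, phi_mk]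
      exact polar_rho_oE g h2 a b
    have hS'fix : ∀ a, S'.1 (rho g a (U v)) = rho g a (U v) := fun a => hS2' _ fun i => by
      obtain ⟨b, hb⟩ := Ideal.Quotient.mk_surjective (k₂ i)
      rw [← hb, phi_mk, ← Module.End.mul_apply (rho g a) U, (hUr a).eq, Module.End.mul_apply, hUpolar,
        ← Module.End.mul_apply (rho g b) U, (hUr b).eq, ← Module.End.mul_apply Ub, ← mul_assoc, hUU, ← map_mul]
      exact polar_rho_oE g h2 a _
    set Z : Module.End F V := rho g ai * U * U with hZdef
    have hred : ∀ (a : Rg g) (w : V), (∀ b ∈ I.asIdeal, rho g b w = 0) → rho g a w = rho g (a * ai) (rho g A w) := by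
      intro a w hw
      rw [← Module.End.mul_apply, ← map_mul, ← sub_eq_zero, ← LinearMap.sub_apply, ← map_sub]
      refine hw _ (Ideal.Quotient.eq.1 ?_)
      rw [map_mul, map_mul, hai, hAb, mul_assoc, Units.inv_mul, mul_one]
    have hUb : ∀ w, rho g A w = U (rho g x w) - U (rho g y (oE g w)) := fun w => by
      rw [← map_sub, ← hUU, show Ub * U = U * Ub from
        ((((hUr x).sub_left ((hUr y).mul_left hUo)))).eq]
      rfl
    have hUra : ∀ (a : Rg g) (w : V), U (rho g a w) = rho g a (U w) := fun a w => by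
      rw [← Module.End.mul_apply, ← (hUr a).eq]; rfl
    have hrm : ∀ (a b : Rg g) (w : V), rho g a (rho g b w) = rho g (a * b) w := fun a b w => by
      rw [map_mul]; rfl
    have hoo : oE g (oE g v) = rho g (dd g) v := by rw [rho_dd]; rfl
    have hUexp : ∀ w, U w = rho g x w + rho g y (oE g w) := fun w => rfl
    have hZ : ∀ (a : Rg g) (w : V), Z (rho g a w) = rho g (a * ai) (U (U w)) := fun a w => by
      rw [hZdef, Module.End.mul_apply, Module.End.mul_apply, hUra, hUra, hrm, mul_comm]
    have hzv : ∀ a, (S' * S).1 (rho g a v) = Z (rho g a v) := by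
      intro a
      rw [qAut_mul_apply, hSfix]
      conv_lhs => rw [hred a v hann, hUb v, hUra, hUra, map_sub, hrm, hrm, map_sub, hS'fix, hS'neg]
      rw [sub_neg_eq_add, hZ]
      conv_rhs => rw [hUexp v, map_add U, hUra, hUra, map_add, hrm, hrm]
    have hzo : ∀ a, (S' * S).1 (rho g a (oE g v)) = Z (rho g a (oE g v)) := by
      intro a
      rw [qAut_mul_apply, hSneg, map_neg]
      conv_lhs => rw [hred a _ hω, hUb, hoo, hrm y, hUra, hUra, map_sub, hrm, hrm, map_sub, hS'fix, hS'neg]
      rw [hZ]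
      conv_rhs => rw [hUexp (oE g v), hoo, hrm y, map_add U, hUra, hUra, map_add, hrm, hrm]
      abel
    have hzp : ∀ p, (∀ a, QuadraticMap.polar Q p (rho g a v) = 0) →
        (∀ a, QuadraticMap.polar Q p (rho g a (oE g v)) = 0) → (S' * S).1 p = p := by
      intro p hp0 hp1
      have e := hS2 p fun i => by
        obtain ⟨b, hb⟩ := Ideal.Quotient.mk_surjective (k₁ i)
        rw [← hb, phi_mk]
        exact hp1 b
      rw [qAut_mul_apply, e]
      refine hS2' p fun i => ?_
      obtain ⟨b, hb⟩ := Ideal.Quotient.mk_surjective (k₂ i)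
      rw [← hb, phi_mk, hUdef, LinearMap.add_apply, Module.End.mul_apply, map_add, hoo,
        QuadraticMap.polar_add_right, ← Module.End.mul_apply, ← map_mul, hp1, ← Module.End.mul_apply, ← map_mul,
        ← Module.End.mul_apply, ← map_mul, hp0, add_zero]
    have hgl : ∀ w, gl g w = (2⁻¹ : F) • (cE g w + oE g w) := fun w => by
      rw [← LinearMap.add_apply, ← two_smul_gl, LinearMap.smul_apply, smul_smul, inv_mul_cancel₀ h2, one_smul]
    have hgli : ∀ w, gl g⁻¹ w = (2⁻¹ : F) • (cE g w - oE g w) := fun w => by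
      rw [← LinearMap.sub_apply, ← two_smul_gl_inv, LinearMap.smul_apply, smul_smul, inv_mul_cancel₀ h2, one_smul]
    have hcX : ∀ (a : Rg g) (w : V), cE g (rho g a w) = rho g (Ideal.Quotient.mk _ X * a) w := fun a w => by
      rw [map_mul, rho_mk, aeval_X]; rfl
    have hoX : ∀ (a : Rg g) (w : V), oE g (rho g a w) = rho g a (oE g w) := fun a w => by
      rw [← Module.End.mul_apply, ← (co a).eq]; rfl
    have hoX2 : ∀ a : Rg g, oE g (rho g a (oE g v)) = rho g (a * dd g) v := fun a => by
      rw [hoX, map_mul, Module.End.mul_apply, rho_dd]; rfl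
    have hZg : ∀ w, Z (gl g w) = gl g (Z w) := fun w => by
      have h : Commute (gl g) Z := ((commute_rho g (commute_cE_gl g) ai).symm.mul_right hUg).mul_right hUg
      rw [← Module.End.mul_apply, ← h.eq, Module.End.mul_apply]
    have key0 : ∀ a, (S' * S).1 (gl g (rho g a v)) = gl g ((S' * S).1 (rho g a v)) := fun a => by
      rw [hzv, ← hZg, hgl, hcX, hoX, map_smul, map_add, hzv, hzo, map_smul, map_add]
    have key1 : ∀ a, (S' * S).1 (gl g (rho g a (oE g v))) = gl g ((S' * S).1 (rho g a (oE g v))) := fun a => by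
      rw [hzo, ← hZg, hgl, hcX, hoX2, map_smul, map_add, hzv, hzo, map_smul, map_add]
    refine qAut_ext fun w => ?_
    rw [qAut_mul_apply, qAut_mul_apply]
    change (S' * S).1 (gl g w) = gl g ((S' * S).1 w)
    let c₀ := fun i => QuadraticMap.polar Q w (phi g _ v hann (k₀ i)) / (2 * Q (phi g _ v hann (k₀ i)))
    let c₁ := fun i => QuadraticMap.polar Q w (phi g _ _ hω (k₁ i)) / (2 * Q (phi g _ _ hω (k₁ i)))
    obtain ⟨a₀, ha₀⟩ := Ideal.Quotient.mk_surjective (∑ i, c₀ i • k₀ i)
    obtain ⟨a₁, ha₁⟩ := Ideal.Quotient.mk_surjective (∑ i, c₁ i • k₁ i)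
    set p := w - rho g a₀ v - rho g a₁ (oE g v) with hp
    have hp0 : ∀ a, QuadraticMap.polar Q p (rho g a v) = 0 := perp_all p v hann k₀ hsp₀ fun j => by
      have e : QuadraticMap.polar Q (rho g a₁ (oE g v)) (phi g _ v hann (k₀ j)) = 0 := by
        obtain ⟨b, hb⟩ := Ideal.Quotient.mk_surjective (k₀ j)
        rw [← hb, phi_mk, QuadraticMap.polar_comm]
        exact polar_rho_oE g h2 b a₁
      rw [hp, QuadraticMap.polar_sub_left, QuadraticMap.polar_sub_left, e, sub_zero, ← phi_mk g hann a₀, ha₀,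
        ← QuadraticMap.polarBilin_apply_apply Q (phi g _ v hann _)]
      simp only [map_sum, map_smul, LinearMap.sum_apply, LinearMap.smul_apply, QuadraticMap.polarBilin_apply_apply]
      rw [Finset.sum_eq_single j (fun i _ hi => by rw [ho₀ i j hi, smul_zero]) (by simp), quad_polar_self, smul_eq_mul,
        div_mul_cancel₀ _ (mul_ne_zero h2 (hq₀ j)), sub_self]
    have hp1 : ∀ a, QuadraticMap.polar Q p (rho g a (oE g v)) = 0 := perp_all p _ hω k₁ hsp₁ fun j => by
      have e : QuadraticMap.polar Q (rho g a₀ v) (phi g _ _ hω (k₁ j)) = 0 := by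
        obtain ⟨b, hb⟩ := Ideal.Quotient.mk_surjective (k₁ j)
        rw [← hb, phi_mk]
        exact polar_rho_oE g h2 a₀ b
      rw [hp, QuadraticMap.polar_sub_left, QuadraticMap.polar_sub_left, e, sub_zero, ← phi_mk g hω a₁, ha₁,
        ← QuadraticMap.polarBilin_apply_apply Q (phi g _ _ hω _)]
      simp only [map_sum, map_smul, LinearMap.sum_apply, LinearMap.smul_apply, QuadraticMap.polarBilin_apply_apply]
      rw [Finset.sum_eq_single j (fun i _ hi => by rw [ho₁ i j hi, smul_zero]) (by simp), quad_polar_self, smul_eq_mul,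
        div_mul_cancel₀ _ (mul_ne_zero h2 (hq₁ j)), sub_self]
    have hgp : (S' * S).1 (gl g p) = gl g p := by
      refine hzp _ (fun a => ?_) fun a => ?_
      · rw [polar_gl, hgli, hcX, hoX, QuadraticMap.polar_smul_right, QuadraticMap.polar_sub_right, hp0, hp1, sub_zero,
          smul_zero]
      · rw [polar_gl, hgli, hcX, hoX2, QuadraticMap.polar_smul_right, QuadraticMap.polar_sub_right, hp0, hp1,
          sub_zero, smul_zero]
    rw [show w = rho g a₀ v + rho g a₁ (oE g v) + p by rw [hp]; abel]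
    simp only [map_add, key0, key1, hgp, hzp p hp0 hp1]
  · -- the spinor norm
    have hpair : ∀ (a b : V) (ha : Q a ≠ 0) (hb : Q b ≠ 0), (ψ (qRefl Q ha) * ψ (qRefl Q hb)).1 = 1 ∧
        (((ψ (qRefl Q ha) * ψ (qRefl Q hb)).2 : ℤˣ) : ℤ) = quadraticChar F (Q a * Q b) := by
      intro a b ha hb
      refine ⟨by rw [Prod.fst_mul, h1, h1]; decide, ?_⟩
      by_cases hsq : IsSquare (Q a * Q b)
      · rw [(hiff a b ha hb).2 hsq, ← map_mul, qRefl_mul_self, map_one, Prod.snd_one, Units.val_one,
          (quadraticChar_one_iff_isSquare (mul_ne_zero ha hb)).2 hsq]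
      · rw [(quadraticChar_neg_one_iff_not_isSquare).2 hsq, Prod.snd_mul]
        have hne : (ψ (qRefl Q ha)).2 ≠ (ψ (qRefl Q hb)).2 := fun e =>
          hsq ((hiff a b ha hb).1 (Prod.ext ((h1 a ha).trans (h1 b hb).symm) e))
        rcases Int.units_eq_one_or (ψ (qRefl Q ha)).2 with e | e <;>
          rcases Int.units_eq_one_or (ψ (qRefl Q hb)).2 with e' | e' <;> simp_all
    rw [map_mul, hS3, hS3', ← Finset.prod_mul_distrib]
    refine Prod.ext ?_ (Units.ext ?_)
    · rw [Prod.fst_prod]
      exact Finset.prod_eq_one fun i _ => (hpair _ _ _ _).1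
    · rw [Prod.snd_prod, Units.coe_prod]
      simp only [(hpair _ _ _ _).2]
      rw [← map_prod, Units.val_neg, Units.val_one, quadraticChar_neg_one_iff_not_isSquare, Finset.prod_mul_distrib]
      intro hsq
      refine hs ?_
      have h4 : ∀ f : Fin (Module.finrank F (Rg g ⧸ I.asIdeal)) → F,
          ∏ i, (2 * f i) = 2 ^ Module.finrank F (Rg g ⧸ I.asIdeal) * ∏ i, f i := fun f => by
        rw [Finset.prod_mul_distrib, Finset.prod_const, Finset.card_univ, Fintype.card_fin]
      rw [h4] at hp₁ hp₂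
      rw [hGram, Matrix.det_mul, hNA] at hp₂
      obtain ⟨c, hc⟩ := hsq
      have h2e : (2 : F) ^ Module.finrank F (Rg g ⧸ I.asIdeal) ≠ 0 := pow_ne_zero _ h2
      refine ⟨2 ^ Module.finrank F (Rg g ⧸ I.asIdeal) * c / (t₁ * t₂ * (Matrix.of fun i j =>
        QuadraticMap.polar Q (phi g _ _ hω (bK i)) (phi g _ _ hω (bK j))).det), ?_⟩
      field_simp
      linear_combination (-(t₂ ^ 2 * (Matrix.of fun i j =>
        QuadraticMap.polar Q (phi g _ _ hω (bK i)) (phi g _ _ hω (bK j))).det * s)) * hp₁ +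
        (-(2 ^ Module.finrank F (Rg g ⧸ I.asIdeal) * ∏ i, Q (phi g _ _ hω (k₁ i)))) * hp₂ +
        ((2 : F) ^ Module.finrank F (Rg g ⧸ I.asIdeal)) ^ 2 * hc

include h2 hQ hr hodd hrF hg in
/-- The centraliser contains similitudes of every multiplier, proper if there are no fixed vectors. -/
theorem exists_sim {M : ℕ} (hM : Module.finrank F V = 2 * M) {μ : F} (hμ : μ ≠ 0) :
    ∃ L : V ≃ₗ[F] V, (∀ v, Q (L v) = μ * Q v) ∧ (∀ v, L (g.1 v) = g.1 (L v)) ∧
      ((∃ v, Q v ≠ 0 ∧ g.1 v = v) ∨ LinearMap.det (L : V →ₗ[F] V) = μ ^ M) := by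
  classical
  haveI := finite_Rg g
  haveI := isReduced_Rg g hr hrF hg
  have hN := one_lt_card_pow g hr hrF hg
  let E := IsArtinianRing.equivPi (Rg g)
  set n := Fintype.card F ^ (r - 1) - 1 with hn
  set ε : Rg g := dd g ^ n with hε
  set P : Module.End F V := rho g ε with hP
  -- the equation
  have hxy : ∀ J : MaximalSpectrum (Rg g), ∃ a b : Rg g,
      Ideal.Quotient.mk J.asIdeal ((a ^ 2 - dd g * b ^ 2 - algebraMap F (Rg g) μ) * ε) = 0 := by
    intro J
    by_cases hJ : dd g ∈ J.asIdeal
    · refine ⟨0, 0, Ideal.Quotient.eq_zero_iff_mem.2 (J.asIdeal.mul_mem_left _ ?_)⟩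
      exact Ideal.pow_mem_of_mem _ hJ _ (by omega)
    · haveI := J.isMaximal
      letI : Field (Rg g ⧸ J.asIdeal) := Ideal.Quotient.field _
      haveI : Finite (Rg g ⧸ J.asIdeal) := Finite.of_surjective _ Ideal.Quotient.mk_surjective
      haveI := Fintype.ofFinite (Rg g ⧸ J.asIdeal)
      have h2K : (2 : Rg g ⧸ J.asIdeal) ≠ 0 := by
        rw [← map_ofNat (algebraMap F (Rg g ⧸ J.asIdeal)) 2]
        exact (map_ne_zero_iff _ (FaithfulSMul.algebraMap_injective F _)).2 h2
      obtain ⟨a, b, h⟩ := exists_sq_sub h2K (d := Ideal.Quotient.mk J.asIdeal (dd g))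
        (fun h => hJ (Ideal.Quotient.eq_zero_iff_mem.1 h))
        (Ideal.Quotient.mk J.asIdeal (algebraMap F (Rg g) μ))
      obtain ⟨a, rfl⟩ := Ideal.Quotient.mk_surjective a
      obtain ⟨b, rfl⟩ := Ideal.Quotient.mk_surjective b
      exact ⟨a, b, by rw [map_mul, map_sub, map_sub, map_mul, map_pow, map_pow, h, sub_self, zero_mul]⟩
  choose xa xb hx using hxy
  obtain ⟨x, hxJ⟩ : ∃ x : Rg g, ∀ J : MaximalSpectrum (Rg g),
      Ideal.Quotient.mk J.asIdeal x = Ideal.Quotient.mk _ (xa J) :=
    ⟨E.symm fun J => Ideal.Quotient.mk _ (xa J), fun J => by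
      rw [← IsArtinianRing.equivPi_apply]; exact congrFun (E.apply_symm_apply _) J⟩
  obtain ⟨y, hyJ⟩ : ∃ y : Rg g, ∀ J : MaximalSpectrum (Rg g),
      Ideal.Quotient.mk J.asIdeal y = Ideal.Quotient.mk _ (xb J) :=
    ⟨E.symm fun J => Ideal.Quotient.mk _ (xb J), fun J => by
      rw [← IsArtinianRing.equivPi_apply]; exact congrFun (E.apply_symm_apply _) J⟩
  have heq : (x ^ 2 - dd g * y ^ 2) * ε = algebraMap F (Rg g) μ * ε := by
    refine E.injective (funext fun J => ?_)
    have e1 := hxJ J
    have e2 := hyJ J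
    have h := hx J
    rw [sub_mul, map_sub, sub_eq_zero] at h
    rw [IsArtinianRing.equivPi_apply, IsArtinianRing.equivPi_apply, ← h]
    simp only [map_mul, map_sub, map_pow, e1, e2]
  -- the projection
  have co := commute_rho g (commute_cE_oE g)
  have hPP : ∀ v, P (P v) = P v := fun v => by
    rw [hP, ← Module.End.mul_apply, ← map_mul, hε, ← pow_add]
    congr 2
    rw [show n + n = (n - 1) + (n + 1) by omega, pow_add, hn, Nat.sub_add_cancel hN.le, rg_pow g hr hrF hg,
      ← pow_succ, Nat.sub_add_cancel (by omega)]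
  have hPsym : ∀ u v, QuadraticMap.polar Q (P u) v = QuadraticMap.polar Q u (P v) := polar_rho g ε
  have hPo : ∀ v, P (oE g v) = oE g v := fun v => oE_idem g hr hrF hg v
  have hoP : ∀ v, oE g (P v) = oE g v := fun v => by
    rw [← Module.End.mul_apply, ← (co ε).eq, Module.End.mul_apply, ← hP, hPo]
  have hker : ∀ v, P v = 0 ↔ oE g v = 0 := fun v => by
    refine ⟨fun h => by rw [← hoP, h, map_zero], fun h => ?_⟩
    rw [hP, hε, map_pow, rho_dd, show n = n - 1 + 1 by omega, pow_succ, Module.End.mul_apply, Module.End.mul_apply, h,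
      map_zero, map_zero]
  have hgP : ∀ v, P (g.1 v) = g.1 (P v) := fun v => by
    change (P * gl g) v = (gl g * P) v
    rw [(commute_rho g (commute_cE_gl g) ε).eq]
  have hfix : ∀ v, P v = 0 → g.1 v = v := fun v h => (oE_eq_zero_iff g hodd hg v).1 ((hker v).1 h)
  set U : Module.End F V := rho g x + rho g y * oE g with hU
  have hUr : ∀ a, Commute (rho g a) U := fun a =>
    ((Commute.all a x).map (rho g)).add_right (((Commute.all a y).map (rho g)).mul_right (co a))
  have hUg : Commute (gl g) U :=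
    ((commute_rho g (commute_cE_gl g) x).symm).add_right
      ((commute_rho g (commute_cE_gl g) y).symm.mul_right (commute_oE_gl g).symm)
  have hUo : Commute (oE g) U := ((co x).symm).add_right ((co y).symm.mul_right (Commute.refl _))
  have hUP : ∀ v, U (P v) = P (U v) := fun v => by rw [← Module.End.mul_apply, ← (hUr ε).eq]; rfl
  have hUpolar : ∀ u v, QuadraticMap.polar Q (U (P u)) (U (P v)) = μ * QuadraticMap.polar Q (P u) (P v) := by
    intro u v
    have e : (rho g x - rho g y * oE g) * U * P = μ • P := by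
      rw [hU, sub_mul, mul_add, mul_add,
        show rho g y * oE g * rho g x = rho g x * (rho g y * oE g) by
          rw [← mul_assoc (rho g x), ((Commute.all x y).map (rho g)).eq, mul_assoc, ← (co x).eq, ← mul_assoc],
        show rho g y * oE g * (rho g y * oE g) = rho g y * rho g y * (oE g * oE g) by
          rw [mul_assoc, ← mul_assoc (oE g), ← (co y).eq, mul_assoc, ← mul_assoc],
        show ∀ a b d : Module.End F V, a + b - (b + d) = a - d from fun _ _ _ => by abel, ← rho_dd, ← map_mul, ← map_mul, ← map_mul,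
        ← map_sub, hP, ← map_mul, ← map_smul, Algebra.smul_def, ← heq]
      congr 1
      ring
    rw [show μ * QuadraticMap.polar Q (P u) (P v) = QuadraticMap.polar Q (P u) ((μ • P) v) by
      rw [LinearMap.smul_apply, QuadraticMap.polar_smul_right, smul_eq_mul], ← e]
    generalize P u = p
    rw [hU, LinearMap.add_apply (rho g x), QuadraticMap.polar_add_left, Module.End.mul_apply, polar_rho, polar_rho,
      polar_oE, Module.End.mul_apply, Module.End.mul_apply, LinearMap.sub_apply, QuadraticMap.polar_sub_right,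
      Module.End.mul_apply, ← Module.End.mul_apply (rho g y) (oE g), (co y).eq, Module.End.mul_apply]
    ring
  have hPnd : NdOn Q (LinearMap.range P) := by
    rintro _ ⟨a, rfl⟩ h
    refine hQ _ fun w => ?_
    have h1 := h _ ⟨w, rfl⟩
    rwa [← hPsym, hPP] at h1
  have hKnd : NdOn Q (LinearMap.ker P) := by
    intro a ha h
    rw [LinearMap.mem_ker] at ha
    refine hQ _ fun w => ?_
    have hw : w - P w ∈ LinearMap.ker P := by rw [LinearMap.mem_ker, map_sub, hPP, sub_self]
    have h1 := h _ hw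
    rwa [QuadraticMap.polar_sub_right, ← hPsym, ha, QuadraticMap.polar_zero_left, sub_zero] at h1
  -- the alternating form
  let bR := Module.finBasis F (LinearMap.range P)
  let A : Matrix (Fin (Module.finrank F (LinearMap.range P))) (Fin (Module.finrank F (LinearMap.range P))) F :=
    Matrix.of fun i j => QuadraticMap.polar Q (oE g (bR i : V)) (bR j : V)
  have hA : CfsgLib.Forms.IsAltMat A := by
    refine ⟨Matrix.ext fun i j => ?_, fun i => ?_⟩
    · simp only [A, Matrix.transpose_apply, Matrix.neg_apply, Matrix.of_apply]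
      rw [polar_oE, QuadraticMap.polar_comm]
    · simp only [A, Matrix.of_apply]
      have h := polar_oE g (bR i : V) (bR i : V)
      rw [QuadraticMap.polar_comm Q (bR i : V)] at h
      exact (mul_eq_zero.1 (show (2 : F) * _ = 0 by linear_combination h)).resolve_left h2
  have hAform : ∀ a b : Fin (Module.finrank F (LinearMap.range P)) → F,
      a ⬝ᵥ (A *ᵥ b) = QuadraticMap.polar Q (oE g (bR.equivFun.symm a : V)) (bR.equivFun.symm b : V) := by
    intro a b
    rw [Module.Basis.equivFun_symm_apply, Module.Basis.equivFun_symm_apply, Submodule.coe_sum, Submodule.coe_sum,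
      ← QuadraticMap.polarBilin_apply_apply]
    simp only [Submodule.coe_smul, map_sum, map_smul, LinearMap.sum_apply, LinearMap.smul_apply, smul_eq_mul,
      dotProduct, Matrix.mulVec, A, Matrix.of_apply, Finset.mul_sum, QuadraticMap.polarBilin_apply_apply]
    rw [Finset.sum_comm]
    exact Finset.sum_congr rfl fun i _ => Finset.sum_congr rfl fun j _ => by ring
  have hAd : A.det ≠ 0 := by
    intro h0
    obtain ⟨c, hc0, hc⟩ := Matrix.exists_mulVec_eq_zero_iff.2 h0
    have hc1 : (bR.equivFun.symm c : V) ≠ 0 := fun h =>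
      hc0 (bR.equivFun.symm.map_eq_zero_iff.1 (Subtype.ext h))
    refine hc1 (hPnd _ (bR.equivFun.symm c).2 ?_)
    rintro _ ⟨w, rfl⟩
    -- write `P w` as an image of the skew part
    have hsurj : P w = oE g (oE g (rho g (dd g ^ (n - 1)) w)) := by
      rw [← Module.End.mul_apply (oE g), ← rho_dd, ← Module.End.mul_apply, ← map_mul, ← pow_succ',
        Nat.sub_add_cancel (by omega)]
    have hz : ∀ z : LinearMap.range P, QuadraticMap.polar Q (oE g (z : V)) (bR.equivFun.symm c : V) = 0 := fun z => by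
      rw [← bR.equivFun.symm_apply_apply z, ← hAform, hc, dotProduct_zero]
    rw [QuadraticMap.polar_comm, hsurj]
    exact hz ⟨oE g (rho g (dd g ^ (n - 1)) w), oE g (rho g (dd g ^ (n - 1)) w), hPo _⟩
  obtain ⟨m, hm, -⟩ := CfsgLib.Forms.exists_congr_J hA hAd
  rw [Fintype.card_fin] at hm
  by_cases hK : LinearMap.ker P = ⊥
  · have hP1 : ∀ v, P v = v := fun v => by
      have h : v - P v ∈ LinearMap.ker P := by rw [LinearMap.mem_ker, map_sub, hPP, sub_self]
      rw [hK, Submodule.mem_bot, sub_eq_zero] at h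
      exact h.symm
    have hUp : ∀ u v, QuadraticMap.polar Q (U u) (U v) = μ * QuadraticMap.polar Q u v := fun u v => by
      simpa [hP1] using hUpolar u v
    have hUinj : Function.Injective U := (injective_iff_map_eq_zero _).2 fun v hv => hQ v fun w => by
      have h := hUp v w
      rw [hv, QuadraticMap.polar_zero_left] at h
      exact (mul_eq_zero.1 h.symm).resolve_left hμ
    refine ⟨LinearEquiv.ofInjectiveEndo U hUinj, fun v => ?_, fun v => ?_, Or.inr ?_⟩
    · change Q (U v) = _
      have h := hUp v v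
      rw [quad_polar_self, quad_polar_self] at h
      exact mul_left_cancel₀ h2 (by linear_combination h)
    · change U (gl g v) = gl g (U v)
      rw [← Module.End.mul_apply, ← hUg.eq]; rfl
    · change LinearMap.det U = _
      have hR : LinearMap.range P = ⊤ := eq_top_iff.2 fun v _ => ⟨v, hP1 v⟩
      have hcard : Module.finrank F (LinearMap.range P) = 2 * M := by rw [hR, finrank_top, hM]
      let e : LinearMap.range P ≃ₗ[F] V := (LinearEquiv.ofEq _ _ hR).trans Submodule.topEquiv
      rw [← LinearMap.det_toMatrix (bR.map e)]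
      refine det_alt_similitude hA hAd (by rw [Fintype.card_fin, hcard]) hμ ?_
      rw [← CfsgLib.Forms.form_eq_iff]
      intro a b
      rw [← CfsgLib.Forms.mulVec_form, Matrix.smul_mulVec, dotProduct_smul, smul_eq_mul, hAform, hAform]
      have he : ∀ c, (bR.equivFun.symm (LinearMap.toMatrix (bR.map e) (bR.map e) U *ᵥ c) : V) =
          U (bR.equivFun.symm c : V) := by
        intro c
        have h := LinearMap.toMatrix_mulVec_repr (bR.map e) (bR.map e) U (bR.equivFun.symm c : V)
        have h1 : ∀ z : V, ⇑((bR.map e).repr z) = bR.equivFun (e.symm z) := fun z => rfl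
        have h2' : e.symm (bR.equivFun.symm c : V) = bR.equivFun.symm c := Subtype.ext rfl
        rw [h1, h1, h2', LinearEquiv.apply_symm_apply] at h
        rw [h, LinearEquiv.symm_apply_apply]
        rfl
      rw [he, he, ← Module.End.mul_apply (oE g) U, hUo.eq, Module.End.mul_apply, hUp]
  · obtain ⟨v₁, hv₁, hv₁'⟩ := exists_aniso_in Q hKnd hK
    rw [LinearMap.mem_ker] at hv₁
    have hrank := LinearMap.finrank_range_add_finrank_ker P
    rw [hM, hm] at hrank
    let bP := Module.finBasis F (LinearMap.ker P)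
    let emb : (Fin (Module.finrank F (LinearMap.ker P)) → F) →ₗ[F] V :=
      (LinearMap.ker P).subtype ∘ₗ bP.equivFun.symm.toLinearMap
    obtain ⟨g', hg'⟩ := CfsgLib.Classical.exists_similitude
      (by rw [Fintype.card_fin]; exact ⟨M - m, by omega⟩) (Q.comp emb) (fun a ha => bP.equivFun.symm.map_eq_zero_iff.1
        (Subtype.ext (hKnd _ (bP.equivFun.symm a).2 fun z hz => by
          have h := ha (bP.equivFun ⟨z, hz⟩)
          simp only [QuadraticMap.polar, QuadraticMap.comp_apply, map_add, emb, LinearMap.coe_comp,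
            Function.comp_apply, LinearEquiv.coe_coe, LinearEquiv.symm_apply_apply, Submodule.subtype_apply] at h
          exact h))) hμ
    let L₁ : LinearMap.ker P →ₗ[F] V := emb ∘ₗ g'.toLinearMap ∘ₗ bP.equivFun.toLinearMap
    have hL₁ : ∀ z, Q (L₁ z) = μ * Q z := fun z => by
      have h := hg' (bP.equivFun z)
      simp only [QuadraticMap.comp_apply, emb, LinearMap.coe_comp, Function.comp_apply, LinearEquiv.coe_coe,
        LinearEquiv.symm_apply_apply, Submodule.subtype_apply] at h
      exact h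
    have hL₁' : ∀ z, P (L₁ z) = 0 := fun z => LinearMap.mem_ker.1 (bP.equivFun.symm _).2
    let P' : V →ₗ[F] LinearMap.ker P := (1 - P).codRestrict _ fun v => by
      rw [LinearMap.mem_ker, LinearMap.sub_apply, Module.End.one_apply, map_sub, hPP, sub_self]
    let L : Module.End F V := U * P + L₁ ∘ₗ P'
    have hP' : ∀ v, (P' v : V) = v - P v := fun v => rfl
    have hLq : ∀ v, Q (L v) = μ * Q v := fun v => by
      change Q (U (P v) + L₁ (P' v)) = _
      have hperp : QuadraticMap.polar Q (U (P v)) (L₁ (P' v)) = 0 := by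
        rw [hUP, hPsym, hL₁', QuadraticMap.polar_zero_right]
      have hperp' : QuadraticMap.polar Q (P v) (P' v : V) = 0 := by
        rw [hP', hPsym, map_sub, hPP, sub_self, QuadraticMap.polar_zero_right]
      have h1 := hUpolar v v
      rw [quad_polar_self, quad_polar_self] at h1
      have h2' : Q v = Q (P v) + Q (P' v : V) := by
        conv_lhs => rw [show v = P v + (P' v : V) by rw [hP']; abel]
        rw [quad_add, hperp', add_zero]
      rw [quad_add, hperp, add_zero, hL₁, h2', mul_left_cancel₀ h2 (show (2 : F) * Q (U (P v)) = 2 * (μ * Q (P v)) by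
        linear_combination h1), mul_add]
    have hLp : ∀ u v, QuadraticMap.polar Q (L u) (L v) = μ * QuadraticMap.polar Q u v := fun u v => by
      simp only [QuadraticMap.polar, ← map_add, hLq]; ring
    have hLinj : Function.Injective L := (injective_iff_map_eq_zero _).2 fun v hv => hQ v fun w => by
      have h := hLp v w
      rw [hv, QuadraticMap.polar_zero_left] at h
      exact (mul_eq_zero.1 h.symm).resolve_left hμ
    refine ⟨LinearEquiv.ofInjectiveEndo L hLinj, hLq, fun v => ?_, Or.inl ⟨v₁, hv₁', hfix _ hv₁⟩⟩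
    change U (P (g.1 v)) + L₁ (P' (g.1 v)) = g.1 (U (P v) + L₁ (P' v))
    have e1 : P' (g.1 v) = P' v := Subtype.ext (by
      rw [hP', hP', hgP, ← map_sub]
      exact hfix _ (by rw [map_sub, hPP, sub_self]))
    rw [e1, map_add, hfix _ (hL₁' _), hgP]
    congr 1
    change (U * gl g) (P v) = (gl g * U) (P v)
    rw [hUg.eq]

end Main

end CfsgLib.POAut.SSCent
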