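/-
Fusion of semisimple automorphisms of odd prime order of `PΩ^±`.
-/
import Cfsg.Agent.Lib.KnownSimple.POAut.PGOMinus
import Cfsg.Agent.Lib.KnownSimple.POAut.Classes
import Cfsg.Agent.Lib.KnownSimple.POAut.SemisimpleCentralizer

set_option autoImplicit false
set_option maxHeartbeats 1000000

namespace CfsgLib.POAut

open CfsgLib.Classical CfsgLib.Classical22
open scoped Matrix

/-- Conjugacy classes do not split when the centraliser meets every coset. -/
theorem isConjUnder_iff_of_cosets {X : Type*} [Group X] {H K : Subgroup X} (hHK : H ≤ K) {x : X}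
    (h : ∀ γ ∈ K, ∃ α ∈ H, ∃ c, Commute c x ∧ γ = α * c) (y : X) :
    Cfsg.IsConjUnder H x y ↔ Cfsg.IsConjUnder K x y := by
  refine ⟨fun ⟨a, ha, e⟩ => ⟨a, hHK ha, e⟩, fun ⟨γ, hγ, e⟩ => ?_⟩
  obtain ⟨α, hα, c, hc, rfl⟩ := h γ hγ
  exact ⟨α, hα, by rw [e, mul_inv_rev, ← mul_assoc, mul_assoc α c x, hc.eq, ← mul_assoc, mul_inv_cancel_right]⟩

variable {F : Type*} [Field F] [Fintype F] {ι : Type} [Fintype ι] [DecidableEq ι] {Q : QuadraticForm F (ι → F)}

theorem poAut_eq (hQ : Pre Q) :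
    Cfsg.poAut F (⇑Q) = ((qIncl Q).range.map (act Q)).comap (autT Q hQ).toMonoidHom := by
  refine autSubgroupOf_eq (autT Q hQ) _ _ fun β => ⟨?_, ?_⟩
  · rintro ⟨g, hiso, hind⟩
    have hq : ∀ v, Q ((g : Matrix ι ι F) *ᵥ v) = Q v := fun v => by
      simpa using hiso v v
    have hp : Cfsg.IsSemisimilarityPair (⇑Q) g (RingEquiv.refl F) :=
      ⟨1, fun v => by rw [Units.val_one, one_mul]; exact hq v⟩
    let L : (ι → F) ≃ₗ[F] (ι → F) := LinearEquiv.ofInjectiveEndo (Matrix.toLin' (g : Matrix ι ι F))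
      fun v w e => (semMap g (RingEquiv.refl F)).injective e
    let h : qAut Q := ⟨L, hq⟩
    refine ⟨qIncl Q h, ⟨h, rfl⟩, ?_⟩
    rw [(induced_iff hQ hp β).1 hind]
    exact congrArg _ (gammaO_ext fun v => rfl)
  · rintro ⟨_, ⟨h, rfl⟩, e⟩
    obtain ⟨g, hg, h1, h2⟩ := exists_matrix hQ (qIncl_mem_simSub hQ h)
    have hq : ∀ v, Q ((g : Matrix ι ι F) *ᵥ v) = Q v := fun v => by
      rw [← h1, qIncl_apply]
      exact qAut_map h v
    exact ⟨g, fun v u => by simpa using hq v, (h2 β).2 e.symm⟩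

/-- A lift of odd prime order. -/
theorem exists_isometry_lift (hQ : Pre Q) (h2 : (2 : F) ≠ 0) {T : gammaO Q} (hT : T ∈ simSub hQ) {r : ℕ}
    (hodd : Odd r) (h : act Q T ^ r = 1) : ∃ g : qAut Q, g ^ r = 1 ∧ act Q (qIncl Q g) = act Q T := by
  obtain ⟨c, hc⟩ := exists_pow_eq_scal hQ h
  have hpow : ∀ k, mulFac (T ^ k) = mulFac T ^ k := by
    intro k
    induction k with
    | zero =>
      rw [pow_zero, pow_zero, show (1 : gammaO Q) = qIncl Q 1 from (map_one _).symm]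
      exact mulFac_qIncl hQ 1
    | succ k ih => rw [pow_succ, mulFac_mul hQ, linear_of_simSub hQ (pow_mem hT k), ih, pow_succ]
  have hsq : IsSquare (mulFac T) := by
    have h1 : IsSquare (mulFac T ^ r) := by
      rw [← hpow, hc, mulFac_scal hQ]
      exact ⟨_, rfl⟩
    by_contra hns
    exact Nat.not_even_iff_odd.2 hodd ((isSquare_pow_iff hns r).1 h1)
  obtain ⟨d, g, rfl⟩ := exists_decomp hQ hT hsq
  have hcomm : Commute (scal Q d) (qIncl Q g) := (commute_scal_of_sim hQ (qIncl_mem_simSub hQ g) d).symm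
  rw [hcomm.mul_pow, ← map_pow, ← map_pow, ← eq_inv_mul_iff_mul_eq, ← map_inv, ← map_mul] at hc
  generalize hu : (d ^ r)⁻¹ * c = u at hc
  haveI := nontrivial_of_good hQ
  obtain ⟨v, hv⟩ := exists_ne (0 : ι → F)
  have happ : ∀ v, (g ^ r).1 v = (u : F) • v := fun v => by rw [← qIncl_apply, hc, scal_apply]
  obtain ⟨w, hw, hwq⟩ := exists_aniso_in Q (P := ⊤) (fun x _ hx => hQ.nondeg x fun y => hx y trivial)
    (fun e => hv ((Submodule.mem_bot F).1 (e ▸ Submodule.mem_top)))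
  have hu1 : (u : F) * u = 1 := by
    have h := qAut_map (g ^ r) w
    rw [happ, quad_smul] at h
    exact mul_right_cancel₀ hwq (h.trans (one_mul _).symm)
  have hact : ∀ v : Fˣ, act Q (scal Q d * qIncl Q g) = act Q (scal Q v * qIncl Q g) := fun v => by
    rw [map_mul, map_mul, act_scal, act_scal]
  rcases mul_self_eq_one_iff.1 hu1 with hu1 | hu1
  · exact ⟨g, qAut_ext fun v => by rw [happ, hu1, one_smul]; rfl, by rw [map_mul, act_scal, one_mul]⟩
  · let g' : qAut Q := ⟨g.1.trans (LinearEquiv.neg F), fun v => by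
      change Q (-(g.1 v)) = Q v
      rw [QuadraticMap.map_neg, qAut_map]⟩
    have hk : ∀ k (v : ι → F), (g' ^ k).1 v = ((-1 : F) ^ k) • (g ^ k).1 v := by
      intro k
      induction k with
      | zero => intro v; rw [pow_zero, pow_zero, pow_zero, one_smul]
      | succ k ih =>
        intro v
        rw [pow_succ, qAut_mul_apply, ih]
        change (-1 : F) ^ k • (g ^ k).1 (-(g.1 v)) = _
        rw [map_neg, ← qAut_mul_apply, ← pow_succ, pow_succ (-1 : F), mul_smul, neg_one_smul]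
    refine ⟨g', qAut_ext fun v => ?_, ?_⟩
    · rw [hk, happ, hu1, hodd.neg_one_pow, smul_smul, neg_one_mul, neg_neg, one_smul]
      rfl
    · rw [hact (-1), show qIncl Q g' = scal Q (-1) * qIncl Q g from gammaO_ext fun v => by
        rw [qIncl_apply, gammaO_mul_apply, scal_apply, qIncl_apply, Units.val_neg, Units.val_one, neg_one_smul]
        rfl]

set_option maxHeartbeats 2000000 in
/-- The fusion statement on the carrier. -/
theorem semisimple_fusion (hQ : Pre Q) (D : SimData hQ) {M : ℕ} (hM : Fintype.card ι = 2 * M)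
    (T₀ : simSub hQ) (hT₀ : D.par T₀ = 1) (hT₀μ : ¬ IsSquare (mulFac T₀.1)) (L₀ : (ι → F) ≃ₗ[F] (ι → F))
    (hL₀ : ∀ v, addT T₀.1 v = L₀ v) (hdet₀ : LinearMap.det (L₀ : (ι → F) →ₗ[F] (ι → F)) = mulFac T₀.1 ^ M)
    {fq : (ι → F) → F} (h : ⇑Q = fq) (I : Subgroup (MulAut (Cfsg.POmega F fq)))
    (hI : I = ((D.diagS.map (simSub hQ).subtype).map (act Q)).comap (autE h hQ).toMonoidHom)
    {x : MulAut (Cfsg.POmega F fq)} (hx : x ∈ Cfsg.pgoAut F fq) {r : ℕ} (hr : r.Prime) (hro : Odd r)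
    (hrF : (r : F) ≠ 0) (hxr : orderOf x = r) :
    (∀ y, (Cfsg.IsConjUnder (Cfsg.Inn (Cfsg.POmega F fq)) x y ↔ Cfsg.IsConjUnder I x y) ∧
      (Cfsg.IsConjUnder (Cfsg.psoAut F fq) x y ↔ Cfsg.IsConjUnder I x y)) ∧
    (∀ y, Cfsg.IsConjUnder (Cfsg.poAut F fq) x y ↔ Cfsg.IsConjUnder (Cfsg.pgoAut F fq) x y) := by
  subst h
  rw [autE_rfl] at hI
  set e := autT Q hQ
  rw [pgoAut_eq hQ] at hx ⊢
  obtain ⟨T, hT, hTx⟩ := hx
  obtain ⟨g, hgr, hgx⟩ := exists_isometry_lift hQ D.h2 hT hro (by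
    rw [hTx, ← map_pow]; exact (congrArg e (hxr ▸ pow_orderOf_eq_one x)).trans (map_one e))
  have hg1 : g ≠ 1 := fun h1 => by
    rw [h1, map_one, map_one] at hgx
    have : x = 1 := e.injective ((hTx.symm.trans hgx.symm).trans (map_one e).symm)
    rw [this, orderOf_one] at hxr
    exact hr.one_lt.ne hxr
  have hex : e x = act Q (qIncl Q g) := (hgx.trans hTx).symm
  have hcomm : ∀ {S : gammaO Q} {γ : MulAut (Cfsg.POmega F ⇑Q)}, Commute S (qIncl Q g) → e γ = act Q S →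
      Commute γ x := by
    intro S γ hS hγ
    refine e.injective ?_
    rw [map_mul, map_mul, hγ, hex]
    exact hS.map (act Q)
  obtain ⟨z, hz, hψz⟩ := SSCent.exists_spinor g D.h2 hQ.nondeg hr hro hrF hgr hg1 D.h1 D.hiff
  have hzc : Commute (qIncl Q z) (qIncl Q g) := hz.map (qIncl Q)
  obtain ⟨L, hLq, hLg, hLor⟩ := SSCent.exists_sim g D.h2 hQ.nondeg hr hro hrF hgr
    (M := M) (by rw [Module.finrank_fintype_fun_eq_card, hM]) (semisim_spec T₀.1).ne
  set μ := mulFac T₀.1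
  let SL : gammaO Q := mkGamma L.toAddEquiv (σ := RingEquiv.refl F) (c := μ)
    ⟨fun s v => L.map_smul s v, fun v => hLq v, (semisim_spec T₀.1).ne⟩
  have hSLs : SL ∈ simSub hQ := sigHom_eq hQ _ fun s v => L.map_smul s v
  have hSLa : ∀ v, addT SL v = L v := fun v => rfl
  have hSLμ : mulFac SL = μ := mulFac_eq hQ _ fun v => by
    rw [hSLa, hLq, sigFun_of_simSub hQ hSLs, RingEquiv.refl_apply]
  have hSLg : Commute SL (qIncl Q g) := gammaO_ext fun v => by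
    rw [gammaO_mul_apply, gammaO_mul_apply, qIncl_apply, qIncl_apply, hSLa, hSLa, hLg]
  -- a similitude in the inner-diagonal group
  obtain ⟨S, hSp, hSμ, hSg⟩ : ∃ S : simSub hQ, D.par S = 1 ∧ ¬ IsSquare (mulFac S.1) ∧ Commute S.1 (qIncl Q g) := by
    rcases zmod2_cases (D.par ⟨SL, hSLs⟩) with hp | hp
    · exact ⟨⟨SL, hSLs⟩, hp, fun hs => hT₀μ (hSLμ ▸ hs : IsSquare μ), hSLg⟩
    rcases hLor with ⟨v, hv, hgv⟩ | hdet
    · refine ⟨⟨SL, hSLs⟩ * ⟨qIncl Q (qRefl Q hv), qIncl_mem_simSub hQ _⟩, ?_, fun hs => hT₀μ ?_, hSLg.mul_left ?_⟩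
      · rw [map_mul, hp, D.par_incl, D.h1]; decide
      · rw [Subgroup.coe_mul, mulFac_mul hQ, mulFac_qIncl hQ, map_one, mul_one, hSLμ] at hs
        exact hs
      · refine Commute.map ?_ (qIncl Q)
        have e1 := qRefl_conj Q g hv (by rw [hgv]; exact hv)
        simp only [hgv] at e1
        exact (eq_mul_inv_iff_mul_eq.1 e1.symm).symm.symm
    · exfalso
      have hS' : (⟨SL, hSLs⟩ * T₀⁻¹ : simSub hQ).1 ∈ simSub hQ := (⟨SL, hSLs⟩ * T₀⁻¹ : simSub hQ).2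
      have hq : ∀ v, Q ((L₀.symm.trans L) v) = Q v := fun v => by
        obtain ⟨w, rfl⟩ := L₀.surjective v
        rw [LinearEquiv.trans_apply, LinearEquiv.symm_apply_apply, hLq, ← hL₀, (semisim_spec T₀.1).quad,
          sigFun_of_simSub hQ T₀.2, RingEquiv.refl_apply]
      let k : qAut Q := ⟨L₀.symm.trans L, hq⟩
      have hkS : (⟨SL, hSLs⟩ : simSub hQ) = ⟨qIncl Q k, qIncl_mem_simSub hQ k⟩ * T₀ := Subtype.ext (gammaO_ext fun v => by
        rw [Subgroup.coe_mul, gammaO_mul_apply, hL₀, qIncl_apply, hSLa]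
        exact (congrArg L (L₀.symm_apply_apply v)).symm)
      have hk1 : k ∈ detOne Q := by
        change LinearMap.det (((L₀.symm.trans L) : (ι → F) ≃ₗ[F] (ι → F)) : (ι → F) →ₗ[F] (ι → F)) = 1
        rw [LinearEquiv.coe_trans, LinearMap.det_comp, hdet, LinearEquiv.det_coe_symm, hdet₀]
        exact mul_inv_cancel₀ (pow_ne_zero _ (semisim_spec T₀.1).ne)
      rw [hkS, map_mul, hT₀, mul_one, D.par_incl, (mem_detOne_iff hQ D.h2 D.h1 k).1 hk1] at hp
      exact absurd hp (by decide)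
  have hnorm : ∀ U : simSub hQ, ∃ (d : Fˣ) (k : qAut Q) (j : ℕ), U = (⟨scal Q d, scal_mem_simSub hQ d⟩ *
      ⟨qIncl Q k, qIncl_mem_simSub hQ k⟩) * S ^ j := by
    intro U
    obtain ⟨U', j, hU', hsq⟩ : ∃ (U' : simSub hQ) (j : ℕ), U = U' * S ^ j ∧ IsSquare (mulFac U'.1) := by
      by_cases hs : IsSquare (mulFac U.1)
      · exact ⟨U, 0, by rw [pow_zero, mul_one], hs⟩
      · refine ⟨U * S⁻¹, 1, by rw [pow_one, inv_mul_cancel_right], ?_⟩
        by_contra hns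
        refine hs ?_
        have h := isSquare_mul_of_not_isSquare D.h2 hns hSμ
        rwa [show mulFac (U * S⁻¹).1 * mulFac S.1 = mulFac U.1 from by
          have e := mulFac_mul hQ (U * S⁻¹).1 S.1
          rw [linear_of_simSub hQ (U * S⁻¹).2, ← Subgroup.coe_mul, inv_mul_cancel_right] at e
          exact e.symm] at h
    obtain ⟨d, k, hk⟩ := exists_decomp hQ U'.2 hsq
    exact ⟨d, k, j, by rw [hU', show U' = _ * _ from (Subtype.ext hk : U' = ⟨scal Q d, scal_mem_simSub hQ d⟩ *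
      ⟨qIncl Q k, qIncl_mem_simSub hQ k⟩)]⟩
  have hSj : ∀ j : ℕ, Commute (S ^ j).1 (qIncl Q g) := fun j => by
    rw [Subgroup.coe_pow]; exact hSg.pow_left j
  have hInn : Cfsg.Inn (Cfsg.POmega F ⇑Q) ≤ Cfsg.psoAut F (⇑Q) := by
    rw [innAut_eq hQ, psoAut_eq hQ]
    exact Subgroup.comap_mono (Subgroup.map_mono (Subgroup.map_mono fun k hk =>
      (mem_detOne_iff hQ D.h2 D.h1 k).2 (by rw [(D.heich k).1 hk]; rfl)))
  have hpso : Cfsg.psoAut F (⇑Q) ≤ I := by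
    rw [hI, psoAut_eq hQ]
    refine Subgroup.comap_mono (Subgroup.map_mono ?_)
    rintro _ ⟨k, hk, rfl⟩
    exact ⟨⟨qIncl Q k, qIncl_mem_simSub hQ k⟩, (D.par_incl k).trans ((mem_detOne_iff hQ D.h2 D.h1 k).1 hk), rfl⟩
  have hcoset : ∀ γ ∈ I, ∃ α ∈ Cfsg.Inn (Cfsg.POmega F ⇑Q), ∃ c, Commute c x ∧ γ = α * c := by
    intro γ hγ
    rw [hI] at hγ
    obtain ⟨_, ⟨U, hU, rfl⟩, hUγ⟩ := hγ
    obtain ⟨d, k, j, rfl⟩ := hnorm U
    have hk1 : (D.ψ k).1 = 1 := by
      have h : D.par _ = 1 := hU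
      rwa [map_mul, map_mul, D.par_scal, one_mul, D.par_incl, map_pow, hSp, one_pow, mul_one] at h
    obtain ⟨k₀, i, hk₀, hki⟩ : ∃ (k₀ : qAut Q) (i : ℕ), D.ψ k₀ = 1 ∧ k = k₀ * z ^ i := by
      rcases Int.units_eq_one_or (D.ψ k).2 with hs | hs
      · exact ⟨k, 0, Prod.ext hk1 hs, by rw [pow_zero, mul_one]⟩
      · refine ⟨k * z⁻¹, 1, ?_, by rw [pow_one, inv_mul_cancel_right]⟩
        rw [map_mul, map_inv, hψz, show D.ψ k = (1, -1) from Prod.ext hk1 hs, mul_inv_cancel]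
    obtain ⟨α, hα⟩ := e.surjective (act Q (qIncl Q k₀))
    obtain ⟨c, hc⟩ := e.surjective (act Q (qIncl Q (z ^ i) * (S ^ j).1))
    refine ⟨α, ?_, c, hcomm ((((hz.pow_left i).map (qIncl Q))).mul_left (hSj j)) hc, e.injective ?_⟩
    · rw [innAut_eq hQ]
      exact ⟨_, ⟨k₀, (D.heich k₀).2 hk₀, rfl⟩, hα.symm⟩
    · rw [map_mul, hα, hc, ← map_mul]
      refine hUγ.symm.trans ?_
      subst hki
      rw [Subgroup.coe_subtype, Subgroup.coe_mul, Subgroup.coe_mul, Subgroup.coe_mk, Subgroup.coe_mk, map_mul (qIncl Q), map_mul (act Q),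
        map_mul (act Q), act_scal, one_mul, ← map_mul, mul_assoc]
  refine ⟨fun y => ⟨isConjUnder_iff_of_cosets (hInn.trans hpso) hcoset y,
    isConjUnder_iff_of_cosets hpso (fun γ hγ => ?_) y⟩, isConjUnder_iff_of_cosets ?_ fun γ hγ => ?_⟩
  · obtain ⟨α, hα, c, hc⟩ := hcoset γ hγ
    exact ⟨α, hInn hα, c, hc⟩
  · rw [poAut_eq hQ]
    refine Subgroup.comap_mono (Subgroup.map_mono ?_)
    rintro _ ⟨k, rfl⟩
    exact qIncl_mem_simSub hQ k
  · obtain ⟨U, hU, hUγ⟩ := hγ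
    obtain ⟨d, k, j, he⟩ := hnorm ⟨U, hU⟩
    obtain ⟨α, hα⟩ := e.surjective (act Q (qIncl Q k))
    obtain ⟨c, hc⟩ := e.surjective (act Q (S ^ j).1)
    refine ⟨α, ?_, c, hcomm (hSj j) hc, e.injective ?_⟩
    · rw [poAut_eq hQ]
      exact ⟨_, ⟨k, rfl⟩, hα.symm⟩
    · rw [map_mul, hα, hc]
      refine hUγ.symm.trans ?_
      rw [show U = _ from congrArg Subtype.val he, Subgroup.coe_mul, Subgroup.coe_mul, map_mul (act Q),
        map_mul (act Q), act_scal, one_mul]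

end CfsgLib.POAut
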